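import Mathlib
import Groth.Prelude.Def_W4bk4goldsch45p2
set_option autoImplicit false

/-! Jump sequences (`FunFld.IsJump`, `FunFld.IsOrders`): general linear algebra lemmas. -/

namespace Groth.Agent.Lib.helper19.Jumps
open FunFld

section
variable {K M : Type*} [Field K] [AddCommGroup M] [Module K M]

theorem span_Iio_succ (c : ℕ → M) (m : ℕ) :
    Submodule.span K (c '' Set.Iio (m + 1)) =
      Submodule.span K {c m} ⊔ Submodule.span K (c '' Set.Iio m) := by
  have h1 : Set.Iio (m + 1) = insert m (Set.Iio m) := by
    ext j; simp only [Set.mem_Iio, Set.mem_insert_iff]; omega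
  rw [h1, Set.image_insert_eq, Submodule.span_insert]

/-- the span of an initial segment is spanned by the jump columns -/
theorem span_jumps (c : ℕ → M) (m : ℕ) :
    Submodule.span K (c '' Set.Iio m) = Submodule.span K (c '' {j | j < m ∧ IsJump K c j}) := by
  induction m with
  | zero =>
    congr 1
    ext x; simp
  | succ m ih =>
    rw [span_Iio_succ, ih]
    by_cases hm : IsJump K c m
    · have h2 : {j | j < m + 1 ∧ IsJump K c j} = insert m {j | j < m ∧ IsJump K c j} := by
        ext j
        simp only [Set.mem_ofPred_eq, Set.mem_insert_iff]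
        constructor
        · rintro ⟨hj, hj'⟩
          rcases Nat.lt_succ_iff_lt_or_eq.mp hj with h | h
          · exact Or.inr ⟨h, hj'⟩
          · exact Or.inl h
        · rintro (rfl | ⟨hj, hj'⟩)
          · exact ⟨Nat.lt_succ_self _, hm⟩
          · exact ⟨Nat.lt_succ_of_lt hj, hj'⟩
      rw [h2, Set.image_insert_eq, Submodule.span_insert]
    · have h2 : {j | j < m + 1 ∧ IsJump K c j} = {j | j < m ∧ IsJump K c j} := by
        ext j
        simp only [Set.mem_ofPred_eq]
        constructor
        · rintro ⟨hj, hj'⟩
          rcases Nat.lt_succ_iff_lt_or_eq.mp hj with h | h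
          · exact ⟨h, hj'⟩
          · exact absurd (h ▸ hj') hm
        · rintro ⟨hj, hj'⟩
          exact ⟨Nat.lt_succ_of_lt hj, hj'⟩
      rw [h2]
      have h3 : c m ∈ Submodule.span K (c '' {j | j < m ∧ IsJump K c j}) := by
        rw [← ih]
        unfold IsJump at hm
        exact not_not.mp hm
      rw [sup_eq_right, Submodule.span_singleton_le_iff_mem]
      exact h3

/-- Triangular change of columns preserves spans of initial segments. -/
theorem span_eq_of_triangular (c c' : ℕ → M) (u : ℕ → K) (hu : ∀ j, u j ≠ 0)
    (h : ∀ j, c' j - u j • c j ∈ Submodule.span K (c '' Set.Iio j)) (m : ℕ) :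
    Submodule.span K (c' '' Set.Iio m) = Submodule.span K (c '' Set.Iio m) := by
  induction m with
  | zero => simp
  | succ m ih =>
    rw [span_Iio_succ, span_Iio_succ, ih]
    set S := Submodule.span K (c '' Set.Iio m)
    apply le_antisymm
    · apply sup_le _ le_sup_right
      rw [Submodule.span_singleton_le_iff_mem]
      have : c' m = u m • c m + (c' m - u m • c m) := by abel
      rw [this]
      exact add_mem (Submodule.mem_sup_left (Submodule.smul_mem _ _ (Submodule.mem_span_singleton_self _)))
        (Submodule.mem_sup_right (h m))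
    · apply sup_le _ le_sup_right
      rw [Submodule.span_singleton_le_iff_mem]
      have : c m = (u m)⁻¹ • c' m - (u m)⁻¹ • (c' m - u m • c m) := by
        rw [smul_sub, smul_smul, inv_mul_cancel₀ (hu m), one_smul]; abel
      rw [this]
      exact sub_mem (Submodule.mem_sup_left (Submodule.smul_mem _ _ (Submodule.mem_span_singleton_self _)))
        (Submodule.mem_sup_right (Submodule.smul_mem _ _ (h m)))

/-- Triangular change of columns preserves jumps. -/
theorem isJump_iff_of_triangular (c c' : ℕ → M) (u : ℕ → K) (hu : ∀ j, u j ≠ 0)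
    (h : ∀ j, c' j - u j • c j ∈ Submodule.span K (c '' Set.Iio j)) (m : ℕ) :
    IsJump K c' m ↔ IsJump K c m := by
  unfold IsJump
  rw [span_eq_of_triangular c c' u hu h m, not_iff_not]
  set S := Submodule.span K (c '' Set.Iio m)
  constructor
  · intro h1
    have : c m = (u m)⁻¹ • c' m - (u m)⁻¹ • (c' m - u m • c m) := by
      rw [smul_sub, smul_smul, inv_mul_cancel₀ (hu m), one_smul]; abel
    rw [this]
    exact sub_mem (Submodule.smul_mem _ _ h1) (Submodule.smul_mem _ _ (h m))
  · intro h1
    have : c' m = u m • c m + (c' m - u m • c m) := by abel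
    rw [this]
    exact add_mem (Submodule.smul_mem _ _ h1) (h m)

theorem isOrders_iff_of_triangular (c c' : ℕ → M) (u : ℕ → K) (hu : ∀ j, u j ≠ 0)
    (h : ∀ j, c' j - u j • c j ∈ Submodule.span K (c '' Set.Iio j)) {n : ℕ} (J : Fin n → ℕ) :
    IsOrders K c' J ↔ IsOrders K c J := by
  unfold IsOrders
  simp only [isJump_iff_of_triangular c c' u hu h]

end

section det
variable {K : Type*} [Field K] {n : ℕ}

/-- If the columns of `N` are triangular combinations of the columns of `O` with diagonal
coefficients `u`, then `det N = (∏ u) * det O`. -/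
theorem det_of_triangular_cols (O N : Matrix (Fin n) (Fin n) K) (u : Fin n → K)
    (h : ∀ l, N.col l - u l • O.col l ∈ Submodule.span K (O.col '' Set.Iio l)) :
    N.det = (∏ l, u l) * O.det := by
  classical
  have h' : ∀ l, ∃ t : Fin n → K, (∀ a, l ≤ a → t a = 0) ∧
      N.col l - u l • O.col l = ∑ a, t a • O.col a := by
    intro l
    obtain ⟨f, hf, hfe⟩ := (Finsupp.mem_span_image_iff_linearCombination K).mp (h l)
    refine ⟨f, fun a ha => ?_, ?_⟩
    · by_contra hne
      have : a ∈ f.support := Finsupp.mem_support_iff.mpr hne
      have := hf this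
      simp only [Set.mem_Iio] at this
      exact absurd this (not_lt.mpr ha)
    · rw [← hfe, Finsupp.linearCombination_apply, Finsupp.sum_fintype]
      intro i; simp
  choose t ht0 hte using h'
  let T : Matrix (Fin n) (Fin n) K := Matrix.of fun a l => t l a + if a = l then u l else 0
  have hN : N = O * T := by
    ext i l
    rw [Matrix.mul_apply]
    have := congrFun (hte l) i
    simp only [Pi.sub_apply, Pi.smul_apply, Matrix.col_apply, smul_eq_mul, Finset.sum_apply] at this
    simp only [T, Matrix.of_apply, mul_add, Finset.sum_add_distrib, mul_ite, mul_zero,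
      Finset.sum_ite_eq', Finset.mem_univ, if_true]
    rw [sub_eq_iff_eq_add] at this
    rw [this]
    congr 1
    · exact Finset.sum_congr rfl fun a _ => mul_comm _ _
    · exact mul_comm _ _
  have hT : T.BlockTriangular id := by
    intro a l hla
    simp only [id] at hla
    simp only [T, Matrix.of_apply]
    rw [ht0 l a hla.le, if_neg hla.ne', add_zero]
  rw [hN, Matrix.det_mul, Matrix.det_of_isUpperTriangular hT, mul_comm]
  congr 1
  refine Finset.prod_congr rfl fun l _ => ?_
  simp only [T, Matrix.of_apply, if_true]
  rw [ht0 l l le_rfl, zero_add]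

end det

end Groth.Agent.Lib.helper19.Jumps
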