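import Mathlib
import Groth.Prelude.Def_GrLC

/-!
# Graded modules over a `ι`-graded ring: basic lemmas (for the `GrLC` rows of the prelude)
-/

set_option autoImplicit false
universe u

namespace Groth.Agent.Lib.helper19.GrMod

section Basic

variable {ι : Type} [AddCommGroup ι] [DecidableEq ι]
variable {R : Type u} [CommRing R] {σ : Type u} [SetLike σ R] [AddSubgroupClass σ R]
  (𝒜 : ι → σ) [GradedRing 𝒜]
variable {M : Type u} [AddCommGroup M] [Module R M] (ℳ : ι → AddSubgroup M)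
  [DirectSum.Decomposition ℳ] [SetLike.GradedSMul 𝒜 ℳ]

omit [DecidableEq ι] [GradedRing 𝒜] [DirectSum.Decomposition ℳ] in
theorem smul_mem_add {i j : ι} {r : R} (hr : r ∈ 𝒜 i) {m : M} (hm : m ∈ ℳ j) : r • m ∈ ℳ (i + j) := by
  have := SetLike.GradedSMul.smul_mem hr hm
  rwa [vadd_eq_add] at this

omit [SetLike.GradedSMul 𝒜 ℳ] in
theorem coe_decompose_congr (x : M) {i j : ι} (h : i = j) :
    ((DirectSum.decompose ℳ x i : ℳ i) : M) = ((DirectSum.decompose ℳ x j : ℳ j) : M) := by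
  subst h; rfl

/-- the degree-`n` component of `r • m` for `r` homogeneous of degree `i`. -/
theorem decompose_smul_apply {i : ι} {r : R} (hr : r ∈ 𝒜 i) (m : M) (n : ι) :
    ((DirectSum.decompose ℳ (r • m) n : ℳ n) : M) = r • ((DirectSum.decompose ℳ m (n - i) : ℳ (n - i)) : M) := by
  classical
  have h3 : r • m = ∑ c ∈ (DirectSum.decompose ℳ m).support, r • ((DirectSum.decompose ℳ m c : ℳ c) : M) := by
    conv_lhs => rw [← DirectSum.sum_support_decompose ℳ m]
    rw [Finset.smul_sum]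
  conv_lhs => rw [h3]
  rw [DirectSum.decompose_sum, DFinsupp.finsetSum_apply, AddSubmonoidClass.coe_finsetSum]
  have h5 : ∀ c ∈ (DirectSum.decompose ℳ m).support,
      ((DirectSum.decompose ℳ (r • ((DirectSum.decompose ℳ m c : ℳ c) : M)) n : ℳ n) : M)
        = if c = n - i then r • ((DirectSum.decompose ℳ m (n - i) : ℳ (n - i)) : M) else 0 := by
    intro c _
    split_ifs with h
    · subst h
      exact DirectSum.decompose_of_mem_same ℳ
        (by have := smul_mem_add 𝒜 ℳ hr (SetLike.coe_mem (DirectSum.decompose ℳ m (n - i)))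
            rwa [add_sub_cancel] at this)
    · exact DirectSum.decompose_of_mem_ne ℳ (smul_mem_add 𝒜 ℳ hr (SetLike.coe_mem _))
        (fun h' => h (by rw [← h']; abel))
  rw [Finset.sum_congr rfl h5, Finset.sum_ite_eq']
  split_ifs with h
  · rfl
  · rw [DFinsupp.notMem_support_iff.1 h]
    simp

omit [SetLike.GradedSMul 𝒜 ℳ] in
/-- a nonzero homogeneous submodule contains a nonzero homogeneous element -/
theorem exists_homogeneous_ne_zero {P : Submodule R M} (hP : P.IsHomogeneous ℳ) (hne : P ≠ ⊥) :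
    ∃ (g : ι) (x : M), x ∈ P ∧ x ∈ ℳ g ∧ x ≠ 0 := by
  classical
  obtain ⟨u0, hu0P, hu0⟩ := Submodule.exists_mem_ne_zero_of_ne_bot hne
  have h1 : ∃ n : ι, ((DirectSum.decompose ℳ u0 n : ℳ n) : M) ≠ 0 := by
    by_contra hcon
    push Not at hcon
    apply hu0
    rw [← DirectSum.sum_support_decompose ℳ u0]
    exact Finset.sum_eq_zero (fun n _ => hcon n)
  obtain ⟨n, hn⟩ := h1
  exact ⟨n, _, hP n hu0P, SetLike.coe_mem _, hn⟩

end Basic


section Basic2

variable {ι : Type} [AddCommGroup ι] [DecidableEq ι]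
variable {R : Type u} [CommRing R] {σ : Type u} [SetLike σ R] [AddSubgroupClass σ R]
  (𝒜 : ι → σ) [GradedRing 𝒜]
variable {M : Type u} [AddCommGroup M] [Module R M] (ℳ : ι → AddSubgroup M)
  [DirectSum.Decomposition ℳ] [SetLike.GradedSMul 𝒜 ℳ]

/-- the degree-`n` component of `r • m` for `m` homogeneous of degree `j`. -/
theorem decompose_smul_apply' {j : ι} (r : R) {m : M} (hm : m ∈ ℳ j) (n : ι) :
    ((DirectSum.decompose ℳ (r • m) n : ℳ n) : M) = ((DirectSum.decompose 𝒜 r (n - j) : 𝒜 (n - j)) : R) • m := by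
  classical
  have h3 : r • m = ∑ c ∈ (DirectSum.decompose 𝒜 r).support, ((DirectSum.decompose 𝒜 r c : 𝒜 c) : R) • m := by
    conv_lhs => rw [← DirectSum.sum_support_decompose 𝒜 r]
    rw [Finset.sum_smul]
  conv_lhs => rw [h3]
  rw [DirectSum.decompose_sum, DFinsupp.finsetSum_apply, AddSubmonoidClass.coe_finsetSum]
  have h5 : ∀ c ∈ (DirectSum.decompose 𝒜 r).support,
      ((DirectSum.decompose ℳ (((DirectSum.decompose 𝒜 r c : 𝒜 c) : R) • m) n : ℳ n) : M)
        = if c = n - j then ((DirectSum.decompose 𝒜 r (n - j) : 𝒜 (n - j)) : R) • m else 0 := by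
    intro c _
    split_ifs with h
    · subst h
      exact DirectSum.decompose_of_mem_same ℳ
        (by have := smul_mem_add 𝒜 ℳ (SetLike.coe_mem (DirectSum.decompose 𝒜 r (n - j))) hm
            rwa [sub_add_cancel] at this)
    · exact DirectSum.decompose_of_mem_ne ℳ (smul_mem_add 𝒜 ℳ (SetLike.coe_mem _) hm)
        (fun h' => h (by rw [← h']; abel))
  rw [Finset.sum_congr rfl h5, Finset.sum_ite_eq']
  split_ifs with h
  · rfl
  · rw [DFinsupp.notMem_support_iff.1 h]
    simp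

include 𝒜 in
/-- the submodule generated by a homogeneous element is homogeneous -/
theorem span_singleton_isHomogeneous {j : ι} {y : M} (hy : y ∈ ℳ j) :
    (Submodule.span R {y}).IsHomogeneous ℳ := by
  intro n x hx
  obtain ⟨r, rfl⟩ := Submodule.mem_span_singleton.1 hx
  rw [decompose_smul_apply' 𝒜 ℳ r hy n]
  exact Submodule.smul_mem _ _ (Submodule.mem_span_singleton_self y)

omit [SetLike.GradedSMul 𝒜 ℳ] in
/-- removing one homogeneous component -/
theorem decompose_sub_component (x : M) (g₀ m : ι) :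
    ((DirectSum.decompose ℳ (x - ((DirectSum.decompose ℳ x g₀ : ℳ g₀) : M)) m : ℳ m) : M)
      = if m = g₀ then 0 else ((DirectSum.decompose ℳ x m : ℳ m) : M) := by
  rw [DirectSum.decompose_sub, DirectSum.sub_apply, AddSubgroup.coe_sub]
  split_ifs with h
  · subst h
    rw [DirectSum.decompose_of_mem_same ℳ (SetLike.coe_mem _), sub_self]
  · rw [DirectSum.decompose_of_mem_ne ℳ (SetLike.coe_mem (DirectSum.decompose ℳ x g₀)) (Ne.symm h), sub_zero]

end Basic2

section Hom

variable {ι : Type} [AddCommGroup ι] [DecidableEq ι]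
variable {R : Type u} [CommRing R]
variable {M : Type u} [AddCommGroup M] [Module R M] (ℳ : ι → AddSubgroup M) [DirectSum.Decomposition ℳ]
variable {N : Type u} [AddCommGroup N] [Module R N] (𝒩 : ι → AddSubgroup N) [DirectSum.Decomposition 𝒩]

/-- a graded homomorphism commutes with taking components -/
theorem grHom_decompose (f : M →ₗ[R] N) (hf : GrLC.IsGrHom ℳ 𝒩 f) (x : M) (n : ι) :
    ((DirectSum.decompose 𝒩 (f x) n : 𝒩 n) : N) = f ((DirectSum.decompose ℳ x n : ℳ n) : M) := by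
  classical
  induction x using DirectSum.Decomposition.inductionOn ℳ with
  | zero => simp
  | @homogeneous m x =>
    by_cases h : m = n
    · subst h
      rw [DirectSum.decompose_of_mem_same 𝒩 (hf m x x.2), DirectSum.decompose_of_mem_same ℳ x.2]
    · rw [DirectSum.decompose_of_mem_ne 𝒩 (hf m x x.2) h, DirectSum.decompose_of_mem_ne ℳ x.2 h,
        map_zero]
  | add x y hx hy =>
    rw [map_add, DirectSum.decompose_add, DirectSum.add_apply, AddSubgroup.coe_add, hx, hy,
      DirectSum.decompose_add, DirectSum.add_apply, AddSubgroup.coe_add, map_add]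

theorem ker_isHomogeneous (f : M →ₗ[R] N) (hf : GrLC.IsGrHom ℳ 𝒩 f) :
    (LinearMap.ker f).IsHomogeneous ℳ := by
  intro n x hx
  rw [LinearMap.mem_ker] at hx ⊢
  rw [← grHom_decompose ℳ 𝒩 f hf x n, hx, DirectSum.decompose_zero]
  rfl

theorem range_isHomogeneous (f : M →ₗ[R] N) (hf : GrLC.IsGrHom ℳ 𝒩 f) :
    (LinearMap.range f).IsHomogeneous 𝒩 := by
  rintro n _ ⟨x, rfl⟩
  exact ⟨_, (grHom_decompose ℳ 𝒩 f hf x n).symm⟩

/-- an injective graded homomorphism reflects homogeneity -/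
theorem mem_of_map_mem (f : M →ₗ[R] N) (hf : GrLC.IsGrHom ℳ 𝒩 f) (hinj : Function.Injective f)
    {x : M} {g : ι} (hx : f x ∈ 𝒩 g) : x ∈ ℳ g := by
  have h1 := grHom_decompose ℳ 𝒩 f hf x g
  rw [DirectSum.decompose_of_mem_same 𝒩 hx] at h1
  rw [hinj h1]
  exact SetLike.coe_mem _

end Hom

section Quot
variable {ι : Type} [AddCommGroup ι] [DecidableEq ι]
variable {R : Type u} [CommRing R]
variable {X : Type u} [AddCommGroup X] [Module R X] (𝒳 : ι → AddSubgroup X) [DirectSum.Decomposition 𝒳]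
  (K : Submodule R X)

/-- pieces of the quotient -/
def quotPiece (g : ι) : AddSubgroup (X ⧸ K) := (𝒳 g).map (K.mkQ : X →ₗ[R] X ⧸ K).toAddMonoidHom

omit [AddCommGroup ι] [DecidableEq ι] [DirectSum.Decomposition 𝒳] in
theorem mem_quotPiece {g : ι} {q : X ⧸ K} : q ∈ quotPiece 𝒳 K g ↔ ∃ y ∈ 𝒳 g, K.mkQ y = q := Iff.rfl

/-- the map from pieces to pieces -/
def pieceMap (g : ι) : 𝒳 g →+ quotPiece 𝒳 K g where
  toFun y := ⟨K.mkQ y, ⟨y, y.2, rfl⟩⟩
  map_zero' := Subtype.ext (map_zero _)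
  map_add' a b := Subtype.ext (map_add _ _ _)

noncomputable def toQuotSum : X →+ DirectSum ι (fun g => quotPiece 𝒳 K g) :=
  (DirectSum.map (pieceMap 𝒳 K)).comp (DirectSum.decomposeAddEquiv 𝒳).toAddMonoidHom

theorem toQuotSum_of_mem {g : ι} {y : X} (hy : y ∈ 𝒳 g) :
    toQuotSum 𝒳 K y = DirectSum.of (fun g => quotPiece 𝒳 K g) g ⟨K.mkQ y, ⟨y, hy, rfl⟩⟩ := by
  simp only [toQuotSum, AddMonoidHom.coe_comp, Function.comp_apply, AddEquiv.toAddMonoidHom_eq_coe,
    AddMonoidHom.coe_coe, DirectSum.decomposeAddEquiv_apply]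
  rw [DirectSum.decompose_of_mem 𝒳 hy, DirectSum.map_of]
  rfl

variable (hK : K.IsHomogeneous 𝒳)

include hK in
theorem toQuotSum_eq_zero {x : X} (hx : x ∈ K) : toQuotSum 𝒳 K x = 0 := by
  classical
  rw [← DirectSum.sum_support_decompose 𝒳 x, map_sum]
  apply Finset.sum_eq_zero
  intro g _
  rw [toQuotSum_of_mem 𝒳 K (SetLike.coe_mem _)]
  have h1 : K.mkQ ((DirectSum.decompose 𝒳 x g : 𝒳 g) : X) = 0 :=
    (Submodule.Quotient.mk_eq_zero K).2 (hK g hx)
  have h2 : (⟨K.mkQ ((DirectSum.decompose 𝒳 x g : 𝒳 g) : X), ⟨_, SetLike.coe_mem _, rfl⟩⟩ : quotPiece 𝒳 K g) = 0 :=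
    Subtype.ext h1
  rw [h2, map_zero]

/-- decomposition hom of the quotient -/
noncomputable def quotDecomposeHom : (X ⧸ K) →+ DirectSum ι (fun g => quotPiece 𝒳 K g) :=
  QuotientAddGroup.lift K.toAddSubgroup (toQuotSum 𝒳 K) (fun x hx => toQuotSum_eq_zero 𝒳 K hK hx)

theorem quotDecomposeHom_mk (x : X) : quotDecomposeHom 𝒳 K hK (Submodule.Quotient.mk x) = toQuotSum 𝒳 K x := rfl


/-- the quotient of a graded module by a homogeneous submodule is graded -/
@[instance_reducible]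
noncomputable def quotDecomposition : DirectSum.Decomposition (quotPiece 𝒳 K) where
  decompose' := quotDecomposeHom 𝒳 K hK
  left_inv q := by
    induction q using Submodule.Quotient.induction_on with
    | H x =>
      rw [quotDecomposeHom_mk]
      induction x using DirectSum.Decomposition.inductionOn 𝒳 with
      | zero => simp
      | @homogeneous g y =>
        rw [toQuotSum_of_mem 𝒳 K y.2, DirectSum.coeAddMonoidHom_of]
        rfl
      | add a b ha hb =>
        rw [map_add, map_add, ha, hb]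
        rfl
  right_inv z := by
    induction z using DirectSum.induction_on with
    | zero => simp
    | of g q =>
      obtain ⟨y, hy, hq⟩ := q.2
      rw [DirectSum.coeAddMonoidHom_of]
      have h1 : (q : X ⧸ K) = Submodule.Quotient.mk y := hq.symm
      rw [h1, quotDecomposeHom_mk, toQuotSum_of_mem 𝒳 K hy]
      congr 1
      exact Subtype.ext hq
    | add a b ha hb =>
      rw [map_add, map_add, ha, hb]

theorem mkQ_isGrHom : GrLC.IsGrHom 𝒳 (quotPiece 𝒳 K) K.mkQ :=
  fun g y hy => ⟨y, hy, rfl⟩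

end Quot

section QuotSMul

variable {ι : Type} [AddCommGroup ι] [DecidableEq ι]
variable {R : Type u} [CommRing R] {σ : Type u} [SetLike σ R] [AddSubgroupClass σ R]
  (𝒜 : ι → σ) [GradedRing 𝒜]
variable {X : Type u} [AddCommGroup X] [Module R X] (𝒳 : ι → AddSubgroup X)
  [SetLike.GradedSMul 𝒜 𝒳] (K : Submodule R X)

theorem quot_gradedSMul : SetLike.GradedSMul 𝒜 (quotPiece 𝒳 K) where
  smul_mem := by
    intro i j r q hr hq
    obtain ⟨y, hy, rfl⟩ := hq
    exact ⟨r • y, SetLike.GradedSMul.smul_mem hr hy, K.mkQ.map_smul r y⟩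

end QuotSMul

section Prod

variable {ι : Type} [AddCommGroup ι] [DecidableEq ι]
variable {R : Type u} [CommRing R] {σ : Type u} [SetLike σ R] [AddSubgroupClass σ R]
  (𝒜 : ι → σ) [GradedRing 𝒜]
variable {M : Type u} [AddCommGroup M] [Module R M] (ℳ : ι → AddSubgroup M) [DirectSum.Decomposition ℳ]
variable {N : Type u} [AddCommGroup N] [Module R N] (𝒩 : ι → AddSubgroup N) [DirectSum.Decomposition 𝒩]

/-- pieces of the product -/
def prodPiece (g : ι) : AddSubgroup (M × N) := (ℳ g).prod (𝒩 g)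

omit [AddCommGroup ι] [DecidableEq ι] [DirectSum.Decomposition ℳ] [DirectSum.Decomposition 𝒩] in
theorem mem_prodPiece {g : ι} {x : M × N} : x ∈ prodPiece ℳ 𝒩 g ↔ x.1 ∈ ℳ g ∧ x.2 ∈ 𝒩 g := Iff.rfl

def inlPiece (g : ι) : ℳ g →+ prodPiece ℳ 𝒩 g where
  toFun y := ⟨((y : M), 0), ⟨y.2, zero_mem _⟩⟩
  map_zero' := rfl
  map_add' a b := Subtype.ext (by simp)

def inrPiece (g : ι) : 𝒩 g →+ prodPiece ℳ 𝒩 g where
  toFun y := ⟨(0, (y : N)), ⟨zero_mem _, y.2⟩⟩
  map_zero' := rfl
  map_add' a b := Subtype.ext (by simp)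

noncomputable def prodDecomposeHom : M × N →+ DirectSum ι (fun g => prodPiece ℳ 𝒩 g) :=
  AddMonoidHom.coprod
    ((DirectSum.map (inlPiece ℳ 𝒩)).comp (DirectSum.decomposeAddEquiv ℳ).toAddMonoidHom)
    ((DirectSum.map (inrPiece ℳ 𝒩)).comp (DirectSum.decomposeAddEquiv 𝒩).toAddMonoidHom)

theorem prodDecomposeHom_inl_of_mem {g : ι} {y : M} (hy : y ∈ ℳ g) :
    prodDecomposeHom ℳ 𝒩 (y, 0) =
      DirectSum.of (fun g => prodPiece ℳ 𝒩 g) g ⟨(y, 0), ⟨hy, zero_mem _⟩⟩ := by
  simp only [prodDecomposeHom, AddMonoidHom.coprod_apply, AddMonoidHom.coe_comp, Function.comp_apply,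
    AddEquiv.toAddMonoidHom_eq_coe, AddMonoidHom.coe_coe, DirectSum.decomposeAddEquiv_apply, map_zero, add_zero]
  rw [DirectSum.decompose_of_mem ℳ hy, DirectSum.map_of]
  rfl

theorem prodDecomposeHom_inr_of_mem {g : ι} {y : N} (hy : y ∈ 𝒩 g) :
    prodDecomposeHom ℳ 𝒩 (0, y) =
      DirectSum.of (fun g => prodPiece ℳ 𝒩 g) g ⟨(0, y), ⟨zero_mem _, hy⟩⟩ := by
  simp only [prodDecomposeHom, AddMonoidHom.coprod_apply, AddMonoidHom.coe_comp, Function.comp_apply,
    AddEquiv.toAddMonoidHom_eq_coe, AddMonoidHom.coe_coe, DirectSum.decomposeAddEquiv_apply, map_zero, zero_add]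
  rw [DirectSum.decompose_of_mem 𝒩 hy, DirectSum.map_of]
  rfl

noncomputable instance prodDecomposition : DirectSum.Decomposition (prodPiece ℳ 𝒩) where
  decompose' := prodDecomposeHom ℳ 𝒩
  left_inv x := by
    have hl : ∀ m : M, DirectSum.coeAddMonoidHom (prodPiece ℳ 𝒩) (prodDecomposeHom ℳ 𝒩 (m, 0)) = (m, 0) := by
      intro m
      induction m using DirectSum.Decomposition.inductionOn ℳ with
      | zero =>
        have h00 : (((0 : M), (0 : N)) : M × N) = 0 := rfl
        rw [h00, map_zero, map_zero]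
      | @homogeneous g y =>
        rw [prodDecomposeHom_inl_of_mem ℳ 𝒩 y.2, DirectSum.coeAddMonoidHom_of]
      | add a b ha hb =>
        have h1 : ((a + b, 0) : M × N) = (a, 0) + (b, 0) := by simp
        rw [h1, map_add, map_add, ha, hb]
    have hr : ∀ n : N, DirectSum.coeAddMonoidHom (prodPiece ℳ 𝒩) (prodDecomposeHom ℳ 𝒩 (0, n)) = (0, n) := by
      intro n
      induction n using DirectSum.Decomposition.inductionOn 𝒩 with
      | zero =>
        have h00 : (((0 : M), (0 : N)) : M × N) = 0 := rfl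
        rw [h00, map_zero, map_zero]
      | @homogeneous g y =>
        rw [prodDecomposeHom_inr_of_mem ℳ 𝒩 y.2, DirectSum.coeAddMonoidHom_of]
      | add a b ha hb =>
        have h1 : ((0, a + b) : M × N) = (0, a) + (0, b) := by simp
        rw [h1, map_add, map_add, ha, hb]
    obtain ⟨m, n⟩ := x
    have h0 : ((m, n) : M × N) = (m, 0) + (0, n) := by simp
    rw [h0, map_add, map_add, hl, hr]
  right_inv z := by
    induction z using DirectSum.induction_on with
    | zero => simp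
    | of g q =>
      rw [DirectSum.coeAddMonoidHom_of]
      have h0 : ((q : M × N)) = ((q : M × N).1, 0) + (0, (q : M × N).2) := by simp
      rw [h0, map_add, prodDecomposeHom_inl_of_mem ℳ 𝒩 q.2.1, prodDecomposeHom_inr_of_mem ℳ 𝒩 q.2.2,
        ← map_add]
      congr 1
      apply Subtype.ext
      simp
    | add a b ha hb =>
      rw [map_add, map_add, ha, hb]

instance prod_gradedSMul [SetLike.GradedSMul 𝒜 ℳ] [SetLike.GradedSMul 𝒜 𝒩] :
    SetLike.GradedSMul 𝒜 (prodPiece ℳ 𝒩) where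
  smul_mem := by
    intro i j r q hr hq
    obtain ⟨h1, h2⟩ := (mem_prodPiece ℳ 𝒩).1 hq
    exact (mem_prodPiece ℳ 𝒩).2 ⟨SetLike.GradedSMul.smul_mem hr h1, SetLike.GradedSMul.smul_mem hr h2⟩

end Prod

section SubQuot

variable {ι : Type} [DecidableEq ι] {R : Type u} [CommRing R]
  {X : Type u} [AddCommGroup X] [Module R X] (𝒳 : ι → AddSubgroup X) [DirectSum.Decomposition 𝒳]

theorem decompose_sum_mem (s : Finset ι) (y : ι → X) (hy : ∀ g ∈ s, y g ∈ 𝒳 g) (g : ι) :
    ((DirectSum.decompose 𝒳 (∑ g' ∈ s, y g') g : 𝒳 g) : X) = if g ∈ s then y g else 0 := by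
  rw [DirectSum.decompose_sum, DFinsupp.finsetSum_apply, AddSubmonoidClass.coe_finsetSum]
  have h5 : ∀ g' ∈ s, ((DirectSum.decompose 𝒳 (y g') g : 𝒳 g) : X) = if g' = g then y g else 0 := by
    intro g' hg'
    split_ifs with h
    · subst h
      exact DirectSum.decompose_of_mem_same 𝒳 (hy g' hg')
    · exact DirectSum.decompose_of_mem_ne 𝒳 (hy g' hg') h
  rw [Finset.sum_congr rfl h5, Finset.sum_ite_eq']

open scoped Classical in
/-- cohomology-type subquotients of a graded module are graded -/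
theorem isInternal_of_surjective {H : Type u} [AddCommGroup H] [Module R H]
    (Z : Submodule R X) (π : Z →ₗ[R] H) (hπ : Function.Surjective π)
    (hZ : ∀ (g : ι) (z : X), z ∈ Z → ((DirectSum.decompose 𝒳 z g : 𝒳 g) : X) ∈ Z)
    (hker : ∀ (g : ι) (z : Z), π z = 0 → π ⟨_, hZ g z z.2⟩ = 0)
    (𝓗 : ι → AddSubgroup H) (h𝓗 : ∀ (g : ι) (h : H), h ∈ 𝓗 g ↔ ∃ z : Z, (z : X) ∈ 𝒳 g ∧ π z = h) :
    DirectSum.IsInternal 𝓗 := by
  constructor
  · rw [injective_iff_map_eq_zero]
    intro w hw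
    have hch : ∀ g, ∃ z : Z, (z : X) ∈ 𝒳 g ∧ π z = ((w g : 𝓗 g) : H) := fun g => (h𝓗 g _).1 (w g).2
    choose zz hzz1 hzz2 using hch
    let z : Z := ∑ g ∈ w.support, zz g
    have hπz : π z = 0 := by
      rw [map_sum, Finset.sum_congr rfl (fun g _ => hzz2 g)]
      rw [DirectSum.coeAddMonoidHom_eq_dfinsuppSum] at hw
      exact hw
    have hzcoe : (z : X) = ∑ g ∈ w.support, ((zz g : Z) : X) := by
      simp only [z, Submodule.coe_sum]
    apply DFinsupp.ext
    intro g
    by_cases hg : g ∈ w.support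
    · have h1 := hker g z hπz
      have h2 : (⟨_, hZ g z z.2⟩ : Z) = zz g := by
        apply Subtype.ext
        show ((DirectSum.decompose 𝒳 (z : X) g : 𝒳 g) : X) = _
        rw [hzcoe, decompose_sum_mem 𝒳 w.support (fun g => ((zz g : Z) : X)) (fun g _ => hzz1 g) g, if_pos hg]
      rw [h2, hzz2] at h1
      exact Subtype.ext h1
    · exact DFinsupp.notMem_support_iff.1 hg
  · intro h
    obtain ⟨z, rfl⟩ := hπ h
    let s := (DirectSum.decompose 𝒳 (z : X)).support
    refine ⟨∑ g ∈ s, DirectSum.of (fun g => 𝓗 g) g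
      ⟨π ⟨_, hZ g z z.2⟩, (h𝓗 g _).2 ⟨⟨_, hZ g z z.2⟩, SetLike.coe_mem _, rfl⟩⟩, ?_⟩
    rw [map_sum]
    simp only [DirectSum.coeAddMonoidHom_of]
    rw [← map_sum]
    congr 1
    apply Subtype.ext
    rw [Submodule.coe_sum]
    exact DirectSum.sum_support_decompose 𝒳 (z : X)

end SubQuot

section Gam
variable {ι : Type} [AddCommGroup ι] [DecidableEq ι] {R : Type u} [CommRing R] (𝒜 : ι → AddSubgroup R)
  [GradedRing 𝒜] (a : HomogeneousIdeal 𝒜)
  {X : Type u} [AddCommGroup X] [Module R X] (𝒳 : ι → AddSubgroup X) [DirectSum.Decomposition 𝒳]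
  [SetLike.GradedSMul 𝒜 𝒳]

theorem pow_isHomogeneous (n : ℕ) : (a.toIdeal ^ n).IsHomogeneous 𝒜 := by
  induction n with
  | zero => rw [pow_zero, Ideal.one_eq_top]; exact Ideal.IsHomogeneous.top 𝒜
  | succ n ih => rw [pow_succ]; exact ih.mul a.isHomogeneous

theorem gam_isHomogeneous : (GrLC.gam a.toIdeal X).IsHomogeneous 𝒳 := by
  classical
  rintro g z ⟨n, hn⟩
  refine ⟨n, ?_⟩
  intro r hr
  rw [← DirectSum.sum_support_decompose 𝒜 r, Finset.sum_smul]
  apply Finset.sum_eq_zero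
  intro j _
  have hrj : ((DirectSum.decompose 𝒜 r j : 𝒜 j) : R) ∈ a.toIdeal ^ n := pow_isHomogeneous 𝒜 a n j hr
  have h0 := hn _ hrj
  have h1 := decompose_smul_apply 𝒜 𝒳 (SetLike.coe_mem (DirectSum.decompose 𝒜 r j)) z (g + j)
  rw [h0, DirectSum.decompose_zero, coe_decompose_congr 𝒳 z (add_sub_cancel_right g j)] at h1
  exact h1.symm

end Gam

section Shift

theorem isInternal_toInt_iff {ι : Type} [DecidableEq ι] {M : Type u} [AddCommGroup M] (ℳ : ι → AddSubgroup M) :
    DirectSum.IsInternal (fun i => (ℳ i).toIntSubmodule) ↔ DirectSum.IsInternal ℳ := Iff.rfl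

/-- reindexing a decomposition along a bijection of the index set -/
theorem isInternal_comp {ι : Type} [DecidableEq ι] {M : Type u} [AddCommGroup M] (ℳ : ι → AddSubgroup M)
    (h : DirectSum.IsInternal ℳ) (σ : ι ≃ ι) :
    DirectSum.IsInternal (fun j => ℳ (σ j)) := by
  rw [← isInternal_toInt_iff] at h ⊢
  rw [DirectSum.isInternal_submodule_iff_iSupIndep_and_iSup_eq_top] at h ⊢
  refine ⟨h.1.comp σ.injective, ?_⟩
  rw [← h.2]
  exact σ.iSup_comp (g := fun i => (ℳ i).toIntSubmodule)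

end Shift

section SubGrading

variable {ι : Type} [AddCommGroup ι] [DecidableEq ι]
variable {R : Type u} [CommRing R] {σ : Type u} [SetLike σ R] [AddSubgroupClass σ R]
  (𝒜 : ι → σ) [GradedRing 𝒜]
variable {X : Type u} [AddCommGroup X] [Module R X] (𝒳 : ι → AddSubgroup X) [DirectSum.Decomposition 𝒳]
  (Z : Submodule R X)

/-- the pieces of a submodule -/
def subPiece (g : ι) : AddSubgroup Z := (𝒳 g).comap Z.subtype.toAddMonoidHom

omit [AddCommGroup ι] [DecidableEq ι] [DirectSum.Decomposition 𝒳] in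
theorem mem_subPiece {g : ι} {z : Z} : z ∈ subPiece 𝒳 Z g ↔ (z : X) ∈ 𝒳 g := Iff.rfl

theorem sub_isInternal (hZ : Z.IsHomogeneous 𝒳) : DirectSum.IsInternal (subPiece 𝒳 Z) := by
  refine isInternal_of_surjective 𝒳 Z LinearMap.id Function.surjective_id (fun g z hz => hZ g hz) ?_
    (subPiece 𝒳 Z) ?_
  · intro g z hz
    have hz0 : z = 0 := hz
    apply Subtype.ext
    show ((DirectSum.decompose 𝒳 (z : X) g : 𝒳 g) : X) = 0
    rw [hz0, Submodule.coe_zero, DirectSum.decompose_zero]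
    rfl
  · intro g h
    constructor
    · intro hh
      exact ⟨h, hh, rfl⟩
    · rintro ⟨z, hz, rfl⟩
      exact hz

/-- a homogeneous submodule of a graded module is graded -/
@[instance_reducible]
noncomputable def subDecomposition (hZ : Z.IsHomogeneous 𝒳) : DirectSum.Decomposition (subPiece 𝒳 Z) :=
  (sub_isInternal 𝒳 Z hZ).chooseDecomposition

omit [AddCommGroup ι] [DecidableEq ι] [DirectSum.Decomposition 𝒳] in
theorem subtype_isGrHom : GrLC.IsGrHom (subPiece 𝒳 Z) 𝒳 Z.subtype := fun _ _ hz => hz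

omit [DecidableEq ι] [GradedRing 𝒜] [DirectSum.Decomposition 𝒳] in
theorem sub_gradedSMul [SetLike.GradedSMul 𝒜 𝒳] : SetLike.GradedSMul 𝒜 (subPiece 𝒳 Z) where
  smul_mem := by
    intro i j r z hr hz
    exact SetLike.GradedSMul.smul_mem (A := 𝒜) (B := 𝒳) hr hz

end SubGrading

end Groth.Agent.Lib.helper19.GrMod
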