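import Mathlib
import Groth.Prelude.Def_GrSeg

/-!
# Helper lemmas for Segre products of graded modules (namespace `GrSeg` of the prelude)

Graded modules with pieces `ℳ : ℤ → AddSubgroup M` over a `ℤ`-graded `k`-algebra.
-/

set_option autoImplicit false
universe u
open scoped TensorProduct

namespace Groth.Agent.Lib.helper19.Segre

section Graded

variable {k : Type u} [Field k] {R : Type u} [CommRing R] [Algebra k R] (𝒜 : ℤ → Submodule k R)
  [GradedAlgebra 𝒜]
  {M : Type u} [AddCommGroup M] [Module R M] [Module k M] [IsScalarTower k R M]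
  (ℳ : ℤ → AddSubgroup M) [DirectSum.Decomposition ℳ] [SetLike.GradedSMul 𝒜 ℳ]

include 𝒜 in
theorem smul_mem_add {i j : ℤ} {r : R} (hr : r ∈ 𝒜 i) {m : M} (hm : m ∈ ℳ j) : r • m ∈ ℳ (i + j) := by
  have := SetLike.GradedSMul.smul_mem hr hm
  rwa [vadd_eq_add] at this

include 𝒜 in
theorem ksmul_mem {j : ℤ} (c : k) {m : M} (hm : m ∈ ℳ j) : c • m ∈ ℳ j := by
  have h1 : c • m = (algebraMap k R c) • m := by rw [algebraMap_smul]
  rw [h1]
  have := smul_mem_add 𝒜 ℳ (SetLike.algebraMap_mem_graded 𝒜 c) hm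
  rwa [zero_add] at this

include 𝒜 in
/-- the degree-`n` component of `r • m` for `r` homogeneous of degree `i`. -/
theorem decompose_smul_apply {i : ℤ} {r : R} (hr : r ∈ 𝒜 i) (m : M) (n : ℤ) :
    ((DirectSum.decompose ℳ (r • m) n : ℳ n) : M) = r • ((DirectSum.decompose ℳ m (n - i) : ℳ (n - i)) : M) := by
  classical
  have h3 : r • m = ∑ c ∈ (DirectSum.decompose ℳ m).support, r • ((DirectSum.decompose ℳ m c : ℳ c) : M) := by
    conv_lhs => rw [← DirectSum.sum_support_decompose ℳ m]
    rw [Finset.smul_sum]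
  conv_lhs => rw [h3]
  rw [DirectSum.decompose_sum, DFinsupp.finsetSum_apply, AddSubmonoidClass.coe_finsetSum]
  have h5 : ∀ c ∈ (DirectSum.decompose ℳ m).support,
      ((DirectSum.decompose ℳ (r • ((DirectSum.decompose ℳ m c : ℳ c) : M)) n : ℳ n) : M)
        = if c = n - i then r • ((DirectSum.decompose ℳ m (n - i) : ℳ (n - i)) : M) else 0 := by
    intro c _
    split_ifs with h
    · subst h
      exact DirectSum.decompose_of_mem_same ℳ
        (by have := smul_mem_add 𝒜 ℳ hr (SetLike.coe_mem (DirectSum.decompose ℳ m (n - i)))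
            rwa [add_sub_cancel] at this)
    · exact DirectSum.decompose_of_mem_ne ℳ (smul_mem_add 𝒜 ℳ hr (SetLike.coe_mem _)) (by omega)
  rw [Finset.sum_congr rfl h5, Finset.sum_ite_eq']
  split_ifs with h
  · rfl
  · rw [DFinsupp.notMem_support_iff.1 h]
    simp

include 𝒜 in
/-- a homogeneous element acting injectively reflects homogeneity. -/
theorem mem_of_smul_mem {i : ℤ} {r : R} (hr : r ∈ 𝒜 i) (hinj : Function.Injective (fun x : M => r • x))
    {m : M} {n : ℤ} (hm : r • m ∈ ℳ n) : m ∈ ℳ (n - i) := by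
  have h1 := decompose_smul_apply 𝒜 ℳ hr m n
  rw [DirectSum.decompose_of_mem_same ℳ hm] at h1
  have h2 : m = ((DirectSum.decompose ℳ m (n - i) : ℳ (n - i)) : M) := hinj h1
  rw [h2]
  exact SetLike.coe_mem _

end Graded


section Sub

variable {k : Type u} [Field k] {M : Type u} [AddCommGroup M] [Module k M]
  (ℳ : ℤ → AddSubgroup M) [DirectSum.Decomposition ℳ]
  (h : ∀ (c : k) (j : ℤ) (m : M), m ∈ ℳ j → c • m ∈ ℳ j)

/-- the pieces as `k`-subspaces -/
def sub (j : ℤ) : Submodule k M := { ℳ j with smul_mem' := fun c m hm => h c j m hm }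

omit [DirectSum.Decomposition ℳ] in
theorem mem_sub {j : ℤ} {m : M} : m ∈ sub ℳ h j ↔ m ∈ ℳ j := Iff.rfl

/-- piecewise identity -/
def pieceHom (i : ℤ) : ℳ i →+ sub ℳ h i where
  toFun y := ⟨y.1, y.2⟩
  map_zero' := rfl
  map_add' _ _ := rfl

noncomputable def toSub : (DirectSum ℤ fun i => ℳ i) →+ (DirectSum ℤ fun i => sub ℳ h i) :=
  DirectSum.toAddMonoid (fun i => (DirectSum.of (fun i => sub ℳ h i) i).comp (pieceHom ℳ h i))

theorem toSub_of (i : ℤ) (y : ℳ i) :
    toSub ℳ h (DirectSum.of (fun i => ℳ i) i y) = DirectSum.of (fun i => sub ℳ h i) i ⟨y.1, y.2⟩ := by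
  rw [toSub, DirectSum.toAddMonoid_of]
  rfl

theorem coe_toSub (z : DirectSum ℤ fun i => ℳ i) :
    DirectSum.coeAddMonoidHom (sub ℳ h) (toSub ℳ h z) = DirectSum.coeAddMonoidHom ℳ z := by
  induction z using DirectSum.induction_on with
  | zero => simp
  | of i y => rw [toSub_of, DirectSum.coeAddMonoidHom_of, DirectSum.coeAddMonoidHom_of]
  | add z z' hz hz' => rw [map_add, map_add, hz, hz', map_add]

noncomputable instance decSub : DirectSum.Decomposition (sub ℳ h) where
  decompose' x := toSub ℳ h (DirectSum.decompose ℳ x)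
  left_inv x := by
    rw [coe_toSub]
    exact DirectSum.Decomposition.left_inv x
  right_inv z := by
    induction z using DirectSum.induction_on with
    | zero => simp
    | of i y =>
      rw [DirectSum.coeAddMonoidHom_of]
      have hy : (y : M) ∈ ℳ i := y.2
      show toSub ℳ h (DirectSum.decompose ℳ (y : M)) = _
      rw [DirectSum.decompose_of_mem ℳ hy, toSub_of]
    | add z z' hz hz' =>
      have hz1 : toSub ℳ h (DirectSum.decompose ℳ (DirectSum.coeAddMonoidHom (sub ℳ h) z)) = z := hz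
      have hz2 : toSub ℳ h (DirectSum.decompose ℳ (DirectSum.coeAddMonoidHom (sub ℳ h) z')) = z' := hz'
      show toSub ℳ h (DirectSum.decompose ℳ (DirectSum.coeAddMonoidHom (sub ℳ h) (z + z'))) = _
      rw [map_add, DirectSum.decompose_add, map_add, hz1, hz2]

end Sub

section Rho

variable {k : Type u} [Field k] {M N : Type u} [AddCommGroup M] [Module k M] [AddCommGroup N] [Module k N]
  (ℳ : ℤ → Submodule k M) [DirectSum.Decomposition ℳ] (𝒩 : ℤ → Submodule k N) [DirectSum.Decomposition 𝒩]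

/-- projection to the degree-`n` component, as a linear endomorphism -/
noncomputable def projL (n : ℤ) : N →ₗ[k] N :=
  ((𝒩 n).subtype.comp (DirectSum.component k ℤ (fun i => 𝒩 i) n)).comp
    (DirectSum.decomposeLinearEquiv 𝒩).toLinearMap

theorem projL_apply (n : ℤ) (y : N) : projL 𝒩 n y = ((DirectSum.decompose 𝒩 y n : 𝒩 n) : N) := rfl

/-- component: `a ↦ (b ↦ a ⊗ proj_n b)` -/
noncomputable def comp (n : ℤ) : ℳ n →ₗ[k] (N →ₗ[k] M ⊗[k] N) :=
  ((LinearMap.lcomp k (M ⊗[k] N) (projL 𝒩 n)).comp (TensorProduct.mk k M N)).comp (ℳ n).subtype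

noncomputable def beta : M →ₗ[k] (N →ₗ[k] M ⊗[k] N) :=
  (DirectSum.toModule k ℤ _ (comp ℳ 𝒩)).comp (DirectSum.decomposeLinearEquiv ℳ).toLinearMap

/-- the projection of `M ⊗ N` onto its diagonal part `⊕ M_n ⊗ N_n` -/
noncomputable def rho : M ⊗[k] N →ₗ[k] M ⊗[k] N := TensorProduct.lift (beta ℳ 𝒩)

theorem beta_of_mem {m : ℤ} {a : M} (ha : a ∈ ℳ m) (b : N) :
    beta ℳ 𝒩 a b = a ⊗ₜ[k] (projL 𝒩 m b) := by
  simp only [beta, LinearMap.comp_apply, LinearEquiv.coe_coe, DirectSum.decomposeLinearEquiv_apply]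
  rw [DirectSum.decompose_of_mem _ ha]
  erw [DirectSum.toModule_lof]
  rfl

theorem rho_tmul_of_mem {m n : ℤ} {a : M} (ha : a ∈ ℳ m) {b : N} (hb : b ∈ 𝒩 n) :
    rho ℳ 𝒩 (a ⊗ₜ[k] b) = if m = n then a ⊗ₜ[k] b else 0 := by
  rw [rho, TensorProduct.lift.tmul, beta_of_mem ℳ 𝒩 ha, projL_apply]
  split_ifs with h
  · subst h
    rw [DirectSum.decompose_of_mem_same _ hb]
  · rw [DirectSum.decompose_of_mem_ne _ hb (Ne.symm h), TensorProduct.tmul_zero]

/-- the diagonal part -/
def D : Submodule k (M ⊗[k] N) :=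
  Submodule.span k {x | ∃ n : ℤ, ∃ a ∈ ℳ n, ∃ b ∈ 𝒩 n, x = a ⊗ₜ[k] b}

theorem rho_of_mem_D {x : M ⊗[k] N} (hx : x ∈ D ℳ 𝒩) : rho ℳ 𝒩 x = x := by
  induction hx using Submodule.span_induction with
  | mem x hx =>
    obtain ⟨n, a, ha, b, hb, rfl⟩ := hx
    rw [rho_tmul_of_mem ℳ 𝒩 ha hb, if_pos rfl]
  | zero => simp
  | add x y _ _ hx hy => rw [map_add, hx, hy]
  | smul c x _ hx => rw [map_smul, hx]

theorem rho_mem_D (x : M ⊗[k] N) : rho ℳ 𝒩 x ∈ D ℳ 𝒩 := by
  induction x using TensorProduct.induction_on with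
  | zero => simp
  | tmul a b =>
    induction a using DirectSum.Decomposition.inductionOn ℳ with
    | zero => simp
    | @homogeneous m a =>
      induction b using DirectSum.Decomposition.inductionOn 𝒩 with
      | zero => simp
      | @homogeneous n b =>
        rw [rho_tmul_of_mem ℳ 𝒩 a.2 b.2]
        split_ifs with h
        · subst h
          exact Submodule.subset_span ⟨_, _, a.2, _, b.2, rfl⟩
        · exact zero_mem _
      | add b b' hb hb' => rw [TensorProduct.tmul_add, map_add]; exact add_mem hb hb'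
    | add a a' ha ha' => rw [TensorProduct.add_tmul, map_add]; exact add_mem ha ha'
  | add x y hx hy => rw [map_add]; exact add_mem hx hy

end Rho

section Act

variable {k : Type u} [Field k] {R : Type u} [CommRing R] [Algebra k R] (𝒜 : ℤ → Submodule k R) [GradedAlgebra 𝒜]
  {S : Type u} [CommRing S] [Algebra k S] (ℬ : ℤ → Submodule k S) [GradedAlgebra ℬ]
  {M : Type u} [AddCommGroup M] [Module R M] [Module k M] [IsScalarTower k R M]
  {N : Type u} [AddCommGroup N] [Module S N] [Module k N] [IsScalarTower k S N]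
  (ℳ : ℤ → Submodule k M) [DirectSum.Decomposition ℳ] (𝒩 : ℤ → Submodule k N) [DirectSum.Decomposition 𝒩]
  (hM : ∀ (i j : ℤ) (r : R) (m : M), r ∈ 𝒜 i → m ∈ ℳ j → r • m ∈ ℳ (i + j))
  (hN : ∀ (i j : ℤ) (r : S) (m : N), r ∈ ℬ i → m ∈ 𝒩 j → r • m ∈ 𝒩 (i + j))

include hM hN in
/-- the diagonal projection is semilinear over the diagonal projection of the ring, on diagonal elements. -/
theorem rho_act (b : R ⊗[k] S) {z : M ⊗[k] N} (hz : z ∈ D ℳ 𝒩) :
    rho ℳ 𝒩 (GrSeg.act k R S M N b z) = GrSeg.act k R S M N (rho 𝒜 ℬ b) z := by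
  induction hz using Submodule.span_induction with
  | mem z hz =>
    obtain ⟨l, m, hm, n, hn, rfl⟩ := hz
    induction b using TensorProduct.induction_on with
    | zero => simp
    | tmul r s =>
      induction r using DirectSum.Decomposition.inductionOn 𝒜 with
      | zero => simp
      | @homogeneous i r =>
        induction s using DirectSum.Decomposition.inductionOn ℬ with
        | zero => simp
        | @homogeneous j s =>
          rw [GrSeg.act_tmul, rho_tmul_of_mem ℳ 𝒩 (hM i l r m r.2 hm) (hN j l s n s.2 hn),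
            rho_tmul_of_mem 𝒜 ℬ r.2 s.2]
          by_cases h : i = j
          · subst h
            simp [GrSeg.act_tmul]
          · have h2 : i + l ≠ j + l := by omega
            simp [h, h2]
        | add s s' hs hs' =>
          simp only [TensorProduct.tmul_add, map_add, LinearMap.add_apply, hs, hs']
      | add r r' hr hr' =>
        simp only [TensorProduct.add_tmul, map_add, LinearMap.add_apply, hr, hr']
    | add x y hx hy =>
      simp only [map_add, LinearMap.add_apply, hx, hy]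
  | zero => simp
  | add z z' _ _ hz hz' => rw [map_add, map_add, hz, hz', map_add]
  | smul c z _ hz => rw [map_smul, map_smul, hz, map_smul]

end Act

end Groth.Agent.Lib.helper19.Segre
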