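import Mathlib
import Groth.Prelude.Def_Wider
set_option autoImplicit false

/-! Matlis duality for finite length modules: `length Hom(M,E) = length M` and `M ≅ M^vv`. -/

universe u

namespace Groth.Agent.Lib.helper19.MatlisLen
open IsLocalRing

section
variable {A : Type u} [CommRing A] [IsLocalRing A] {E : Type u} [AddCommGroup E] [Module A E]
  (f : ResidueField A →ₗ[A] E) (hf : InjHull.IsInjectiveHull f)

theorem residue_eq_smul_one (a : A) : (residue A a : ResidueField A) = a • (1 : ResidueField A) := by
  rw [Algebra.smul_def, mul_one]; rfl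

include hf in
theorem exists_eq_mul (g : ResidueField A →ₗ[A] E) :
    ∃ c : ResidueField A, ∀ x, g x = f (c * x) := by
  have hg : ∀ a : A, g (residue A a) = a • g 1 := fun a => by
    rw [residue_eq_smul_one, map_smul]
  by_cases he : g 1 = 0
  · refine ⟨0, fun x => ?_⟩
    obtain ⟨a, rfl⟩ := residue_surjective x
    rw [hg, he, smul_zero, zero_mul, map_zero]
  · have hN : Submodule.span A {g 1} ≠ ⊥ := by
      rw [Ne, Submodule.span_singleton_eq_bot]; exact he
    obtain ⟨y, hy, hy0⟩ := (Submodule.ne_bot_iff _).mp (hf.essential _ hN)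
    obtain ⟨hy1, hy2⟩ := Submodule.mem_inf.mp hy
    obtain ⟨a, rfl⟩ := Submodule.mem_span_singleton.mp hy1
    obtain ⟨c, hc⟩ := hy2
    have ha : IsUnit a := by
      rw [← IsLocalRing.notMem_maximalIdeal]
      intro ha
      apply hy0
      rw [← hg, (residue_eq_zero_iff a).mpr ha, map_zero]
    obtain ⟨u, rfl⟩ := ha
    have he' : g 1 = f ((↑u⁻¹ : A) • c) := by
      rw [map_smul, hc, smul_smul, Units.inv_mul, one_smul]
    refine ⟨(↑u⁻¹ : A) • c, fun x => ?_⟩
    obtain ⟨b, rfl⟩ := residue_surjective x
    rw [hg, he', ← map_smul]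
    congr 1
    rw [Algebra.smul_def b, mul_comm]
    rfl

/-- `c ↦ (x ↦ f (c * x))` -/
noncomputable def Φ : ResidueField A →ₗ[A] (ResidueField A →ₗ[A] E) :=
  (LinearMap.llcomp A (ResidueField A) (ResidueField A) E f).comp (LinearMap.mul A (ResidueField A))

theorem Φ_apply (c x : ResidueField A) : Φ f c x = f (c * x) := rfl

include hf in
theorem Φ_bijective : Function.Bijective (Φ f) := by
  constructor
  · rw [← LinearMap.ker_eq_bot, LinearMap.ker_eq_bot']
    intro c hc
    have : Φ f c 1 = 0 := by rw [hc]; rfl
    rw [Φ_apply, mul_one] at this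
    exact hf.injective (by rw [this, map_zero])
  · intro g
    obtain ⟨c, hc⟩ := exists_eq_mul f hf g
    exact ⟨c, LinearMap.ext fun x => (hc x).symm⟩

include hf in
theorem length_hom_residueField : Module.length A (ResidueField A →ₗ[A] E) = 1 := by
  rw [← (LinearEquiv.ofBijective (Φ f) (Φ_bijective f hf)).length_eq]
  have : IsSimpleModule A (ResidueField A) := by
    rw [isSimpleModule_iff_quot_maximal]
    exact ⟨maximalIdeal A, inferInstance, ⟨LinearEquiv.refl A _⟩⟩
  exact Module.length_eq_one A _

include hf in
theorem length_hom_simple (S : Type u) [AddCommGroup S] [Module A S] [IsSimpleModule A S] :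
    Module.length A (S →ₗ[A] E) = 1 := by
  obtain ⟨I, hI, ⟨e⟩⟩ := isSimpleModule_iff_quot_maximal.mp (inferInstance : IsSimpleModule A S)
  have hI' : I = maximalIdeal A := IsLocalRing.eq_maximalIdeal hI
  subst hI'
  rw [(LinearEquiv.congrLeft E A e).length_eq]
  exact length_hom_residueField f hf

end

section exact
variable {A : Type u} [CommRing A] {E : Type u} [AddCommGroup E] [Module A E]
  [Module.Injective A E] {M : Type u} [AddCommGroup M] [Module A M] (N : Submodule A M)

theorem length_hom_eq_add :
    Module.length A (M →ₗ[A] E) =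
      Module.length A ((M ⧸ N) →ₗ[A] E) + Module.length A (N →ₗ[A] E) := by
  refine Module.length_eq_add_of_exact (LinearMap.lcomp A E N.mkQ) (LinearMap.lcomp A E N.subtype)
    ?_ ?_ ?_
  · intro φ ψ h
    ext x
    have := LinearMap.congr_fun h x
    simpa using this
  · intro ψ
    obtain ⟨h, hh⟩ := Module.Injective.extension_property A E N M N.subtype
      N.injective_subtype ψ
    exact ⟨h, hh⟩
  · intro φ
    constructor
    · intro h
      have hle : N ≤ LinearMap.ker φ := by
        intro x hx
        have := LinearMap.congr_fun h ⟨x, hx⟩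
        simpa using this
      exact ⟨N.liftQ φ hle, by ext x; simp⟩
    · rintro ⟨ψ, rfl⟩
      ext x
      have : (Submodule.Quotient.mk (x : M) : M ⧸ N) = 0 :=
        (Submodule.Quotient.mk_eq_zero N).mpr x.2
      simp [this]

end exact

section main
variable {A : Type u} [CommRing A] [IsLocalRing A] {E : Type u} [AddCommGroup E] [Module A E]
  (f : ResidueField A →ₗ[A] E) (hf : InjHull.IsInjectiveHull f)

include hf in
/-- Theorem A: `length Hom(M,E) = length M` for finite length `M`. -/
theorem length_hom_eq (M : Type u) [AddCommGroup M] [Module A M] (hM : IsFiniteLength A M) :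
    Module.length A (M →ₗ[A] E) = Module.length A M := by
  have : Module.Injective A E := hf.isInjective
  induction hM with
  | of_subsingleton =>
    rw [Module.length_eq_zero, Module.length_eq_zero]
  | @of_simple_quotient M _ _ N _ hN ih =>
    rw [length_hom_eq_add N, ih, length_hom_simple f hf (M ⧸ N)]
    rw [Module.length_eq_add_of_exact N.subtype N.mkQ N.injective_subtype
      (Submodule.mkQ_surjective N) (LinearMap.exact_subtype_mkQ N), Module.length_eq_one A (M ⧸ N),
      add_comm]

theorem enat_cancel {a b : ℕ∞} (ha : a ≠ ⊤) (h : a = b + a) : b = 0 := by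
  obtain ⟨n, rfl⟩ := ENat.ne_top_iff_exists.mp ha
  cases b with
  | top => simp at h
  | coe m =>
    have : n = m + n := by exact_mod_cast h
    have : m = 0 := by omega
    simp [this]

include hf in
/-- Theorem B: `M → M^vv` is bijective for finite length `M`. -/
theorem applyₗ_bijective (M : Type u) [AddCommGroup M] [Module A M] (hM : IsFiniteLength A M) :
    Function.Bijective (LinearMap.applyₗ : M →ₗ[A] (M →ₗ[A] E) →ₗ[A] E) := by
  have hinjE : Module.Injective A E := hf.isInjective
  set ev : M →ₗ[A] (M →ₗ[A] E) →ₗ[A] E := LinearMap.applyₗ with hev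
  have hlenM : Module.length A M ≠ ⊤ := Module.length_ne_top_iff.mpr hM
  -- injectivity
  have hK : LinearMap.ker ev = ⊥ := by
    set K := LinearMap.ker ev with hKdef
    have hbij : Function.Bijective (LinearMap.lcomp A E K.mkQ) := by
      constructor
      · intro φ ψ h
        ext x
        have := LinearMap.congr_fun h x
        simpa using this
      · intro φ
        have hle : K ≤ LinearMap.ker φ := by
          intro x hx
          have : ev x = 0 := hx
          have := LinearMap.congr_fun this φ
          simpa [ev] using this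
        exact ⟨K.liftQ φ hle, by ext x; simp⟩
    have h1 : Module.length A ((M ⧸ K) →ₗ[A] E) = Module.length A (M →ₗ[A] E) :=
      (LinearEquiv.ofBijective _ hbij).length_eq
    rw [length_hom_eq f hf M hM,
      length_hom_eq f hf (M ⧸ K) (hM.of_surjective (Submodule.mkQ_surjective K))] at h1
    have h2 := Module.length_eq_add_of_exact K.subtype K.mkQ K.injective_subtype
      (Submodule.mkQ_surjective K) (LinearMap.exact_subtype_mkQ K)
    rw [h1] at h2
    have h3 : Module.length A K = 0 := enat_cancel hlenM h2
    rw [Module.length_eq_zero_iff] at h3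
    exact Submodule.eq_bot_of_subsingleton
  have hinj : Function.Injective ev := LinearMap.ker_eq_bot.mp hK
  refine ⟨hinj, ?_⟩
  -- surjectivity by length count
  have hM' : IsFiniteLength A (M →ₗ[A] E) := by
    rw [← Module.length_ne_top_iff, length_hom_eq f hf M hM]; exact hlenM
  have hlen : Module.length A ((M →ₗ[A] E) →ₗ[A] E) = Module.length A M := by
    rw [length_hom_eq f hf _ hM', length_hom_eq f hf M hM]
  have h2 := Module.length_eq_add_of_exact ev (LinearMap.range ev).mkQ hinj
    (Submodule.mkQ_surjective _) (LinearMap.exact_map_mkQ_range ev)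
  rw [hlen, add_comm] at h2
  have h3 := enat_cancel hlenM h2
  rw [Module.length_eq_zero_iff, Submodule.Quotient.subsingleton_iff] at h3
  exact LinearMap.range_eq_top.mp h3

end main
end Groth.Agent.Lib.helper19.MatlisLen
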