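import Mathlib
import Groth.Prelude.Def_CAlg

/-! Helper lemmas about `LocCoh.idealDepth`/`LocCoh.depth` and `Localization.AtPrime` vs `LocalizedModule` (helper19). -/

set_option autoImplicit false
universe u

namespace Groth.Agent.Lib.helper19.Depth

section depthlemmas
variable {R : Type*} [CommRing R]

theorem smul_top_iff (I : Ideal R) {M N : Type*} [AddCommGroup M] [Module R M]
    [AddCommGroup N] [Module R N] (e : M ≃ₗ[R] N) :
    I • (⊤ : Submodule R M) = ⊤ → I • (⊤ : Submodule R N) = ⊤ := by
  intro h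
  have h1 : Submodule.map e.toLinearMap (I • (⊤ : Submodule R M)) = I • Submodule.map e.toLinearMap ⊤ :=
    Submodule.map_smul'' _ _ _
  rw [h, Submodule.map_top, LinearEquiv.range] at h1
  exact h1.symm

theorem idealDepth_congr (I : Ideal R) {M N : Type*} [AddCommGroup M] [Module R M]
    [AddCommGroup N] [Module R N] (e : M ≃ₗ[R] N) :
    LocCoh.idealDepth I M = LocCoh.idealDepth I N := by
  unfold LocCoh.idealDepth
  have hc : (I • (⊤ : Submodule R M) = ⊤) ↔ (I • (⊤ : Submodule R N) = ⊤) :=
    ⟨smul_top_iff I e, smul_top_iff I e.symm⟩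
  by_cases h : I • (⊤ : Submodule R M) = ⊤
  · rw [if_pos h, if_pos (hc.1 h)]
  · rw [if_neg h, if_neg (fun h' => h (hc.2 h'))]
    simp only [e.isWeaklyRegular_congr]

/-- a regular element of `I` gives depth ≥ 1 -/
theorem one_le_idealDepth (I : Ideal R) (r : R) (hr : r ∈ I) (hreg : IsSMulRegular R r) :
    1 ≤ LocCoh.idealDepth I R := by
  unfold LocCoh.idealDepth
  split_ifs with h
  · exact le_top
  · refine le_trans ?_ (le_iSup₂ (f := fun (rs : List R) (_ : RingTheory.Sequence.IsWeaklyRegular R rs ∧ ∀ r ∈ rs, r ∈ I) => (rs.length : ℕ∞)) [r] ⟨?_, ?_⟩)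
    · simp
    · rw [RingTheory.Sequence.isWeaklyRegular_singleton_iff]; exact hreg
    · simpa using hr

theorem idealDepth_eq_zero (I : Ideal R) (hI : I ≠ ⊤) (h : ∀ r ∈ I, ¬ IsSMulRegular R r) :
    LocCoh.idealDepth I R = 0 := by
  unfold LocCoh.idealDepth
  rw [if_neg (by simpa using hI)]
  apply le_antisymm _ zero_le
  apply iSup₂_le
  rintro rs ⟨h1, h2⟩
  cases rs with
  | nil => simp
  | cons r rs =>
    exfalso
    rw [RingTheory.Sequence.isWeaklyRegular_cons_iff] at h1
    exact h r (h2 r (by simp)) h1.1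

end depthlemmas

section loc
variable (R : Type u) [CommRing R] (p : Ideal R) [p.IsPrime]

noncomputable def eAM :
    Localization.AtPrime p ≃ₗ[Localization.AtPrime p] LocalizedModule p.primeCompl R :=
  (IsLocalizedModule.linearEquiv p.primeCompl (Algebra.linearMap R (Localization.AtPrime p))
    (LocalizedModule.mkLinearMap p.primeCompl R)).extendScalarsOfIsLocalization p.primeCompl
      (Localization.AtPrime p)

theorem depth_eq : LocCoh.depth (Localization.AtPrime p) (LocalizedModule p.primeCompl R) =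
    LocCoh.idealDepth (IsLocalRing.maximalIdeal (Localization.AtPrime p)) (Localization.AtPrime p) :=
  (idealDepth_congr _ (eAM R p)).symm

theorem supportDim_eq :
    Module.supportDim (Localization.AtPrime p) (LocalizedModule p.primeCompl R) =
      ringKrullDim (Localization.AtPrime p) := by
  rw [← Module.supportDim_eq_of_equiv (eAM R p), Module.supportDim_self_eq_ringKrullDim]

end loc

section localrings
variable {A : Type*} [CommRing A] [IsLocalRing A]

theorem regular_of_maxIdeal_eq_bot [IsNoetherianRing A] (h : IsLocalRing.maximalIdeal A = ⊥) :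
    IsRegularLocalRing A := by
  apply IsRegularLocalRing.of_spanFinrank_maximalIdeal_le
  rw [h, Submodule.spanFinrank_bot]
  have := ringKrullDim_eq_zero_of_isField (IsLocalRing.isField_iff_maximalIdeal_eq.2 h)
  rw [this]
  rfl

theorem krullDim_of_maxIdeal_eq_bot (h : IsLocalRing.maximalIdeal A = ⊥) : ringKrullDim A = 0 :=
  ringKrullDim_eq_zero_of_isField (IsLocalRing.isField_iff_maximalIdeal_eq.2 h)

theorem maxIdeal_eq_bot_of_reduced_of_dim [IsReduced A] (h : ringKrullDim A ≤ 0) :
    IsLocalRing.maximalIdeal A = ⊥ := by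
  have : Ring.KrullDimLE 0 A := (Ring.krullDimLE_iff ..).2 (by simpa using h)
  exact IsLocalRing.isField_iff_maximalIdeal_eq.1 Ring.KrullDimLE.isField_of_isReduced

theorem maxIdeal_eq_bot_of_regular_of_dim [IsRegularLocalRing A] (h : ringKrullDim A ≤ 0) :
    IsLocalRing.maximalIdeal A = ⊥ := by
  have h1 := IsRegularLocalRing.spanFinrank_maximalIdeal (R := A)
  rw [← h1] at h
  have h2 : (IsLocalRing.maximalIdeal A).spanFinrank = 0 := by
    have : ((IsLocalRing.maximalIdeal A).spanFinrank : WithBot ℕ∞) ≤ ((0 : ℕ) : WithBot ℕ∞) := by simpa using h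
    exact Nat.le_zero.1 (by exact_mod_cast this)
  exact (Submodule.spanFinrank_eq_zero_iff_eq_bot (IsNoetherian.noetherian _)).1 h2

theorem maxIdeal_eq_bot_of_no_regular [IsNoetherianRing A] [IsReduced A]
    (h : ∀ r ∈ IsLocalRing.maximalIdeal A, ¬ IsSMulRegular A r) :
    IsLocalRing.maximalIdeal A = ⊥ := by
  have hd : Disjoint (IsLocalRing.maximalIdeal A : Set A) (nonZeroDivisors A) := by
    rw [Set.disjoint_left]
    intro r hr hr'
    apply h r hr
    exact ((isRegular_iff_mem_nonZeroDivisors).2 hr').left.isSMulRegular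
  have := Ideal.bot_lt_annihilator_of_disjoint_nonZeroDivisors hd
  obtain ⟨y, hy, hy0⟩ := SetLike.exists_of_lt this
  rw [Module.mem_annihilator] at hy
  have hy0' : y ≠ 0 := fun h0 => hy0 (by simp [h0])
  have hyu : IsUnit y := by
    by_contra hnu
    have hym : y ∈ IsLocalRing.maximalIdeal A := (IsLocalRing.mem_maximalIdeal y).2 hnu
    have h2 := hy ⟨y, hym⟩
    have h3 : y * y = 0 := by
      have := congrArg Subtype.val h2
      simpa using this
    exact hy0' (IsReduced.eq_zero y ⟨2, by rw [pow_two, h3]⟩)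
  rw [eq_bot_iff]
  intro x hx
  have h2 := hy ⟨x, hx⟩
  have h3 : y * x = 0 := by
    have := congrArg Subtype.val h2
    simpa using this
  simpa using (hyu.mul_right_eq_zero).1 h3

end localrings

end Groth.Agent.Lib.helper19.Depth
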