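import Mathlib

/-!
# helper19: bridge between Mathlib's old `Ext` (left derived functor of `linearYoneda`) and
`Abelian.Ext`, and an element-level description of `localCohomology I i` (hence `LocCoh.H`).
-/

open CategoryTheory Limits Opposite

universe w v u t

namespace Groth.Agent.Lib.helper19.LCBridge

section Bridge

variable {R : Type t} [CommRing R] {C : Type u} [Category.{v} C] [Abelian C] [Linear R C]
  [HasExt.{w} C]

variable {X : C} (P : ProjectiveResolution X) (Y : C)

open CochainComplex HomComplex Abelian in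
lemma extMk_zero_eq_zero_iff (f : P.complex.X 0 ⟶ Y) (hf : P.complex.d 1 0 ≫ f = 0) :
    P.extMk f 1 rfl hf = 0 ↔ f = 0 := by
  constructor
  · intro h
    rw [← P.extEquivCohomologyClass.apply_eq_iff_eq,
      ProjectiveResolution.extEquivCohomologyClass_extMk,
      ProjectiveResolution.extEquivCohomologyClass_zero, CohomologyClass.mk_eq_zero_iff] at h
    rw [Cocycle.toSingleMk_mem_coboundaries_iff _ _ _ _ _ 1 (by lia)] at h
    obtain ⟨g, hg⟩ := h
    have hz : IsZero (P.cochainComplex.X 1) := CochainComplex.isZero_of_isStrictlyLE _ 0 _ (by lia)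
    have : g = 0 := hz.eq_of_src _ _
    subst this
    rw [comp_zero] at hg
    have h2 := hg.symm
    rwa [← cancel_epi (P.cochainComplexXIso (-(0:ℕ)) 0 rfl).inv, comp_zero,
      Iso.inv_hom_id_assoc] at h2
  · rintro rfl
    exact P.extMk_zero 1 rfl

/-- The complex `Hom(P_•, Y)`. -/
noncomputable abbrev K : CochainComplex (ModuleCat R) ℕ := P.complex.linearYonedaObj R Y

omit [HasExt.{w} C] in
lemma K_d_apply (i j : ℕ) (f : P.complex.X i ⟶ Y) :
    ((K (R := R) P Y).d i j).hom f = P.complex.d j i ≫ f := by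
  rw [ChainComplex.linearYonedaObj_d]
  rfl

/-- cocycles to Ext. -/
noncomputable def cocycleToExt (n m : ℕ) (hm : n + 1 = m) :
    LinearMap.ker ((K (R := R) P Y).d n m).hom →ₗ[R] Abelian.Ext X Y n where
  toFun f := P.extMk (f.1 : P.complex.X n ⟶ Y) m hm (by
    have := f.2
    rw [LinearMap.mem_ker, K_d_apply] at this
    exact this)
  map_add' f g := by
    rw [ProjectiveResolution.add_extMk]
    rfl
  map_smul' r f := by
    rw [RingHom.id_apply, Abelian.Ext.smul_eq_comp_mk₀, ProjectiveResolution.extMk_comp_mk₀]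
    congr 1
    rw [Linear.comp_smul, Category.comp_id]
    rfl

lemma cocycleToExt_apply (n m : ℕ) (hm : n + 1 = m) (f) (hf) :
    cocycleToExt (R := R) P Y n m hm ⟨f, hf⟩ = P.extMk (f : P.complex.X n ⟶ Y) m hm (by
      rw [LinearMap.mem_ker, K_d_apply] at hf
      exact hf) := rfl

lemma cocycleToExt_surjective (n m : ℕ) (hm : n + 1 = m) :
    Function.Surjective (cocycleToExt (R := R) P Y n m hm) := by
  intro α
  obtain ⟨f, hf, rfl⟩ := P.extMk_surjective α m hm
  refine ⟨⟨f, ?_⟩, rfl⟩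
  rw [LinearMap.mem_ker, K_d_apply]
  exact hf

lemma cocycleToExt_eq_zero_iff (p n m : ℕ) (hm : n + 1 = m) (hp : p + 1 = n ∨ n = 0)
    (f : LinearMap.ker ((K (R := R) P Y).d n m).hom) :
    cocycleToExt (R := R) P Y n m hm f = 0 ↔
      ∃ g : (K (R := R) P Y).X p, ((K (R := R) P Y).d p n).hom g = f.1 := by
  obtain ⟨f, hf⟩ := f
  rw [cocycleToExt_apply]
  by_cases hpn : p + 1 = n
  · rw [P.extMk_eq_zero_iff _ _ _ _ p hpn]
    constructor
    · rintro ⟨g, hg⟩
      exact ⟨g, by rw [K_d_apply]; exact hg⟩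
    · rintro ⟨g, hg⟩
      refine ⟨g, ?_⟩
      have := K_d_apply (R := R) P Y p n g
      rw [← this]; exact hg
  · have hn : n = 0 := by tauto
    subst hn
    subst hm
    rw [extMk_zero_eq_zero_iff]
    have hd : (K (R := R) P Y).d p 0 = 0 := HomologicalComplex.shape _ _ _ (by simp)
    constructor
    · intro h
      refine ⟨0, ?_⟩
      rw [map_zero]; exact h.symm
    · rintro ⟨g, hg⟩
      rw [hd] at hg
      exact hg.symm

lemma prev_cond (n : ℕ) : (ComplexShape.up ℕ).prev n + 1 = n ∨ n = 0 := by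
  cases n with
  | zero => right; rfl
  | succ k => left; rw [CochainComplex.prev_nat_succ]

/-- quotient description of cohomology to Ext. -/
noncomputable def quotToExt (n : ℕ) :
    (LinearMap.ker ((K (R := R) P Y).sc n).g.hom ⧸
      LinearMap.range ((K (R := R) P Y).sc n).moduleCatToCycles) →ₗ[R] Abelian.Ext X Y n :=
  Submodule.liftQ _ (cocycleToExt (R := R) P Y n _ (CochainComplex.next ℕ n).symm) (by
    rintro f ⟨g, rfl⟩
    rw [LinearMap.mem_ker]
    exact (cocycleToExt_eq_zero_iff P Y _ n _ _ (prev_cond n) _).mpr ⟨g, rfl⟩)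

lemma quotToExt_bijective (n : ℕ) : Function.Bijective (quotToExt (R := R) P Y n) := by
  constructor
  · rw [← LinearMap.ker_eq_bot, LinearMap.ker_eq_bot']
    intro x hx
    obtain ⟨f, rfl⟩ := Submodule.Quotient.mk_surjective _ x
    rw [quotToExt, Submodule.liftQ_apply] at hx
    obtain ⟨g, hg⟩ := (cocycleToExt_eq_zero_iff P Y _ n _ _ (prev_cond n) _).mp hx
    rw [Submodule.Quotient.mk_eq_zero]
    exact ⟨g, Subtype.ext hg⟩
  · intro α
    obtain ⟨f, rfl⟩ := cocycleToExt_surjective (R := R) P Y n _ (CochainComplex.next ℕ n).symm α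
    exact ⟨Submodule.Quotient.mk f, rfl⟩

/-- Old `Ext` versus new `Ext`, via a projective resolution. -/
noncomputable def oldExtEquivOfRes [EnoughProjectives C] (n : ℕ) :
    ((Ext R C n).obj (Opposite.op X)).obj Y ≃ₗ[R] Abelian.Ext X Y n :=
  ((P.isoExt n Y) ≪≫ ((K (R := R) P Y).sc n).moduleCatHomologyIso).toLinearEquiv ≪≫ₗ
    LinearEquiv.ofBijective (quotToExt (R := R) P Y n) (quotToExt_bijective P Y n)

/-- Old `Ext` versus new `Ext`. -/
noncomputable def oldExtEquiv [EnoughProjectives C] (X Y : C) (n : ℕ) :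
    ((Ext R C n).obj (Opposite.op X)).obj Y ≃ₗ[R] Abelian.Ext X Y n :=
  oldExtEquivOfRes (projectiveResolution X) Y n

end Bridge

section LC

variable {R : Type u} [CommRing R] (I : Ideal R) (i : ℕ) (M : ModuleCat.{u} R)

noncomputable instance presFilt :
    PreservesColimitsOfShape ℕᵒᵖᵒᵖ (forget (ModuleCat.{u} R)) := by
  have : PreservesFilteredColimitsOfSize.{0,0} (forget (ModuleCat.{u} R)) :=
    preservesFilteredColimitsOfSize_shrink.{0,u,0,u} _
  exact PreservesFilteredColimitsOfSize.preserves_filtered_colimits _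

/-- The diagram defining local cohomology. -/
noncomputable abbrev D : ℕᵒᵖᵒᵖ ⥤ ModuleCat.{u} R ⥤ ModuleCat.{u} R :=
  localCohomology.diagram (localCohomology.idealPowersDiagram I) i

/-- The `n`-th stage `Ext^i(R/I^n, M)` (old `Ext`). -/
noncomputable abbrev stage (n : ℕ) : ModuleCat.{u} R :=
  ((Ext R (ModuleCat.{u} R) i).obj (op (ModuleCat.of R (R ⧸ I ^ n)))).obj M

/-- The map from the `n`-th stage to local cohomology. -/
noncomputable def toH (n : ℕ) : stage I i M n ⟶ (localCohomology I i).obj M :=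
  (colimit.ι (D I i) (op (op n))).app M

/-- Transition maps. -/
noncomputable def trans {n m : ℕ} (h : n ≤ m) : stage I i M n ⟶ stage I i M m :=
  ((D I i).map (homOfLE h).op.op).app M

lemma trans_toH {n m : ℕ} (h : n ≤ m) : trans I i M h ≫ toH I i M m = toH I i M n := by
  unfold trans toH
  have := congrArg (fun t => t.app M) (colimit.w (D I i) (homOfLE h).op.op)
  exact this

lemma trans_toH_apply {n m : ℕ} (h : n ≤ m) (y : stage I i M n) :
    toH I i M m (trans I i M h y) = toH I i M n y := by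
  rw [← trans_toH I i M h]; rfl

lemma toH_surj (x : ((localCohomology I i).obj M : ModuleCat.{u} R)) :
    ∃ (n : ℕ) (y : stage I i M n), toH I i M n y = x := by
  let e := colimitObjIsoColimitCompEvaluation (D I i) M
  obtain ⟨j, y, hy⟩ := Concrete.colimit_exists_rep ((D I i) ⋙ (evaluation _ _).obj M) (e.hom x)
  refine ⟨j.unop.unop, y, ?_⟩
  have h1 := colimitObjIsoColimitCompEvaluation_ι_app_hom (D I i) j M
  apply (ModuleCat.mono_iff_injective e.hom).1 inferInstance
  rw [← hy, ← h1]
  rfl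

lemma toH_eq_zero_iff {n : ℕ} (y : stage I i M n) :
    toH I i M n y = 0 ↔ ∃ (m : ℕ) (h : n ≤ m), trans I i M h y = 0 := by
  constructor
  · intro h
    let e := colimitObjIsoColimitCompEvaluation (D I i) M
    have h1 := colimitObjIsoColimitCompEvaluation_ι_app_hom (D I i) (op (op n)) M
    have h2 : colimit.ι ((D I i) ⋙ (evaluation _ _).obj M) (op (op n)) y =
        colimit.ι ((D I i) ⋙ (evaluation _ _).obj M) (op (op n)) (0 : stage I i M n) := by
      rw [← h1]
      change e.hom (toH I i M n y) = e.hom (toH I i M n 0)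
      rw [h, map_zero]
    obtain ⟨k, f, g, hfg⟩ := Concrete.colimit_exists_of_rep_eq _ _ _ h2
    refine ⟨k.unop.unop, f.unop.unop.le, ?_⟩
    have : (((D I i) ⋙ (evaluation _ _).obj M).map g) (0 : stage I i M n) = 0 := map_zero _
    rw [this] at hfg
    exact hfg
  · rintro ⟨m, h, hy⟩
    rw [← trans_toH_apply I i M h, hy, map_zero]

/-- If all stages (as `Abelian.Ext`) vanish then local cohomology vanishes. -/
lemma subsingleton_of_stages
    (h : ∀ n : ℕ, Subsingleton (Abelian.Ext.{u} (ModuleCat.of R (R ⧸ I ^ n)) M i)) :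
    Subsingleton ((localCohomology I i).obj M : ModuleCat.{u} R) := by
  refine ⟨fun x y => ?_⟩
  have hz : ∀ z : ((localCohomology I i).obj M : ModuleCat.{u} R), z = 0 := by
    intro z
    obtain ⟨n, w, rfl⟩ := toH_surj I i M z
    have : w = 0 := by
      apply (oldExtEquiv (R := R) (ModuleCat.of R (R ⧸ I ^ n)) M i).injective
      exact (h n).elim _ _
    rw [this, map_zero]
  rw [hz x, hz y]

end LC

section Smul

theorem ext_smul_eq_zero {R : Type u} [CommRing R] {X Y : ModuleCat.{u} R} {n : ℕ}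
    (a : R) (ha : a • 𝟙 X = 0) (z : Abelian.Ext.{u} X Y n) : a • z = 0 := by
  have h1 : (Abelian.Ext.mk₀ (a • 𝟙 X)).comp z (zero_add n) = a • z := by
    rw [Abelian.Ext.mk₀_smul, Abelian.Ext.smul_comp, Abelian.Ext.mk₀_id_comp]
  rw [← h1, ha, Abelian.Ext.mk₀_zero, Abelian.Ext.zero_comp]

theorem ext_smul_eq_zero' {R : Type u} [CommRing R] {X Y : ModuleCat.{u} R} {n : ℕ}
    (a : R) (ha : a • 𝟙 Y = 0) (z : Abelian.Ext.{u} X Y n) : a • z = 0 := by
  rw [Abelian.Ext.smul_eq_comp_mk₀, ha, Abelian.Ext.mk₀_zero, Abelian.Ext.comp_zero]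

theorem smul_id_quot_eq_zero {R : Type u} [CommRing R] (J : Ideal R) (a : R) (ha : a ∈ J) :
    a • 𝟙 (ModuleCat.of R (R ⧸ J)) = 0 := by
  apply ModuleCat.hom_ext
  apply LinearMap.ext
  intro x
  obtain ⟨r, rfl⟩ := Ideal.Quotient.mk_surjective x
  change a • (Ideal.Quotient.mk J r) = 0
  rw [← Ideal.Quotient.mk_eq_mk, ← Submodule.Quotient.mk_smul, Ideal.Quotient.mk_eq_mk,
    Ideal.Quotient.eq_zero_iff_mem]
  exact J.mul_mem_right _ ha

theorem stage_smul_eq_zero {R : Type u} [CommRing R] (I : Ideal R) (i : ℕ)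
    (M : ModuleCat.{u} R) (n : ℕ) (a : R) (ha : a ∈ I ^ n) (y : stage I i M n) : a • y = 0 := by
  apply (oldExtEquiv (R := R) (ModuleCat.of R (R ⧸ I ^ n)) M i).injective
  rw [map_smul, map_zero]
  exact ext_smul_eq_zero a (smul_id_quot_eq_zero _ a ha) _

theorem stage_smul_eq_zero' {R : Type u} [CommRing R] (I : Ideal R) (i : ℕ)
    (M : ModuleCat.{u} R) (n : ℕ) (a : R) (ha : a • 𝟙 M = 0) (y : stage I i M n) : a • y = 0 := by
  apply (oldExtEquiv (R := R) (ModuleCat.of R (R ⧸ I ^ n)) M i).injective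
  rw [map_smul, map_zero]
  exact ext_smul_eq_zero' a ha _

/-- local cohomology is `I`-power torsion. -/
theorem H_powerTorsion {R : Type u} [CommRing R] (I : Ideal R) (i : ℕ) (M : ModuleCat.{u} R)
    (x : ((localCohomology I i).obj M : ModuleCat.{u} R)) : ∃ n : ℕ, ∀ a ∈ I ^ n, a • x = 0 := by
  obtain ⟨n, y, rfl⟩ := toH_surj I i M x
  refine ⟨n, fun a ha => ?_⟩
  rw [← map_smul, stage_smul_eq_zero I i _ n a ha y, map_zero]

/-- scalars killing `M` kill local cohomology. -/
theorem H_smul_eq_zero {R : Type u} [CommRing R] (I : Ideal R) (i : ℕ) (M : ModuleCat.{u} R)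
    (a : R) (ha : a • 𝟙 M = 0)
    (x : ((localCohomology I i).obj M : ModuleCat.{u} R)) : a • x = 0 := by
  obtain ⟨n, y, rfl⟩ := toH_surj I i M x
  rw [← map_smul, stage_smul_eq_zero' I i _ n a ha y, map_zero]

end Smul

section Naturality

section
variable {ι : Type*} {V : Type*} [Category V] {c : ComplexShape ι} [Abelian V]

lemma homologyUnop_hom_naturality {K L : HomologicalComplex Vᵒᵖ c} (ψ : K ⟶ L) (i : ι) :
    (L.homologyUnop i).hom ≫ (HomologicalComplex.homologyMap ψ i).unop =
      HomologicalComplex.homologyMap ((HomologicalComplex.unopFunctor V c).map ψ.op) i ≫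
        (K.homologyUnop i).hom := by
  apply Quiver.Hom.op_inj
  have := HomologicalComplex.homologyOp_hom_naturality ((HomologicalComplex.unopFunctor V c).map ψ.op) i
  exact this

omit [Abelian V] in
lemma aux1 {A B C D : V} (a : A ≅ B) (b : C ≅ D) (x : B ⟶ D) (y : A ⟶ C)
    (h : a.hom ≫ x = y ≫ b.hom) : x ≫ b.inv = a.inv ≫ y := by
  rw [Iso.comp_inv_eq, Category.assoc, Iso.eq_inv_comp]; exact h

lemma homologyUnop_inv_naturality {K L : HomologicalComplex Vᵒᵖ c} (ψ : K ⟶ L) (i : ι) :
    (HomologicalComplex.homologyMap ψ i).unop ≫ (K.homologyUnop i).inv =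
      (L.homologyUnop i).inv ≫
        HomologicalComplex.homologyMap ((HomologicalComplex.unopFunctor V c).map ψ.op) i :=
  aux1 _ _ _ _ (homologyUnop_hom_naturality ψ i)

omit [Abelian V] in
lemma aux2 {A B A' B' : Vᵒᵖ} (e : A ≅ B) (e' : A' ≅ B') (M : B' ⟶ B) {U U' : V}
    (u : U ≅ unop B) (u' : U' ≅ unop B') (hM : U ⟶ U')
    (h : M.unop ≫ u'.inv = u.inv ≫ hM) :
    (e'.hom ≫ M ≫ e.inv).unop ≫ (e'.unop.symm ≪≫ u'.symm).hom =
      (e.unop.symm ≪≫ u.symm).hom ≫ hM := by
  simp only [unop_comp, Category.assoc, Iso.trans_hom, Iso.symm_hom, Iso.unop_inv]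
  have h3 : e'.hom.unop ≫ e'.inv.unop = 𝟙 _ := by rw [← unop_comp, Iso.inv_hom_id, unop_id]
  rw [reassoc_of% h3, h]

end

section
variable {R : Type t} [CommRing R] {C : Type u} [Category.{v} C] [Abelian C] [Linear R C]

/-- The map `Hom(P, Y) ⟶ Hom(P', Y)` induced by a map of complexes. -/
noncomputable def KMap {X X' : C} {P : ProjectiveResolution X} {P' : ProjectiveResolution X'}
    (φ : P'.complex ⟶ P.complex) (Y : C) :
    P.complex.linearYonedaObj R Y ⟶ P'.complex.linearYonedaObj R Y :=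
  (HomologicalComplex.unopFunctor _ _).map
    ((((linearYoneda R C).obj Y).rightOp.mapHomologicalComplex _).map φ).op

/-- The map `Hom(P, Y) ⟶ Hom(P, Y')` induced by `h : Y ⟶ Y'`. -/
noncomputable def KMapY {X : C} (P : ProjectiveResolution X) {Y Y' : C} (h : Y ⟶ Y') :
    P.complex.linearYonedaObj R Y ⟶ P.complex.linearYonedaObj R Y' :=
  (HomologicalComplex.unopFunctor _ _).map
    ((NatTrans.mapHomologicalComplex (NatTrans.rightOp ((linearYoneda R C).map h)) _).app P.complex).op

lemma KMap_f_apply {X X' : C} {P : ProjectiveResolution X} {P' : ProjectiveResolution X'}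
    (φ : P'.complex ⟶ P.complex) (Y : C) (k : ℕ) (f : P.complex.X k ⟶ Y) :
    ((KMap (R := R) φ Y).f k).hom f = φ.f k ≫ f := rfl

lemma KMapY_f_apply {X : C} (P : ProjectiveResolution X) {Y Y' : C} (h : Y ⟶ Y') (k : ℕ)
    (f : P.complex.X k ⟶ Y) :
    ((KMapY (R := R) P h).f k).hom f = f ≫ h := rfl

variable [EnoughProjectives C]

lemma isoExt_naturality_X {X X' : C} (g : X' ⟶ X) (P : ProjectiveResolution X)
    (P' : ProjectiveResolution X') (φ : P'.complex ⟶ P.complex)
    (w : φ ≫ P.π = P'.π ≫ (ChainComplex.single₀ C).map g) (Y : C) (n : ℕ) :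
    ((Ext R C n).map g.op).app Y ≫ (P'.isoExt n Y).hom =
      (P.isoExt n Y).hom ≫ HomologicalComplex.homologyMap (KMap (R := R) φ Y) n := by
  have h1 := Functor.leftDerived_map_eq ((linearYoneda R C).obj Y).rightOp n g φ w
  have h2 : ((Ext R C n).map g.op).app Y =
      ((((linearYoneda R C).obj Y).rightOp.leftDerived n).map g).unop := rfl
  rw [h2, h1]
  exact aux2 _ _ _ _ _ _ (homologyUnop_inv_naturality _ n)

lemma isoExt_naturality_Y {X : C} (P : ProjectiveResolution X) {Y Y' : C} (h : Y ⟶ Y') (n : ℕ) :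
    ((Ext R C n).obj (op X)).map h ≫ (P.isoExt n Y').hom =
      (P.isoExt n Y).hom ≫ HomologicalComplex.homologyMap (KMapY (R := R) P h) n := by
  have h1 := ProjectiveResolution.leftDerived_app_eq (NatTrans.rightOp ((linearYoneda R C).map h)) P n
  have h2 : ((Ext R C n).obj (op X)).map h =
      ((NatTrans.leftDerived (NatTrans.rightOp ((linearYoneda R C).map h)) n).app X).unop := rfl
  rw [h2, h1]
  exact aux2 _ _ _ _ _ _ (homologyUnop_inv_naturality _ n)

end

section
variable {R : Type t} [CommRing R] {C : Type u} [Category.{v} C] [Abelian C] [Linear R C]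
  [HasExt.{w} C]

variable {X : C} (P : ProjectiveResolution X) (Y : C)

omit [HasExt.{w} C] in
lemma d_comp_iCycles (n : ℕ) (z : (K (R := R) P Y).cycles n) :
    P.complex.d (n+1) n ≫ (((K (R := R) P Y).iCycles n).hom z : P.complex.X n ⟶ Y) = 0 := by
  rw [← K_d_apply (R := R)]
  have := (K (R := R) P Y).iCycles_d n (n+1)
  exact congrArg (fun t => t.hom z) this

lemma cocycleToExt_eq_extMk (n m : ℕ) (hm : n + 1 = m)
    (c : LinearMap.ker ((K (R := R) P Y).d n m).hom) (f : P.complex.X n ⟶ Y) (hcf : c.1 = f)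
    (hf' : P.complex.d (n+1) n ≫ f = 0) :
    cocycleToExt (R := R) P Y n m hm c = P.extMk f (n+1) rfl hf' := by
  subst hm
  obtain ⟨c, hc⟩ := c
  subst hcf
  rfl

lemma extMk_congr {n : ℕ} (f f' : P.complex.X n ⟶ Y) (h : f = f') (m : ℕ) (hm : n + 1 = m)
    (hf : P.complex.d m n ≫ f = 0) :
    P.extMk f m hm hf = P.extMk f' m hm (by rw [← h]; exact hf) := by
  subst h; rfl

lemma oldExtEquivOfRes_apply [EnoughProjectives C] (n : ℕ) (x : ((Ext R C n).obj (op X)).obj Y)
    (z : (K (R := R) P Y).cycles n)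
    (hz : (P.isoExt n Y).hom x = (K (R := R) P Y).homologyπ n z) :
    oldExtEquivOfRes (R := R) P Y n x =
      P.extMk (((K (R := R) P Y).iCycles n).hom z : P.complex.X n ⟶ Y) (n+1) rfl
        (d_comp_iCycles P Y n z) := by
  have h1 : oldExtEquivOfRes (R := R) P Y n x =
      quotToExt (R := R) P Y n (((K (R := R) P Y).sc n).moduleCatHomologyIso.hom
        ((P.isoExt n Y).hom x)) := rfl
  rw [h1, hz]
  have h2 := ShortComplex.π_moduleCatCyclesIso_hom_apply ((K (R := R) P Y).sc n) z
  have h3 : ((K (R := R) P Y).sc n).moduleCatHomologyIso.hom ((K (R := R) P Y).homologyπ n z) =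
      Submodule.Quotient.mk (((K (R := R) P Y).sc n).moduleCatCyclesIso.hom z) := h2
  rw [h3]
  have h4 : quotToExt (R := R) P Y n
      (Submodule.Quotient.mk (((K (R := R) P Y).sc n).moduleCatCyclesIso.hom z)) =
      cocycleToExt (R := R) P Y n _ (CochainComplex.next ℕ n).symm
        (((K (R := R) P Y).sc n).moduleCatCyclesIso.hom z) := rfl
  refine h4.trans ?_
  apply cocycleToExt_eq_extMk
  exact ShortComplex.moduleCatCyclesIso_hom_i_apply ((K (R := R) P Y).sc n) z

lemma exists_cycle [EnoughProjectives C] (n : ℕ) (x : ((Ext R C n).obj (op X)).obj Y) :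
    ∃ z : (K (R := R) P Y).cycles n, (P.isoExt n Y).hom x = (K (R := R) P Y).homologyπ n z := by
  have : Function.Surjective ((K (R := R) P Y).homologyπ n) :=
    (ModuleCat.epi_iff_surjective _).1 inferInstance
  obtain ⟨z, hz⟩ := this ((P.isoExt n Y).hom x)
  exact ⟨z, hz.symm⟩

theorem oldExtEquivOfRes_naturality_X [EnoughProjectives C] {X' : C} (g : X' ⟶ X)
    (P' : ProjectiveResolution X') (φ : ProjectiveResolution.Hom P' P g) (n : ℕ)
    (x : ((Ext R C n).obj (op X)).obj Y) :
    oldExtEquivOfRes (R := R) P' Y n (((Ext R C n).map g.op).app Y x) =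
      (Abelian.Ext.mk₀ g).comp (oldExtEquivOfRes (R := R) P Y n x) (zero_add n) := by
  obtain ⟨z, hz⟩ := exists_cycle P Y n x
  have hnat := isoExt_naturality_X (R := R) g P P' φ.hom φ.hom_comp_π Y n
  have h1 : (P'.isoExt n Y).hom (((Ext R C n).map g.op).app Y x) =
      (K (R := R) P' Y).homologyπ n
        (HomologicalComplex.cyclesMap (KMap (R := R) φ.hom Y) n z) := by
    have := congrArg (fun t => t.hom x) hnat
    refine this.trans ?_
    change (HomologicalComplex.homologyMap (KMap (R := R) φ.hom Y) n) ((P.isoExt n Y).hom x) = _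
    rw [hz]
    have h5 := HomologicalComplex.homologyπ_naturality (KMap (R := R) φ.hom Y) n
    exact congrArg (fun t => t.hom z) h5
  rw [oldExtEquivOfRes_apply P' Y n _ _ h1, oldExtEquivOfRes_apply P Y n x z hz,
    ProjectiveResolution.mk₀_comp_extMk _ _ _ _ φ]
  apply extMk_congr
  have h6 := HomologicalComplex.cyclesMap_i (KMap (R := R) φ.hom Y) n
  exact congrArg (fun t => t.hom z) h6

theorem oldExtEquivOfRes_naturality_Y [EnoughProjectives C] {Y' : C} (h : Y ⟶ Y') (n : ℕ)
    (x : ((Ext R C n).obj (op X)).obj Y) :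
    oldExtEquivOfRes (R := R) P Y' n (((Ext R C n).obj (op X)).map h x) =
      (oldExtEquivOfRes (R := R) P Y n x).comp (Abelian.Ext.mk₀ h) (add_zero n) := by
  obtain ⟨z, hz⟩ := exists_cycle P Y n x
  have hnat := isoExt_naturality_Y (R := R) P h n
  have h1 : (P.isoExt n Y').hom (((Ext R C n).obj (op X)).map h x) =
      (K (R := R) P Y').homologyπ n
        (HomologicalComplex.cyclesMap (KMapY (R := R) P h) n z) := by
    have := congrArg (fun t => t.hom x) hnat
    refine this.trans ?_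
    change (HomologicalComplex.homologyMap (KMapY (R := R) P h) n) ((P.isoExt n Y).hom x) = _
    rw [hz]
    have h5 := HomologicalComplex.homologyπ_naturality (KMapY (R := R) P h) n
    exact congrArg (fun t => t.hom z) h5
  rw [oldExtEquivOfRes_apply P Y' n _ _ h1, oldExtEquivOfRes_apply P Y n x z hz,
    ProjectiveResolution.extMk_comp_mk₀]
  apply extMk_congr
  have h6 := HomologicalComplex.cyclesMap_i (KMapY (R := R) P h) n
  exact congrArg (fun t => t.hom z) h6

end


end Naturality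

section Interface

section
variable {R : Type u} [CommRing R]

theorem oldExtEquiv_naturality_X {X X' : ModuleCat.{u} R} (g : X' ⟶ X) (Y : ModuleCat.{u} R) (n : ℕ)
    (x : ((Ext R (ModuleCat.{u} R) n).obj (op X)).obj Y) :
    oldExtEquiv (R := R) X' Y n (((Ext R (ModuleCat.{u} R) n).map g.op).app Y x) =
      (Abelian.Ext.mk₀ g).comp (oldExtEquiv (R := R) X Y n x) (zero_add n) :=
  oldExtEquivOfRes_naturality_X (R := R) (projectiveResolution X) Y g (projectiveResolution X')
    ⟨ProjectiveResolution.lift g _ _, by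
      rw [ProjectiveResolution.lift_commutes_zero]; simp⟩ n x

theorem oldExtEquiv_naturality_Y (X : ModuleCat.{u} R) {Y Y' : ModuleCat.{u} R} (h : Y ⟶ Y') (n : ℕ)
    (x : ((Ext R (ModuleCat.{u} R) n).obj (op X)).obj Y) :
    oldExtEquiv (R := R) X Y' n (((Ext R (ModuleCat.{u} R) n).obj (op X)).map h x) =
      (oldExtEquiv (R := R) X Y n x).comp (Abelian.Ext.mk₀ h) (add_zero n) :=
  oldExtEquivOfRes_naturality_Y (R := R) (projectiveResolution X) Y h n x

end

section
variable {R : Type u} [CommRing R] (I : Ideal R) (i : ℕ) (M : ModuleCat.{u} R)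

/-- The quotient `R/I^n` as an object. -/
abbrev Q (n : ℕ) : ModuleCat.{u} R := ModuleCat.of R (R ⧸ I ^ n)

/-- The projection `R/I^m ⟶ R/I^n` for `n ≤ m`. -/
noncomputable def quotMap {n m : ℕ} (h : n ≤ m) : Q I m ⟶ Q I n :=
  ModuleCat.ofHom (Submodule.mapQ _ _ LinearMap.id (Ideal.pow_le_pow_right h))

/-- the stage equivalence -/
noncomputable def stageEquiv (n : ℕ) : stage I i M n ≃ₗ[R] Abelian.Ext.{u} (Q I n) M i :=
  oldExtEquiv (R := R) (Q I n) M i

lemma stageEquiv_trans {n m : ℕ} (h : n ≤ m) (y : stage I i M n) :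
    stageEquiv I i M m (trans I i M h y) =
      (Abelian.Ext.mk₀ (quotMap I h)).comp (stageEquiv I i M n y) (zero_add i) :=
  oldExtEquiv_naturality_X (quotMap I h) M i y

/-- The map from `Ext^i(R/I^n, M)` to local cohomology. -/
noncomputable def toH' (n : ℕ) : Abelian.Ext.{u} (Q I n) M i →ₗ[R] ((localCohomology I i).obj M : ModuleCat.{u} R) :=
  (toH I i M n).hom ∘ₗ (stageEquiv I i M n).symm.toLinearMap

lemma toH'_surj (x : ((localCohomology I i).obj M : ModuleCat.{u} R)) :
    ∃ (n : ℕ) (z : Abelian.Ext.{u} (Q I n) M i), toH' I i M n z = x := by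
  obtain ⟨n, y, rfl⟩ := toH_surj I i M x
  refine ⟨n, stageEquiv I i M n y, ?_⟩
  simp [toH']

lemma toH'_comp {n m : ℕ} (h : n ≤ m) (z : Abelian.Ext.{u} (Q I n) M i) :
    toH' I i M m ((Abelian.Ext.mk₀ (quotMap I h)).comp z (zero_add i)) = toH' I i M n z := by
  obtain ⟨y, rfl⟩ := (stageEquiv I i M n).surjective z
  rw [← stageEquiv_trans]
  simp only [toH', LinearMap.comp_apply, LinearEquiv.coe_coe, LinearEquiv.symm_apply_apply]
  exact trans_toH_apply I i M h y

lemma toH'_eq_zero_iff {n : ℕ} (z : Abelian.Ext.{u} (Q I n) M i) :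
    toH' I i M n z = 0 ↔ ∃ (m : ℕ) (h : n ≤ m), (Abelian.Ext.mk₀ (quotMap I h)).comp z (zero_add i) = 0 := by
  obtain ⟨y, rfl⟩ := (stageEquiv I i M n).surjective z
  have h0 : toH' I i M n (stageEquiv I i M n y) = toH I i M n y := by
    simp [toH']
  rw [h0, toH_eq_zero_iff]
  constructor
  · rintro ⟨m, h, hy⟩
    refine ⟨m, h, ?_⟩
    rw [← stageEquiv_trans, hy, map_zero]
  · rintro ⟨m, h, hy⟩
    refine ⟨m, h, ?_⟩
    rw [← stageEquiv_trans] at hy
    exact (stageEquiv I i M m).injective (hy.trans (map_zero _).symm)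

lemma map_toH' {M' : ModuleCat.{u} R} (f : M ⟶ M') {n : ℕ} (z : Abelian.Ext.{u} (Q I n) M i) :
    ((localCohomology I i).map f) (toH' I i M n z) =
      toH' I i M' n (z.comp (Abelian.Ext.mk₀ f) (add_zero i)) := by
  obtain ⟨y, rfl⟩ := (stageEquiv I i M n).surjective z
  have hnat := (colimit.ι (D I i) (op (op n))).naturality f
  have h1 : ((localCohomology I i).map f) (toH I i M n y) =
      toH I i M' n ((((Ext R (ModuleCat.{u} R) i).obj (op (Q I n))).map f) y) :=
    (congrArg (fun t => t.hom y) hnat).symm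
  have h2 : stageEquiv I i M' n ((((Ext R (ModuleCat.{u} R) i).obj (op (Q I n))).map f) y) =
      (stageEquiv I i M n y).comp (Abelian.Ext.mk₀ f) (add_zero i) :=
    oldExtEquiv_naturality_Y (Q I n) f i y
  rw [← h2]
  simp only [toH', LinearMap.comp_apply, LinearEquiv.coe_coe, LinearEquiv.symm_apply_apply]
  exact h1

end

end Interface

end Groth.Agent.Lib.helper19.LCBridge
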