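import Mathlib
import Groth.Agent.Lib.Helper19.LCBridge
open CategoryTheory
universe u

namespace Groth.Agent.Lib.helper19.LCFactor
open Groth.Agent.Lib.helper19.LCBridge

section
variable {R : Type u} [CommRing R] (I : Ideal R) (i : ℕ)

lemma H_map_smul_id (M : ModuleCat.{u} R) (s : R)
    (x : ((localCohomology I i).obj M : ModuleCat.{u} R)) :
    ((localCohomology I i).map (s • 𝟙 M)).hom x = s • x := by
  obtain ⟨n, z, rfl⟩ := toH'_surj I i M x
  refine (map_toH' I i M _ z).trans ?_
  rw [Abelian.Ext.mk₀_smul, Abelian.Ext.comp_smul, Abelian.Ext.comp_mk₀_id, map_smul]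

lemma H_map_add {M N : ModuleCat.{u} R} (f g : M ⟶ N)
    (x : ((localCohomology I i).obj M : ModuleCat.{u} R)) :
    ((localCohomology I i).map (f + g)).hom x =
      ((localCohomology I i).map f).hom x + ((localCohomology I i).map g).hom x := by
  obtain ⟨n, z, rfl⟩ := toH'_surj I i M x
  refine (map_toH' I i M _ z).trans ?_
  rw [Abelian.Ext.mk₀_add, Abelian.Ext.comp_add, map_add]
  congr 1
  · exact (map_toH' I i M f z).symm
  · exact (map_toH' I i M g z).symm

lemma H_map_zero {M N : ModuleCat.{u} R}
    (x : ((localCohomology I i).obj M : ModuleCat.{u} R)) :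
    ((localCohomology I i).map (0 : M ⟶ N)).hom x = 0 := by
  obtain ⟨n, z, rfl⟩ := toH'_surj I i M x
  refine (map_toH' I i M _ z).trans ?_
  rw [Abelian.Ext.mk₀_zero, Abelian.Ext.comp_zero, map_zero]

lemma H_map_sum {ι : Type*} {M N : ModuleCat.{u} R} (s : Finset ι) (f : ι → (M ⟶ N))
    (x : ((localCohomology I i).obj M : ModuleCat.{u} R)) :
    ((localCohomology I i).map (∑ j ∈ s, f j)).hom x =
      ∑ j ∈ s, ((localCohomology I i).map (f j)).hom x := by
  classical
  induction s using Finset.induction_on with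
  | empty => rw [Finset.sum_empty, Finset.sum_empty]; exact H_map_zero I i x
  | insert a s ha ih => rw [Finset.sum_insert ha, Finset.sum_insert ha, H_map_add, ih]

/-- if `s • 𝟙` factors through an object with vanishing `H^i` then `s` kills `H^i`. -/
lemma H_smul_eq_zero_of_factor {M N : ModuleCat.{u} R} (ψ : M ⟶ N) (φ : N ⟶ M) (s : R)
    (h : ψ ≫ φ = s • 𝟙 M)
    (hN : Subsingleton ((localCohomology I i).obj N : ModuleCat.{u} R))
    (x : ((localCohomology I i).obj M : ModuleCat.{u} R)) : s • x = 0 := by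
  rw [← H_map_smul_id, ← h, Functor.map_comp, ModuleCat.hom_comp, LinearMap.comp_apply,
    hN.elim (((localCohomology I i).map ψ).hom x) 0, map_zero]

lemma H_finsupp_subsingleton (ι : Type u) [Fintype ι]
    (h : Subsingleton ((localCohomology I i).obj (ModuleCat.of R R) : ModuleCat.{u} R)) :
    Subsingleton ((localCohomology I i).obj (ModuleCat.of R (ι →₀ R)) : ModuleCat.{u} R) := by
  classical
  have hid : 𝟙 (ModuleCat.of R (ι →₀ R)) = ∑ j : ι,
      (ModuleCat.ofHom (Finsupp.lapply (R := R) (M := R) j) ≫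
        ModuleCat.ofHom (Finsupp.lsingle (R := R) (M := R) j)) := by
    apply ModuleCat.hom_ext
    apply LinearMap.ext
    intro v
    rw [ModuleCat.hom_sum, LinearMap.sum_apply]
    simp only [ModuleCat.hom_comp, ModuleCat.hom_ofHom, LinearMap.comp_apply, Finsupp.lapply_apply,
      Finsupp.lsingle_apply, ModuleCat.hom_id, LinearMap.id_apply]
    exact (Finsupp.univ_sum_single v).symm
  have hz : ∀ x : ((localCohomology I i).obj (ModuleCat.of R (ι →₀ R)) : ModuleCat.{u} R),
      x = 0 := by
    intro x
    have h1 : ((localCohomology I i).map (𝟙 (ModuleCat.of R (ι →₀ R)))).hom x = x := by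
      rw [CategoryTheory.Functor.map_id]; rfl
    rw [← h1, hid, H_map_sum]
    apply Finset.sum_eq_zero
    intro j _
    rw [Functor.map_comp, ModuleCat.hom_comp, LinearMap.comp_apply,
      h.elim (((localCohomology I i).map (ModuleCat.ofHom (Finsupp.lapply (R := R) (M := R) j))).hom x) 0,
      map_zero]
  exact ⟨fun x y => by rw [hz x, hz y]⟩

lemma H_pi_subsingleton (ι : Type) [Fintype ι]
    (h : Subsingleton ((localCohomology I i).obj (ModuleCat.of R R) : ModuleCat.{u} R)) :
    Subsingleton ((localCohomology I i).obj (ModuleCat.of R (ι → R)) : ModuleCat.{u} R) := by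
  classical
  have hid : 𝟙 (ModuleCat.of R (ι → R)) = ∑ j : ι,
      (ModuleCat.ofHom (LinearMap.proj (R := R) (φ := fun _ : ι => R) j) ≫
        ModuleCat.ofHom (LinearMap.single R (fun _ : ι => R) j)) := by
    apply ModuleCat.hom_ext
    apply LinearMap.ext
    intro v
    rw [ModuleCat.hom_sum, LinearMap.sum_apply]
    simp only [ModuleCat.hom_comp, ModuleCat.hom_ofHom, LinearMap.comp_apply, LinearMap.proj_apply,
      LinearMap.single_apply, ModuleCat.hom_id, LinearMap.id_apply]
    exact (Finset.univ_sum_single v).symm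
  have hz : ∀ x : ((localCohomology I i).obj (ModuleCat.of R (ι → R)) : ModuleCat.{u} R),
      x = 0 := by
    intro x
    have h1 : ((localCohomology I i).map (𝟙 (ModuleCat.of R (ι → R)))).hom x = x := by
      rw [CategoryTheory.Functor.map_id]; rfl
    rw [← h1, hid, H_map_sum]
    apply Finset.sum_eq_zero
    intro j _
    rw [Functor.map_comp, ModuleCat.hom_comp, LinearMap.comp_apply,
      h.elim (((localCohomology I i).map (ModuleCat.ofHom
        (LinearMap.proj (R := R) (φ := fun _ : ι => R) j))).hom x) 0, map_zero]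
  exact ⟨fun x y => by rw [hz x, hz y]⟩

end

section Spread
variable (R : Type u) [CommRing R] [IsNoetherianRing R] (M : Type u) [AddCommGroup M] [Module R M]
  [Module.Finite R M] (p : Ideal R) [p.IsPrime]
  [Module.Free (Localization.AtPrime p) (LocalizedModule p.primeCompl M)]

theorem exists_factor : ∃ (ι : Type u) (_ : Fintype ι) (s : R) (_ : s ∉ p)
    (l' : M →ₗ[R] (ι →₀ R)) (l : (ι →₀ R) →ₗ[R] M), l ∘ₗ l' = s • LinearMap.id := by
  classical
  let S := p.primeCompl
  let Rp := Localization.AtPrime p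
  let Mp := LocalizedModule S M
  let mk : M →ₗ[R] Mp := LocalizedModule.mkLinearMap S M
  have hfin : Module.Finite Rp Mp := inferInstance
  let ι := Module.Free.ChooseBasisIndex Rp Mp
  let bs : Module.Basis ι Rp Mp := Module.Free.chooseBasis Rp Mp
  let f : (ι →₀ R) →ₗ[R] (ι →₀ Rp) := Finsupp.mapRange.linearMap (Algebra.linearMap R Rp)
  have hf : IsLocalizedModule S f := inferInstance
  have hfp : Module.FinitePresentation R M := Module.finitePresentation_of_finite R M
  let ϕ : (ι →₀ R) →ₗ[R] Mp := (bs.repr.symm.restrictScalars R).toLinearMap ∘ₗ f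
  let ϕ' : M →ₗ[R] (ι →₀ Rp) := (bs.repr.restrictScalars R).toLinearMap ∘ₗ mk
  obtain ⟨l, s, hl⟩ := Module.FinitePresentation.exists_lift_of_isLocalizedModule S mk ϕ
  obtain ⟨l', s', hl'⟩ := Module.FinitePresentation.exists_lift_of_isLocalizedModule S f ϕ'
  have h3 : mk ∘ₗ (l ∘ₗ l') = mk ∘ₗ ((s * s' : S) • LinearMap.id) := by
    apply LinearMap.ext
    intro m
    have e1 : mk (l (l' m)) = s • ϕ (l' m) := LinearMap.congr_fun hl (l' m)
    have e2 : f (l' m) = s' • ϕ' m := LinearMap.congr_fun hl' m
    rw [LinearMap.comp_apply, LinearMap.comp_apply, e1]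
    change s • (bs.repr.symm (f (l' m))) = _
    rw [e2]
    change s • (bs.repr.symm (s' • bs.repr (mk m))) = _
    have e3 : bs.repr.symm (s' • bs.repr (mk m)) = (s' : R) • bs.repr.symm (bs.repr (mk m)) :=
      (bs.repr.symm.restrictScalars R).map_smul (s' : R) (bs.repr (mk m))
    rw [e3, LinearEquiv.symm_apply_apply, LinearMap.comp_apply, LinearMap.smul_apply,
      LinearMap.id_apply, Submonoid.smul_def, Submonoid.smul_def, map_smul, Submonoid.coe_mul,
      mul_smul]
  obtain ⟨s'', hs''⟩ := Module.Finite.exists_smul_of_comp_eq_of_isLocalizedModule S mk _ _ h3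
  refine ⟨ι, inferInstance, ((s'' * (s * s') : S) : R), (s'' * (s * s')).2, l', (s'' : R) • l, ?_⟩
  apply LinearMap.ext
  intro m
  have e4 := LinearMap.congr_fun hs'' m
  simp only [LinearMap.smul_apply, LinearMap.comp_apply, LinearMap.id_apply, Submonoid.smul_def,
    Submonoid.coe_mul] at e4 ⊢
  rw [e4]
  simp only [mul_smul]

end Spread

end Groth.Agent.Lib.helper19.LCFactor
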