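import Mathlib
import Groth.Agent.Lib.Helper19.LCBridge

/-!
# helper19: long exact sequence properties of Mathlib's `localCohomology I i` (element level).
-/

open CategoryTheory Limits Opposite

universe u

namespace Groth.Agent.Lib.helper19.LCLes

open Groth.Agent.Lib.helper19.LCBridge

variable {R : Type u} [CommRing R] (I : Ideal R) (i : ℕ)

lemma quotMap_comp {n m k : ℕ} (h : n ≤ m) (h' : m ≤ k) :
    quotMap I h' ≫ quotMap I h = quotMap I (h.trans h') := by
  apply ModuleCat.hom_ext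
  apply LinearMap.ext
  intro q
  obtain ⟨r, rfl⟩ := Ideal.Quotient.mk_surjective q
  rfl

lemma comp_quotMap_comp {n m k : ℕ} (h : n ≤ m) (h' : m ≤ k) {M : ModuleCat.{u} R}
    (z : Abelian.Ext.{u} (Q I n) M i) :
    (Abelian.Ext.mk₀ (quotMap I h')).comp ((Abelian.Ext.mk₀ (quotMap I h)).comp z (zero_add i))
      (zero_add i) = (Abelian.Ext.mk₀ (quotMap I (h.trans h'))).comp z (zero_add i) := by
  rw [← Abelian.Ext.comp_assoc (Abelian.Ext.mk₀ (quotMap I h')) (Abelian.Ext.mk₀ (quotMap I h)) z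
    (zero_add 0) (zero_add i) (by lia), Abelian.Ext.mk₀_comp_mk₀, quotMap_comp]

lemma toH'_eq_iff {M : ModuleCat.{u} R} {a b : ℕ} (z : Abelian.Ext.{u} (Q I a) M i)
    (z' : Abelian.Ext.{u} (Q I b) M i) :
    toH' I i M a z = toH' I i M b z' ↔ ∃ (c : ℕ) (ha : a ≤ c) (hb : b ≤ c),
      (Abelian.Ext.mk₀ (quotMap I ha)).comp z (zero_add i) =
        (Abelian.Ext.mk₀ (quotMap I hb)).comp z' (zero_add i) := by
  constructor
  · intro h
    have ha := le_max_left a b
    have hb := le_max_right a b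
    have h1 : toH' I i M (max a b) ((Abelian.Ext.mk₀ (quotMap I ha)).comp z (zero_add i) -
        (Abelian.Ext.mk₀ (quotMap I hb)).comp z' (zero_add i)) = 0 := by
      rw [map_sub, toH'_comp, toH'_comp, h, sub_self]
    obtain ⟨c, hc, hz⟩ := (toH'_eq_zero_iff I i M _).1 h1
    refine ⟨c, ha.trans hc, hb.trans hc, ?_⟩
    rw [sub_eq_add_neg, Abelian.Ext.comp_add, Abelian.Ext.comp_neg, ← sub_eq_add_neg, sub_eq_zero,
      comp_quotMap_comp, comp_quotMap_comp] at hz
    exact hz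
  · rintro ⟨c, ha, hb, h⟩
    rw [← toH'_comp I i M ha, ← toH'_comp I i M hb, h]

variable {S : ShortComplex (ModuleCat.{u} R)} (hS : S.ShortExact)

include hS in
/-- exactness in the middle -/
theorem H_exact_mid (x : ((localCohomology I i).obj S.X₂ : ModuleCat.{u} R))
    (hx : ((localCohomology I i).map S.g) x = 0) :
    ∃ x₁ : ((localCohomology I i).obj S.X₁ : ModuleCat.{u} R),
      ((localCohomology I i).map S.f) x₁ = x := by
  obtain ⟨n, z, rfl⟩ := toH'_surj I i S.X₂ x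
  rw [map_toH', toH'_eq_zero_iff] at hx
  obtain ⟨m, h, hz⟩ := hx
  rw [← Abelian.Ext.comp_assoc (Abelian.Ext.mk₀ (quotMap I h)) z (Abelian.Ext.mk₀ S.g)
    (zero_add i) (add_zero i) (by lia)] at hz
  obtain ⟨w, hw⟩ := Abelian.Ext.covariant_sequence_exact₂ _ hS _ hz
  refine ⟨toH' I i S.X₁ m w, ?_⟩
  rw [map_toH', hw, toH'_comp]

include hS in
/-- surjectivity of `H^i(g)` when `H^{i+1}(X₁) = 0` -/
theorem H_surjective_of_vanish
    (hv : Subsingleton ((localCohomology I (i + 1)).obj S.X₁ : ModuleCat.{u} R)) :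
    Function.Surjective ((localCohomology I i).map S.g) := by
  intro y
  obtain ⟨n, v, rfl⟩ := toH'_surj I i S.X₃ y
  have h0 : toH' I (i + 1) S.X₁ n (v.comp hS.extClass rfl) = 0 := hv.elim _ _
  obtain ⟨m, h, hz⟩ := (toH'_eq_zero_iff I (i + 1) S.X₁ _).1 h0
  rw [← Abelian.Ext.comp_assoc (Abelian.Ext.mk₀ (quotMap I h)) v hS.extClass
    (zero_add i) rfl (by lia)] at hz
  obtain ⟨u, hu⟩ := Abelian.Ext.covariant_sequence_exact₃ _ hS _ rfl hz
  refine ⟨toH' I i S.X₂ m u, ?_⟩
  rw [map_toH', hu, toH'_comp]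

include hS in
/-- injectivity of `H^{i+1}(f)` when `H^i(g)` is surjective -/
theorem H_injective_of_surjective
    (hg : Function.Surjective ((localCohomology I i).map S.g)) :
    Function.Injective ((localCohomology I (i + 1)).map S.f) := by
  rw [injective_iff_map_eq_zero]
  intro x hx
  obtain ⟨n, w, rfl⟩ := toH'_surj I (i + 1) S.X₁ x
  rw [map_toH', toH'_eq_zero_iff] at hx
  obtain ⟨m, h, hz⟩ := hx
  rw [← Abelian.Ext.comp_assoc (Abelian.Ext.mk₀ (quotMap I h)) w (Abelian.Ext.mk₀ S.f)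
    (zero_add (i + 1)) (add_zero (i + 1)) (by lia)] at hz
  obtain ⟨v, hv⟩ := Abelian.Ext.covariant_sequence_exact₁ _ hS _ hz rfl
  obtain ⟨y, hy⟩ := hg (toH' I i S.X₃ m v)
  obtain ⟨k, u, rfl⟩ := toH'_surj I i S.X₂ y
  rw [map_toH', toH'_eq_iff] at hy
  obtain ⟨c, hk, hm, hc⟩ := hy
  rw [toH'_eq_zero_iff]
  refine ⟨c, h.trans hm, ?_⟩
  rw [← comp_quotMap_comp I (i + 1) h hm, ← hv,
    ← Abelian.Ext.comp_assoc (Abelian.Ext.mk₀ (quotMap I hm)) v hS.extClass (zero_add i) rfl
      (by lia), ← hc,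
    Abelian.Ext.comp_assoc (Abelian.Ext.mk₀ (quotMap I hk)) (u.comp (Abelian.Ext.mk₀ S.g) (add_zero i))
      hS.extClass (zero_add i) rfl (by lia),
    Abelian.Ext.comp_assoc u (Abelian.Ext.mk₀ S.g) hS.extClass (add_zero i) (zero_add 1) (by lia),
    hS.comp_extClass, Abelian.Ext.comp_zero, Abelian.Ext.comp_zero]

include hS in
/-- `H^0(f)` is injective. -/
theorem H_zero_injective :
    Function.Injective ((localCohomology I 0).map S.f) := by
  have := hS.mono_f
  rw [injective_iff_map_eq_zero]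
  intro x hx
  obtain ⟨n, w, rfl⟩ := toH'_surj I 0 S.X₁ x
  obtain ⟨φ, rfl⟩ := (Abelian.Ext.mk₀_bijective _ _).2 w
  rw [map_toH', toH'_eq_zero_iff] at hx
  obtain ⟨m, h, hz⟩ := hx
  rw [Abelian.Ext.mk₀_comp_mk₀, Abelian.Ext.mk₀_comp_mk₀] at hz
  have h2 := (Abelian.Ext.mk₀_bijective _ _).1 (hz.trans (Abelian.Ext.mk₀_zero _ _).symm)
  rw [← Category.assoc] at h2
  have h3 : quotMap I h ≫ φ = 0 := by
    rw [← cancel_mono S.f, h2, zero_comp]
  rw [toH'_eq_zero_iff]
  exact ⟨m, h, by rw [Abelian.Ext.mk₀_comp_mk₀, h3, Abelian.Ext.mk₀_zero]⟩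


include hS in
theorem H_g_injective_of_vanish
    (hv : Subsingleton ((localCohomology I i).obj S.X₁ : ModuleCat.{u} R)) :
    Function.Injective ((localCohomology I i).map S.g) := by
  rw [injective_iff_map_eq_zero]
  intro x hx
  obtain ⟨x₁, rfl⟩ := H_exact_mid I i hS x hx
  rw [hv.elim x₁ 0, map_zero]

include hS in
theorem H_f_surjective_of_vanish
    (hv : Subsingleton ((localCohomology I i).obj S.X₃ : ModuleCat.{u} R)) :
    Function.Surjective ((localCohomology I i).map S.f) := by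
  intro x
  exact H_exact_mid I i hS x (hv.elim _ _)

include hS in
theorem H_f_injective_of_vanish
    (hv : Subsingleton ((localCohomology I i).obj S.X₃ : ModuleCat.{u} R)) :
    Function.Injective ((localCohomology I (i + 1)).map S.f) := by
  apply H_injective_of_surjective I i hS
  intro y
  exact ⟨0, hv.elim _ _⟩

end Groth.Agent.Lib.helper19.LCLes
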