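import Mathlib
import Groth.Agent.Lib.Helper19.LCBridge
import Groth.Prelude.Def_DRing3
import Groth.Agent.S0301

/-!
# helper19: `H^0_I(M) = Γ_I(M)` and related facts for Mathlib's `localCohomology`.
-/

open CategoryTheory Limits Opposite

universe u

namespace Groth.Agent.Lib.helper19.LCZero

open Groth.Agent.Lib.helper19.LCBridge

section Zero

variable {R : Type u} [CommRing R] (I : Ideal R) (M : ModuleCat.{u} R)

/-- The map `R/I^n ⟶ M`, `1 ↦ x`, for `x` killed by `I^n`. -/
noncomputable def homOfKill (x : M) (n : ℕ) (hx : ∀ a ∈ I ^ n, a • x = 0) : Q I n ⟶ M :=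
  ModuleCat.ofHom (Submodule.liftQ _ (LinearMap.toSpanSingleton R M x) (by
    intro a ha
    rw [LinearMap.mem_ker, LinearMap.toSpanSingleton_apply]
    exact hx a ha))

lemma homOfKill_mk (x : M) (n : ℕ) (hx : ∀ a ∈ I ^ n, a • x = 0) (r : R) :
    (homOfKill I M x n hx).hom (Ideal.Quotient.mk (I ^ n) r) = r • x := by
  change (Submodule.liftQ _ (LinearMap.toSpanSingleton R M x) _) (Submodule.Quotient.mk r) = _
  rw [Submodule.liftQ_apply, LinearMap.toSpanSingleton_apply]

lemma hom_ext_Q {n : ℕ} {f g : Q I n ⟶ M}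
    (h : f.hom (Ideal.Quotient.mk (I ^ n) 1) = g.hom (Ideal.Quotient.mk (I ^ n) 1)) : f = g := by
  apply ModuleCat.hom_ext
  apply LinearMap.ext
  intro q
  obtain ⟨r, rfl⟩ := Ideal.Quotient.mk_surjective q
  have h1 : Ideal.Quotient.mk (I ^ n) r = r • Ideal.Quotient.mk (I ^ n) 1 := by
    change Submodule.Quotient.mk r = r • Submodule.Quotient.mk (1 : R)
    rw [← Submodule.Quotient.mk_smul, smul_eq_mul, mul_one]
  rw [h1, map_smul, map_smul, h]

lemma kill_of_hom {n : ℕ} (f : Q I n ⟶ M) :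
    ∀ a ∈ I ^ n, a • f.hom (Ideal.Quotient.mk (I ^ n) 1) = 0 := by
  intro a ha
  rw [← map_smul]
  have : a • Ideal.Quotient.mk (I ^ n) 1 = 0 := by
    rw [← Ideal.Quotient.mk_eq_mk, ← Submodule.Quotient.mk_smul, smul_eq_mul, mul_one,
      Ideal.Quotient.mk_eq_mk, Ideal.Quotient.eq_zero_iff_mem]
    exact ha
  rw [this, map_zero]

lemma eq_homOfKill {n : ℕ} (f : Q I n ⟶ M) :
    f = homOfKill I M (f.hom (Ideal.Quotient.mk (I ^ n) 1)) n (kill_of_hom I M f) := by
  apply hom_ext_Q
  rw [homOfKill_mk, one_smul]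

lemma quotMap_mk {n m : ℕ} (h : n ≤ m) (r : R) :
    (quotMap I h).hom (Ideal.Quotient.mk (I ^ m) r) = Ideal.Quotient.mk (I ^ n) r := rfl

lemma quotMap_homOfKill {n m : ℕ} (h : n ≤ m) (x : M) (hx : ∀ a ∈ I ^ n, a • x = 0) :
    quotMap I h ≫ homOfKill I M x n hx =
      homOfKill I M x m (fun a ha => hx a (Ideal.pow_le_pow_right h ha)) := by
  apply hom_ext_Q
  rw [ModuleCat.hom_comp, LinearMap.comp_apply, quotMap_mk, homOfKill_mk, homOfKill_mk]

/-- the class in `H^0` of a torsion element, at a given level -/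
noncomputable def zeroClass (x : M) (n : ℕ) (hx : ∀ a ∈ I ^ n, a • x = 0) :
    ((localCohomology I 0).obj M : ModuleCat.{u} R) :=
  toH' I 0 M n (Abelian.Ext.mk₀ (homOfKill I M x n hx))

lemma zeroClass_mono {n m : ℕ} (h : n ≤ m) (x : M) (hx : ∀ a ∈ I ^ n, a • x = 0) :
    zeroClass I M x m (fun a ha => hx a (Ideal.pow_le_pow_right h ha)) = zeroClass I M x n hx := by
  unfold zeroClass
  rw [← toH'_comp I 0 M h, Abelian.Ext.mk₀_comp_mk₀, quotMap_homOfKill]

lemma zeroClass_indep (x : M) (n m : ℕ) (hx : ∀ a ∈ I ^ n, a • x = 0)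
    (hx' : ∀ a ∈ I ^ m, a • x = 0) : zeroClass I M x n hx = zeroClass I M x m hx' := by
  rw [← zeroClass_mono I M (le_max_left n m) x hx, ← zeroClass_mono I M (le_max_right n m) x hx']

/-- `Γ_I(M) → H^0_I(M)` -/
noncomputable def gammaToH : DRing.torsionSub I M →ₗ[R] ((localCohomology I 0).obj M : ModuleCat.{u} R) where
  toFun x := zeroClass I M x.1 x.2.choose x.2.choose_spec
  map_add' x y := by
    obtain ⟨n, hn⟩ := x.2
    obtain ⟨m, hm⟩ := y.2
    have hx : ∀ a ∈ I ^ (max n m), a • x.1 = 0 := fun a ha => hn a (Ideal.pow_le_pow_right (le_max_left n m) ha)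
    have hy : ∀ a ∈ I ^ (max n m), a • y.1 = 0 := fun a ha => hm a (Ideal.pow_le_pow_right (le_max_right n m) ha)
    have hxy : ∀ a ∈ I ^ (max n m), a • (x + y).1 = 0 := fun a ha => by
      rw [Submodule.coe_add, smul_add, hx a ha, hy a ha, add_zero]
    rw [zeroClass_indep I M _ _ _ _ hxy, zeroClass_indep I M x.1 _ _ _ hx,
      zeroClass_indep I M y.1 _ _ _ hy]
    unfold zeroClass
    rw [← map_add, ← Abelian.Ext.mk₀_add]
    congr 2
    apply hom_ext_Q
    rw [ModuleCat.hom_add, LinearMap.add_apply, homOfKill_mk, homOfKill_mk, homOfKill_mk,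
      Submodule.coe_add, smul_add]
  map_smul' r x := by
    obtain ⟨n, hn⟩ := x.2
    have hrx : ∀ a ∈ I ^ n, a • (r • x).1 = 0 := fun a ha => by
      rw [Submodule.coe_smul, smul_comm, hn a ha, smul_zero]
    rw [zeroClass_indep I M _ _ _ _ hrx, zeroClass_indep I M x.1 _ _ _ hn, RingHom.id_apply]
    unfold zeroClass
    rw [← map_smul, ← Abelian.Ext.mk₀_smul]
    congr 2
    apply hom_ext_Q
    rw [ModuleCat.hom_smul, LinearMap.smul_apply, homOfKill_mk, homOfKill_mk, Submodule.coe_smul,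
      one_smul, one_smul]

lemma gammaToH_apply (x : DRing.torsionSub I M) (n : ℕ) (hx : ∀ a ∈ I ^ n, a • x.1 = 0) :
    gammaToH I M x = zeroClass I M x.1 n hx :=
  zeroClass_indep I M _ _ _ _ _

lemma gammaToH_bijective : Function.Bijective (gammaToH I M) := by
  constructor
  · rw [← LinearMap.ker_eq_bot, LinearMap.ker_eq_bot']
    intro x hx
    obtain ⟨n, hn⟩ := x.2
    rw [gammaToH_apply I M x n hn, zeroClass, toH'_eq_zero_iff] at hx
    obtain ⟨m, h, hz⟩ := hx
    rw [Abelian.Ext.mk₀_comp_mk₀, quotMap_homOfKill] at hz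
    have h2 := (Abelian.Ext.mk₀_bijective _ _).1 (hz.trans (Abelian.Ext.mk₀_zero _ _).symm)
    have h3 : (homOfKill I M x.1 m _).hom (Ideal.Quotient.mk (I ^ m) 1) =
        (0 : Q I m ⟶ M).hom (Ideal.Quotient.mk (I ^ m) 1) :=
      congrArg (fun t => t.hom (Ideal.Quotient.mk (I ^ m) 1)) h2
    rw [homOfKill_mk, one_smul] at h3
    exact Subtype.ext h3
  · intro y
    obtain ⟨n, z, rfl⟩ := toH'_surj I 0 M y
    obtain ⟨f, rfl⟩ := (Abelian.Ext.mk₀_bijective _ _).2 z
    refine ⟨⟨f.hom (Ideal.Quotient.mk (I ^ n) 1), n, kill_of_hom I M f⟩, ?_⟩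
    rw [gammaToH_apply I M _ n (kill_of_hom I M f), zeroClass, ← eq_homOfKill]


end Zero

section Torsion

variable {R : Type u} [CommRing R] (I : Ideal R)

theorem torsionSub_eq_iSup (E : Type u) [AddCommGroup E] [Module R E] :
    DRing.torsionSub I E = ⨆ n : ℕ, Submodule.torsionBySet R E ((I ^ n : Ideal R) : Set R) := by
  have hmono : Monotone (fun n : ℕ => Submodule.torsionBySet R E ((I ^ n : Ideal R) : Set R)) := by
    intro a b hab
    apply Submodule.torsionBySet_le_torsionBySet_of_subset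
    exact Ideal.pow_le_pow_right hab
  ext x
  rw [Submodule.mem_iSup_of_directed _ hmono.directed_le]
  constructor
  · rintro ⟨n, hn⟩
    exact ⟨n, (Submodule.mem_torsionBySet_iff _ _).2 fun a => hn a.1 a.2⟩
  · rintro ⟨n, hn⟩
    exact ⟨n, fun a ha => (Submodule.mem_torsionBySet_iff _ _).1 hn ⟨a, ha⟩⟩

theorem torsionSub_injective [IsNoetherianRing R] (E : Type u) [AddCommGroup E] [Module R E]
    (hE : Module.Injective R E) : Module.Injective R (DRing.torsionSub I E) := by
  rw [torsionSub_eq_iSup]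
  exact Groth.Agent.S0301.result R E hE I

/-- power torsion predicate -/
def IsTors (N : Type u) [AddCommGroup N] [Module R N] : Prop :=
  ∀ x : N, ∃ n : ℕ, ∀ a ∈ I ^ n, a • x = 0

/-- A torsion module embeds in a torsion injective with torsion cokernel. -/
theorem exists_torsion_ses [IsNoetherianRing R] (N : Type u) [AddCommGroup N] [Module R N]
    (hN : IsTors I N) :
    ∃ (T C : Type u) (_ : AddCommGroup T) (_ : Module R T) (_ : AddCommGroup C) (_ : Module R C)
      (f : N →ₗ[R] T) (g : T →ₗ[R] C), Module.Injective R T ∧ IsTors I T ∧ IsTors I C ∧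
        Function.Injective f ∧ Function.Exact f g ∧ Function.Surjective g := by
  let E : ModuleCat.{u} R := Injective.under (ModuleCat.of R N)
  let j : ModuleCat.of R N ⟶ E := Injective.ι (ModuleCat.of R N)
  have hjinj : Function.Injective j.hom := (ModuleCat.mono_iff_injective j).1 inferInstance
  have hE : Module.Injective R E :=
    @Module.injective_module_of_injective_object R E _ _ _
      (inferInstanceAs (Injective (Injective.under (ModuleCat.of R N))))
  have hT : Module.Injective R (DRing.torsionSub I E) := torsionSub_injective I E hE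
  let f : N →ₗ[R] DRing.torsionSub I E := LinearMap.codRestrict _ j.hom (fun x => by
    obtain ⟨n, hn⟩ := hN x
    exact ⟨n, fun a ha => by rw [← map_smul, hn a ha, map_zero]⟩)
  refine ⟨DRing.torsionSub I E, DRing.torsionSub I E ⧸ LinearMap.range f, inferInstance,
    inferInstance, inferInstance, inferInstance, f, (LinearMap.range f).mkQ, hT, ?_, ?_, ?_, ?_, ?_⟩
  · rintro ⟨x, n, hn⟩
    exact ⟨n, fun a ha => Subtype.ext (hn a ha)⟩
  · intro q
    obtain ⟨⟨x, n, hn⟩, rfl⟩ := Submodule.mkQ_surjective _ q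
    refine ⟨n, fun a ha => ?_⟩
    rw [← map_smul]
    have : a • (⟨x, n, hn⟩ : DRing.torsionSub I E) = 0 := Subtype.ext (hn a ha)
    rw [this, map_zero]
  · intro x y hxy
    apply hjinj
    exact congrArg Subtype.val hxy
  · exact LinearMap.exact_map_mkQ_range f
  · exact Submodule.mkQ_surjective _

theorem torsion_vanish [IsNoetherianRing R] (p : ℕ) :
    ∀ (N : Type u) [AddCommGroup N] [Module R N], IsTors I N →
    ∀ (n : ℕ) (z : Abelian.Ext.{u} (Q I n) (ModuleCat.of R N) (p + 1)),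
      ∃ (m : ℕ) (h : n ≤ m), (Abelian.Ext.mk₀ (quotMap I h)).comp z (zero_add (p + 1)) = 0 := by
  induction p with
  | zero =>
    intro N _ _ hN n z
    obtain ⟨T, C, _, _, _, _, f, g, hTinj, hT, hC, hf, hfg, hg⟩ := exists_torsion_ses I N hN
    let S : ShortComplex (ModuleCat.{u} R) :=
      ShortComplex.mk (ModuleCat.ofHom f) (ModuleCat.ofHom g) (by
        ext x; exact hfg.apply_apply_eq_zero x)
    have hS : S.ShortExact := ModuleCat.shortComplex_shortExact S hfg hf hg
    have : Injective S.X₂ := Module.injective_object_of_injective_module R T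
    obtain ⟨w, hw⟩ := Abelian.Ext.covariant_sequence_exact₁ _ hS z
      (Abelian.Ext.eq_zero_of_injective _) (zero_add 1)
    obtain ⟨φ, rfl⟩ := (Abelian.Ext.mk₀_bijective _ _).2 w
    obtain ⟨e, he⟩ := hg (φ.hom (Ideal.Quotient.mk (I ^ n) 1))
    obtain ⟨k, hk⟩ := hT e
    have hek : ∀ a ∈ I ^ (max n k), a • e = 0 :=
      fun a ha => hk a (Ideal.pow_le_pow_right (le_max_right n k) ha)
    refine ⟨max n k, le_max_left n k, ?_⟩
    have hcomm : quotMap I (le_max_left n k) ≫ φ =
        homOfKill I (ModuleCat.of R T) e (max n k) hek ≫ S.g := by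
      apply hom_ext_Q
      rw [ModuleCat.hom_comp, ModuleCat.hom_comp, LinearMap.comp_apply, LinearMap.comp_apply,
        quotMap_mk, homOfKill_mk, one_smul]
      exact he.symm
    rw [← hw, ← Abelian.Ext.comp_assoc_of_second_deg_zero, Abelian.Ext.mk₀_comp_mk₀, hcomm,
      ← Abelian.Ext.mk₀_comp_mk₀, Abelian.Ext.comp_assoc_of_second_deg_zero,
      hS.comp_extClass, Abelian.Ext.comp_zero]
  | succ p ih =>
    intro N _ _ hN n z
    obtain ⟨T, C, _, _, _, _, f, g, hTinj, hT, hC, hf, hfg, hg⟩ := exists_torsion_ses I N hN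
    let S : ShortComplex (ModuleCat.{u} R) :=
      ShortComplex.mk (ModuleCat.ofHom f) (ModuleCat.ofHom g) (by
        ext x; exact hfg.apply_apply_eq_zero x)
    have hS : S.ShortExact := ModuleCat.shortComplex_shortExact S hfg hf hg
    have : Injective S.X₂ := Module.injective_object_of_injective_module R T
    obtain ⟨w, hw⟩ := Abelian.Ext.covariant_sequence_exact₁ _ hS z
      (Abelian.Ext.eq_zero_of_injective _) (rfl : p + 1 + 1 = p + 1 + 1)
    obtain ⟨m, h, hm⟩ := ih C hC n w
    refine ⟨m, h, ?_⟩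
    rw [← hw, ← Abelian.Ext.comp_assoc (Abelian.Ext.mk₀ (quotMap I h)) w hS.extClass
      (zero_add (p+1)) rfl (by lia), hm, Abelian.Ext.zero_comp]


theorem H_subsingleton_of_torsion [IsNoetherianRing R] (N : Type u) [AddCommGroup N] [Module R N]
    (hN : IsTors I N) (p : ℕ) (hp : 0 < p) :
    Subsingleton ((localCohomology I p).obj (ModuleCat.of R N) : ModuleCat.{u} R) := by
  obtain ⟨q, rfl⟩ : ∃ q, p = q + 1 := ⟨p - 1, by lia⟩
  refine ⟨fun x y => ?_⟩
  have hz : ∀ w : ((localCohomology I (q + 1)).obj (ModuleCat.of R N) : ModuleCat.{u} R),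
      w = 0 := by
    intro w
    obtain ⟨n, z, rfl⟩ := toH'_surj I (q + 1) (ModuleCat.of R N) w
    rw [toH'_eq_zero_iff]
    exact torsion_vanish I q N hN n z
  rw [hz x, hz y]

/-- `H^0_I(N) ≃ N` for torsion `N`. -/
noncomputable def zeroEquivOfTorsion (N : Type u) [AddCommGroup N] [Module R N]
    (hN : IsTors I N) :
    ((localCohomology I 0).obj (ModuleCat.of R N) : ModuleCat.{u} R) ≃ₗ[R] N :=
  (LinearEquiv.ofBijective (gammaToH I (ModuleCat.of R N))
    (gammaToH_bijective I (ModuleCat.of R N))).symm ≪≫ₗ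
    LinearEquiv.ofTop (DRing.torsionSub I N) (by
      rw [eq_top_iff]
      intro x _
      exact hN x)

end Torsion

end Groth.Agent.Lib.helper19.LCZero
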