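import Mathlib
import Groth.Agent.Lib.Helper19.LCZero
import Groth.Agent.Lib.Helper19.LCLes

/-!
# helper19: maps with torsion kernel and cokernel induce isomorphisms on `H^i_I`, `i ≥ 2`.
-/

open CategoryTheory Limits Opposite

universe u

namespace Groth.Agent.Lib.helper19.LCTors

open Groth.Agent.Lib.helper19.LCBridge Groth.Agent.Lib.helper19.LCZero Groth.Agent.Lib.helper19.LCLes

variable {R : Type u} [CommRing R] [IsNoetherianRing R] (I : Ideal R)
variable {M M' : Type u} [AddCommGroup M] [Module R M] [AddCommGroup M'] [Module R M']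

omit [IsNoetherianRing R] in
theorem isTors_of_le_torsionSub (K : Submodule R M) (hK : K ≤ DRing.torsionSub I M) : IsTors I K := by
  rintro ⟨x, hx⟩
  obtain ⟨n, hn⟩ := hK hx
  exact ⟨n, fun a ha => Subtype.ext (hn a ha)⟩

/-- SES for the kernel/range factorization -/
theorem H_rangeRestrict_bijective (e : M →ₗ[R] M') (hker : LinearMap.ker e ≤ DRing.torsionSub I M)
    (i : ℕ) (hi : 0 < i) :
    Function.Bijective ((localCohomology I i).map (ModuleCat.ofHom e.rangeRestrict)) := by
  let S : ShortComplex (ModuleCat.{u} R) :=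
    ShortComplex.mk (ModuleCat.ofHom (LinearMap.ker e).subtype)
      (ModuleCat.ofHom e.rangeRestrict) (by
        apply ModuleCat.hom_ext
        apply LinearMap.ext
        intro x
        apply Subtype.ext
        exact LinearMap.mem_ker.1 x.2)
  have hS : S.ShortExact := ModuleCat.shortComplex_shortExact S
    (by
      intro y
      constructor
      · intro hy
        exact ⟨⟨y, congrArg Subtype.val hy⟩, rfl⟩
      · rintro ⟨z, rfl⟩
        exact Subtype.ext (LinearMap.mem_ker.1 z.2))
    (Submodule.injective_subtype _) e.surjective_rangeRestrict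
  have hv : ∀ p : ℕ, 0 < p → Subsingleton ((localCohomology I p).obj S.X₁ : ModuleCat.{u} R) :=
    fun p hp => H_subsingleton_of_torsion I _ (isTors_of_le_torsionSub I _ hker) p hp
  exact ⟨H_g_injective_of_vanish I i hS (hv _ hi), H_surjective_of_vanish I i hS (hv _ (by lia))⟩

theorem H_range_subtype (e : M →ₗ[R] M')
    (hcoker : IsTors I (M' ⧸ LinearMap.range e)) (i : ℕ) :
    (0 < i → Function.Surjective ((localCohomology I i).map (ModuleCat.ofHom (LinearMap.range e).subtype))) ∧
    (1 < i → Function.Injective ((localCohomology I i).map (ModuleCat.ofHom (LinearMap.range e).subtype))) := by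
  let S : ShortComplex (ModuleCat.{u} R) :=
    ShortComplex.mk (ModuleCat.ofHom (LinearMap.range e).subtype)
      (ModuleCat.ofHom (LinearMap.range e).mkQ) (by
        ext x
        exact (Submodule.Quotient.mk_eq_zero _).2 x.2)
  have hS : S.ShortExact := ModuleCat.shortComplex_shortExact S
    (LinearMap.exact_subtype_mkQ _) (Submodule.injective_subtype _) (Submodule.mkQ_surjective _)
  have hv : ∀ p : ℕ, 0 < p → Subsingleton ((localCohomology I p).obj S.X₃ : ModuleCat.{u} R) :=
    fun p hp => H_subsingleton_of_torsion I _ hcoker p hp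
  constructor
  · intro hi
    exact H_f_surjective_of_vanish I i hS (hv _ hi)
  · intro hi
    obtain ⟨j, rfl⟩ : ∃ j, i = j + 1 := ⟨i - 1, by lia⟩
    exact H_f_injective_of_vanish I j hS (hv _ (by lia))

theorem H_map_bijective_of_ker_coker_torsion (e : M →ₗ[R] M')
    (hker : LinearMap.ker e ≤ DRing.torsionSub I M)
    (hcoker : IsTors I (M' ⧸ LinearMap.range e)) (i : ℕ) (hi : 1 < i) :
    Function.Bijective ((localCohomology I i).map (ModuleCat.ofHom e)).hom := by
  have hfac : ModuleCat.ofHom e = ModuleCat.ofHom e.rangeRestrict ≫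
      ModuleCat.ofHom (LinearMap.range e).subtype := by
    ext x; rfl
  rw [hfac, Functor.map_comp, ModuleCat.hom_comp, LinearMap.coe_comp]
  have h1 := H_rangeRestrict_bijective I e hker i (by lia)
  have h2 := H_range_subtype I e hcoker i
  exact Function.Bijective.comp ⟨h2.2 hi, h2.1 (by lia)⟩ h1

theorem H_map_surjective_of_ker_coker_torsion (e : M →ₗ[R] M')
    (hker : LinearMap.ker e ≤ DRing.torsionSub I M)
    (hcoker : IsTors I (M' ⧸ LinearMap.range e)) (i : ℕ) (hi : 0 < i) :
    Function.Surjective ((localCohomology I i).map (ModuleCat.ofHom e)).hom := by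
  have hfac : ModuleCat.ofHom e = ModuleCat.ofHom e.rangeRestrict ≫
      ModuleCat.ofHom (LinearMap.range e).subtype := by
    ext x; rfl
  rw [hfac, Functor.map_comp, ModuleCat.hom_comp, LinearMap.coe_comp]
  have h1 := H_rangeRestrict_bijective I e hker i hi
  have h2 := H_range_subtype I e hcoker i
  exact Function.Surjective.comp (h2.1 hi) h1.2


end Groth.Agent.Lib.helper19.LCTors
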