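import Mathlib
import Groth.Agent.Lib.Helper19.LCBridge
import Groth.Agent.Lib.Helper19.LCLes
import Groth.Agent.Lib.Helper19.LCZero
import Groth.Agent.Lib.Helper19.LCTors
import Groth.Agent.Lib.Helper19.LCFactor
import Groth.Agent.S7039
import Groth.Agent.S11610
open CategoryTheory
universe u

namespace Groth.Agent.Lib.helper19.LCGroth
open Groth.Agent.Lib.helper19.LCBridge Groth.Agent.Lib.helper19.LCLes
  Groth.Agent.Lib.helper19.LCZero Groth.Agent.Lib.helper19.LCTors Groth.Agent.Lib.helper19.LCFactor

section Basic
variable {R : Type u} [CommRing R] (I : Ideal R)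

lemma H_subsingleton_of_subsingleton (i : ℕ) (M : Type u) [AddCommGroup M] [Module R M]
    [Subsingleton M] :
    Subsingleton ((localCohomology I i).obj (ModuleCat.of R M) : ModuleCat.{u} R) := by
  refine ⟨fun x y => ?_⟩
  have h1 : (1 : R) • 𝟙 (ModuleCat.of R M) = 0 := by
    apply ModuleCat.hom_ext
    apply LinearMap.ext
    intro m
    exact Subsingleton.elim _ _
  have hx := H_smul_eq_zero I i (ModuleCat.of R M) 1 h1 x
  have hy := H_smul_eq_zero I i (ModuleCat.of R M) 1 h1 y
  rw [one_smul] at hx hy
  rw [hx, hy]

/-- `Γ_I(M/Γ_I(M)) = 0` for Noetherian `R` -/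
theorem torsionSub_quotient_eq_bot [IsNoetherianRing R] (M : Type u) [AddCommGroup M] [Module R M] :
    DRing.torsionSub I (M ⧸ DRing.torsionSub I M) = ⊥ := by
  have key_n : ∀ (n : ℕ) (m : M), (∀ s ∈ I ^ n, s • m ∈ DRing.torsionSub I M) →
      m ∈ DRing.torsionSub I M := by
    intro n
    induction n with
    | zero =>
      intro m h
      have := h 1 (by rw [pow_zero, Ideal.one_eq_top]; trivial)
      rwa [one_smul] at this
    | succ n ih =>
      intro m h
      apply ih
      intro s hs
      apply Groth.Agent.S7039.key I (IsNoetherian.noetherian I)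
      intro b hb
      rw [smul_smul]
      exact h (b * s) (by rw [pow_succ']; exact Ideal.mul_mem_mul hb hs)
  rw [Submodule.eq_bot_iff]
  rintro q ⟨n, hn⟩
  obtain ⟨m, rfl⟩ := Submodule.Quotient.mk_surjective _ q
  rw [Submodule.Quotient.mk_eq_zero]
  apply key_n n
  intro s hs
  have := hn s hs
  rwa [← Submodule.Quotient.mk_smul, Submodule.Quotient.mk_eq_zero] at this

/-- `H^i(M) → H^i(M/Γ_I(M))` is injective for `i ≥ 1`. -/
theorem H_mkQ_torsion_injective [IsNoetherianRing R] (M : Type u) [AddCommGroup M] [Module R M]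
    (i : ℕ) (hi : 0 < i) :
    Function.Injective ((localCohomology I i).map
      (ModuleCat.ofHom (DRing.torsionSub I M).mkQ)) := by
  let S : ShortComplex (ModuleCat.{u} R) :=
    ShortComplex.mk (ModuleCat.ofHom (DRing.torsionSub I M).subtype)
      (ModuleCat.ofHom (DRing.torsionSub I M).mkQ) (by
        apply ModuleCat.hom_ext
        apply LinearMap.ext
        intro x
        exact (Submodule.Quotient.mk_eq_zero _).2 x.2)
  have hS : S.ShortExact := ModuleCat.shortComplex_shortExact S
    (LinearMap.exact_subtype_mkQ _) (Submodule.injective_subtype _) (Submodule.mkQ_surjective _)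
  exact H_g_injective_of_vanish I i hS
    (H_subsingleton_of_torsion I _ (isTors_of_le_torsionSub I _ le_rfl) i hi)

end Basic

section Vanish
open Pointwise
variable {R : Type u} [CommRing R] [IsNoetherianRing R] (I : Ideal R)

/-- a torsion-free (for `Γ_I`) nonzero f.g. module has a regular element in `I` -/
lemma exists_regular (N : Type u) [AddCommGroup N] [Module R N] [Module.Finite R N]
    (h : DRing.torsionSub I N = ⊥) : ∃ r ∈ I, IsSMulRegular N r := by
  have h' : DRing.torsionSub (Ideal.map (algebraMap R R) I) N = ⊥ := by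
    rw [Algebra.algebraMap_self, Ideal.map_id]
    exact h
  obtain ⟨r, hr, hreg⟩ := Groth.Agent.S11610.result R R I N h'
  exact ⟨r, hr, hreg⟩

omit [IsNoetherianRing R] in
/-- if multiplication by `r ∈ I` is injective on `H^i` then `H^i = 0` -/
lemma H_subsingleton_of_smul_injective (i : ℕ) (N : ModuleCat.{u} R) (r : R) (hr : r ∈ I)
    (hinj : ∀ x : ((localCohomology I i).obj N : ModuleCat.{u} R), r • x = 0 → x = 0) :
    Subsingleton ((localCohomology I i).obj N : ModuleCat.{u} R) := by
  have hz : ∀ x : ((localCohomology I i).obj N : ModuleCat.{u} R), x = 0 := by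
    intro x
    obtain ⟨k, hk⟩ := H_powerTorsion I i N x
    have h1 : r ^ k • x = 0 := hk _ (Ideal.pow_mem_pow hr k)
    clear hk
    induction k with
    | zero => rwa [pow_zero, one_smul] at h1
    | succ k ih =>
      apply ih
      apply hinj
      rw [smul_smul, ← pow_succ']
      exact h1
  exact ⟨fun x y => by rw [hz x, hz y]⟩

theorem vanish_fg (i : ℕ) : ∀ (M : Type u) [AddCommGroup M] [Module R M] [Module.Finite R M],
    Module.supportDim R M < (i : WithBot ℕ∞) →
    Subsingleton ((localCohomology I i).obj (ModuleCat.of R M) : ModuleCat.{u} R) := by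
  induction i with
  | zero =>
    intro M _ _ _ h
    have hbot : Module.supportDim R M = ⊥ := by
      by_contra hne
      obtain ⟨a, ha⟩ := WithBot.ne_bot_iff_exists.1 hne
      rw [← ha] at h
      have : (a : WithBot ℕ∞) < ((0 : ℕ∞) : WithBot ℕ∞) := h
      rw [WithBot.coe_lt_coe] at this
      exact absurd this (not_lt_bot (a := a))
    have : Subsingleton M := (Module.supportDim_eq_bot_iff_subsingleton R M).1 hbot
    exact H_subsingleton_of_subsingleton I 0 M
  | succ i ih =>
    intro M _ _ _ h
    have key : ∀ (N : Type u) [AddCommGroup N] [Module R N] [Module.Finite R N],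
        DRing.torsionSub I N = ⊥ → Module.supportDim R N < ((i + 1 : ℕ) : WithBot ℕ∞) →
        Subsingleton ((localCohomology I (i + 1)).obj (ModuleCat.of R N) : ModuleCat.{u} R) := by
      intro N _ _ _ hN0 hNdim
      obtain ⟨r, hr, hreg⟩ := exists_regular I N hN0
      -- the SES `0 → N → N → N/rN → 0`
      have hex : Function.Exact (LinearMap.lsmul R N r) (Submodule.mkQ (r • (⊤ : Submodule R N))) := by
        intro y
        rw [Submodule.mkQ_apply, Submodule.Quotient.mk_eq_zero,
          Submodule.mem_smul_pointwise_iff_exists]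
        constructor
        · rintro ⟨x, _, hx⟩
          exact ⟨x, hx⟩
        · rintro ⟨x, hx⟩
          exact ⟨x, trivial, hx⟩
      let S : ShortComplex (ModuleCat.{u} R) :=
        ShortComplex.mk (ModuleCat.ofHom (LinearMap.lsmul R N r))
          (ModuleCat.ofHom (Submodule.mkQ (r • (⊤ : Submodule R N)))) (by
            apply ModuleCat.hom_ext
            apply LinearMap.ext
            intro x
            exact hex.apply_apply_eq_zero x)
      have hS : S.ShortExact := ModuleCat.shortComplex_shortExact S hex hreg
        (Submodule.mkQ_surjective _)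
      have hQdim : Module.supportDim R (QuotSMulTop r N) < ((i : ℕ) : WithBot ℕ∞) := by
        have h1 : Module.supportDim R (QuotSMulTop r N) + 1 ≤ Module.supportDim R N :=
          Module.supportDim_quotSMulTop_succ_le_of_notMem_minimalPrimes
            (fun _ => hreg.notMem_of_mem_minimalPrimes)
        have h2 := lt_of_le_of_lt h1 hNdim
        cases hq : Module.supportDim R (QuotSMulTop r N) with
        | bot => exact WithBot.bot_lt_coe _
        | coe a =>
          rw [hq] at h2
          have h3 : ((a + 1 : ℕ∞) : WithBot ℕ∞) < (((i + 1 : ℕ) : ℕ∞) : WithBot ℕ∞) := h2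
          rw [WithBot.coe_lt_coe] at h3
          push_cast at h3
          have h4 : a < (i : ℕ∞) := (ENat.add_lt_add_iff_right (by simp)).1 h3
          show (a : WithBot ℕ∞) < ((i : ℕ∞) : WithBot ℕ∞)
          exact WithBot.coe_lt_coe.2 h4
      have hQ : Subsingleton ((localCohomology I i).obj S.X₃ : ModuleCat.{u} R) :=
        ih (QuotSMulTop r N) hQdim
      have hfinj := H_f_injective_of_vanish I i hS hQ
      apply H_subsingleton_of_smul_injective I (i + 1) (ModuleCat.of R N) r hr
      intro x hx
      apply hfinj
      have hf : S.f = r • 𝟙 (ModuleCat.of R N) := by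
        apply ModuleCat.hom_ext
        apply LinearMap.ext
        intro y
        rfl
      have h3 : ((localCohomology I (i + 1)).map S.f).hom x = r • x := by
        rw [hf]
        exact H_map_smul_id I (i + 1) (ModuleCat.of R N) r x
      have h4 : ((localCohomology I (i + 1)).map S.f).hom x = 0 := h3.trans hx
      exact h4.trans (map_zero _).symm
    have hinj := H_mkQ_torsion_injective I M (i + 1) (by lia)
    have hN := key (M ⧸ DRing.torsionSub I M) (torsionSub_quotient_eq_bot I M)
      (lt_of_le_of_lt (Module.supportDim_le_of_surjective _ (Submodule.mkQ_surjective _)) h)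
    exact ⟨fun x y => hinj (hN.elim _ _)⟩

end Vanish

section Fg
variable {R : Type u} [CommRing R] [IsNoetherianRing R]

/-- every class in `Ext^i(X, M)`, `X` f.g., comes from a f.g. submodule of `M` -/
theorem ext_from_fg (i : ℕ) : ∀ (X : Type u) [AddCommGroup X] [Module R X] [Module.Finite R X]
    (M : Type u) [AddCommGroup M] [Module R M]
    (z : Abelian.Ext.{u} (ModuleCat.of R X) (ModuleCat.of R M) i),
    ∃ (M' : Submodule R M) (_ : M'.FG)
      (z' : Abelian.Ext.{u} (ModuleCat.of R X) (ModuleCat.of R M') i),
      z'.comp (Abelian.Ext.mk₀ (ModuleCat.ofHom M'.subtype)) (add_zero i) = z := by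
  induction i with
  | zero =>
    intro X _ _ _ M _ _ z
    obtain ⟨φ, rfl⟩ := (Abelian.Ext.mk₀_bijective _ _).2 z
    have hfg : (LinearMap.range φ.hom).FG := by
      rw [LinearMap.range_eq_map]
      exact Module.Finite.fg_top.map φ.hom
    refine ⟨LinearMap.range φ.hom, hfg,
      Abelian.Ext.mk₀ (ModuleCat.ofHom φ.hom.rangeRestrict), ?_⟩
    rw [Abelian.Ext.mk₀_comp_mk₀]
    congr 1
  | succ i ih =>
    intro X _ _ _ M _ _ z
    obtain ⟨n, π, hπ⟩ := Module.Finite.exists_fin' R X
    let S : ShortComplex (ModuleCat.{u} R) :=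
      ShortComplex.mk (ModuleCat.ofHom (LinearMap.ker π).subtype) (ModuleCat.ofHom π) (by
        apply ModuleCat.hom_ext
        apply LinearMap.ext
        intro x
        exact x.2)
    have hS : S.ShortExact := ModuleCat.shortComplex_shortExact S
      (LinearMap.exact_subtype_ker_map π) (Submodule.injective_subtype _) hπ
    have hproj : Projective S.X₂ := (IsProjective.iff_projective (Fin n → R)).1 inferInstance
    have hz : (Abelian.Ext.mk₀ S.g).comp z (zero_add (i + 1)) = 0 :=
      Abelian.Ext.eq_zero_of_projective _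
    obtain ⟨y, hy⟩ := Abelian.Ext.contravariant_sequence_exact₃ hS _ z hz (add_comm 1 i)
    obtain ⟨M', hM', y', hy'⟩ := ih (LinearMap.ker π) M y
    refine ⟨M', hM', hS.extClass.comp y' (add_comm 1 i), ?_⟩
    rw [Abelian.Ext.comp_assoc _ _ _ (add_comm 1 i) (add_zero i) (by lia), hy']
    exact hy

end Fg

section General
variable {R : Type u} [CommRing R] [IsNoetherianRing R] (I : Ideal R)

/-- every class of `H^i_I(M)` comes from a f.g. submodule -/
theorem H_from_fg (M : Type u) [AddCommGroup M] [Module R M] (i : ℕ)
    (x : ((localCohomology I i).obj (ModuleCat.of R M) : ModuleCat.{u} R)) :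
    ∃ (M' : Submodule R M) (_ : M'.FG)
      (x' : ((localCohomology I i).obj (ModuleCat.of R M') : ModuleCat.{u} R)),
      ((localCohomology I i).map (ModuleCat.ofHom M'.subtype)).hom x' = x := by
  obtain ⟨n, z, rfl⟩ := toH'_surj I i (ModuleCat.of R M) x
  have : Module.Finite R (R ⧸ I ^ n) := Module.Finite.quotient R _
  obtain ⟨M', hM', z', rfl⟩ := ext_from_fg i (R ⧸ I ^ n) M z
  exact ⟨M', hM', toH' I i (ModuleCat.of R M') n z',
    map_toH' I i (ModuleCat.of R M') (ModuleCat.ofHom M'.subtype) z'⟩

/-- Grothendieck vanishing, arbitrary modules -/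
theorem vanish (M : Type u) [AddCommGroup M] [Module R M] (i : ℕ)
    (hi : Module.supportDim R M < (i : WithBot ℕ∞)) :
    Subsingleton ((localCohomology I i).obj (ModuleCat.of R M) : ModuleCat.{u} R) := by
  have hz : ∀ x : ((localCohomology I i).obj (ModuleCat.of R M) : ModuleCat.{u} R), x = 0 := by
    intro x
    obtain ⟨M', hM', x', rfl⟩ := H_from_fg I M i x
    have : Module.Finite R M' := Module.Finite.iff_fg.2 hM'
    have hsub := vanish_fg I i M' (lt_of_le_of_lt
      (Module.supportDim_le_of_injective M'.subtype (Submodule.injective_subtype _)) hi)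
    rw [hsub.elim x' 0, map_zero]
  exact ⟨fun x y => by rw [hz x, hz y]⟩

end General

end Groth.Agent.Lib.helper19.LCGroth
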