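import Mathlib
import Groth.Agent.Lib.Helper19.LCBridge
import Groth.Agent.Lib.Helper19.LCLes
open CategoryTheory Limits Opposite
universe u

namespace Groth.Agent.Lib.helper19.LCLes2
open Groth.Agent.Lib.helper19.LCBridge Groth.Agent.Lib.helper19.LCLes

variable {R : Type u} [CommRing R] (I : Ideal R) (i : ℕ)
variable {S : ShortComplex (ModuleCat.{u} R)} (hS : S.ShortExact)

/-- connecting map on representatives -/
noncomputable def δ0 (n : ℕ) (v : Abelian.Ext.{u} (Q I n) S.X₃ i) :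
    ((localCohomology I (i + 1)).obj S.X₁ : ModuleCat.{u} R) :=
  toH' I (i + 1) S.X₁ n (v.comp hS.extClass rfl)

lemma δ0_comp {n m : ℕ} (h : n ≤ m) (v : Abelian.Ext.{u} (Q I n) S.X₃ i) :
    δ0 I i hS m ((Abelian.Ext.mk₀ (quotMap I h)).comp v (zero_add i)) = δ0 I i hS n v := by
  unfold δ0
  rw [Abelian.Ext.comp_assoc (Abelian.Ext.mk₀ (quotMap I h)) v hS.extClass (zero_add i) rfl
    (by lia), toH'_comp]

lemma δ0_congr {n m : ℕ} (v : Abelian.Ext.{u} (Q I n) S.X₃ i) (v' : Abelian.Ext.{u} (Q I m) S.X₃ i)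
    (h : toH' I i S.X₃ n v = toH' I i S.X₃ m v') : δ0 I i hS n v = δ0 I i hS m v' := by
  obtain ⟨c, hn, hm, hc⟩ := (toH'_eq_iff I i v v').1 h
  rw [← δ0_comp I i hS hn v, ← δ0_comp I i hS hm v', hc]

lemma δ0_add (n : ℕ) (v v' : Abelian.Ext.{u} (Q I n) S.X₃ i) :
    δ0 I i hS n (v + v') = δ0 I i hS n v + δ0 I i hS n v' := by
  unfold δ0
  rw [Abelian.Ext.add_comp, map_add]

lemma δ0_smul (n : ℕ) (r : R) (v : Abelian.Ext.{u} (Q I n) S.X₃ i) :
    δ0 I i hS n (r • v) = r • δ0 I i hS n v := by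
  unfold δ0
  rw [Abelian.Ext.smul_comp, map_smul]

/-- The connecting homomorphism `H^i(X₃) → H^{i+1}(X₁)`. -/
noncomputable def δH : ((localCohomology I i).obj S.X₃ : ModuleCat.{u} R) →ₗ[R]
    ((localCohomology I (i + 1)).obj S.X₁ : ModuleCat.{u} R) where
  toFun x := δ0 I i hS (toH'_surj I i S.X₃ x).choose (toH'_surj I i S.X₃ x).choose_spec.choose
  map_add' x y := by
    have key : ∀ (z : ((localCohomology I i).obj S.X₃ : ModuleCat.{u} R)) (n : ℕ)
        (v : Abelian.Ext.{u} (Q I n) S.X₃ i), toH' I i S.X₃ n v = z →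
        δ0 I i hS (toH'_surj I i S.X₃ z).choose (toH'_surj I i S.X₃ z).choose_spec.choose =
          δ0 I i hS n v := by
      intro z n v hz
      apply δ0_congr
      rw [(toH'_surj I i S.X₃ z).choose_spec.choose_spec, hz]
    obtain ⟨n, v, hv⟩ := toH'_surj I i S.X₃ x
    obtain ⟨m, w, hw⟩ := toH'_surj I i S.X₃ y
    have hn := le_max_left n m
    have hm := le_max_right n m
    rw [key x _ _ ((toH'_comp I i S.X₃ hn v).trans hv), key y _ _ ((toH'_comp I i S.X₃ hm w).trans hw),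
      key (x + y) (max n m) ((Abelian.Ext.mk₀ (quotMap I hn)).comp v (zero_add i) +
        (Abelian.Ext.mk₀ (quotMap I hm)).comp w (zero_add i)) (by
        rw [map_add, toH'_comp, toH'_comp, hv, hw]), δ0_add]
  map_smul' r x := by
    have key : ∀ (z : ((localCohomology I i).obj S.X₃ : ModuleCat.{u} R)) (n : ℕ)
        (v : Abelian.Ext.{u} (Q I n) S.X₃ i), toH' I i S.X₃ n v = z →
        δ0 I i hS (toH'_surj I i S.X₃ z).choose (toH'_surj I i S.X₃ z).choose_spec.choose =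
          δ0 I i hS n v := by
      intro z n v hz
      apply δ0_congr
      rw [(toH'_surj I i S.X₃ z).choose_spec.choose_spec, hz]
    obtain ⟨n, v, hv⟩ := toH'_surj I i S.X₃ x
    rw [key x _ _ hv, key (r • x) n (r • v) (by rw [map_smul, hv]), δ0_smul, RingHom.id_apply]

lemma δH_toH' (n : ℕ) (v : Abelian.Ext.{u} (Q I n) S.X₃ i) :
    δH I i hS (toH' I i S.X₃ n v) = toH' I (i + 1) S.X₁ n (v.comp hS.extClass rfl) := by
  apply δ0_congr
  exact (toH'_surj I i S.X₃ _).choose_spec.choose_spec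

/-- `δ ∘ H(g) = 0` -/
lemma δH_comp_g (x : ((localCohomology I i).obj S.X₂ : ModuleCat.{u} R)) :
    δH I i hS (((localCohomology I i).map S.g) x) = 0 := by
  obtain ⟨n, u, rfl⟩ := toH'_surj I i S.X₂ x
  rw [map_toH', δH_toH',
    Abelian.Ext.comp_assoc u (Abelian.Ext.mk₀ S.g) hS.extClass (add_zero i) (zero_add 1) (by lia),
    hS.comp_extClass, Abelian.Ext.comp_zero, map_zero]

/-- `H(f) ∘ δ = 0` -/
lemma f_comp_δH (y : ((localCohomology I i).obj S.X₃ : ModuleCat.{u} R)) :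
    ((localCohomology I (i + 1)).map S.f) (δH I i hS y) = 0 := by
  obtain ⟨n, v, rfl⟩ := toH'_surj I i S.X₃ y
  rw [δH_toH', map_toH',
    Abelian.Ext.comp_assoc v hS.extClass (Abelian.Ext.mk₀ S.f) rfl (add_zero 1) (by lia),
    hS.extClass_comp, Abelian.Ext.comp_zero, map_zero]

/-- exactness at `H^i(X₃)` -/
lemma exact_at_X₃ (y : ((localCohomology I i).obj S.X₃ : ModuleCat.{u} R))
    (hy : δH I i hS y = 0) :
    ∃ x : ((localCohomology I i).obj S.X₂ : ModuleCat.{u} R), ((localCohomology I i).map S.g) x = y := by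
  obtain ⟨n, v, rfl⟩ := toH'_surj I i S.X₃ y
  rw [δH_toH', toH'_eq_zero_iff] at hy
  obtain ⟨m, h, hz⟩ := hy
  rw [← Abelian.Ext.comp_assoc (Abelian.Ext.mk₀ (quotMap I h)) v hS.extClass
    (zero_add i) rfl (by lia)] at hz
  obtain ⟨u, hu⟩ := Abelian.Ext.covariant_sequence_exact₃ _ hS _ rfl hz
  refine ⟨toH' I i S.X₂ m u, ?_⟩
  rw [map_toH', hu, toH'_comp]

/-- exactness at `H^{i+1}(X₁)` -/
lemma exact_at_X₁ (x : ((localCohomology I (i + 1)).obj S.X₁ : ModuleCat.{u} R))
    (hx : ((localCohomology I (i + 1)).map S.f) x = 0) :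
    ∃ y : ((localCohomology I i).obj S.X₃ : ModuleCat.{u} R), δH I i hS y = x := by
  obtain ⟨n, w, rfl⟩ := toH'_surj I (i + 1) S.X₁ x
  rw [map_toH', toH'_eq_zero_iff] at hx
  obtain ⟨m, h, hz⟩ := hx
  rw [← Abelian.Ext.comp_assoc (Abelian.Ext.mk₀ (quotMap I h)) w (Abelian.Ext.mk₀ S.f)
    (zero_add (i + 1)) (add_zero (i + 1)) (by lia)] at hz
  obtain ⟨v, hv⟩ := Abelian.Ext.covariant_sequence_exact₁ _ hS _ hz rfl
  refine ⟨toH' I i S.X₃ m v, ?_⟩
  rw [δH_toH', hv, toH'_comp]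

end Groth.Agent.Lib.helper19.LCLes2

namespace Groth.Agent.Lib.helper19.LCLes2
open Groth.Agent.Lib.helper19.LCBridge Groth.Agent.Lib.helper19.LCLes

variable {R : Type u} [CommRing R] (I : Ideal R) (i : ℕ)
variable {S : ShortComplex (ModuleCat.{u} R)} (hS : S.ShortExact)

lemma ker_δH : LinearMap.ker (δH I i hS) = LinearMap.range ((localCohomology I i).map S.g).hom := by
  apply le_antisymm
  · intro y hy
    obtain ⟨x, hx⟩ := exact_at_X₃ I i hS y hy
    exact ⟨x, hx⟩
  · rintro y ⟨x, rfl⟩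
    exact δH_comp_g I i hS x

lemma δH_surjective (h2 : Subsingleton ((localCohomology I (i + 1)).obj S.X₂ : ModuleCat.{u} R)) :
    Function.Surjective (δH I i hS) := by
  intro x
  exact exact_at_X₁ I i hS x (h2.elim _ _)

lemma δH_injective (h2 : Subsingleton ((localCohomology I i).obj S.X₂ : ModuleCat.{u} R)) :
    Function.Injective (δH I i hS) := by
  rw [← LinearMap.ker_eq_bot, ker_δH, LinearMap.range_eq_bot]
  apply LinearMap.ext
  intro x
  rw [h2.elim x 0, map_zero, map_zero]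

/-- dimension shifting -/
noncomputable def shiftEquiv (h2 : Subsingleton ((localCohomology I i).obj S.X₂ : ModuleCat.{u} R))
    (h2' : Subsingleton ((localCohomology I (i + 1)).obj S.X₂ : ModuleCat.{u} R)) :
    ((localCohomology I i).obj S.X₃ : ModuleCat.{u} R) ≃ₗ[R]
      ((localCohomology I (i + 1)).obj S.X₁ : ModuleCat.{u} R) :=
  LinearEquiv.ofBijective (δH I i hS) ⟨δH_injective I i hS h2, δH_surjective I i hS h2'⟩

/-- cokernel description -/
noncomputable def cokerEquivOfVanish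
    (h2' : Subsingleton ((localCohomology I (i + 1)).obj S.X₂ : ModuleCat.{u} R)) :
    (((localCohomology I i).obj S.X₃ : ModuleCat.{u} R) ⧸
      LinearMap.range ((localCohomology I i).map S.g).hom) ≃ₗ[R]
      ((localCohomology I (i + 1)).obj S.X₁ : ModuleCat.{u} R) :=
  (Submodule.quotEquivOfEq _ _ (ker_δH I i hS).symm) ≪≫ₗ
    (δH I i hS).quotKerEquivOfSurjective (δH_surjective I i hS h2')

end Groth.Agent.Lib.helper19.LCLes2
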