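import Mathlib
import Groth.Agent.Lib.Helper19.LCBridge
import Groth.Agent.Lib.Helper19.LCLes
import Groth.Agent.Lib.Helper19.LCLes2
import Groth.Agent.Lib.Helper19.LCZero
open CategoryTheory Limits Opposite
universe u

namespace Groth.Agent.Lib.helper19.LCAcyclic
open Groth.Agent.Lib.helper19.LCBridge Groth.Agent.Lib.helper19.LCLes
  Groth.Agent.Lib.helper19.LCLes2 Groth.Agent.Lib.helper19.LCZero

section Nat

variable {R : Type u} [CommRing R] (I : Ideal R)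

/-- naturality of `gammaToH` -/
lemma gammaToH_naturality {M N : ModuleCat.{u} R} (f : M ⟶ N) (x : DRing.torsionSub I M)
    (hfx : f.hom x.1 ∈ DRing.torsionSub I N) :
    ((localCohomology I 0).map f).hom (gammaToH I M x) = gammaToH I N ⟨f.hom x.1, hfx⟩ := by
  obtain ⟨n, hn⟩ := x.2
  have hn' : ∀ a ∈ I ^ n, a • f.hom x.1 = 0 := by
    intro a ha
    rw [← map_smul, hn a ha, map_zero]
  rw [gammaToH_apply I M x n hn, gammaToH_apply I N ⟨f.hom x.1, hfx⟩ n hn']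
  unfold zeroClass
  refine (map_toH' I 0 M f _).trans ?_
  congr 1
  rw [Abelian.Ext.mk₀_comp_mk₀]
  congr 1
  apply hom_ext_Q
  rw [ModuleCat.hom_comp, LinearMap.comp_apply, homOfKill_mk, homOfKill_mk, one_smul, one_smul]

lemma map_torsion {M N : Type u} [AddCommGroup M] [Module R M] [AddCommGroup N] [Module R N]
    (f : M →ₗ[R] N) (x : M) (hx : x ∈ DRing.torsionSub I M) : f x ∈ DRing.torsionSub I N := by
  obtain ⟨n, hn⟩ := hx
  exact ⟨n, fun a ha => by rw [← map_smul, hn a ha, map_zero]⟩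

end Nat

section Res

variable {R : Type u} [CommRing R] (I : Ideal R)
variable (X : ℕ → Type u) [∀ n, AddCommGroup (X n)] [∀ n, Module R (X n)]
  (d : ∀ n, X n →ₗ[R] X (n + 1))
  (hs : ∀ n, LinearMap.ker (d (n + 1)) = LinearMap.range (d n))

/-- cocycle modules as objects -/
abbrev ZZ (n : ℕ) : ModuleCat.{u} R := ModuleCat.of R (LinearMap.ker (d n))

/-- the differential corestricted to cocycles -/
noncomputable def dZ (n : ℕ) : X n →ₗ[R] LinearMap.ker (d (n + 1)) :=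
  (d n).codRestrict _ (fun x => by rw [hs]; exact ⟨x, rfl⟩)

lemma dZ_coe (n : ℕ) (x : X n) : ((dZ X d hs n x : LinearMap.ker (d (n + 1))) : X (n + 1)) = d n x := rfl

/-- the short exact sequences `0 → Z^n → X^n → Z^{n+1} → 0` -/
noncomputable def ses (n : ℕ) : ShortComplex (ModuleCat.{u} R) :=
  ShortComplex.mk (ModuleCat.ofHom (LinearMap.ker (d n)).subtype) (ModuleCat.ofHom (dZ X d hs n)) (by
    apply ModuleCat.hom_ext
    apply LinearMap.ext
    intro x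
    apply Subtype.ext
    exact x.2)

lemma ses_shortExact (n : ℕ) : (ses X d hs n).ShortExact := by
  refine ModuleCat.shortComplex_shortExact _ ?_ (Submodule.injective_subtype _) ?_
  · intro y
    constructor
    · intro hy
      exact ⟨⟨y, congrArg Subtype.val hy⟩, rfl⟩
    · rintro ⟨z, rfl⟩
      apply Subtype.ext
      exact z.2
  · intro (y : LinearMap.ker (d (n + 1)))
    have hy : (y : X (n + 1)) ∈ LinearMap.range (d n) := by
      rw [← hs]
      exact y.2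
    obtain ⟨x, hx⟩ := hy
    exact ⟨x, Subtype.ext hx⟩

variable (Γ : ∀ n, Submodule R (X n))
  (hΓ : ∀ n (x : X n), x ∈ Γ n ↔ ∃ k : ℕ, ∀ r ∈ I ^ k, r • x = 0)

include hΓ in
lemma mem_Γ_iff (n : ℕ) (x : X n) : x ∈ Γ n ↔ x ∈ DRing.torsionSub I (X n) := hΓ n x

/-- cocycles of `Γ(X)` are the torsion of `Z` -/
noncomputable def cocycEquiv (n : ℕ) :
    ↥(Γ n ⊓ LinearMap.ker (d n)) ≃ₗ[R] DRing.torsionSub I (LinearMap.ker (d n)) where
  toFun y := ⟨⟨y.1, y.2.2⟩, by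
    obtain ⟨k, hk⟩ := (hΓ n y.1).1 y.2.1
    exact ⟨k, fun a ha => Subtype.ext (hk a ha)⟩⟩
  invFun z := ⟨z.1.1, ⟨(hΓ n _).2 (by
    obtain ⟨k, hk⟩ := z.2
    exact ⟨k, fun a ha => congrArg Subtype.val (hk a ha)⟩), z.1.2⟩⟩
  map_add' := by intros; rfl
  map_smul' := by intros; rfl
  left_inv := by intro; rfl
  right_inv := by intro; rfl

/-- `Γ(X^n) ∩ ker d ≃ H^0(Z^n)` -/
noncomputable def h0Equiv (n : ℕ) :
    ↥(Γ n ⊓ LinearMap.ker (d n)) ≃ₗ[R] ((localCohomology I 0).obj (ZZ X d n) : ModuleCat.{u} R) :=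
  cocycEquiv I X d Γ hΓ n ≪≫ₗ LinearEquiv.ofBijective (gammaToH I (ZZ X d n))
    (gammaToH_bijective I (ZZ X d n))

lemma h0Equiv_apply (n : ℕ) (y : ↥(Γ n ⊓ LinearMap.ker (d n))) :
    h0Equiv I X d Γ hΓ n y = gammaToH I (ZZ X d n) (cocycEquiv I X d Γ hΓ n y) := rfl

/-- the map `Γ(X^{n+1}) ∩ ker d → H^1(Z^n)` -/
noncomputable def φ (n : ℕ) : ↥(Γ (n + 1) ⊓ LinearMap.ker (d (n + 1))) →ₗ[R]
    ((localCohomology I 1).obj (ZZ X d n) : ModuleCat.{u} R) :=
  (δH I 0 (ses_shortExact X d hs n)) ∘ₗ (h0Equiv I X d Γ hΓ (n + 1)).toLinearMap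

variable (hacyc : ∀ n j, 1 ≤ j →
  Subsingleton ((localCohomology I j).obj (ModuleCat.of R (X n)) : ModuleCat.{u} R))

include hacyc in
lemma φ_surjective (n : ℕ) : Function.Surjective (φ I X d hs Γ hΓ n) := by
  unfold φ
  rw [LinearMap.coe_comp]
  exact (δH_surjective I 0 (ses_shortExact X d hs n) (hacyc n 1 le_rfl)).comp
    (h0Equiv I X d Γ hΓ (n + 1)).surjective

lemma φ_ker (n : ℕ) : LinearMap.ker (φ I X d hs Γ hΓ n) =
    ((Γ n).map (d n)).comap (Γ (n + 1) ⊓ LinearMap.ker (d (n + 1))).subtype := by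
  ext y
  rw [LinearMap.mem_ker, Submodule.mem_comap, Submodule.subtype_apply]
  have h1 : φ I X d hs Γ hΓ n y = 0 ↔ h0Equiv I X d Γ hΓ (n + 1) y ∈
      LinearMap.ker (δH I 0 (ses_shortExact X d hs n)) := Iff.rfl
  rw [h1, ker_δH]
  constructor
  · rintro ⟨w, hw⟩
    obtain ⟨⟨x, hx⟩, rfl⟩ := (gammaToH_bijective I (ModuleCat.of R (X n))).2 w
    have hgx : (ses X d hs n).g.hom x ∈ DRing.torsionSub I ((ses X d hs n).X₃) :=
      map_torsion I _ x hx
    have h2 := gammaToH_naturality I (ses X d hs n).g ⟨x, hx⟩ hgx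
    rw [h0Equiv_apply] at hw
    have h3 := (gammaToH_bijective I (ZZ X d (n + 1))).1 (h2.symm.trans hw)
    have h4 : d n x = y.1 := congrArg (fun t => (t.1.1 : X (n + 1))) h3
    exact ⟨x, (hΓ n x).2 hx, h4⟩
  · rintro ⟨x, hx, hxy⟩
    have hx' : x ∈ DRing.torsionSub I (X n) := (hΓ n x).1 hx
    have hgx : (ses X d hs n).g.hom x ∈ DRing.torsionSub I ((ses X d hs n).X₃) :=
      map_torsion I _ x hx'
    have h2 := gammaToH_naturality I (ses X d hs n).g ⟨x, hx'⟩ hgx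
    refine ⟨gammaToH I (ModuleCat.of R (X n)) ⟨x, hx'⟩, h2.trans ?_⟩
    rw [h0Equiv_apply]
    congr 1
    apply Subtype.ext
    apply Subtype.ext
    exact hxy

include hs hΓ hacyc in
/-- `H^1(Z^n)` -/
lemma h1Equiv (n : ℕ) : Nonempty ((↥(Γ (n + 1) ⊓ LinearMap.ker (d (n + 1))) ⧸
    ((Γ n).map (d n)).comap (Γ (n + 1) ⊓ LinearMap.ker (d (n + 1))).subtype) ≃ₗ[R]
    ((localCohomology I 1).obj (ZZ X d n) : ModuleCat.{u} R)) :=
  ⟨(Submodule.quotEquivOfEq _ _ (φ_ker I X d hs Γ hΓ n).symm) ≪≫ₗ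
    (φ I X d hs Γ hΓ n).quotKerEquivOfSurjective (φ_surjective I X d hs Γ hΓ hacyc n)⟩

variable (cob : ∀ n, Submodule R (X n)) (hcob0 : cob 0 = ⊥)
  (hcobS : ∀ n, cob (n + 1) = (Γ n).map (d n))

include hs hΓ hacyc hcobS in
lemma hEquiv_succ : ∀ (j n k : ℕ), k = n + j + 1 → Nonempty ((↥(Γ k ⊓ LinearMap.ker (d k)) ⧸
    (cob k).comap (Γ k ⊓ LinearMap.ker (d k)).subtype) ≃ₗ[R]
    ((localCohomology I (j + 1)).obj (ZZ X d n) : ModuleCat.{u} R)) := by
  intro j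
  induction j with
  | zero =>
    intro n k hk
    obtain rfl : k = n + 1 := by lia
    rw [hcobS]
    exact h1Equiv I X d hs Γ hΓ hacyc n
  | succ j ih =>
    intro n k hk
    obtain ⟨e⟩ := ih (n + 1) k (by lia)
    exact ⟨e ≪≫ₗ Groth.Agent.Lib.helper19.LCLes2.shiftEquiv I (j + 1) (ses_shortExact X d hs n) (hacyc n (j + 1) (by lia))
      (hacyc n (j + 1 + 1) (by lia))⟩

variable {M : Type u} [AddCommGroup M] [Module R M] (ε : M →ₗ[R] X 0)
  (hε : Function.Injective ε) (h0 : LinearMap.ker (d 0) = LinearMap.range ε)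

include hε h0 in
lemma augEquiv (i : ℕ) : Nonempty (((localCohomology I i).obj (ZZ X d 0) : ModuleCat.{u} R) ≃ₗ[R]
    ((localCohomology I i).obj (ModuleCat.of R M) : ModuleCat.{u} R)) := by
  let e : M ≃ₗ[R] LinearMap.ker (d 0) :=
    LinearEquiv.ofInjective ε hε ≪≫ₗ LinearEquiv.ofEq _ _ h0.symm
  exact ⟨((localCohomology I i).mapIso e.toModuleIso).symm.toLinearEquiv⟩

include hacyc hcob0 hcobS hε h0 hs hΓ in
/-- local cohomology is computed by `Γ`-acyclic resolutions -/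
theorem main (i : ℕ) : Nonempty ((↥(Γ i ⊓ LinearMap.ker (d i)) ⧸
    (cob i).comap (Γ i ⊓ LinearMap.ker (d i)).subtype) ≃ₗ[R]
    ((localCohomology I i).obj (ModuleCat.of R M) : ModuleCat.{u} R)) := by
  obtain ⟨e0⟩ := augEquiv I X d ε hε h0 i
  cases i with
  | zero =>
    have hb : (cob 0).comap (Γ 0 ⊓ LinearMap.ker (d 0)).subtype = ⊥ := by
      rw [hcob0, Submodule.comap_bot, Submodule.ker_subtype]
    exact ⟨Submodule.quotEquivOfEqBot _ hb ≪≫ₗ h0Equiv I X d Γ hΓ 0 ≪≫ₗ e0⟩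
  | succ j =>
    obtain ⟨e⟩ := hEquiv_succ I X d hs Γ hΓ hacyc cob hcobS j 0 (j + 1) (by lia)
    exact ⟨e ≪≫ₗ e0⟩

end Res

end Groth.Agent.Lib.helper19.LCAcyclic
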