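import Mathlib
import Groth.Agent.Lib.Helper19.LCBridge
import Groth.Agent.Lib.Helper19.LCZero
import Groth.Agent.Lib.Helper19.LCAcyclic
open CategoryTheory
universe u

namespace Groth.Agent.Lib.helper19.LCRes
open Groth.Agent.Lib.helper19.LCBridge Groth.Agent.Lib.helper19.LCZero

section Div
variable {R : Type u} [CommRing R] [IsNoetherianRing R]

/-- "divisibility up to torsion" in an injective module over a Noetherian ring -/
theorem exists_div_of_injective (N : Type u) [AddCommGroup N] [Module R N]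
    (hN : Module.Injective R N) (b : R) (k : ℕ) (w : N) :
    ∃ (w' : N) (m : ℕ), b ^ m • (b ^ k • w' - w) = 0 := by
  let f : ℕ →o Ideal R :=
    ⟨fun n => LinearMap.ker (LinearMap.toSpanSingleton R R (b ^ n)), by
      intro n n' hnn' r hr
      rw [LinearMap.mem_ker, LinearMap.toSpanSingleton_apply] at hr ⊢
      obtain ⟨t, rfl⟩ := Nat.exists_eq_add_of_le hnn'
      rw [pow_add, smul_eq_mul, ← mul_assoc, ← smul_eq_mul (a := r), hr, zero_mul]⟩
  obtain ⟨m, hm⟩ := monotone_stabilizes_iff_noetherian.2 (inferInstance : IsNoetherian R R) f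
  let μ : R →ₗ[R] R := LinearMap.toSpanSingleton R R (b ^ (k + m))
  let φ : R →ₗ[R] N := LinearMap.toSpanSingleton R N (b ^ m • w)
  have hker : LinearMap.ker μ ≤ LinearMap.ker φ := by
    intro r hr
    have h1 : r ∈ f (k + m) := hr
    rw [← hm (k + m) (by lia)] at h1
    have h2 : r • b ^ m = 0 := h1
    rw [LinearMap.mem_ker, LinearMap.toSpanSingleton_apply, smul_smul, ← smul_eq_mul, h2, zero_smul]
  let g : LinearMap.range μ →ₗ[R] N :=
    (Submodule.liftQ (LinearMap.ker μ) φ hker) ∘ₗ (LinearMap.quotKerEquivRange μ).symm.toLinearMap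
  obtain ⟨g', hg'⟩ := (Module.Baer.of_injective hN) (LinearMap.range μ) g
  refine ⟨g' 1, m, ?_⟩
  have h1 : b ^ (k + m) • g' 1 = b ^ m • w := by
    rw [← map_smul, smul_eq_mul, mul_one]
    have hmem : b ^ (k + m) ∈ LinearMap.range μ := ⟨1, by simp [μ]⟩
    rw [hg' _ hmem]
    have h2 : (⟨b ^ (k + m), hmem⟩ : LinearMap.range μ) = μ.rangeRestrict 1 := by
      apply Subtype.ext
      simp [μ]
    change (Submodule.liftQ (LinearMap.ker μ) φ hker)
      ((LinearMap.quotKerEquivRange μ).symm ⟨b ^ (k + m), hmem⟩) = _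
    have h3 : (LinearMap.quotKerEquivRange μ).symm ⟨b ^ (k + m), hmem⟩ =
        (LinearMap.ker μ).mkQ 1 := by
      rw [LinearEquiv.symm_apply_eq]
      apply Subtype.ext
      rw [Submodule.mkQ_apply, LinearMap.quotKerEquivRange_apply_mk]
      simp [μ]
    rw [h3, Submodule.mkQ_apply, Submodule.liftQ_apply]
    simp [φ]
  rw [smul_sub, smul_smul, ← pow_add, add_comm m k, h1, sub_self]

end Div

section Res
variable {R : Type u} [CommRing R] (M : ModuleCat.{u} R)

/-- cosyzygies of the standard injective resolution -/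
noncomputable def cosyz : ℕ → ModuleCat.{u} R
  | 0 => M
  | n + 1 => ModuleCat.of R ((Injective.under (cosyz n) : ModuleCat.{u} R) ⧸
      LinearMap.range (Injective.ι (cosyz n)).hom)

/-- terms of the standard injective resolution -/
noncomputable def resX (n : ℕ) : ModuleCat.{u} R := Injective.under (cosyz M n)

instance (n : ℕ) : Injective (resX M n) := inferInstanceAs (Injective (Injective.under (cosyz M n)))

/-- the embedding of the cosyzygy -/
noncomputable def resι (n : ℕ) : cosyz M n →ₗ[R] resX M n := (Injective.ι (cosyz M n)).hom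

lemma resι_injective (n : ℕ) : Function.Injective (resι M n) :=
  (ModuleCat.mono_iff_injective (Injective.ι (cosyz M n))).1 inferInstance

/-- the projection to the next cosyzygy -/
noncomputable def resπ (n : ℕ) : resX M n →ₗ[R] cosyz M (n + 1) :=
  (LinearMap.range (Injective.ι (cosyz M n)).hom).mkQ

lemma resπ_surjective (n : ℕ) : Function.Surjective (resπ M n) := by
  intro y
  exact Submodule.mkQ_surjective (LinearMap.range (Injective.ι (cosyz M n)).hom) y

lemma resπ_eq_zero_iff (n : ℕ) (x : resX M n) : resπ M n x = 0 ↔ x ∈ LinearMap.range (resι M n) :=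
  Submodule.Quotient.mk_eq_zero (LinearMap.range (Injective.ι (cosyz M n)).hom)

/-- the differential -/
noncomputable def resD (n : ℕ) : resX M n →ₗ[R] resX M (n + 1) := resι M (n + 1) ∘ₗ resπ M n

lemma resD_ker (n : ℕ) : LinearMap.ker (resD M n) = LinearMap.range (resι M n) := by
  ext x
  rw [LinearMap.mem_ker, resD, LinearMap.comp_apply]
  constructor
  · intro h
    have h1 : resπ M n x = 0 := resι_injective M (n + 1) (h.trans (map_zero _).symm)
    exact (resπ_eq_zero_iff M n x).1 h1
  · intro h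
    rw [(resπ_eq_zero_iff M n x).2 h, map_zero]

lemma resD_range (n : ℕ) : LinearMap.range (resD M n) = LinearMap.range (resι M (n + 1)) := by
  rw [resD, LinearMap.range_comp, LinearMap.range_eq_top.2 (resπ_surjective M n), Submodule.map_top]

lemma res_exact_succ (n : ℕ) : LinearMap.ker (resD M (n + 1)) = LinearMap.range (resD M n) := by
  rw [resD_ker, resD_range]

/-- the augmentation -/
noncomputable def resε : M →ₗ[R] resX M 0 := resι M 0

lemma resε_injective : Function.Injective (resε M) := resι_injective M 0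

lemma res_exact_zero : LinearMap.ker (resD M 0) = LinearMap.range (resε M) := resD_ker M 0

lemma resD_comp (n : ℕ) (x : resX M n) : resD M (n + 1) (resD M n x) = 0 := by
  have : resD M n x ∈ LinearMap.ker (resD M (n + 1)) := by
    rw [res_exact_succ]
    exact ⟨x, rfl⟩
  exact this

lemma resX_injective (n : ℕ) : Module.Injective R (resX M n) :=
  @Module.injective_module_of_injective_object R (resX M n) _ _ _
    (inferInstanceAs (Injective (Injective.under (cosyz M n))))

end Res

section Acyc
variable {R : Type u} [CommRing R] (I : Ideal R)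

lemma H_subsingleton_of_injective (E : ModuleCat.{u} R) [Injective E] (j : ℕ) (hj : 0 < j) :
    Subsingleton ((localCohomology I j).obj E : ModuleCat.{u} R) := by
  obtain ⟨q, rfl⟩ : ∃ q, j = q + 1 := ⟨j - 1, by lia⟩
  apply subsingleton_of_stages
  intro n
  exact ⟨fun x y => by
    rw [Abelian.Ext.eq_zero_of_injective x, Abelian.Ext.eq_zero_of_injective y]⟩

end Acyc

section Comp
variable {R : Type u} [CommRing R] (I : Ideal R)
  (M : Type u) [AddCommGroup M] [Module R M]

/-- coboundaries of `Γ_I(E•)` -/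
noncomputable def cob : (n : ℕ) → Submodule R (resX (ModuleCat.of R M) n)
  | 0 => ⊥
  | n + 1 => (DRing.torsionSub I (resX (ModuleCat.of R M) n)).map (resD (ModuleCat.of R M) n)

/-- cocycles of `Γ_I(E•)` -/
noncomputable def coc (n : ℕ) : Submodule R (resX (ModuleCat.of R M) n) :=
  DRing.torsionSub I (resX (ModuleCat.of R M) n) ⊓ LinearMap.ker (resD (ModuleCat.of R M) n)

theorem H_equiv_res (i : ℕ) : Nonempty ((↥(coc I M i) ⧸ (cob I M i).comap (coc I M i).subtype) ≃ₗ[R]
    ((localCohomology I i).obj (ModuleCat.of R M) : ModuleCat.{u} R)) :=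
  Groth.Agent.Lib.helper19.LCAcyclic.main I (fun n => (resX (ModuleCat.of R M) n : Type u))
    (resD (ModuleCat.of R M)) (res_exact_succ (ModuleCat.of R M))
    (fun n => DRing.torsionSub I (resX (ModuleCat.of R M) n)) (fun _ _ => Iff.rfl)
    (fun n j hj => H_subsingleton_of_injective I (resX (ModuleCat.of R M) n) j hj)
    (cob I M) rfl (fun _ => rfl) (resε (ModuleCat.of R M)) (resε_injective (ModuleCat.of R M))
    (res_exact_zero (ModuleCat.of R M)) i

/-- vanishing of `H^{p+1}` means cocycles are coboundaries -/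
theorem cocycle_is_coboundary (p : ℕ)
    (h : Subsingleton ((localCohomology I (p + 1)).obj (ModuleCat.of R M) : ModuleCat.{u} R))
    (z : resX (ModuleCat.of R M) (p + 1)) (hz : z ∈ DRing.torsionSub I (resX (ModuleCat.of R M) (p + 1)))
    (hdz : resD (ModuleCat.of R M) (p + 1) z = 0) :
    ∃ y ∈ DRing.torsionSub I (resX (ModuleCat.of R M) p), resD (ModuleCat.of R M) p y = z := by
  obtain ⟨e⟩ := H_equiv_res I M (p + 1)
  have hsub : Subsingleton (↥(coc I M (p + 1)) ⧸ (cob I M (p + 1)).comap (coc I M (p + 1)).subtype) :=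
    e.toEquiv.subsingleton
  rw [Submodule.Quotient.subsingleton_iff] at hsub
  have hmem : (⟨z, ⟨hz, hdz⟩⟩ : ↥(coc I M (p + 1))) ∈
      (cob I M (p + 1)).comap (coc I M (p + 1)).subtype := by
    rw [hsub]; trivial
  rw [Submodule.mem_comap] at hmem
  obtain ⟨y, hy, hyz⟩ := hmem
  exact ⟨y, hy, hyz⟩

/-- conversely -/
theorem H_subsingleton_of_coboundary (p : ℕ)
    (h : ∀ z : resX (ModuleCat.of R M) (p + 1),
      z ∈ DRing.torsionSub I (resX (ModuleCat.of R M) (p + 1)) →
      resD (ModuleCat.of R M) (p + 1) z = 0 →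
      ∃ y ∈ DRing.torsionSub I (resX (ModuleCat.of R M) p), resD (ModuleCat.of R M) p y = z) :
    Subsingleton ((localCohomology I (p + 1)).obj (ModuleCat.of R M) : ModuleCat.{u} R) := by
  obtain ⟨e⟩ := H_equiv_res I M (p + 1)
  have hsub : Subsingleton (↥(coc I M (p + 1)) ⧸ (cob I M (p + 1)).comap (coc I M (p + 1)).subtype) := by
    rw [Submodule.Quotient.subsingleton_iff, eq_top_iff]
    rintro ⟨z, hz, hdz⟩ _
    rw [Submodule.mem_comap]
    obtain ⟨y, hy, hyz⟩ := h z hz hdz
    exact ⟨y, hy, hyz⟩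
  exact e.symm.toEquiv.subsingleton

end Comp


section Chase
variable {R : Type u} [CommRing R]

lemma mem_torsionSub_sup_span_iff (a : Ideal R) (b : R) {X : Type u} [AddCommGroup X] [Module R X]
    (x : X) : x ∈ DRing.torsionSub (a ⊔ Ideal.span {b}) X ↔
      x ∈ DRing.torsionSub a X ∧ ∃ k : ℕ, b ^ k • x = 0 := by
  constructor
  · rintro ⟨n, hn⟩
    refine ⟨⟨n, fun r hr => hn r (Ideal.pow_right_mono le_sup_left n hr)⟩, n, ?_⟩
    apply hn
    exact Ideal.pow_mem_pow (Ideal.mem_sup_right (Ideal.mem_span_singleton_self b)) n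
  · rintro ⟨⟨n, hn⟩, k, hk⟩
    refine ⟨n + k, fun r hr => ?_⟩
    have h1 := Ideal.sup_pow_add_le_pow_sup_pow (I := a) (J := Ideal.span {b}) (n := n) (m := k) hr
    rw [Ideal.span_singleton_pow] at h1
    obtain ⟨u, hu, v, hv, rfl⟩ := Submodule.mem_sup.1 h1
    obtain ⟨c, rfl⟩ := Ideal.mem_span_singleton'.1 hv
    rw [add_smul, hn u hu, mul_smul, hk, smul_zero, add_zero]

variable [IsNoetherianRing R]

/-- the key vanishing: adding one generator raises the cohomological dimension by at most one -/
theorem vanish_sup_span (a : Ideal R) (b : R) (r : ℕ)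
    (ha : ∀ (X : Type u) [AddCommGroup X] [Module R X] (q : ℕ), r < q →
      Subsingleton ((localCohomology a q).obj (ModuleCat.of R X) : ModuleCat.{u} R))
    (M : Type u) [AddCommGroup M] [Module R M] (i : ℕ) (hi : r + 1 < i) :
    Subsingleton ((localCohomology (a ⊔ Ideal.span {b}) i).obj (ModuleCat.of R M) :
      ModuleCat.{u} R) := by
  obtain ⟨j, rfl⟩ : ∃ j, i = j + 2 := ⟨i - 2, by lia⟩
  apply H_subsingleton_of_coboundary (a ⊔ Ideal.span {b}) M (j + 1)
  intro z hz hdz
  obtain ⟨hza, k, hzk⟩ := (mem_torsionSub_sup_span_iff a b z).1 hz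
  -- z = d y
  obtain ⟨y, hy, hyz⟩ := cocycle_is_coboundary a M (j + 1) (ha M (j + 2) (by lia)) z hza hdz
  -- b^k y is a cocycle
  have hbky : b ^ k • y ∈ DRing.torsionSub a (resX (ModuleCat.of R M) (j + 1)) :=
    Submodule.smul_mem _ _ hy
  have hdbky : resD (ModuleCat.of R M) (j + 1) (b ^ k • y) = 0 := by
    rw [map_smul, hyz, hzk]
  obtain ⟨w, hw, hwy⟩ := cocycle_is_coboundary a M j (ha M (j + 1) (by lia)) _ hbky hdbky
  -- divisibility in the injective module Γ_a(E^j)
  have hinj : Module.Injective R (DRing.torsionSub a (resX (ModuleCat.of R M) j)) :=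
    torsionSub_injective a _ (resX_injective (ModuleCat.of R M) j)
  obtain ⟨w', m, hw'⟩ := exists_div_of_injective _ hinj b k
    (⟨w, hw⟩ : DRing.torsionSub a (resX (ModuleCat.of R M) j))
  have hw'' : b ^ m • (b ^ k • (w' : resX (ModuleCat.of R M) j) - w) = 0 :=
    congrArg Subtype.val hw'
  refine ⟨y - resD (ModuleCat.of R M) j w', ?_, ?_⟩
  · rw [mem_torsionSub_sup_span_iff]
    refine ⟨Submodule.sub_mem _ hy ?_, m + k, ?_⟩
    · obtain ⟨n, hn⟩ := w'.2
      exact ⟨n, fun s hs => by rw [← map_smul, hn s hs, map_zero]⟩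
    · rw [pow_add, mul_smul, smul_sub, ← hwy, ← map_smul (resD (ModuleCat.of R M) j) (b ^ k),
        ← map_sub, ← map_smul, ← neg_sub, smul_neg, hw'', neg_zero, map_zero]
  · rw [map_sub, resD_comp, sub_zero, hyz]

end Chase

end Groth.Agent.Lib.helper19.LCRes
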