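import Mathlib
import Groth.Prelude.Def_GrLC
import Groth.Agent.Lib.Helper19.GrMod

/-!
# Converting gradings by `k`-submodules into gradings by additive subgroups (helper19)

For a `k`-algebra `R` graded by `𝒜 : ι → Submodule k R` and a graded module `M` with pieces
`ℳ : ι → Submodule k M`, the families `addGr 𝒜`, `addGr ℳ` of underlying additive subgroups are gradings
again, and *injective resolutions, homogeneous ideals and graded local cohomology transfer.
-/

set_option autoImplicit false
universe u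

namespace Groth.Agent.Lib.helper19.GrConv

open GrLC

section Dec

variable {ι : Type} [DecidableEq ι] {k : Type u} [CommRing k]
variable {N : Type u} [AddCommGroup N] [Module k N]

/-- the underlying additive subgroups of a family of submodules -/
def addGr (𝒩 : ι → Submodule k N) : ι → AddSubgroup N := fun g => (𝒩 g).toAddSubgroup

omit [DecidableEq ι] in
theorem mem_addGr (𝒩 : ι → Submodule k N) {g : ι} {x : N} : x ∈ addGr 𝒩 g ↔ x ∈ 𝒩 g := Iff.rfl

/-- the identification of the pieces -/
def pieceHom (𝒩 : ι → Submodule k N) (g : ι) : 𝒩 g →+ addGr 𝒩 g where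
  toFun y := ⟨(y : N), y.2⟩
  map_zero' := rfl
  map_add' _ _ := rfl

variable (𝒩 : ι → Submodule k N) [DirectSum.Decomposition 𝒩]

noncomputable def decHom : N →+ DirectSum ι (fun g => addGr 𝒩 g) :=
  (DirectSum.map (pieceHom 𝒩)).comp (DirectSum.decomposeAddEquiv 𝒩).toAddMonoidHom

theorem decHom_of_mem {g : ι} {y : N} (hy : y ∈ 𝒩 g) :
    decHom 𝒩 y = DirectSum.of (fun g => addGr 𝒩 g) g ⟨y, hy⟩ := by
  simp only [decHom, AddMonoidHom.coe_comp, Function.comp_apply, AddEquiv.toAddMonoidHom_eq_coe,
    AddMonoidHom.coe_coe, DirectSum.decomposeAddEquiv_apply]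
  rw [DirectSum.decompose_of_mem 𝒩 hy, DirectSum.map_of]
  rfl

/-- the decomposition for the family of additive subgroups -/
noncomputable instance addDecomposition : DirectSum.Decomposition (addGr 𝒩) where
  decompose' := decHom 𝒩
  left_inv x := by
    induction x using DirectSum.Decomposition.inductionOn 𝒩 with
    | zero => simp
    | @homogeneous g y =>
      rw [decHom_of_mem 𝒩 y.2, DirectSum.coeAddMonoidHom_of]
    | add a b ha hb =>
      rw [map_add, map_add, ha, hb]
  right_inv z := by
    induction z using DirectSum.induction_on with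
    | zero => simp
    | of g q =>
      rw [DirectSum.coeAddMonoidHom_of, decHom_of_mem 𝒩 q.2]
    | add a b ha hb =>
      rw [map_add, map_add, ha, hb]

theorem coe_decompose_addGr (x : N) (g : ι) :
    ((DirectSum.decompose (addGr 𝒩) x g : addGr 𝒩 g) : N) =
      ((DirectSum.decompose 𝒩 x g : 𝒩 g) : N) := by
  show ((decHom 𝒩 x) g : N) = _
  simp only [decHom, AddMonoidHom.coe_comp, Function.comp_apply, AddEquiv.toAddMonoidHom_eq_coe,
    AddMonoidHom.coe_coe, DirectSum.decomposeAddEquiv_apply]
  rw [DirectSum.map_apply]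
  rfl

end Dec

section Ring

variable {ι : Type} [AddCommGroup ι] [DecidableEq ι] {k : Type u} [CommRing k]
variable {R : Type u} [CommRing R] [Algebra k R] (𝒜 : ι → Submodule k R) [GradedRing 𝒜]

noncomputable instance addGradedRing : GradedRing (addGr 𝒜) where
  one_mem := SetLike.GradedOne.one_mem (A := 𝒜)
  mul_mem := fun _ _ _ _ hi hj => SetLike.GradedMul.mul_mem (A := 𝒜) hi hj
  decompose' := (addDecomposition 𝒜).decompose'
  left_inv := (addDecomposition 𝒜).left_inv
  right_inv := (addDecomposition 𝒜).right_inv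

variable {M : Type u} [AddCommGroup M] [Module R M] [Module k M]
  (ℳ : ι → Submodule k M) [SetLike.GradedSMul 𝒜 ℳ]

instance addGradedSMul : SetLike.GradedSMul (addGr 𝒜) (addGr ℳ) where
  smul_mem := fun _ _ _ _ hi hj => SetLike.GradedSMul.smul_mem (A := 𝒜) (B := ℳ) hi hj

/-- the homogeneous ideal for the family of additive subgroups -/
noncomputable def idealAdd (a : HomogeneousIdeal 𝒜) : HomogeneousIdeal (addGr 𝒜) :=
  ⟨a.toIdeal, by
    intro i x hx
    have h1 := a.isHomogeneous i hx
    have h2 := coe_decompose_addGr 𝒜 x i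
    show ((DirectSum.decompose (addGr 𝒜) x i : addGr 𝒜 i) : R) ∈ a.toIdeal
    rw [h2]
    exact h1⟩

theorem idealAdd_toIdeal (a : HomogeneousIdeal 𝒜) : (idealAdd 𝒜 a).toIdeal = a.toIdeal := rfl

/-- a graded module over `addGr 𝒜` as a graded module over `𝒜` -/
noncomputable def toS (A : GMod.{u} (addGr 𝒜)) : GMod.{u} 𝒜 :=
  { carrier := A.carrier
    gr := A.gr
    dec := A.dec
    gsmul := ⟨fun _ _ _ _ hi hj => A.gsmul.smul_mem hi hj⟩ }

/-- a graded module over `𝒜` as a graded module over `addGr 𝒜` -/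
noncomputable def toA (A : GMod.{u} 𝒜) : GMod.{u} (addGr 𝒜) :=
  { carrier := A.carrier
    gr := A.gr
    dec := A.dec
    gsmul := ⟨fun _ _ _ _ hi hj => A.gsmul.smul_mem hi hj⟩ }

theorem isStarInj_toA (A : GMod.{u} 𝒜) (hA : IsStarInj 𝒜 A.gr) : IsStarInj (addGr 𝒜) (toA 𝒜 A).gr := by
  intro C D f hf hinj g hg
  exact hA (toS 𝒜 C) (toS 𝒜 D) f hf hinj g hg

variable [DirectSum.Decomposition ℳ]

/-- a *injective resolution over `𝒜` as a *injective resolution over `addGr 𝒜` -/
noncomputable def resAdd (E : StarInjRes 𝒜 ℳ) : StarInjRes (addGr 𝒜) (addGr ℳ) where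
  X n := toA 𝒜 (E.X n)
  d := E.d
  ε := E.ε
  d_grHom := E.d_grHom
  ε_grHom := E.ε_grHom
  ε_injective := E.ε_injective
  exact_zero := E.exact_zero
  exact_succ := E.exact_succ
  starInj n := isStarInj_toA 𝒜 (E.X n) (E.starInj n)

theorem resAdd_Hgr (E : StarInjRes 𝒜 ℳ) (a : HomogeneousIdeal 𝒜) (i : ℕ) (g : ι) :
    (resAdd 𝒜 ℳ E).Hgr (idealAdd 𝒜 a) i g = E.Hgr a i g := rfl

end Ring

end Groth.Agent.Lib.helper19.GrConv
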