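import Mathlib
import Groth.Prelude.Def_GrLC
import Groth.Agent.Lib.Helper19.GrMod

/-!
# Graded homological algebra for `GrLC.StarInjRes` (helper19), part 1

* `exists_dep_seq` : dependent recursion with an invariant and a relation between consecutive terms
* `extend_of_ker_le` : extension of a graded map into a *injective along a graded map with smaller kernel
* `starInj_prod` : the product of two *injectives is *injective
* `CMap E F f` : a graded chain map of *injective resolutions over `f`, with `Hmap` on `Γ_a`-cohomology,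
  `id`, `comp`, homogeneity of `Hmap`
* `exists_cmap` : lifting of a graded map to the resolutions
* `Hmap_eq` : two lifts induce the same map on cohomology (via a homotopy)
-/

set_option autoImplicit false
universe u

namespace Groth.Agent.Lib.helper19.GrLes

open GrLC Groth.Agent.Lib.helper19.GrMod

/-- dependent recursion with invariant and relation -/
theorem exists_dep_seq {α : ℕ → Type*} (Inv : ∀ n, α n → Prop) (Rel : ∀ n, α n → α (n + 1) → Prop)
    (t0 : α 0) (ht0 : Inv 0 t0)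
    (step : ∀ n (t : α n), Inv n t → ∃ t' : α (n + 1), Inv (n + 1) t' ∧ Rel n t t') :
    ∃ t : ∀ n, α n, t 0 = t0 ∧ (∀ n, Inv n (t n)) ∧ ∀ n, Rel n (t n) (t (n + 1)) := by
  classical
  let s : ∀ n, {x : α n // Inv n x} := fun n =>
    Nat.rec (motive := fun n => {x : α n // Inv n x}) ⟨t0, ht0⟩
      (fun n x => ⟨Classical.choose (step n x.1 x.2), (Classical.choose_spec (step n x.1 x.2)).1⟩) n
  refine ⟨fun n => (s n).1, rfl, fun n => (s n).2, fun n => ?_⟩
  exact (Classical.choose_spec (step n (s n).1 (s n).2)).2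

section Ext

variable {ι : Type} [AddCommGroup ι] [DecidableEq ι]
variable {R : Type u} [CommRing R] (𝒜 : ι → AddSubgroup R) [GradedRing 𝒜]

/-- extension into a *injective along a graded map with smaller kernel -/
theorem extend_of_ker_le (A B I : GMod.{u} 𝒜) (hI : IsStarInj 𝒜 I.gr)
    (f : A.carrier →ₗ[R] B.carrier) (hf : IsGrHom A.gr B.gr f)
    (ψ : A.carrier →ₗ[R] I.carrier) (hψ : IsGrHom A.gr I.gr ψ)
    (hker : LinearMap.ker f ≤ LinearMap.ker ψ) :
    ∃ θ : B.carrier →ₗ[R] I.carrier, IsGrHom B.gr I.gr θ ∧ θ ∘ₗ f = ψ := by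
  classical
  let K : Submodule R A.carrier := LinearMap.ker f
  have hK : K.IsHomogeneous A.gr := ker_isHomogeneous A.gr B.gr f hf
  let Q : GMod.{u} 𝒜 :=
    { carrier := A.carrier ⧸ K
      gr := quotPiece A.gr K
      dec := quotDecomposition A.gr K hK
      gsmul := quot_gradedSMul 𝒜 A.gr K }
  let fbar : Q.carrier →ₗ[R] B.carrier := K.liftQ f le_rfl
  let ψbar : Q.carrier →ₗ[R] I.carrier := K.liftQ ψ hker
  have hfbar : IsGrHom Q.gr B.gr fbar := by
    rintro g q ⟨y, hy, rfl⟩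
    exact hf g y hy
  have hψbar : IsGrHom Q.gr I.gr ψbar := by
    rintro g q ⟨y, hy, rfl⟩
    exact hψ g y hy
  have hinj : Function.Injective fbar := by
    rw [← LinearMap.ker_eq_bot]
    exact Submodule.ker_liftQ_eq_bot K f le_rfl le_rfl
  obtain ⟨θ, hθ, hθf⟩ := hI Q B fbar hfbar hinj ψbar hψbar
  refine ⟨θ, hθ, ?_⟩
  ext x
  have h1 : (θ ∘ₗ fbar) (K.mkQ x) = ψbar (K.mkQ x) := by rw [hθf]
  exact h1

/-- the product of two *injectives is *injective -/
theorem starInj_prod {M : Type u} [AddCommGroup M] [Module R M] (ℳ : ι → AddSubgroup M)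
    [DirectSum.Decomposition ℳ] [SetLike.GradedSMul 𝒜 ℳ]
    {N : Type u} [AddCommGroup N] [Module R N] (𝒩 : ι → AddSubgroup N)
    [DirectSum.Decomposition 𝒩] [SetLike.GradedSMul 𝒜 𝒩]
    (hM : IsStarInj 𝒜 ℳ) (hN : IsStarInj 𝒜 𝒩) : IsStarInj 𝒜 (prodPiece ℳ 𝒩) := by
  intro A B f hf hinj g hg
  obtain ⟨h1, hh1, e1⟩ := hM A B f hf hinj ((LinearMap.fst R M N) ∘ₗ g)
    (fun d x hx => ((mem_prodPiece ℳ 𝒩).1 (hg d x hx)).1)
  obtain ⟨h2, hh2, e2⟩ := hN A B f hf hinj ((LinearMap.snd R M N) ∘ₗ g)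
    (fun d x hx => ((mem_prodPiece ℳ 𝒩).1 (hg d x hx)).2)
  refine ⟨h1.prod h2, fun d x hx => (mem_prodPiece ℳ 𝒩).2 ⟨hh1 d x hx, hh2 d x hx⟩, ?_⟩
  ext x
  · have := congrArg (fun φ => φ x) e1
    exact this
  · have := congrArg (fun φ => φ x) e2
    exact this

end Ext

section Gam

variable {R : Type u} [CommRing R]

/-- linear maps preserve torsion -/
theorem gam_map (a : Ideal R) {X Y : Type u} [AddCommGroup X] [Module R X] [AddCommGroup Y] [Module R Y]
    (φ : X →ₗ[R] Y) {x : X} (hx : x ∈ gam a X) : φ x ∈ gam a Y := by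
  obtain ⟨n, hn⟩ := hx
  exact ⟨n, fun r hr => by rw [← map_smul, hn r hr, map_zero]⟩

theorem gam_prod_iff (a : Ideal R) {X Y : Type u} [AddCommGroup X] [Module R X] [AddCommGroup Y] [Module R Y]
    (z : X × Y) : z ∈ gam a (X × Y) ↔ z.1 ∈ gam a X ∧ z.2 ∈ gam a Y := by
  constructor
  · intro h
    exact ⟨gam_map a (LinearMap.fst R X Y) h, gam_map a (LinearMap.snd R X Y) h⟩
  · rintro ⟨h1, h2⟩
    have e : z = LinearMap.inl R X Y z.1 + LinearMap.inr R X Y z.2 := by
      ext <;> simp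
    rw [e]
    exact add_mem (gam_map a (LinearMap.inl R X Y) h1) (gam_map a (LinearMap.inr R X Y) h2)

end Gam

section CMap

variable {ι : Type} [AddCommGroup ι] [DecidableEq ι]
variable {R : Type u} [CommRing R] {𝒜 : ι → AddSubgroup R} [GradedRing 𝒜]
variable {M : Type u} [AddCommGroup M] [Module R M] {ℳ : ι → AddSubgroup M}
  [DirectSum.Decomposition ℳ] [SetLike.GradedSMul 𝒜 ℳ]
variable {N : Type u} [AddCommGroup N] [Module R N] {𝒩 : ι → AddSubgroup N}
  [DirectSum.Decomposition 𝒩] [SetLike.GradedSMul 𝒜 𝒩]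
variable {K : Type u} [AddCommGroup K] [Module R K] {𝒦 : ι → AddSubgroup K}
  [DirectSum.Decomposition 𝒦] [SetLike.GradedSMul 𝒜 𝒦]

/-- a graded chain map between *injective resolutions over `f` -/
structure CMap (E : StarInjRes 𝒜 ℳ) (F : StarInjRes 𝒜 𝒩) (f : M →ₗ[R] N) where
  φ : ∀ n, (E.X n).carrier →ₗ[R] (F.X n).carrier
  gr : ∀ n, IsGrHom (E.X n).gr (F.X n).gr (φ n)
  aug : φ 0 ∘ₗ E.ε = F.ε ∘ₗ f
  comm : ∀ n, φ (n + 1) ∘ₗ E.d n = F.d n ∘ₗ φ n

namespace CMap

variable {E : StarInjRes 𝒜 ℳ} {F : StarInjRes 𝒜 𝒩} {G : StarInjRes 𝒜 𝒦}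
variable {f : M →ₗ[R] N} {g : N →ₗ[R] K}

theorem comm_apply (c : CMap E F f) (n : ℕ) (x : (E.X n).carrier) :
    c.φ (n + 1) (E.d n x) = F.d n (c.φ n x) :=
  congrArg (fun ψ => ψ x) (c.comm n)

theorem aug_apply (c : CMap E F f) (m : M) : c.φ 0 (E.ε m) = F.ε (f m) :=
  congrArg (fun ψ => ψ m) c.aug

/-- identity -/
def id (E : StarInjRes 𝒜 ℳ) : CMap E E LinearMap.id where
  φ := fun _ => LinearMap.id
  gr := fun _ _ _ hx => hx
  aug := rfl
  comm := fun _ => rfl

/-- composition -/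
def comp (c : CMap E F f) (c' : CMap F G g) : CMap E G (g ∘ₗ f) where
  φ := fun n => c'.φ n ∘ₗ c.φ n
  gr := fun n d x hx => c'.gr n d _ (c.gr n d x hx)
  aug := by
    ext m
    show c'.φ 0 (c.φ 0 (E.ε m)) = G.ε (g (f m))
    rw [c.aug_apply, c'.aug_apply]
  comm := fun n => by
    ext x
    show c'.φ (n + 1) (c.φ (n + 1) (E.d n x)) = G.d n (c'.φ n (c.φ n x))
    rw [c.comm_apply, c'.comm_apply]

/-- change the base map along an equality -/
def ofEq (c : CMap E F f) {f' : M →ₗ[R] N} (h : f = f') : CMap E F f' where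
  φ := c.φ
  gr := c.gr
  aug := h ▸ c.aug
  comm := c.comm

variable (a : HomogeneousIdeal 𝒜)

theorem map_cocyc (c : CMap E F f) (n : ℕ) : E.cocyc a n ≤ (F.cocyc a n).comap (c.φ n) := by
  rintro x ⟨hx1, hx2⟩
  refine ⟨gam_map a.toIdeal (c.φ n) hx1, ?_⟩
  have hx2' : E.d n x = 0 := hx2
  show F.d n (c.φ n x) = 0
  rw [← c.comm_apply, hx2', map_zero]

theorem map_cobdy (c : CMap E F f) (n : ℕ) : E.cobdy a n ≤ (F.cobdy a n).comap (c.φ n) := by
  cases n with
  | zero =>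
    intro x hx
    have hx0 : x = 0 := hx
    rw [hx0]
    exact zero_mem _
  | succ n =>
    rintro _ ⟨w, hw, rfl⟩
    exact ⟨c.φ n w, gam_map a.toIdeal (c.φ n) hw, (c.comm_apply n w).symm⟩

/-- the restriction to cocycles -/
def cocycMap (c : CMap E F f) (n : ℕ) : ↥(E.cocyc a n) →ₗ[R] ↥(F.cocyc a n) :=
  (c.φ n).restrict (c.map_cocyc a n)

/-- the induced map on cohomology -/
def Hmap (c : CMap E F f) (n : ℕ) : E.H a n →ₗ[R] F.H a n :=
  Submodule.mapQ _ _ (c.cocycMap a n) (fun _ hz => c.map_cobdy a n hz)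

theorem Hmap_toH (c : CMap E F f) (n : ℕ) (z : ↥(E.cocyc a n)) :
    c.Hmap a n (E.toH a n z) = F.toH a n (c.cocycMap a n z) := rfl

theorem coe_cocycMap (c : CMap E F f) (n : ℕ) (z : ↥(E.cocyc a n)) :
    ((c.cocycMap a n z : ↥(F.cocyc a n)) : (F.X n).carrier) = c.φ n z := rfl

theorem Hmap_isGrHom (c : CMap E F f) (n : ℕ) : IsGrHom (E.Hgr a n) (F.Hgr a n) (c.Hmap a n) := by
  rintro d y ⟨z, hz, rfl⟩
  exact ⟨c.cocycMap a n z, c.gr n d _ hz, rfl⟩

theorem Hmap_id (n : ℕ) (y : E.H a n) : (CMap.id E).Hmap a n y = y := by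
  obtain ⟨z, rfl⟩ := Submodule.mkQ_surjective _ y
  rfl

theorem Hmap_comp (c : CMap E F f) (c' : CMap F G g) (n : ℕ) (y : E.H a n) :
    (c.comp c').Hmap a n y = c'.Hmap a n (c.Hmap a n y) := by
  obtain ⟨z, rfl⟩ := Submodule.mkQ_surjective _ y
  rfl

theorem Hmap_ofEq (c : CMap E F f) {f' : M →ₗ[R] N} (h : f = f') (n : ℕ) :
    (c.ofEq h).Hmap a n = c.Hmap a n := rfl

end CMap

end CMap

end Groth.Agent.Lib.helper19.GrLes
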