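import Mathlib
import Groth.Prelude.Def_GrLC
import Groth.Agent.Lib.Helper19.GrMod

/-!
# Shifts of graded modules, homogeneous components of linear maps, graded free covers
-/

set_option autoImplicit false
universe u

namespace Groth.Agent.Lib.helper19.GrShift

open Groth.Agent.Lib.helper19.GrMod

section Shift

variable {ι : Type} [AddCommGroup ι] [DecidableEq ι]
variable {R : Type u} [CommRing R] (𝒜 : ι → AddSubgroup R) [GradedRing 𝒜]
variable {X : Type u} [AddCommGroup X] [Module R X] (𝒳 : ι → AddSubgroup X)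

/-- the shifted family `X(d)_g = X_{g+d}` -/
def shiftPiece (d : ι) : ι → AddSubgroup X := fun g => 𝒳 (g + d)

/-- the shift of a grading is a grading -/
@[instance_reducible]
noncomputable def shiftDecomposition [DirectSum.Decomposition 𝒳] (d : ι) :
    DirectSum.Decomposition (shiftPiece 𝒳 d) :=
  (isInternal_comp 𝒳 (DirectSum.Decomposition.isInternal 𝒳) (Equiv.addRight d)).chooseDecomposition

omit [DecidableEq ι] [GradedRing 𝒜] in
theorem shift_gradedSMul [SetLike.GradedSMul 𝒜 𝒳] (d : ι) : SetLike.GradedSMul 𝒜 (shiftPiece 𝒳 d) where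
  smul_mem := by
    intro i j r x hr hx
    have h1 := smul_mem_add 𝒜 𝒳 hr hx
    show r • x ∈ 𝒳 ((i + j) + d)
    rwa [add_assoc]

/-- the shift of a bundled graded module -/
noncomputable def shiftGMod (A : GrLC.GMod.{u} 𝒜) (d : ι) : GrLC.GMod.{u} 𝒜 :=
  { carrier := A.carrier
    gr := shiftPiece A.gr d
    dec := shiftDecomposition A.gr d
    gsmul := shift_gradedSMul 𝒜 A.gr d }

/-- a shift of a *injective module is *injective -/
theorem starInj_shift [DirectSum.Decomposition 𝒳] [SetLike.GradedSMul 𝒜 𝒳]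
    (hX : GrLC.IsStarInj 𝒜 𝒳) (d : ι)
    [DirectSum.Decomposition (shiftPiece 𝒳 d)] [SetLike.GradedSMul 𝒜 (shiftPiece 𝒳 d)] :
    GrLC.IsStarInj 𝒜 (shiftPiece 𝒳 d) := by
  intro A B φ hφgr hφinj γ hγgr
  have hφ' : GrLC.IsGrHom (shiftGMod 𝒜 A (-d)).gr (shiftGMod 𝒜 B (-d)).gr φ :=
    fun g a ha => hφgr (g + -d) a ha
  have hγ' : GrLC.IsGrHom (shiftGMod 𝒜 A (-d)).gr 𝒳 γ := by
    intro g a ha
    have h1 : γ a ∈ 𝒳 ((g + -d) + d) := hγgr (g + -d) a ha
    rwa [neg_add_cancel_right] at h1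
  obtain ⟨χ, hχgr, hχ⟩ := hX (shiftGMod 𝒜 A (-d)) (shiftGMod 𝒜 B (-d)) φ hφ' hφinj γ hγ'
  refine ⟨χ, ?_, hχ⟩
  intro g b hb
  show χ b ∈ 𝒳 (g + d)
  apply hχgr (g + d) b
  show b ∈ B.gr ((g + d) + -d)
  rwa [add_neg_cancel_right]

end Shift

section Comp

variable {ι : Type} [AddCommGroup ι] [DecidableEq ι]
variable {R : Type u} [CommRing R] (𝒜 : ι → AddSubgroup R) [GradedRing 𝒜]
variable {K : Type u} [AddCommGroup K] [Module R K] (𝒦 : ι → AddSubgroup K)
  [DirectSum.Decomposition 𝒦] [SetLike.GradedSMul 𝒜 𝒦]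
variable {I : Type u} [AddCommGroup I] [Module R I] (ℐ : ι → AddSubgroup I)
  [DirectSum.Decomposition ℐ] [SetLike.GradedSMul 𝒜 ℐ]

/-- the projection onto a homogeneous component, as an additive map -/
noncomputable def projAdd (c : ι) : I →+ I :=
  (ℐ c).subtype.comp ((DFinsupp.evalAddMonoidHom c).comp (DirectSum.decomposeAddEquiv ℐ).toAddMonoidHom)

omit [AddCommGroup ι] in
theorem projAdd_apply (c : ι) (x : I) : projAdd ℐ c x = ((DirectSum.decompose ℐ x c : ℐ c) : I) := rfl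

/-- the degree-`d` homogeneous component of a linear map, as an additive map -/
noncomputable def compAdd (d : ι) (ψ : K →+ I) : K →+ I :=
  (DirectSum.toAddMonoid (fun g => (projAdd ℐ (g + d)).comp (ψ.comp (𝒦 g).subtype))).comp
    (DirectSum.decomposeAddEquiv 𝒦).toAddMonoidHom

theorem compAdd_of_mem (d : ι) (ψ : K →+ I) {g : ι} {x : K} (hx : x ∈ 𝒦 g) :
    compAdd 𝒦 ℐ d ψ x = ((DirectSum.decompose ℐ (ψ x) (g + d) : ℐ (g + d)) : I) := by
  show (DirectSum.toAddMonoid _) (DirectSum.decompose 𝒦 x) = _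
  rw [DirectSum.decompose_of_mem 𝒦 hx, DirectSum.toAddMonoid_of]
  rfl

/-- the degree-`d` homogeneous component of a linear map -/
noncomputable def comp (d : ι) (ψ : K →ₗ[R] I) : K →ₗ[R] I where
  toFun := compAdd 𝒦 ℐ d ψ.toAddMonoidHom
  map_add' := map_add _
  map_smul' r b := by
    simp only [RingHom.id_apply]
    induction b using DirectSum.Decomposition.inductionOn 𝒦 with
    | zero => rw [smul_zero, map_zero, smul_zero]
    | @homogeneous g b =>
      induction r using DirectSum.Decomposition.inductionOn 𝒜 with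
      | zero => rw [zero_smul, map_zero, zero_smul]
      | @homogeneous h a =>
        rw [compAdd_of_mem 𝒦 ℐ d _ (smul_mem_add 𝒜 𝒦 a.2 b.2), compAdd_of_mem 𝒦 ℐ d _ b.2]
        have h1 : ψ.toAddMonoidHom ((a : R) • (b : K)) = (a : R) • ψ (b : K) := ψ.map_smul _ _
        rw [h1, decompose_smul_apply 𝒜 ℐ a.2]
        congr 1
        exact coe_decompose_congr ℐ _ (by abel)
      | add a c ha hc => rw [add_smul, map_add, ha, hc, add_smul]
    | add v w hv hw => rw [smul_add, map_add, hv, hw, map_add, smul_add]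

theorem comp_of_mem (d : ι) (ψ : K →ₗ[R] I) {g : ι} {x : K} (hx : x ∈ 𝒦 g) :
    comp 𝒜 𝒦 ℐ d ψ x = ((DirectSum.decompose ℐ (ψ x) (g + d) : ℐ (g + d)) : I) :=
  compAdd_of_mem 𝒦 ℐ d _ hx

theorem comp_isGrHom (d : ι) (ψ : K →ₗ[R] I) :
    GrLC.IsGrHom 𝒦 (shiftPiece ℐ d) (comp 𝒜 𝒦 ℐ d ψ) := by
  intro g x hx
  rw [comp_of_mem 𝒜 𝒦 ℐ d ψ hx]
  exact SetLike.coe_mem _

/-- a linear map from a graded module generated by finitely many homogeneous elements is a finite sum of
its homogeneous components -/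
theorem exists_finset_sum_comp (ψ : K →ₗ[R] I) (T : Finset (ι × K))
    (hT : ∀ p ∈ T, p.2 ∈ 𝒦 p.1) (hspan : Submodule.span R (Prod.snd '' (T : Set (ι × K))) = ⊤) :
    ∃ S : Finset ι, ψ = ∑ d ∈ S, comp 𝒜 𝒦 ℐ d ψ := by
  classical
  let S : Finset ι := T.biUnion
    (fun p => (DirectSum.decompose ℐ (ψ p.2)).support.image (fun c => c - p.1))
  refine ⟨S, ?_⟩
  apply LinearMap.ext_on hspan
  rintro _ ⟨p, hp, rfl⟩
  rw [LinearMap.sum_apply]
  have h1 : ∀ d ∈ S, comp 𝒜 𝒦 ℐ d ψ p.2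
      = ((DirectSum.decompose ℐ (ψ p.2) (p.1 + d) : ℐ (p.1 + d)) : I) :=
    fun d _ => comp_of_mem 𝒜 𝒦 ℐ d ψ (hT p hp)
  rw [Finset.sum_congr rfl h1]
  let Sj : Finset ι := (DirectSum.decompose ℐ (ψ p.2)).support.image (fun c => c - p.1)
  have hSj : Sj ⊆ S := by
    intro d hd
    exact Finset.mem_biUnion.2 ⟨p, hp, hd⟩
  rw [← Finset.sum_subset hSj (by
    intro d _ hd
    by_contra hne
    apply hd
    have hmem : p.1 + d ∈ (DirectSum.decompose ℐ (ψ p.2)).support := by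
      rw [DFinsupp.mem_support_iff]
      intro h0
      exact hne (by rw [h0]; rfl)
    exact Finset.mem_image.2 ⟨p.1 + d, hmem, by abel⟩)]
  rw [Finset.sum_image (by
    intro a _ b _ hab
    exact sub_left_injective hab)]
  conv_lhs => rw [← DirectSum.sum_support_decompose ℐ (ψ p.2)]
  apply Finset.sum_congr rfl
  intro c _
  exact coe_decompose_congr ℐ _ (by abel)

omit [GradedRing 𝒜] [SetLike.GradedSMul 𝒜 𝒦] in
/-- a finitely generated graded module is generated by finitely many homogeneous elements -/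
theorem exists_homogeneous_generators [Module.Finite R K] :
    ∃ T : Finset (ι × K), (∀ p ∈ T, p.2 ∈ 𝒦 p.1) ∧
      Submodule.span R (Prod.snd '' (T : Set (ι × K))) = ⊤ := by
  classical
  obtain ⟨s, hs⟩ := (Module.Finite.fg_top : (⊤ : Submodule R K).FG)
  let T : Finset (ι × K) := s.biUnion (fun x => (DirectSum.decompose 𝒦 x).support.image
    (fun c => (c, ((DirectSum.decompose 𝒦 x c : 𝒦 c) : K))))
  refine ⟨T, ?_, ?_⟩
  · intro p hp
    obtain ⟨x, _, hx⟩ := Finset.mem_biUnion.1 hp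
    obtain ⟨c, _, rfl⟩ := Finset.mem_image.1 hx
    exact SetLike.coe_mem _
  · rw [eq_top_iff, ← hs]
    apply Submodule.span_le.2
    intro x hx
    rw [← DirectSum.sum_support_decompose 𝒦 x]
    apply Submodule.sum_mem
    intro c hc
    apply Submodule.subset_span
    refine ⟨(c, ((DirectSum.decompose 𝒦 x c : 𝒦 c) : K)), ?_, rfl⟩
    exact Finset.mem_biUnion.2 ⟨x, hx, Finset.mem_image.2 ⟨c, hc, rfl⟩⟩

/-- extension of arbitrary linear maps from a finitely generated graded submodule into a *injective module -/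
theorem exists_extension_of_starInj (hI : GrLC.IsStarInj 𝒜 ℐ) [Module.Finite R K]
    {F : Type u} [AddCommGroup F] [Module R F] (ℱ : ι → AddSubgroup F) [DirectSum.Decomposition ℱ]
    [SetLike.GradedSMul 𝒜 ℱ] (φ : K →ₗ[R] F) (hφgr : GrLC.IsGrHom 𝒦 ℱ φ) (hφinj : Function.Injective φ)
    (ψ : K →ₗ[R] I) : ∃ χ : F →ₗ[R] I, χ ∘ₗ φ = ψ := by
  classical
  obtain ⟨T, hT, hspan⟩ := exists_homogeneous_generators (R := R) 𝒦
  obtain ⟨S, hS⟩ := exists_finset_sum_comp 𝒜 𝒦 ℐ ψ T hT hspan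
  have hd : ∀ d : ι, ∃ χ : F →ₗ[R] I, χ ∘ₗ φ = comp 𝒜 𝒦 ℐ d ψ := by
    intro d
    let _ : DirectSum.Decomposition (shiftPiece ℐ d) := shiftDecomposition ℐ d
    have : SetLike.GradedSMul 𝒜 (shiftPiece ℐ d) := shift_gradedSMul 𝒜 ℐ d
    obtain ⟨χ, _, hχ⟩ := starInj_shift 𝒜 ℐ hI d (GrLC.GMod.of 𝒜 K 𝒦) (GrLC.GMod.of 𝒜 F ℱ) φ hφgr hφinj
      (comp 𝒜 𝒦 ℐ d ψ) (comp_isGrHom 𝒜 𝒦 ℐ d ψ)
    exact ⟨χ, hχ⟩
  choose χ hχ using hd
  refine ⟨∑ d ∈ S, χ d, ?_⟩
  apply LinearMap.ext
  intro x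
  rw [LinearMap.comp_apply, LinearMap.sum_apply]
  conv_rhs => rw [hS, LinearMap.sum_apply]
  apply Finset.sum_congr rfl
  intro d _
  exact LinearMap.congr_fun (hχ d) x

/-- graded free cover of the submodule generated by finitely many homogeneous elements -/
theorem exists_free_cover (T : Finset (ι × K)) (hT : ∀ p ∈ T, p.2 ∈ 𝒦 p.1) :
    ∃ (F : GrLC.GMod.{u} 𝒜) (π : F.carrier →ₗ[R] K), Module.Projective R F.carrier ∧
      Module.Finite R F.carrier ∧ GrLC.IsGrHom F.gr 𝒦 π ∧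
      LinearMap.range π = Submodule.span R (Prod.snd '' (T : Set (ι × K))) := by
  classical
  induction T using Finset.induction_on with
  | empty =>
    refine ⟨GrLC.GMod.of 𝒜 R 𝒜, 0, inferInstanceAs (Module.Projective R R),
      inferInstanceAs (Module.Finite R R), fun g x _ => zero_mem _, ?_⟩
    rw [Finset.coe_empty, Set.image_empty, Submodule.span_empty, LinearMap.range_zero]
  | insert a T ha ih =>
    obtain ⟨F, π, hproj, hfin, hπgr, hπ⟩ := ih (fun p hp => hT p (Finset.mem_insert_of_mem hp))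
    let _ : DirectSum.Decomposition (shiftPiece 𝒜 (-a.1)) := shiftDecomposition 𝒜 (-a.1)
    have : SetLike.GradedSMul 𝒜 (shiftPiece 𝒜 (-a.1)) := shift_gradedSMul 𝒜 𝒜 (-a.1)
    let F' : GrLC.GMod.{u} 𝒜 :=
      { carrier := R × F.carrier
        gr := prodPiece (shiftPiece 𝒜 (-a.1)) F.gr }
    have hproj' : Module.Projective R (R × F.carrier) := inferInstance
    have hfin' : Module.Finite R (R × F.carrier) := inferInstance
    refine ⟨F', (LinearMap.toSpanSingleton R K a.2).coprod π, hproj', hfin', ?_, ?_⟩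
    · intro g x hx
      obtain ⟨h1, h2⟩ := (mem_prodPiece (shiftPiece 𝒜 (-a.1)) F.gr).1 hx
      rw [LinearMap.coprod_apply, LinearMap.toSpanSingleton_apply]
      apply add_mem
      · have h3 : x.1 ∈ 𝒜 (g + -a.1) := h1
        have h4 := smul_mem_add 𝒜 𝒦 h3 (hT a (Finset.mem_insert_self a T))
        rwa [neg_add_cancel_right] at h4
      · exact hπgr g _ h2
    · rw [LinearMap.range_coprod, hπ, Finset.coe_insert, Set.image_insert_eq, Submodule.span_insert,
        ← LinearMap.span_singleton_eq_range]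

end Comp

end Groth.Agent.Lib.helper19.GrShift
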