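import Mathlib
import Groth.Prelude.Def_GrLC
import Groth.Agent.Lib.Helper19.GrMod
import Groth.Agent.Lib.Helper19.GrShift
import Groth.Agent.Lib.Helper19.GrLes1
import Groth.Agent.S13212

/-!
# Torsion parts of *injective modules (helper19), Koszul machinery part 2

* `isStarInj_of_retract` : a graded retract of a *injective module is *injective
* `gam_isStarInj` : over a Noetherian graded ring, `Γ_a(I)` is *injective for *injective `I`
  (via "no proper *essential extensions" and Artin–Rees)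
* `quot_gam_isStarInj` : `I / Γ_a(I)` is *injective
-/

set_option autoImplicit false
universe u

namespace Groth.Agent.Lib.helper19.Kz

open GrLC Groth.Agent.Lib.helper19.GrMod Groth.Agent.Lib.helper19.GrShift
  Groth.Agent.Lib.helper19.GrLes

section Retract

variable {ι : Type} [AddCommGroup ι] [DecidableEq ι]
variable {R : Type u} [CommRing R] {𝒜 : ι → AddSubgroup R} [GradedRing 𝒜]
variable {X : Type u} [AddCommGroup X] [Module R X] {𝒳 : ι → AddSubgroup X}
  [DirectSum.Decomposition 𝒳] [SetLike.GradedSMul 𝒜 𝒳]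
variable {N : Type u} [AddCommGroup N] [Module R N] {𝒩 : ι → AddSubgroup N}
  [DirectSum.Decomposition 𝒩] [SetLike.GradedSMul 𝒜 𝒩]

theorem isStarInj_of_retract (hX : IsStarInj 𝒜 𝒳) (s : N →ₗ[R] X) (hs : IsGrHom 𝒩 𝒳 s)
    (r : X →ₗ[R] N) (hr : IsGrHom 𝒳 𝒩 r) (hrs : ∀ y, r (s y) = y) : IsStarInj 𝒜 𝒩 := by
  intro A B f hf hinj g hg
  obtain ⟨h, hh, e⟩ := hX A B f hf hinj (s ∘ₗ g) (fun d x hx => hs d _ (hg d x hx))
  refine ⟨r ∘ₗ h, fun d x hx => hr d _ (hh d x hx), ?_⟩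
  ext x
  have h1 : h (f x) = s (g x) := LinearMap.congr_fun e x
  show r (h (f x)) = g x
  rw [h1, hrs]

end Retract

section Tors

variable {R : Type u} [CommRing R]

/-- uniform torsion exponent on a finitely generated submodule -/
theorem exists_uniform_pow (𝔞 : Ideal R) {W : Type u} [AddCommGroup W] [Module R W]
    (V : Submodule R W) (hV : V.FG)
    (h : ∀ v ∈ V, ∃ t : ℕ, ∀ r ∈ 𝔞 ^ t, r • v = 0) :
    ∃ T : ℕ, ∀ r ∈ 𝔞 ^ T, ∀ v ∈ V, r • v = 0 := by
  classical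
  obtain ⟨S, hS⟩ := hV
  have h' : ∀ s : W, ∃ t : ℕ, s ∈ S → ∀ r ∈ 𝔞 ^ t, r • s = 0 := by
    intro s
    by_cases hs : s ∈ S
    · obtain ⟨t, ht⟩ := h s (hS ▸ Submodule.subset_span hs)
      exact ⟨t, fun _ => ht⟩
    · exact ⟨0, fun h => absurd h hs⟩
  choose t ht using h'
  refine ⟨S.sup t, fun r hr v hv => ?_⟩
  rw [← hS] at hv
  refine Submodule.span_induction (p := fun v _ => r • v = 0) ?_ ?_ ?_ ?_ hv
  · intro s hs
    exact ht s hs r (Ideal.pow_le_pow_right (Finset.le_sup hs) hr)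
  · exact smul_zero r
  · intro v w _ _ hv hw
    rw [smul_add, hv, hw, add_zero]
  · intro c v _ hv
    rw [smul_comm, hv, smul_zero]

end Tors

section Gam

variable {ι : Type} [AddCommGroup ι] [DecidableEq ι]
variable {R : Type u} [CommRing R] [IsNoetherianRing R] {𝒜 : ι → AddSubgroup R} [GradedRing 𝒜]
variable {X : Type u} [AddCommGroup X] [Module R X] {𝒳 : ι → AddSubgroup X}
  [DirectSum.Decomposition 𝒳] [SetLike.GradedSMul 𝒜 𝒳]

/-- a homogeneous element of a *essential extension of an `a`-torsion module is `a`-torsion -/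
theorem torsion_of_isStarEss (a : HomogeneousIdeal 𝒜) {G : Type u} [AddCommGroup G] [Module R G]
    (𝒢 : ι → AddSubgroup G) (hG : ∀ γ : G, γ ∈ gam a.toIdeal G)
    (N : GMod.{u} 𝒜) (f : G →ₗ[R] N.carrier) (hf : IsStarEss 𝒢 N.gr f)
    {g : ι} {n : N.carrier} (hn : n ∈ N.gr g) : ∃ m : ℕ, ∀ r ∈ a.toIdeal ^ m, r • n = 0 := by
  classical
  set U : Submodule R N.carrier := Submodule.span R {n} with hU
  have hfin : Module.Finite R ↥U := Module.Finite.iff_fg.2 (Submodule.fg_span_singleton n)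
  have hnoeth : IsNoetherian R ↥U := isNoetherian_of_isNoetherianRing_of_finite R ↥U
  set V : Submodule R ↥U := (LinearMap.range f).comap U.subtype with hV
  have hVtors : ∀ v ∈ V, ∃ t : ℕ, ∀ r ∈ a.toIdeal ^ t, r • v = 0 := by
    rintro v ⟨γ, hγ⟩
    obtain ⟨t, ht⟩ := hG γ
    refine ⟨t, fun r hr => ?_⟩
    apply Subtype.ext
    show r • (v : N.carrier) = 0
    have h1 : (v : N.carrier) = f γ := hγ.symm
    rw [h1, ← map_smul, ht r hr, map_zero]
  obtain ⟨T, hT⟩ := exists_uniform_pow a.toIdeal V (IsNoetherian.noetherian V) hVtors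
  obtain ⟨c, hc⟩ := Ideal.exists_pow_inf_eq_pow_smul a.toIdeal V
  have hzero : a.toIdeal ^ (T + c) • (⊤ : Submodule R ↥U) ⊓ V = ⊥ := by
    rw [hc (T + c) (Nat.le_add_left c T), Nat.add_sub_cancel, eq_bot_iff]
    refine Submodule.smul_le.2 ?_
    intro r hr v hv
    rw [Submodule.mem_bot]
    exact hT r hr v hv.2
  refine ⟨T + c, ?_⟩
  set P : Submodule R N.carrier := a.toIdeal ^ (T + c) • U with hP
  have hPmem : ∀ y, y ∈ P ↔ ∃ r ∈ a.toIdeal ^ (T + c), r • n = y := by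
    intro y
    rw [hP, hU]
    exact Submodule.mem_smul_span_singleton
  have hPhom : P.IsHomogeneous N.gr := by
    intro e y hy
    obtain ⟨r, hr, rfl⟩ := (hPmem y).1 hy
    rw [decompose_smul_apply' 𝒜 N.gr r hn e]
    exact (hPmem _).2 ⟨_, pow_isHomogeneous 𝒜 a (T + c) (e - g) hr, rfl⟩
  have hPbot : P = ⊥ := by
    by_contra hne
    apply hf.essential P hPhom hne
    rw [eq_bot_iff]
    rintro y ⟨hy1, hy2⟩
    rw [Submodule.mem_bot]
    have hyU : y ∈ U := Submodule.smul_le_right hy1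
    have h1 : (⟨y, hyU⟩ : ↥U) ∈ a.toIdeal ^ (T + c) • (⊤ : Submodule R ↥U) ⊓ V := by
      refine ⟨?_, hy2⟩
      have h2 : y ∈ (a.toIdeal ^ (T + c) • (⊤ : Submodule R ↥U)).map U.subtype := by
        rw [Submodule.map_smul'', Submodule.map_top, Submodule.range_subtype]
        exact hy1
      obtain ⟨w, hw, hwy⟩ := h2
      have : w = ⟨y, hyU⟩ := Subtype.ext hwy
      rwa [this] at hw
    rw [hzero, Submodule.mem_bot] at h1
    exact congrArg Subtype.val h1
  intro r hr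
  have h1 : r • n ∈ P := (hPmem _).2 ⟨r, hr, rfl⟩
  rw [hPbot, Submodule.mem_bot] at h1
  exact h1

/-- `Γ_a(I)` is *injective for a *injective `I` -/
theorem gam_isStarInj (hX : IsStarInj 𝒜 𝒳) (a : HomogeneousIdeal 𝒜)
    [DirectSum.Decomposition (subPiece 𝒳 (gam a.toIdeal X))]
    [SetLike.GradedSMul 𝒜 (subPiece 𝒳 (gam a.toIdeal X))] :
    IsStarInj 𝒜 (subPiece 𝒳 (gam a.toIdeal X)) := by
  classical
  apply Groth.Agent.S13212.backward
  intro N f hf
  obtain ⟨h, hhgr, hh⟩ := hX (GMod.of 𝒜 ↥(gam a.toIdeal X) (subPiece 𝒳 (gam a.toIdeal X))) N f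
    hf.grHom hf.injective (gam a.toIdeal X).subtype (subtype_isGrHom 𝒳 (gam a.toIdeal X))
  have hh' : ∀ γ : ↥(gam a.toIdeal X), h (f γ) = (γ : X) := fun γ => LinearMap.congr_fun hh γ
  have hinj : Function.Injective h := by
    rw [← LinearMap.ker_eq_bot]
    by_contra hne
    apply hf.essential _ (ker_isHomogeneous N.gr 𝒳 h hhgr) hne
    rw [eq_bot_iff]
    rintro y ⟨hy1, ⟨γ, rfl⟩⟩
    rw [SetLike.mem_coe, LinearMap.mem_ker, hh'] at hy1
    have : γ = 0 := Subtype.ext hy1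
    rw [this, map_zero]
    exact zero_mem _
  have hGtors : ∀ γ : ↥(gam a.toIdeal X), γ ∈ gam a.toIdeal ↥(gam a.toIdeal X) := by
    intro γ
    obtain ⟨t, ht⟩ := γ.2
    exact ⟨t, fun r hr => Subtype.ext (ht r hr)⟩
  have hmem : ∀ n : N.carrier, h n ∈ gam a.toIdeal X := by
    intro n
    induction n using DirectSum.Decomposition.inductionOn N.gr with
    | zero => rw [map_zero]; exact zero_mem _
    | @homogeneous g y =>
      obtain ⟨m, hm⟩ := torsion_of_isStarEss a (subPiece 𝒳 (gam a.toIdeal X)) hGtors N f hf y.2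
      exact ⟨m, fun r hr => by rw [← map_smul, hm r hr, map_zero]⟩
    | add y z hy hz => rw [map_add]; exact add_mem hy hz
  intro n
  refine ⟨⟨h n, hmem n⟩, ?_⟩
  apply hinj
  rw [hh']

/-- `I / Γ_a(I)` is *injective for a *injective `I` -/
theorem quot_gam_isStarInj (hX : IsStarInj 𝒜 𝒳) (a : HomogeneousIdeal 𝒜)
    [DirectSum.Decomposition (quotPiece 𝒳 (gam a.toIdeal X))]
    [SetLike.GradedSMul 𝒜 (quotPiece 𝒳 (gam a.toIdeal X))] :
    IsStarInj 𝒜 (quotPiece 𝒳 (gam a.toIdeal X)) := by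
  classical
  letI : DirectSum.Decomposition (subPiece 𝒳 (gam a.toIdeal X)) :=
    subDecomposition 𝒳 _ (gam_isHomogeneous 𝒜 a 𝒳)
  letI : SetLike.GradedSMul 𝒜 (subPiece 𝒳 (gam a.toIdeal X)) := sub_gradedSMul 𝒜 𝒳 _
  have hΓ := gam_isStarInj hX a
  obtain ⟨ρ, hρgr, hρ⟩ := hΓ (GMod.of 𝒜 ↥(gam a.toIdeal X) (subPiece 𝒳 (gam a.toIdeal X)))
    (GMod.of 𝒜 X 𝒳) (gam a.toIdeal X).subtype (subtype_isGrHom 𝒳 _)
    (Submodule.injective_subtype _) LinearMap.id (fun _ _ hx => hx)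
  have hρ' : ∀ γ : ↥(gam a.toIdeal X), ρ (γ : X) = γ := fun γ => LinearMap.congr_fun hρ γ
  let s0 : X →ₗ[R] X := LinearMap.id - (gam a.toIdeal X).subtype ∘ₗ ρ
  have hs0 : gam a.toIdeal X ≤ LinearMap.ker s0 := by
    intro γ hγ
    rw [LinearMap.mem_ker]
    show γ - ((ρ γ : ↥(gam a.toIdeal X)) : X) = 0
    have := hρ' ⟨γ, hγ⟩
    rw [this, sub_self]
  refine isStarInj_of_retract hX ((gam a.toIdeal X).liftQ s0 hs0) ?_ (gam a.toIdeal X).mkQ
    (mkQ_isGrHom 𝒳 _) ?_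
  · rintro g q ⟨y, hy, rfl⟩
    show y - ((ρ y : ↥(gam a.toIdeal X)) : X) ∈ 𝒳 g
    exact sub_mem hy (hρgr g y hy)
  · intro q
    obtain ⟨y, rfl⟩ := Submodule.mkQ_surjective _ q
    show (gam a.toIdeal X).mkQ (y - ((ρ y : ↥(gam a.toIdeal X)) : X)) = _
    rw [map_sub, sub_eq_self]
    exact (Submodule.Quotient.mk_eq_zero _).2 (ρ y).2

end Gam

end Groth.Agent.Lib.helper19.Kz
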