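import Mathlib
import Groth.Agent.Lib.Helper19.LCBridge
import Groth.Agent.Lib.Helper19.LCZero
import Groth.Agent.Lib.Helper19.LCAcyclic
import Groth.Agent.Lib.Helper19.LCRes
open CategoryTheory
universe u

/-! Vanishing of local cohomology by induction on the number of generators, for a fixed module. -/

namespace Groth.Agent.Lib.helper19.LCGen
open Groth.Agent.Lib.helper19.LCBridge Groth.Agent.Lib.helper19.LCZero
  Groth.Agent.Lib.helper19.LCRes

section Bot
variable {R : Type u} [CommRing R]

theorem H_bot_vanish (M : Type u) [AddCommGroup M] [Module R M] (i : ℕ) (hi : 0 < i) :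
    Subsingleton ((localCohomology (⊥ : Ideal R) i).obj (ModuleCat.of R M) : ModuleCat.{u} R) := by
  obtain ⟨q, rfl⟩ : ∃ q, i = q + 1 := ⟨i - 1, by lia⟩
  apply subsingleton_of_stages
  intro n
  cases n with
  | zero =>
    have hsub : Subsingleton (R ⧸ (⊥ : Ideal R) ^ 0) := by
      rw [pow_zero, Ideal.one_eq_top]
      exact Submodule.Quotient.subsingleton_iff.2 rfl
    have h0 : 𝟙 (ModuleCat.of R (R ⧸ (⊥ : Ideal R) ^ 0)) = 0 := by
      apply ModuleCat.hom_ext
      apply LinearMap.ext
      intro x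
      exact Subsingleton.elim _ _
    refine ⟨fun x y => ?_⟩
    rw [← Abelian.Ext.mk₀_id_comp x, ← Abelian.Ext.mk₀_id_comp y, h0, Abelian.Ext.mk₀_zero,
      Abelian.Ext.zero_comp, Abelian.Ext.zero_comp]
  | succ n =>
    have hproj : Module.Projective R (R ⧸ (⊥ : Ideal R) ^ (n + 1)) := by
      have hb : (⊥ : Ideal R) ^ (n + 1) = ⊥ := by
        rw [pow_succ, Ideal.mul_bot]
      exact Module.Projective.of_equiv (Submodule.quotEquivOfEqBot _ hb).symm
    have : Projective (ModuleCat.of R (R ⧸ (⊥ : Ideal R) ^ (n + 1))) :=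
      (IsProjective.iff_projective _).1 hproj
    exact ⟨fun x y => by
      rw [Abelian.Ext.eq_zero_of_projective x, Abelian.Ext.eq_zero_of_projective y]⟩

end Bot

section Step
variable {R : Type u} [CommRing R] [IsNoetherianRing R]

/-- adding one generator raises the vanishing range by at most one, for a fixed module -/
theorem vanish_sup_span_fixed (a : Ideal R) (b : R) (r : ℕ)
    (M : Type u) [AddCommGroup M] [Module R M]
    (ha : ∀ (q : ℕ), r < q →
      Subsingleton ((localCohomology a q).obj (ModuleCat.of R M) : ModuleCat.{u} R))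
    (i : ℕ) (hi : r + 1 < i) :
    Subsingleton ((localCohomology (a ⊔ Ideal.span {b}) i).obj (ModuleCat.of R M) :
      ModuleCat.{u} R) := by
  obtain ⟨j, rfl⟩ : ∃ j, i = j + 2 := ⟨i - 2, by lia⟩
  apply H_subsingleton_of_coboundary (a ⊔ Ideal.span {b}) M (j + 1)
  intro z hz hdz
  obtain ⟨hza, k, hzk⟩ := (mem_torsionSub_sup_span_iff a b z).1 hz
  obtain ⟨y, hy, hyz⟩ := cocycle_is_coboundary a M (j + 1) (ha (j + 2) (by lia)) z hza hdz
  have hbky : b ^ k • y ∈ DRing.torsionSub a (resX (ModuleCat.of R M) (j + 1)) :=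
    Submodule.smul_mem _ _ hy
  have hdbky : resD (ModuleCat.of R M) (j + 1) (b ^ k • y) = 0 := by
    rw [map_smul, hyz, hzk]
  obtain ⟨w, hw, hwy⟩ := cocycle_is_coboundary a M j (ha (j + 1) (by lia)) _ hbky hdbky
  have hinj : Module.Injective R (DRing.torsionSub a (resX (ModuleCat.of R M) j)) :=
    torsionSub_injective a _ (resX_injective (ModuleCat.of R M) j)
  obtain ⟨w', m, hw'⟩ := exists_div_of_injective _ hinj b k
    (⟨w, hw⟩ : DRing.torsionSub a (resX (ModuleCat.of R M) j))
  have hw'' : b ^ m • (b ^ k • (w' : resX (ModuleCat.of R M) j) - w) = 0 :=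
    congrArg Subtype.val hw'
  refine ⟨y - resD (ModuleCat.of R M) j w', ?_, ?_⟩
  · rw [mem_torsionSub_sup_span_iff]
    refine ⟨Submodule.sub_mem _ hy ?_, m + k, ?_⟩
    · obtain ⟨n, hn⟩ := w'.2
      exact ⟨n, fun s hs => by rw [← map_smul, hn s hs, map_zero]⟩
    · rw [pow_add, mul_smul, smul_sub, ← hwy, ← map_smul (resD (ModuleCat.of R M) j) (b ^ k),
        ← map_sub, ← map_smul, ← neg_sub, smul_neg, hw'', neg_zero, map_zero]
  · rw [map_sub, resD_comp, sub_zero, hyz]

/-- the degree one step, under a divisibility hypothesis on `Γ_a(M)` -/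
theorem vanish_sup_span_one (a : Ideal R) (b : R)
    (M : Type u) [AddCommGroup M] [Module R M]
    (h1 : Subsingleton ((localCohomology a 1).obj (ModuleCat.of R M) : ModuleCat.{u} R))
    (hdiv : ∀ w ∈ DRing.torsionSub a M, ∀ k : ℕ,
      ∃ w' ∈ DRing.torsionSub a M, ∃ m : ℕ, b ^ m • (b ^ k • w' - w) = 0) :
    Subsingleton ((localCohomology (a ⊔ Ideal.span {b}) 1).obj (ModuleCat.of R M) :
      ModuleCat.{u} R) := by
  apply H_subsingleton_of_coboundary (a ⊔ Ideal.span {b}) M 0
  intro z hz hdz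
  obtain ⟨hza, k, hzk⟩ := (mem_torsionSub_sup_span_iff a b z).1 hz
  obtain ⟨y, hy, hyz⟩ := cocycle_is_coboundary a M 0 h1 z hza hdz
  have hdbky : b ^ k • y ∈ LinearMap.ker (resD (ModuleCat.of R M) 0) := by
    rw [LinearMap.mem_ker, map_smul, hyz, hzk]
  rw [res_exact_zero] at hdbky
  obtain ⟨w, hw⟩ := hdbky
  have hwa : w ∈ DRing.torsionSub a M := by
    obtain ⟨n, hn⟩ := hy
    refine ⟨n, fun s hs => ?_⟩
    apply resε_injective (ModuleCat.of R M)
    rw [map_smul, hw, map_zero, smul_comm, hn s hs, smul_zero]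
  obtain ⟨w', hw'a, m, hw'⟩ := hdiv w hwa k
  refine ⟨y - resε (ModuleCat.of R M) w', ?_, ?_⟩
  · rw [mem_torsionSub_sup_span_iff]
    refine ⟨Submodule.sub_mem _ hy ?_, m + k, ?_⟩
    · obtain ⟨n, hn⟩ := hw'a
      exact ⟨n, fun s hs => by rw [← map_smul, hn s hs, map_zero]⟩
    · rw [pow_add, mul_smul, smul_sub, ← hw, ← map_smul (resε (ModuleCat.of R M)) (b ^ k),
        ← map_sub, ← map_smul, ← neg_sub, smul_neg, hw', neg_zero, map_zero]
  · have h0 : resε (ModuleCat.of R M) w' ∈ LinearMap.ker (resD (ModuleCat.of R M) 0) := by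
      rw [res_exact_zero]
      exact ⟨w', rfl⟩
    have h0' : resD (ModuleCat.of R M) 0 (resε (ModuleCat.of R M) w') = 0 := h0
    rw [map_sub, h0', sub_zero, hyz]

/-- vanishing in positive degrees by induction on generators, under divisibility hypotheses -/
theorem vanish_of_div (M : Type u) [AddCommGroup M] [Module R M] (s : Finset R)
    (hdiv : ∀ t : Finset R, t ⊆ s → ∀ b ∈ s,
      ∀ w ∈ DRing.torsionSub (Ideal.span (t : Set R)) M, ∀ k : ℕ,
      ∃ w' ∈ DRing.torsionSub (Ideal.span (t : Set R)) M, ∃ m : ℕ, b ^ m • (b ^ k • w' - w) = 0) :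
    ∀ t : Finset R, t ⊆ s → ∀ i : ℕ, 0 < i →
      Subsingleton ((localCohomology (Ideal.span (t : Set R)) i).obj (ModuleCat.of R M) :
        ModuleCat.{u} R) := by
  classical
  intro t
  induction t using Finset.induction_on with
  | empty =>
    intro _ i hi
    have h0 : Ideal.span ((∅ : Finset R) : Set R) = ⊥ := by
      rw [Finset.coe_empty, Ideal.span_empty]
    rw [h0]
    exact H_bot_vanish M i hi
  | insert b t hb ih =>
    intro ht i hi
    have hts : t ⊆ s := (Finset.subset_insert b t).trans ht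
    have hbs : b ∈ s := ht (Finset.mem_insert_self b t)
    have h0 : Ideal.span ((insert b t : Finset R) : Set R) =
        Ideal.span (t : Set R) ⊔ Ideal.span {b} := by
      rw [Finset.coe_insert, Ideal.span_insert, sup_comm]
    rw [h0]
    rcases Nat.lt_or_ge 1 i with h | h
    · exact vanish_sup_span_fixed (Ideal.span (t : Set R)) b 0 M
        (fun q hq => ih hts q hq) i (by lia)
    · obtain rfl : i = 1 := by lia
      exact vanish_sup_span_one (Ideal.span (t : Set R)) b M (ih hts 1 one_pos)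
        (hdiv t hts b hbs)

end Step

end Groth.Agent.Lib.helper19.LCGen
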