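import Mathlib
import Groth.Prelude.Def_GrLC
import Groth.Agent.Lib.Helper19.GrMod
import Groth.Agent.Lib.Helper19.GrLes1

/-!
# Graded homological algebra for `GrLC.StarInjRes` (helper19), part 2

* `exists_cmap` : lifting of a graded map to *injective resolutions
* `Hmap_eq` : two lifts induce the same map on `Γ_a`-cohomology
* `Hmap_bijective_of_id` : comparison isomorphism
-/

set_option autoImplicit false
universe u

namespace Groth.Agent.Lib.helper19.GrLes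

open GrLC Groth.Agent.Lib.helper19.GrMod

section Lift

variable {ι : Type} [AddCommGroup ι] [DecidableEq ι]
variable {R : Type u} [CommRing R] {𝒜 : ι → AddSubgroup R} [GradedRing 𝒜]
variable {M : Type u} [AddCommGroup M] [Module R M] {ℳ : ι → AddSubgroup M}
  [DirectSum.Decomposition ℳ] [SetLike.GradedSMul 𝒜 ℳ]
variable {N : Type u} [AddCommGroup N] [Module R N] {𝒩 : ι → AddSubgroup N}
  [DirectSum.Decomposition 𝒩] [SetLike.GradedSMul 𝒜 𝒩]

theorem d_ε (F : StarInjRes 𝒜 𝒩) (y : N) : F.d 0 (F.ε y) = 0 := by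
  have : F.ε y ∈ LinearMap.ker (F.d 0) := by
    rw [F.exact_zero]
    exact ⟨y, rfl⟩
  exact this

theorem d_d (F : StarInjRes 𝒜 𝒩) (n : ℕ) (y : (F.X n).carrier) : F.d (n + 1) (F.d n y) = 0 := by
  have : F.d n y ∈ LinearMap.ker (F.d (n + 1)) := by
    rw [F.exact_succ]
    exact ⟨y, rfl⟩
  exact this

theorem exists_of_d_zero (F : StarInjRes 𝒜 𝒩) {x : (F.X 0).carrier} (hx : F.d 0 x = 0) :
    ∃ y, F.ε y = x := by
  have : x ∈ LinearMap.ker (F.d 0) := hx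
  rw [F.exact_zero] at this
  exact this

theorem exists_of_d_succ (F : StarInjRes 𝒜 𝒩) (n : ℕ) {x : (F.X (n + 1)).carrier}
    (hx : F.d (n + 1) x = 0) : ∃ y, F.d n y = x := by
  have : x ∈ LinearMap.ker (F.d (n + 1)) := hx
  rw [F.exact_succ] at this
  exact this

/-- lifting a graded map to the resolutions -/
theorem exists_cmap (E : StarInjRes 𝒜 ℳ) (F : StarInjRes 𝒜 𝒩) (f : M →ₗ[R] N) (hf : IsGrHom ℳ 𝒩 f) :
    Nonempty (CMap E F f) := by
  classical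
  obtain ⟨φ0, hφ0gr, hφ0⟩ := extend_of_ker_le 𝒜 (GMod.of 𝒜 M ℳ) (E.X 0) (F.X 0) (F.starInj 0) E.ε
    E.ε_grHom (F.ε ∘ₗ f) (fun d x hx => F.ε_grHom d _ (hf d x hx))
    (by
      intro x hx
      have hx' : E.ε x = 0 := hx
      have : x = 0 := E.ε_injective (hx'.trans (map_zero _).symm)
      rw [this]
      exact zero_mem _)
  have hA : LinearMap.ker (E.d 0) ≤ LinearMap.ker (F.d 0 ∘ₗ φ0) := by
    intro x hx
    obtain ⟨m, rfl⟩ := exists_of_d_zero E hx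
    show F.d 0 (φ0 (E.ε m)) = 0
    have : φ0 (E.ε m) = F.ε (f m) := congrArg (fun ψ => ψ m) hφ0
    rw [this, d_ε]
  have hB : ∀ n (t : (E.X n).carrier →ₗ[R] (F.X n).carrier),
      (IsGrHom (E.X n).gr (F.X n).gr t ∧ LinearMap.ker (E.d n) ≤ LinearMap.ker (F.d n ∘ₗ t)) →
      ∃ t' : (E.X (n + 1)).carrier →ₗ[R] (F.X (n + 1)).carrier,
        (IsGrHom (E.X (n + 1)).gr (F.X (n + 1)).gr t' ∧
          LinearMap.ker (E.d (n + 1)) ≤ LinearMap.ker (F.d (n + 1) ∘ₗ t')) ∧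
        t' ∘ₗ E.d n = F.d n ∘ₗ t := by
    rintro n t ⟨htgr, htker⟩
    obtain ⟨t', ht'gr, ht'⟩ := extend_of_ker_le 𝒜 (E.X n) (E.X (n + 1)) (F.X (n + 1)) (F.starInj (n + 1))
      (E.d n) (E.d_grHom n) (F.d n ∘ₗ t) (fun d x hx => F.d_grHom n d _ (htgr d x hx)) htker
    refine ⟨t', ⟨ht'gr, ?_⟩, ht'⟩
    intro x hx
    obtain ⟨w, rfl⟩ := exists_of_d_succ E n hx
    show F.d (n + 1) (t' (E.d n w)) = 0
    have : t' (E.d n w) = F.d n (t w) := congrArg (fun ψ => ψ w) ht'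
    rw [this, d_d]
  obtain ⟨t, ht0, hInv, hRel⟩ := exists_dep_seq
    (α := fun n => (E.X n).carrier →ₗ[R] (F.X n).carrier)
    (fun n t => IsGrHom (E.X n).gr (F.X n).gr t ∧ LinearMap.ker (E.d n) ≤ LinearMap.ker (F.d n ∘ₗ t))
    (fun n t t' => t' ∘ₗ E.d n = F.d n ∘ₗ t)
    φ0 ⟨hφ0gr, hA⟩ hB
  exact ⟨{ φ := t
           gr := fun n => (hInv n).1
           aug := by rw [ht0]; exact hφ0
           comm := hRel }⟩

/-- existence of a homotopy between two lifts of the same map -/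
theorem exists_homotopy {E : StarInjRes 𝒜 ℳ} {F : StarInjRes 𝒜 𝒩} {f : M →ₗ[R] N}
    (c c' : CMap E F f) :
    ∃ s : ∀ n, (E.X (n + 1)).carrier →ₗ[R] (F.X n).carrier,
      (∀ x, c.φ 0 x - c'.φ 0 x = s 0 (E.d 0 x)) ∧
      ∀ n x, c.φ (n + 1) x - c'.φ (n + 1) x = s (n + 1) (E.d (n + 1) x) + F.d n (s n x) := by
  classical
  have hΔgr : ∀ n, IsGrHom (E.X n).gr (F.X n).gr (c.φ n - c'.φ n) :=
    fun n d x hx => sub_mem (c.gr n d x hx) (c'.gr n d x hx)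
  have hΔcomm : ∀ n x, (c.φ (n + 1) - c'.φ (n + 1)) (E.d n x) = F.d n ((c.φ n - c'.φ n) x) := by
    intro n x
    rw [LinearMap.sub_apply, LinearMap.sub_apply, c.comm_apply, c'.comm_apply, map_sub]
  obtain ⟨t0, ht0gr, ht0⟩ := extend_of_ker_le 𝒜 (E.X 0) (E.X 1) (F.X 0) (F.starInj 0) (E.d 0)
    (E.d_grHom 0) (c.φ 0 - c'.φ 0) (hΔgr 0)
    (by
      intro x hx
      obtain ⟨m, rfl⟩ := exists_of_d_zero E hx
      show (c.φ 0 - c'.φ 0) (E.ε m) = 0
      rw [LinearMap.sub_apply, c.aug_apply, c'.aug_apply, sub_self])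
  have ht0' : ∀ x, t0 (E.d 0 x) = (c.φ 0 - c'.φ 0) x := fun x => congrArg (fun ψ => ψ x) ht0
  have hB : ∀ n (t : (E.X (n + 1)).carrier →ₗ[R] (F.X n).carrier),
      (IsGrHom (E.X (n + 1)).gr (F.X n).gr t ∧
        ∀ x, F.d n ((c.φ n - c'.φ n) x - t (E.d n x)) = 0) →
      ∃ t' : (E.X (n + 1 + 1)).carrier →ₗ[R] (F.X (n + 1)).carrier,
        (IsGrHom (E.X (n + 1 + 1)).gr (F.X (n + 1)).gr t' ∧
          ∀ x, F.d (n + 1) ((c.φ (n + 1) - c'.φ (n + 1)) x - t' (E.d (n + 1) x)) = 0) ∧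
        ∀ x, t' (E.d (n + 1) x) = (c.φ (n + 1) - c'.φ (n + 1)) x - F.d n (t x) := by
    rintro n t ⟨htgr, htinv⟩
    obtain ⟨t', ht'gr, ht'⟩ := extend_of_ker_le 𝒜 (E.X (n + 1)) (E.X (n + 2)) (F.X (n + 1))
      (F.starInj (n + 1)) (E.d (n + 1)) (E.d_grHom (n + 1))
      ((c.φ (n + 1) - c'.φ (n + 1)) - F.d n ∘ₗ t)
      (fun d x hx => sub_mem (hΔgr (n + 1) d x hx) (F.d_grHom n d _ (htgr d x hx)))
      (by
        intro x hx
        obtain ⟨w, rfl⟩ := exists_of_d_succ E n hx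
        show ((c.φ (n + 1) - c'.φ (n + 1)) - F.d n ∘ₗ t) (E.d n w) = 0
        rw [LinearMap.sub_apply, hΔcomm, LinearMap.comp_apply, ← map_sub]
        exact htinv w)
    have ht'' : ∀ x, t' (E.d (n + 1) x) = (c.φ (n + 1) - c'.φ (n + 1)) x - F.d n (t x) :=
      fun x => congrArg (fun ψ => ψ x) ht'
    refine ⟨t', ⟨ht'gr, fun x => ?_⟩, ht''⟩
    rw [ht'' x, sub_sub_cancel, d_d]
  obtain ⟨t, ht0eq, hInv, hRel⟩ := exists_dep_seq
    (α := fun n => (E.X (n + 1)).carrier →ₗ[R] (F.X n).carrier)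
    (fun n t => IsGrHom (E.X (n + 1)).gr (F.X n).gr t ∧
      ∀ x, F.d n ((c.φ n - c'.φ n) x - t (E.d n x)) = 0)
    (fun n t t' => ∀ x, t' (E.d (n + 1) x) = (c.φ (n + 1) - c'.φ (n + 1)) x - F.d n (t x))
    t0 ⟨ht0gr, fun x => by rw [ht0', sub_self, map_zero]⟩ hB
  refine ⟨t, ?_, ?_⟩
  · intro x
    rw [ht0eq, ht0']
    rfl
  · intro n x
    rw [hRel n x, LinearMap.sub_apply]
    abel

/-- two lifts of the same map induce the same map on cohomology -/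
theorem Hmap_eq {E : StarInjRes 𝒜 ℳ} {F : StarInjRes 𝒜 𝒩} {f : M →ₗ[R] N}
    (c c' : CMap E F f) (a : HomogeneousIdeal 𝒜) (n : ℕ) : c.Hmap a n = c'.Hmap a n := by
  obtain ⟨s, hs0, hs⟩ := exists_homotopy c c'
  apply LinearMap.ext
  intro y
  obtain ⟨z, rfl⟩ := Submodule.mkQ_surjective _ y
  show F.toH a n (c.cocycMap a n z) = F.toH a n (c'.cocycMap a n z)
  rw [Submodule.mkQ_apply, Submodule.mkQ_apply, Submodule.Quotient.eq]
  show ((c.cocycMap a n z - c'.cocycMap a n z : ↥(F.cocyc a n)) : (F.X n).carrier) ∈ F.cobdy a n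
  rw [Submodule.coe_sub, CMap.coe_cocycMap, CMap.coe_cocycMap]
  have hzd : E.d n z = 0 := z.2.2
  cases n with
  | zero =>
    rw [hs0, hzd, map_zero]
    exact zero_mem _
  | succ n =>
    rw [hs n, hzd, map_zero, zero_add]
    exact ⟨s n z, gam_map a.toIdeal (s n) z.2.1, rfl⟩

theorem Hmap_eq' {E : StarInjRes 𝒜 ℳ} {F : StarInjRes 𝒜 𝒩} {f f' : M →ₗ[R] N}
    (c : CMap E F f) (c' : CMap E F f') (h : f = f') (a : HomogeneousIdeal 𝒜) (n : ℕ) :
    c.Hmap a n = c'.Hmap a n := by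
  subst h
  exact Hmap_eq c c' a n

/-- any lift of the identity between two resolutions of the same module is bijective on cohomology -/
theorem Hmap_bijective_of_id {E F : StarInjRes 𝒜 ℳ} (c : CMap E F LinearMap.id)
    (a : HomogeneousIdeal 𝒜) (n : ℕ) : Function.Bijective (c.Hmap a n) := by
  obtain ⟨c'⟩ := exists_cmap F E (LinearMap.id : M →ₗ[R] M) (fun _ _ hx => hx)
  have h1 : ∀ y, c'.Hmap a n (c.Hmap a n y) = y := by
    intro y
    rw [← CMap.Hmap_comp, Hmap_eq' (c.comp c') (CMap.id E) rfl, CMap.Hmap_id]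
  have h2 : ∀ y, c.Hmap a n (c'.Hmap a n y) = y := by
    intro y
    rw [← CMap.Hmap_comp, Hmap_eq' (c'.comp c) (CMap.id F) rfl, CMap.Hmap_id]
  exact ⟨Function.LeftInverse.injective h1, Function.RightInverse.surjective h2⟩

end Lift

end Groth.Agent.Lib.helper19.GrLes
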