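import Mathlib
import Groth.Prelude.Def_GrLC
import Groth.Agent.Lib.Helper19.GrMod
import Groth.Agent.Lib.Helper19.GrLes1
import Groth.Agent.Lib.Helper19.GrLes2

/-!
# Graded homological algebra for `GrLC.StarInjRes` (helper19), part 3: the horseshoe resolution
-/

set_option autoImplicit false
universe u

namespace Groth.Agent.Lib.helper19.GrLes

open GrLC Groth.Agent.Lib.helper19.GrMod

section Basic

variable {ι : Type} [AddCommGroup ι] [DecidableEq ι]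
variable {R : Type u} [CommRing R] {𝒜 : ι → AddSubgroup R} [GradedRing 𝒜]
variable {M : Type u} [AddCommGroup M] [Module R M] {ℳ : ι → AddSubgroup M}
  [DirectSum.Decomposition ℳ] [SetLike.GradedSMul 𝒜 ℳ]

theorem toH_eq_zero_iff (E : StarInjRes 𝒜 ℳ) (a : HomogeneousIdeal 𝒜) (n : ℕ) (z : ↥(E.cocyc a n)) :
    E.toH a n z = 0 ↔ (z : (E.X n).carrier) ∈ E.cobdy a n := by
  rw [Submodule.mkQ_apply, Submodule.Quotient.mk_eq_zero]
  rfl

theorem toH_eq_iff (E : StarInjRes 𝒜 ℳ) (a : HomogeneousIdeal 𝒜) (n : ℕ) (z w : ↥(E.cocyc a n)) :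
    E.toH a n z = E.toH a n w ↔ (z : (E.X n).carrier) - w ∈ E.cobdy a n := by
  rw [Submodule.mkQ_apply, Submodule.mkQ_apply, Submodule.Quotient.eq]
  rfl

theorem mem_cobdy_succ (E : StarInjRes 𝒜 ℳ) (a : HomogeneousIdeal 𝒜) (n : ℕ) (x : (E.X (n + 1)).carrier) :
    x ∈ E.cobdy a (n + 1) ↔ ∃ w ∈ gam a.toIdeal (E.X n).carrier, E.d n w = x := Iff.rfl

theorem mem_cobdy_zero (E : StarInjRes 𝒜 ℳ) (a : HomogeneousIdeal 𝒜) (x : (E.X 0).carrier) :
    x ∈ E.cobdy a 0 ↔ x = 0 := Iff.rfl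

theorem mem_cocyc (E : StarInjRes 𝒜 ℳ) (a : HomogeneousIdeal 𝒜) (n : ℕ) (x : (E.X n).carrier) :
    x ∈ E.cocyc a n ↔ x ∈ gam a.toIdeal (E.X n).carrier ∧ E.d n x = 0 := Iff.rfl

end Basic

section Horseshoe

variable {ι : Type} [AddCommGroup ι] [DecidableEq ι]
variable {R : Type u} [CommRing R] {𝒜 : ι → AddSubgroup R} [GradedRing 𝒜]
variable {M' : Type u} [AddCommGroup M'] [Module R M'] {ℳ' : ι → AddSubgroup M'}
  [DirectSum.Decomposition ℳ'] [SetLike.GradedSMul 𝒜 ℳ']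
variable {M : Type u} [AddCommGroup M] [Module R M] {ℳ : ι → AddSubgroup M}
  [DirectSum.Decomposition ℳ] [SetLike.GradedSMul 𝒜 ℳ]
variable {M'' : Type u} [AddCommGroup M''] [Module R M''] {ℳ'' : ι → AddSubgroup M''}
  [DirectSum.Decomposition ℳ''] [SetLike.GradedSMul 𝒜 ℳ'']

/-- the data needed to build the horseshoe resolution -/
structure HS (E' : StarInjRes 𝒜 ℳ') (E'' : StarInjRes 𝒜 ℳ'') (ℳ : ι → AddSubgroup M)
    (i : M' →ₗ[R] M) (p : M →ₗ[R] M'') where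
  α : M →ₗ[R] (E'.X 0).carrier
  α_gr : IsGrHom ℳ (E'.X 0).gr α
  α_i : ∀ m', α (i m') = E'.ε m'
  θ : ∀ n, (E''.X n).carrier →ₗ[R] (E'.X (n + 1)).carrier
  θ_gr : ∀ n, IsGrHom (E''.X n).gr (E'.X (n + 1)).gr (θ n)
  θ_zero : ∀ m, θ 0 (E''.ε (p m)) = - E'.d 0 (α m)
  θ_succ : ∀ n x, θ (n + 1) (E''.d n x) = - E'.d (n + 1) (θ n x)

theorem exists_hs (E' : StarInjRes 𝒜 ℳ') (E'' : StarInjRes 𝒜 ℳ'')
    (i : M' →ₗ[R] M) (p : M →ₗ[R] M'') (hi : IsGrHom ℳ' ℳ i) (hp : IsGrHom ℳ ℳ'' p)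
    (hinj : Function.Injective i) (hsurj : Function.Surjective p)
    (hex : LinearMap.ker p = LinearMap.range i) :
    Nonempty (HS E' E'' ℳ i p) := by
  classical
  obtain ⟨α, hαgr, hα⟩ := extend_of_ker_le 𝒜 (GMod.of 𝒜 M' ℳ') (GMod.of 𝒜 M ℳ) (E'.X 0) (E'.starInj 0) i hi
    E'.ε E'.ε_grHom
    (by
      intro x hx
      have hx' : i x = 0 := hx
      have : x = 0 := hinj (hx'.trans (map_zero _).symm)
      rw [this]
      exact zero_mem _)
  have hα' : ∀ m', α (i m') = E'.ε m' := fun m' => congrArg (fun ψ => ψ m') hα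
  obtain ⟨θ0, hθ0gr, hθ0⟩ := extend_of_ker_le 𝒜 (GMod.of 𝒜 M ℳ) (E''.X 0) (E'.X 1) (E'.starInj 1)
    (E''.ε ∘ₗ p) (fun d x hx => E''.ε_grHom d _ (hp d x hx))
    (-(E'.d 0 ∘ₗ α)) (fun d x hx => neg_mem (E'.d_grHom 0 d _ (hαgr d x hx)))
    (by
      intro x hx
      have hx' : E''.ε (p x) = 0 := hx
      have hpx : p x = 0 := E''.ε_injective (hx'.trans (map_zero _).symm)
      have hxk : x ∈ LinearMap.ker p := hpx
      rw [hex] at hxk
      obtain ⟨m', rfl⟩ := hxk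
      show (-(E'.d 0 ∘ₗ α)) (i m') = 0
      rw [LinearMap.neg_apply, LinearMap.comp_apply, hα', d_ε, neg_zero])
  have hθ0' : ∀ m, θ0 (E''.ε (p m)) = - E'.d 0 (α m) := fun m => congrArg (fun ψ => ψ m) hθ0
  have hB : ∀ n (t : (E''.X n).carrier →ₗ[R] (E'.X (n + 1)).carrier),
      (IsGrHom (E''.X n).gr (E'.X (n + 1)).gr t ∧
        LinearMap.ker (E''.d n) ≤ LinearMap.ker (E'.d (n + 1) ∘ₗ t)) →
      ∃ t' : (E''.X (n + 1)).carrier →ₗ[R] (E'.X (n + 1 + 1)).carrier,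
        (IsGrHom (E''.X (n + 1)).gr (E'.X (n + 1 + 1)).gr t' ∧
          LinearMap.ker (E''.d (n + 1)) ≤ LinearMap.ker (E'.d (n + 1 + 1) ∘ₗ t')) ∧
        ∀ x, t' (E''.d n x) = - E'.d (n + 1) (t x) := by
    rintro n t ⟨htgr, htker⟩
    obtain ⟨t', ht'gr, ht'⟩ := extend_of_ker_le 𝒜 (E''.X n) (E''.X (n + 1)) (E'.X (n + 2))
      (E'.starInj (n + 2)) (E''.d n) (E''.d_grHom n) (-(E'.d (n + 1) ∘ₗ t))
      (fun d x hx => neg_mem (E'.d_grHom (n + 1) d _ (htgr d x hx)))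
      (by
        intro x hx
        have h1 := htker hx
        have h2 : E'.d (n + 1) (t x) = 0 := h1
        show (-(E'.d (n + 1) ∘ₗ t)) x = 0
        rw [LinearMap.neg_apply, LinearMap.comp_apply, h2, neg_zero])
    have ht'' : ∀ x, t' (E''.d n x) = - E'.d (n + 1) (t x) := fun x => congrArg (fun ψ => ψ x) ht'
    refine ⟨t', ⟨ht'gr, ?_⟩, ht''⟩
    intro x hx
    obtain ⟨w, rfl⟩ := exists_of_d_succ E'' n hx
    show E'.d (n + 2) (t' (E''.d n w)) = 0
    rw [ht'', map_neg, d_d, neg_zero]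
  have hA : LinearMap.ker (E''.d 0) ≤ LinearMap.ker (E'.d 1 ∘ₗ θ0) := by
    intro x hx
    obtain ⟨m'', rfl⟩ := exists_of_d_zero E'' hx
    obtain ⟨m, rfl⟩ := hsurj m''
    show E'.d 1 (θ0 (E''.ε (p m))) = 0
    rw [hθ0', map_neg, d_d, neg_zero]
  obtain ⟨t, ht0, hInv, hRel⟩ := exists_dep_seq
    (α := fun n => (E''.X n).carrier →ₗ[R] (E'.X (n + 1)).carrier)
    (fun n t => IsGrHom (E''.X n).gr (E'.X (n + 1)).gr t ∧
        LinearMap.ker (E''.d n) ≤ LinearMap.ker (E'.d (n + 1) ∘ₗ t))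
    (fun n t t' => ∀ x, t' (E''.d n x) = - E'.d (n + 1) (t x))
    θ0 ⟨hθ0gr, hA⟩ hB
  exact ⟨{ α := α
           α_gr := hαgr
           α_i := hα'
           θ := t
           θ_gr := fun n => (hInv n).1
           θ_zero := by rw [ht0]; exact hθ0'
           θ_succ := hRel }⟩


namespace HS

variable {E' : StarInjRes 𝒜 ℳ'} {E'' : StarInjRes 𝒜 ℳ''} {i : M' →ₗ[R] M} {p : M →ₗ[R] M''}

/-- terms of the horseshoe resolution -/
noncomputable def XX (E' : StarInjRes 𝒜 ℳ') (E'' : StarInjRes 𝒜 ℳ'') (n : ℕ) : GMod.{u} 𝒜 :=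
  GMod.of 𝒜 ((E'.X n).carrier × (E''.X n).carrier) (prodPiece (E'.X n).gr (E''.X n).gr)

/-- differential of the horseshoe resolution -/
noncomputable def dd (h : HS E' E'' ℳ i p) (n : ℕ) :
    (XX E' E'' n).carrier →ₗ[R] (XX E' E'' (n + 1)).carrier :=
  ((E'.d n).coprod (h.θ n)).prod ((E''.d n) ∘ₗ LinearMap.snd R (E'.X n).carrier (E''.X n).carrier)

/-- augmentation of the horseshoe resolution -/
noncomputable def εε (h : HS E' E'' ℳ i p) : M →ₗ[R] (XX E' E'' 0).carrier :=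
  h.α.prod (E''.ε ∘ₗ p)

theorem dd_apply (h : HS E' E'' ℳ i p) (n : ℕ) (x' : (E'.X n).carrier) (x'' : (E''.X n).carrier) :
    h.dd n (x', x'') = (E'.d n x' + h.θ n x'', E''.d n x'') := rfl

theorem εε_apply (h : HS E' E'' ℳ i p) (m : M) : h.εε m = (h.α m, E''.ε (p m)) := rfl

theorem p_i (hex : LinearMap.ker p = LinearMap.range i) (m' : M') : p (i m') = 0 := by
  have : i m' ∈ LinearMap.ker p := by
    rw [hex]
    exact ⟨m', rfl⟩
  exact this

/-- the horseshoe resolution of the middle term -/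
noncomputable def res (h : HS E' E'' ℳ i p) (hp : IsGrHom ℳ ℳ'' p)
    (hsurj : Function.Surjective p) (hex : LinearMap.ker p = LinearMap.range i) : StarInjRes 𝒜 ℳ where
  X := XX E' E''
  d := h.dd
  ε := h.εε
  d_grHom := by
    rintro n g ⟨x', x''⟩ hx
    obtain ⟨h1, h2⟩ := (mem_prodPiece _ _).1 hx
    rw [dd_apply]
    exact (mem_prodPiece _ _).2 ⟨add_mem (E'.d_grHom n g x' h1) (h.θ_gr n g x'' h2), E''.d_grHom n g x'' h2⟩
  ε_grHom := by
    intro g m hm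
    rw [εε_apply]
    exact (mem_prodPiece _ _).2 ⟨h.α_gr g m hm, E''.ε_grHom g _ (hp g m hm)⟩
  ε_injective := by
    rw [injective_iff_map_eq_zero]
    intro m hm
    rw [εε_apply] at hm
    have h1 : h.α m = 0 := congrArg Prod.fst hm
    have h2 : E''.ε (p m) = 0 := congrArg Prod.snd hm
    have hpm : p m = 0 := E''.ε_injective (h2.trans (map_zero _).symm)
    have hmk : m ∈ LinearMap.ker p := hpm
    rw [hex] at hmk
    obtain ⟨m', rfl⟩ := hmk
    rw [h.α_i] at h1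
    have : m' = 0 := E'.ε_injective (h1.trans (map_zero _).symm)
    rw [this, map_zero]
  exact_zero := by
    ext z
    constructor
    · obtain ⟨x', x''⟩ := z
      intro hx
      have hx0 : h.dd 0 (x', x'') = 0 := hx
      rw [dd_apply] at hx0
      have h1 : E'.d 0 x' + h.θ 0 x'' = 0 := congrArg Prod.fst hx0
      have h2 : E''.d 0 x'' = 0 := congrArg Prod.snd hx0
      obtain ⟨m'', rfl⟩ := exists_of_d_zero E'' h2
      obtain ⟨m, rfl⟩ := hsurj m''
      rw [h.θ_zero, ← sub_eq_add_neg, ← map_sub] at h1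
      obtain ⟨m', hm'⟩ := exists_of_d_zero E' h1
      refine ⟨m + i m', ?_⟩
      rw [εε_apply, map_add, map_add, h.α_i, hm', p_i hex, add_zero]
      congr 1
      abel
    · rintro ⟨m, rfl⟩
      show h.dd 0 (h.εε m) = 0
      rw [εε_apply, dd_apply, h.θ_zero, add_neg_cancel, d_ε]
      rfl
  exact_succ := by
    intro n
    ext z
    constructor
    · obtain ⟨y', y''⟩ := z
      intro hy
      have hy0 : h.dd (n + 1) (y', y'') = 0 := hy
      rw [dd_apply] at hy0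
      have h1 : E'.d (n + 1) y' + h.θ (n + 1) y'' = 0 := congrArg Prod.fst hy0
      have h2 : E''.d (n + 1) y'' = 0 := congrArg Prod.snd hy0
      obtain ⟨x'', rfl⟩ := exists_of_d_succ E'' n h2
      rw [h.θ_succ, ← sub_eq_add_neg, ← map_sub] at h1
      obtain ⟨x', hx'⟩ := exists_of_d_succ E' n h1
      refine ⟨(x', x''), ?_⟩
      show h.dd n (x', x'') = _
      rw [dd_apply, hx']
      congr 1
      abel
    · rintro ⟨⟨x', x''⟩, rfl⟩
      show h.dd (n + 1) (h.dd n (x', x'')) = 0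
      rw [dd_apply, dd_apply, map_add, d_d, zero_add, h.θ_succ, add_neg_cancel, d_d]
      rfl
  starInj := fun n => starInj_prod 𝒜 (E'.X n).gr (E''.X n).gr (E'.starInj n) (E''.starInj n)

end HS

end Horseshoe

end Groth.Agent.Lib.helper19.GrLes
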