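import Mathlib
import Groth.Prelude.Def_GrLC
import Groth.Agent.Lib.Helper19.GrMod
import Groth.Agent.Lib.Helper19.GrLes1
import Groth.Agent.Lib.Helper19.GrLes2
import Groth.Agent.Lib.Helper19.GrLes3

/-!
# Graded homological algebra for `GrLC.StarInjRes` (helper19), part 4:
the long exact sequence of the horseshoe resolution
-/

set_option autoImplicit false
universe u

namespace Groth.Agent.Lib.helper19.GrLes

open GrLC Groth.Agent.Lib.helper19.GrMod

section Horseshoe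

variable {ι : Type} [AddCommGroup ι] [DecidableEq ι]
variable {R : Type u} [CommRing R] {𝒜 : ι → AddSubgroup R} [GradedRing 𝒜]
variable {M' : Type u} [AddCommGroup M'] [Module R M'] {ℳ' : ι → AddSubgroup M'}
  [DirectSum.Decomposition ℳ'] [SetLike.GradedSMul 𝒜 ℳ']
variable {M : Type u} [AddCommGroup M] [Module R M] {ℳ : ι → AddSubgroup M}
  [DirectSum.Decomposition ℳ] [SetLike.GradedSMul 𝒜 ℳ]
variable {M'' : Type u} [AddCommGroup M''] [Module R M''] {ℳ'' : ι → AddSubgroup M''}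
  [DirectSum.Decomposition ℳ''] [SetLike.GradedSMul 𝒜 ℳ'']

namespace HS

variable {E' : StarInjRes 𝒜 ℳ'} {E'' : StarInjRes 𝒜 ℳ''} {i : M' →ₗ[R] M} {p : M →ₗ[R] M''}
variable (h : HS E' E'' ℳ i p) (hp : IsGrHom ℳ ℳ'' p)
    (hsurj : Function.Surjective p) (hex : LinearMap.ker p = LinearMap.range i)

/-- the inclusion of `E'` into the horseshoe resolution -/
noncomputable def inl : CMap E' (h.res hp hsurj hex) i where
  φ := fun n => LinearMap.inl R (E'.X n).carrier (E''.X n).carrier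
  gr := fun n g x hx => (mem_prodPiece _ _).2 ⟨hx, zero_mem _⟩
  aug := by
    ext m'
    show ((E'.ε m', 0) : (E'.X 0).carrier × (E''.X 0).carrier) = h.εε (i m')
    rw [εε_apply, h.α_i, p_i hex, map_zero]
  comm := fun n => by
    ext x
    show ((E'.d n x, 0) : (E'.X (n + 1)).carrier × (E''.X (n + 1)).carrier) = h.dd n (x, 0)
    rw [dd_apply, map_zero, add_zero, map_zero]

/-- the projection of the horseshoe resolution onto `E''` -/
noncomputable def snd : CMap (h.res hp hsurj hex) E'' p where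
  φ := fun n => LinearMap.snd R (E'.X n).carrier (E''.X n).carrier
  gr := fun n g x hx => ((mem_prodPiece _ _).1 hx).2
  aug := LinearMap.ext fun _ => rfl
  comm := fun n => LinearMap.ext fun _ => rfl

variable (a : HomogeneousIdeal 𝒜)

theorem d_θ (n : ℕ) (x : (E''.X n).carrier) : E'.d (n + 1) (h.θ n x) = - h.θ (n + 1) (E''.d n x) := by
  rw [h.θ_succ, neg_neg]

theorem θ_cocyc (n : ℕ) : E''.cocyc a n ≤ (E'.cocyc a (n + 1)).comap (h.θ n) := by
  rintro x ⟨hx1, hx2⟩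
  have hx2' : E''.d n x = 0 := hx2
  refine ⟨gam_map a.toIdeal (h.θ n) hx1, ?_⟩
  show E'.d (n + 1) (h.θ n x) = 0
  rw [h.d_θ, hx2', map_zero, neg_zero]

theorem θ_cobdy (n : ℕ) : E''.cobdy a n ≤ (E'.cobdy a (n + 1)).comap (h.θ n) := by
  cases n with
  | zero =>
    intro x hx
    have hx0 : x = 0 := hx
    rw [hx0]
    exact zero_mem _
  | succ n =>
    rintro _ ⟨w, hw, rfl⟩
    refine ⟨- h.θ n w, neg_mem (gam_map a.toIdeal (h.θ n) hw), ?_⟩
    rw [map_neg, h.θ_succ]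

/-- the connecting map on cocycles -/
noncomputable def δc (n : ℕ) : ↥(E''.cocyc a n) →ₗ[R] ↥(E'.cocyc a (n + 1)) :=
  (h.θ n).restrict (h.θ_cocyc a n)

/-- the connecting homomorphism -/
noncomputable def δ (n : ℕ) : E''.H a n →ₗ[R] E'.H a (n + 1) :=
  Submodule.mapQ _ _ (h.δc a n) (fun _ hz => h.θ_cobdy a n hz)

theorem δ_toH (n : ℕ) (z : ↥(E''.cocyc a n)) : h.δ a n (E''.toH a n z) = E'.toH a (n + 1) (h.δc a n z) := rfl

theorem coe_δc (n : ℕ) (z : ↥(E''.cocyc a n)) :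
    ((h.δc a n z : ↥(E'.cocyc a (n + 1))) : (E'.X (n + 1)).carrier) = h.θ n z := rfl

theorem δ_isGrHom (n : ℕ) : IsGrHom (E''.Hgr a n) (E'.Hgr a (n + 1)) (h.δ a n) := by
  rintro d y ⟨z, hz, rfl⟩
  exact ⟨h.δc a n z, h.θ_gr n d _ hz, rfl⟩

theorem mem_gam_res (n : ℕ) (x' : (E'.X n).carrier) (x'' : (E''.X n).carrier) :
    ((x', x'') : ((h.res hp hsurj hex).X n).carrier) ∈ gam a.toIdeal ((h.res hp hsurj hex).X n).carrier ↔
      x' ∈ gam a.toIdeal (E'.X n).carrier ∧ x'' ∈ gam a.toIdeal (E''.X n).carrier :=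
  gam_prod_iff a.toIdeal (X := (E'.X n).carrier) (Y := (E''.X n).carrier) (x', x'')

theorem mem_cocyc_res (n : ℕ) (x' : (E'.X n).carrier) (x'' : (E''.X n).carrier) :
    ((x', x'') : ((h.res hp hsurj hex).X n).carrier) ∈ (h.res hp hsurj hex).cocyc a n ↔
      (x' ∈ gam a.toIdeal (E'.X n).carrier ∧ x'' ∈ gam a.toIdeal (E''.X n).carrier) ∧
        E'.d n x' + h.θ n x'' = 0 ∧ E''.d n x'' = 0 := by
  constructor
  · rintro ⟨h1, h2⟩
    refine ⟨(h.mem_gam_res hp hsurj hex a n x' x'').1 h1, ?_⟩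
    have h3 : h.dd n (x', x'') = 0 := h2
    rw [dd_apply] at h3
    exact ⟨congrArg Prod.fst h3, congrArg Prod.snd h3⟩
  · rintro ⟨h1, h2, h3⟩
    refine ⟨(h.mem_gam_res hp hsurj hex a n x' x'').2 h1, ?_⟩
    show h.dd n (x', x'') = 0
    rw [dd_apply, h2, h3]
    rfl

/-- (E1) -/
theorem inl_injective : Function.Injective ((h.inl hp hsurj hex).Hmap a 0) := by
  rw [injective_iff_map_eq_zero]
  intro y hy
  obtain ⟨z, rfl⟩ := Submodule.mkQ_surjective _ y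
  rw [CMap.Hmap_toH, toH_eq_zero_iff, mem_cobdy_zero] at hy
  have h1 : ((z : (E'.X 0).carrier), (0 : (E''.X 0).carrier)) = 0 := hy
  have h2 : (z : (E'.X 0).carrier) = 0 := congrArg Prod.fst h1
  rw [toH_eq_zero_iff, h2]
  exact zero_mem _

/-- (E2) -/
theorem ker_snd (n : ℕ) : LinearMap.ker ((h.snd hp hsurj hex).Hmap a n) =
    LinearMap.range ((h.inl hp hsurj hex).Hmap a n) := by
  apply le_antisymm
  · intro y hy
    obtain ⟨z, rfl⟩ := Submodule.mkQ_surjective _ y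
    obtain ⟨⟨x', x''⟩, hz⟩ := z
    have hy' : (h.snd hp hsurj hex).Hmap a n ((h.res hp hsurj hex).toH a n ⟨(x', x''), hz⟩) = 0 := hy
    rw [CMap.Hmap_toH, toH_eq_zero_iff] at hy'
    have hy'' : x'' ∈ E''.cobdy a n := hy'
    obtain ⟨⟨hg', hg''⟩, hd1, hd2⟩ := (h.mem_cocyc_res hp hsurj hex a n x' x'').1 hz
    cases n with
    | zero =>
      have hx0 : x'' = 0 := hy''
      subst hx0
      rw [map_zero, add_zero] at hd1
      refine ⟨E'.toH a 0 ⟨x', ⟨hg', hd1⟩⟩, ?_⟩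
      rw [CMap.Hmap_toH]
      rfl
    | succ n =>
      obtain ⟨w'', hw'', rfl⟩ := hy''
      have hc : x' - h.θ n w'' ∈ E'.cocyc a (n + 1) := by
        refine ⟨sub_mem hg' (gam_map a.toIdeal (h.θ n) hw''), ?_⟩
        show E'.d (n + 1) (x' - h.θ n w'') = 0
        rw [map_sub, h.d_θ, sub_neg_eq_add]
        exact hd1
      refine ⟨E'.toH a (n + 1) ⟨x' - h.θ n w'', hc⟩, ?_⟩
      rw [CMap.Hmap_toH, toH_eq_iff, mem_cobdy_succ]
      refine ⟨((0 : (E'.X n).carrier), -w''), (h.mem_gam_res hp hsurj hex a n 0 (-w'')).2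
        ⟨zero_mem _, neg_mem hw''⟩, ?_⟩
      show h.dd n (0, -w'') = ((x' - h.θ n w'', (0 : (E''.X (n + 1)).carrier)) : _ × _) - (x', E''.d n w'')
      rw [dd_apply, map_zero, zero_add, map_neg, map_neg, Prod.mk_sub_mk, zero_sub]
      congr 1
      abel
  · rintro _ ⟨y, rfl⟩
    obtain ⟨z, rfl⟩ := Submodule.mkQ_surjective _ y
    show (h.snd hp hsurj hex).Hmap a n ((h.inl hp hsurj hex).Hmap a n (E'.toH a n z)) = 0
    rw [CMap.Hmap_toH, CMap.Hmap_toH, toH_eq_zero_iff]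
    exact zero_mem _

/-- (E3) -/
theorem ker_δ (n : ℕ) : LinearMap.ker (h.δ a n) = LinearMap.range ((h.snd hp hsurj hex).Hmap a n) := by
  apply le_antisymm
  · intro y hy
    obtain ⟨z, rfl⟩ := Submodule.mkQ_surjective _ y
    obtain ⟨x'', hz⟩ := z
    have hy' : h.δ a n (E''.toH a n ⟨x'', hz⟩) = 0 := hy
    rw [δ_toH, toH_eq_zero_iff, mem_cobdy_succ] at hy'
    obtain ⟨w', hw', hw⟩ := hy'
    have hw2 : E'.d n w' = h.θ n x'' := hw
    have hc : ((-w', x'') : ((h.res hp hsurj hex).X n).carrier) ∈ (h.res hp hsurj hex).cocyc a n := by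
      rw [mem_cocyc_res]
      refine ⟨⟨neg_mem hw', hz.1⟩, ?_, hz.2⟩
      rw [map_neg, hw2, neg_add_cancel]
    exact ⟨(h.res hp hsurj hex).toH a n ⟨(-w', x''), hc⟩, rfl⟩
  · rintro _ ⟨y, rfl⟩
    obtain ⟨z, rfl⟩ := Submodule.mkQ_surjective _ y
    obtain ⟨⟨x', x''⟩, hz⟩ := z
    show h.δ a n ((h.snd hp hsurj hex).Hmap a n ((h.res hp hsurj hex).toH a n ⟨(x', x''), hz⟩)) = 0
    rw [CMap.Hmap_toH, δ_toH, toH_eq_zero_iff, mem_cobdy_succ]
    obtain ⟨⟨hg', hg''⟩, hd1, hd2⟩ := (h.mem_cocyc_res hp hsurj hex a n x' x'').1 hz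
    refine ⟨-x', neg_mem hg', ?_⟩
    show E'.d n (-x') = h.θ n x''
    rw [map_neg]
    exact neg_eq_of_add_eq_zero_right hd1

/-- (E4) -/
theorem ker_inl (n : ℕ) : LinearMap.ker ((h.inl hp hsurj hex).Hmap a (n + 1)) = LinearMap.range (h.δ a n) := by
  apply le_antisymm
  · intro y hy
    obtain ⟨z, rfl⟩ := Submodule.mkQ_surjective _ y
    obtain ⟨y', hz⟩ := z
    have hy' : (h.inl hp hsurj hex).Hmap a (n + 1) (E'.toH a (n + 1) ⟨y', hz⟩) = 0 := hy
    rw [CMap.Hmap_toH, toH_eq_zero_iff, mem_cobdy_succ] at hy'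
    obtain ⟨⟨w', w''⟩, hw, hw2⟩ := hy'
    obtain ⟨hg', hg''⟩ := (h.mem_gam_res hp hsurj hex a n w' w'').1 hw
    have hw3 : h.dd n (w', w'') = (y', 0) := hw2
    rw [dd_apply] at hw3
    have h1 : E'.d n w' + h.θ n w'' = y' := congrArg Prod.fst hw3
    have h2 : E''.d n w'' = 0 := congrArg Prod.snd hw3
    refine ⟨E''.toH a n ⟨w'', ⟨hg'', h2⟩⟩, ?_⟩
    rw [δ_toH, toH_eq_iff, mem_cobdy_succ]
    refine ⟨-w', neg_mem hg', ?_⟩
    show E'.d n (-w') = h.θ n w'' - y'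
    rw [← h1, map_neg]
    abel
  · rintro _ ⟨y, rfl⟩
    obtain ⟨z, rfl⟩ := Submodule.mkQ_surjective _ y
    obtain ⟨x'', hz⟩ := z
    show (h.inl hp hsurj hex).Hmap a (n + 1) (h.δ a n (E''.toH a n ⟨x'', hz⟩)) = 0
    rw [δ_toH, CMap.Hmap_toH, toH_eq_zero_iff, mem_cobdy_succ]
    refine ⟨((0 : (E'.X n).carrier), x''), (h.mem_gam_res hp hsurj hex a n 0 x'').2 ⟨zero_mem _, hz.1⟩, ?_⟩
    have hd : E''.d n x'' = 0 := hz.2
    show h.dd n (0, x'') = (h.θ n x'', 0)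
    rw [dd_apply, map_zero, zero_add, hd]

end HS

end Horseshoe

end Groth.Agent.Lib.helper19.GrLes
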