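import Mathlib
import Groth.Prelude.Def_GrLC
import Groth.Agent.Lib.Helper19.GrMod
import Groth.Agent.Lib.Helper19.GrLes1
import Groth.Agent.Lib.Helper19.GrLes2
import Groth.Agent.Lib.Helper19.GrLes3
import Groth.Agent.Lib.Helper19.GrLes4

/-!
# Graded homological algebra for `GrLC.StarInjRes` (helper19), part 5:
the long exact sequence of graded local cohomology for arbitrary resolutions and lifts
-/

set_option autoImplicit false
universe u

namespace Groth.Agent.Lib.helper19.GrLes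

open GrLC Groth.Agent.Lib.helper19.GrMod

section Les

variable {ι : Type} [AddCommGroup ι] [DecidableEq ι]
variable {R : Type u} [CommRing R] {𝒜 : ι → AddSubgroup R} [GradedRing 𝒜]
variable {M' : Type u} [AddCommGroup M'] [Module R M'] {ℳ' : ι → AddSubgroup M'}
  [DirectSum.Decomposition ℳ'] [SetLike.GradedSMul 𝒜 ℳ']
variable {M : Type u} [AddCommGroup M] [Module R M] {ℳ : ι → AddSubgroup M}
  [DirectSum.Decomposition ℳ] [SetLike.GradedSMul 𝒜 ℳ]
variable {M'' : Type u} [AddCommGroup M''] [Module R M''] {ℳ'' : ι → AddSubgroup M''}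
  [DirectSum.Decomposition ℳ''] [SetLike.GradedSMul 𝒜 ℳ'']

/-- the long exact sequence of graded local cohomology, for arbitrary *injective resolutions of the
three terms of a graded short exact sequence and arbitrary lifts of the two maps -/
theorem les (i : M' →ₗ[R] M) (p : M →ₗ[R] M'') (hi : IsGrHom ℳ' ℳ i) (hp : IsGrHom ℳ ℳ'' p)
    (hinj : Function.Injective i) (hsurj : Function.Surjective p)
    (hex : LinearMap.ker p = LinearMap.range i)
    (E' : StarInjRes 𝒜 ℳ') (E : StarInjRes 𝒜 ℳ) (E'' : StarInjRes 𝒜 ℳ'')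
    (φ : CMap E' E i) (ψ : CMap E E'' p) (a : HomogeneousIdeal 𝒜) :
    ∃ δ : ∀ n, E''.H a n →ₗ[R] E'.H a (n + 1),
      (∀ n, IsGrHom (E''.Hgr a n) (E'.Hgr a (n + 1)) (δ n)) ∧
      Function.Injective (φ.Hmap a 0) ∧
      (∀ n, LinearMap.ker (ψ.Hmap a n) = LinearMap.range (φ.Hmap a n)) ∧
      (∀ n, LinearMap.ker (δ n) = LinearMap.range (ψ.Hmap a n)) ∧
      (∀ n, LinearMap.ker (φ.Hmap a (n + 1)) = LinearMap.range (δ n)) := by
  classical
  obtain ⟨h⟩ := exists_hs E' E'' i p hi hp hinj hsurj hex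
  obtain ⟨κ⟩ := exists_cmap E (h.res hp hsurj hex) (LinearMap.id : M →ₗ[R] M) (fun _ _ hx => hx)
  have hκ : ∀ n, Function.Bijective (κ.Hmap a n) := fun n => Hmap_bijective_of_id κ a n
  have key1 : ∀ n y, κ.Hmap a n (φ.Hmap a n y) = (h.inl hp hsurj hex).Hmap a n y := by
    intro n y
    rw [← CMap.Hmap_comp, Hmap_eq' (φ.comp κ) (h.inl hp hsurj hex) (LinearMap.id_comp i)]
  have key2 : ∀ n y, (h.snd hp hsurj hex).Hmap a n (κ.Hmap a n y) = ψ.Hmap a n y := by
    intro n y
    rw [← CMap.Hmap_comp, Hmap_eq' (κ.comp (h.snd hp hsurj hex)) ψ (LinearMap.comp_id p)]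
  refine ⟨h.δ a, h.δ_isGrHom a, ?_, ?_, ?_, ?_⟩
  · have h1 : Function.Injective (fun y => κ.Hmap a 0 (φ.Hmap a 0 y)) := by
      have : (fun y => κ.Hmap a 0 (φ.Hmap a 0 y)) = fun y => (h.inl hp hsurj hex).Hmap a 0 y :=
        funext (key1 0)
      rw [this]
      exact h.inl_injective hp hsurj hex a
    exact Function.Injective.of_comp (f := κ.Hmap a 0) h1
  · intro n
    ext y
    constructor
    · intro hy
      have hy' : ψ.Hmap a n y = 0 := hy
      rw [← key2] at hy'
      have h2 : κ.Hmap a n y ∈ LinearMap.ker ((h.snd hp hsurj hex).Hmap a n) := hy'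
      rw [h.ker_snd hp hsurj hex a n] at h2
      obtain ⟨y', hy'⟩ := h2
      rw [← key1] at hy'
      exact ⟨y', (hκ n).1 hy'⟩
    · rintro ⟨y', rfl⟩
      show ψ.Hmap a n (φ.Hmap a n y') = 0
      rw [← key2, key1]
      have : (h.inl hp hsurj hex).Hmap a n y' ∈ LinearMap.range ((h.inl hp hsurj hex).Hmap a n) := ⟨y', rfl⟩
      rw [← h.ker_snd hp hsurj hex a n] at this
      exact this
  · intro n
    rw [h.ker_δ hp hsurj hex a n]
    ext w
    constructor
    · rintro ⟨y, rfl⟩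
      obtain ⟨y0, rfl⟩ := (hκ n).2 y
      exact ⟨y0, (key2 n y0).symm⟩
    · rintro ⟨y, rfl⟩
      exact ⟨κ.Hmap a n y, key2 n y⟩
  · intro n
    rw [← h.ker_inl hp hsurj hex a n]
    ext y
    constructor
    · intro hy
      have hy' : φ.Hmap a (n + 1) y = 0 := hy
      show (h.inl hp hsurj hex).Hmap a (n + 1) y = 0
      rw [← key1, hy', map_zero]
    · intro hy
      have hy' : (h.inl hp hsurj hex).Hmap a (n + 1) y = 0 := hy
      rw [← key1] at hy'
      show φ.Hmap a (n + 1) y = 0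
      exact (hκ (n + 1)).1 (hy'.trans (map_zero _).symm)

end Les

end Groth.Agent.Lib.helper19.GrLes
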