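import Mathlib
import Groth.Prelude.Def_GrLC
import Groth.Agent.Lib.Helper19.GrMod
import Groth.Agent.Lib.Helper19.GrShift
import Groth.Agent.Lib.Helper19.GrLes1
import Groth.Agent.Lib.Helper19.GrLes2
import Groth.Agent.Lib.Helper19.GrLes3
import Groth.Agent.Lib.Helper19.GrLes4
import Groth.Agent.Lib.Helper19.GrLes5
import Groth.Agent.S13225

/-!
# Graded homological algebra for `GrLC.StarInjRes` (helper19), part 6:
shifted resolutions, multiplication by a homogeneous element, and the long exact sequence of a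
homogeneous regular element, at the level of graded pieces.
-/

set_option autoImplicit false
universe u

namespace Groth.Agent.Lib.helper19.GrLes

open GrLC Groth.Agent.Lib.helper19.GrMod Groth.Agent.Lib.helper19.GrShift

section Piece

variable {ι : Type} [AddCommGroup ι] [DecidableEq ι] {R : Type u} [CommRing R]

/-- a graded map between internally graded modules: homogeneous elements of the range have
homogeneous preimages -/
theorem exists_mem_of_isGrHom {A B : Type u} [AddCommGroup A] [AddCommGroup B] [Module R A] [Module R B]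
    (𝒜' : ι → AddSubgroup A) (ℬ : ι → AddSubgroup B) (hA : DirectSum.IsInternal 𝒜')
    (hB : DirectSum.IsInternal ℬ) (f : A →ₗ[R] B) (hf : IsGrHom 𝒜' ℬ f) {g : ι} {b : B}
    (hb : b ∈ ℬ g) (a : A) (hab : f a = b) : ∃ a' ∈ 𝒜' g, f a' = b := by
  classical
  letI := hA.chooseDecomposition
  letI := hB.chooseDecomposition
  refine ⟨((DirectSum.decompose 𝒜' a g : 𝒜' g) : A), SetLike.coe_mem _, ?_⟩
  rw [← grHom_decompose 𝒜' ℬ f hf a g, hab, DirectSum.decompose_of_mem_same ℬ hb]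

end Piece

section Shift

variable {ι : Type} [AddCommGroup ι] [DecidableEq ι]
variable {R : Type u} [CommRing R] {𝒜 : ι → AddSubgroup R} [GradedRing 𝒜]
variable {M : Type u} [AddCommGroup M] [Module R M] {ℳ : ι → AddSubgroup M}
  [DirectSum.Decomposition ℳ] [SetLike.GradedSMul 𝒜 ℳ]

/-- the shifted resolution, a resolution of the shifted module -/
noncomputable def shiftRes (E : StarInjRes 𝒜 ℳ) (d : ι) [DirectSum.Decomposition (shiftPiece ℳ d)]
    [SetLike.GradedSMul 𝒜 (shiftPiece ℳ d)] : StarInjRes 𝒜 (shiftPiece ℳ d) where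
  X := fun n => shiftGMod 𝒜 (E.X n) d
  d := E.d
  ε := E.ε
  d_grHom := fun n g x hx => E.d_grHom n (g + d) x hx
  ε_grHom := fun g x hx => E.ε_grHom (g + d) x hx
  ε_injective := E.ε_injective
  exact_zero := E.exact_zero
  exact_succ := E.exact_succ
  starInj := fun n => by
    letI : DirectSum.Decomposition (shiftPiece (E.X n).gr d) := shiftDecomposition (E.X n).gr d
    letI : SetLike.GradedSMul 𝒜 (shiftPiece (E.X n).gr d) := shift_gradedSMul 𝒜 (E.X n).gr d
    exact starInj_shift 𝒜 (E.X n).gr (E.starInj n) d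

/-- multiplication by a homogeneous element as a chain map from the shifted resolution -/
noncomputable def mulCMap (E : StarInjRes 𝒜 ℳ) (x : R) (k : ι) (hx : x ∈ 𝒜 k)
    [DirectSum.Decomposition (shiftPiece ℳ (-k))] [SetLike.GradedSMul 𝒜 (shiftPiece ℳ (-k))] :
    CMap (shiftRes E (-k)) E (x • (LinearMap.id : M →ₗ[R] M)) where
  φ := fun n => x • (LinearMap.id : (E.X n).carrier →ₗ[R] (E.X n).carrier)
  gr := fun n g y hy => by
    have hy' : y ∈ (E.X n).gr (g + -k) := hy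
    have h1 := smul_mem_add 𝒜 (E.X n).gr hx hy'
    have h2 : k + (g + -k) = g := by abel
    rw [h2] at h1
    exact h1
  aug := by
    ext m
    show x • E.ε m = E.ε (x • m)
    rw [map_smul]
  comm := fun n => LinearMap.ext fun y => ((E.d n).map_smul x y).symm

variable (a : HomogeneousIdeal 𝒜)

theorem mem_shiftRes_Hgr (E : StarInjRes 𝒜 ℳ) (d : ι) [DirectSum.Decomposition (shiftPiece ℳ d)]
    [SetLike.GradedSMul 𝒜 (shiftPiece ℳ d)] (n : ℕ) (g : ι) (y : E.H a n) :
    (show (shiftRes E d).H a n from y) ∈ (shiftRes E d).Hgr a n g ↔ y ∈ E.Hgr a n (g + d) := Iff.rfl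

theorem mulCMap_Hmap (E : StarInjRes 𝒜 ℳ) (x : R) (k : ι) (hx : x ∈ 𝒜 k)
    [DirectSum.Decomposition (shiftPiece ℳ (-k))] [SetLike.GradedSMul 𝒜 (shiftPiece ℳ (-k))]
    (n : ℕ) (y : E.H a n) :
    (mulCMap E x k hx).Hmap a n (show (shiftRes E (-k)).H a n from y) = x • y := by
  obtain ⟨z, rfl⟩ := Submodule.mkQ_surjective _ y
  rfl

/-- every class in `H` is killed by a power of `a` -/
theorem exists_pow_smul_eq_zero (E : StarInjRes 𝒜 ℳ) (n : ℕ) (y : E.H a n) :
    ∃ N : ℕ, ∀ r ∈ a.toIdeal ^ N, r • y = 0 := by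
  obtain ⟨z, rfl⟩ := Submodule.mkQ_surjective _ y
  obtain ⟨N, hN⟩ := z.2.1
  refine ⟨N, fun r hr => ?_⟩
  rw [← map_smul]
  have : r • z = 0 := Subtype.ext (hN r hr)
  rw [this, map_zero]

/-- a homogeneous element of `a` acts locally nilpotently on `H` -/
theorem exists_pow_smul_eq_zero' (E : StarInjRes 𝒜 ℳ) (n : ℕ) (y : E.H a n) (x : R)
    (hx : x ∈ a.toIdeal) : ∃ N : ℕ, x ^ N • y = 0 := by
  obtain ⟨N, hN⟩ := exists_pow_smul_eq_zero a E n y
  exact ⟨N, hN _ (Ideal.pow_mem_pow hx N)⟩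

end Shift

section Regular

variable {ι : Type} [AddCommGroup ι] [DecidableEq ι] [Module.Free ℤ ι] [Module.Finite ℤ ι]
variable {R : Type u} [CommRing R] [IsNoetherianRing R] {𝒜 : ι → AddSubgroup R} [GradedRing 𝒜]
variable {M : Type u} [AddCommGroup M] [Module R M] {ℳ : ι → AddSubgroup M}
  [DirectSum.Decomposition ℳ] [SetLike.GradedSMul 𝒜 ℳ]
variable {N : Type u} [AddCommGroup N] [Module R N] {𝒩 : ι → AddSubgroup N}
  [DirectSum.Decomposition 𝒩] [SetLike.GradedSMul 𝒜 𝒩]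

/-- the long exact sequence of graded local cohomology for a homogeneous `M`-regular element `x` of
degree `k` and `N = M/xM`, at the level of graded pieces -/
theorem les_regular (E : StarInjRes 𝒜 ℳ) (F : StarInjRes 𝒜 𝒩) (x : R) (k : ι) (hx : x ∈ 𝒜 k)
    (hreg : IsSMulRegular M x) (π : M →ₗ[R] N) (hπ : IsGrHom ℳ 𝒩 π) (hsurj : Function.Surjective π)
    (hker : LinearMap.ker π = LinearMap.range (x • (LinearMap.id : M →ₗ[R] M)))
    (a : HomogeneousIdeal 𝒜) :
    ∃ (ψ : ∀ n, E.H a n →ₗ[R] F.H a n) (δ : ∀ n, F.H a n →ₗ[R] E.H a (n + 1)),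
      (∀ n, IsGrHom (E.Hgr a n) (F.Hgr a n) (ψ n)) ∧
      (∀ n g w, w ∈ F.Hgr a n g → δ n w ∈ E.Hgr a (n + 1) (g - k)) ∧
      (∀ y : E.H a 0, x • y = 0 → y = 0) ∧
      (∀ n g (y : E.H a n), y ∈ E.Hgr a n g → ψ n y = 0 → ∃ z ∈ E.Hgr a n (g - k), x • z = y) ∧
      (∀ n (z : E.H a n), ψ n (x • z) = 0) ∧
      (∀ n g (w : F.H a n), w ∈ F.Hgr a n g → δ n w = 0 → ∃ y ∈ E.Hgr a n g, ψ n y = w) ∧
      (∀ n (y : E.H a n), δ n (ψ n y) = 0) ∧
      (∀ n g (y : E.H a (n + 1)), y ∈ E.Hgr a (n + 1) g → x • y = 0 →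
        ∃ w ∈ F.Hgr a n (g + k), δ n w = y) ∧
      (∀ n (w : F.H a n), x • δ n w = 0) := by
  classical
  letI : DirectSum.Decomposition (shiftPiece ℳ (-k)) := shiftDecomposition ℳ (-k)
  letI : SetLike.GradedSMul 𝒜 (shiftPiece ℳ (-k)) := shift_gradedSMul 𝒜 ℳ (-k)
  have hi : IsGrHom (shiftPiece ℳ (-k)) ℳ (x • (LinearMap.id : M →ₗ[R] M)) := by
    intro g m hm
    have hm' : m ∈ ℳ (g + -k) := hm
    have h1 := smul_mem_add 𝒜 ℳ hx hm'
    have h2 : k + (g + -k) = g := by abel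
    rw [h2] at h1
    exact h1
  have hinj : Function.Injective (x • (LinearMap.id : M →ₗ[R] M)) := hreg
  obtain ⟨ψc⟩ := exists_cmap E F π hπ
  obtain ⟨δ, hδgr, h0, h1, h2, h3⟩ := les (x • (LinearMap.id : M →ₗ[R] M)) π hi hπ hinj hsurj hker
    (shiftRes E (-k)) E F (mulCMap E x k hx) ψc a
  have intE : ∀ n, DirectSum.IsInternal (E.Hgr a n) := fun n =>
    Groth.Agent.S13225.result R 𝒜 a M ℳ E n
  have intE' : ∀ n, DirectSum.IsInternal ((shiftRes E (-k)).Hgr a n) := fun n =>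
    Groth.Agent.S13225.result R 𝒜 a M (shiftPiece ℳ (-k)) (shiftRes E (-k)) n
  have intF : ∀ n, DirectSum.IsInternal (F.Hgr a n) := fun n =>
    Groth.Agent.S13225.result R 𝒜 a N 𝒩 F n
  have hmul : ∀ n (y : E.H a n), (mulCMap E x k hx).Hmap a n y = x • y :=
    fun n y => mulCMap_Hmap a E x k hx n y
  refine ⟨fun n => ψc.Hmap a n, δ, fun n => ψc.Hmap_isGrHom a n, ?_, ?_, ?_, ?_, ?_, ?_, ?_, ?_⟩
  · intro n g w hw
    have h4 := hδgr n g w hw
    have h5 : δ n w ∈ E.Hgr a (n + 1) (g + -k) := h4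
    rw [sub_eq_add_neg]
    exact h5
  · intro y hy
    rw [← hmul] at hy
    exact h0 (hy.trans (map_zero _).symm)
  · intro n g y hy hψ
    have h4 : y ∈ LinearMap.ker (ψc.Hmap a n) := hψ
    rw [h1 n] at h4
    obtain ⟨z, hz⟩ := h4
    obtain ⟨z', hz', hz''⟩ := exists_mem_of_isGrHom ((shiftRes E (-k)).Hgr a n) (E.Hgr a n) (intE' n) (intE n)
      ((mulCMap E x k hx).Hmap a n) ((mulCMap E x k hx).Hmap_isGrHom a n) hy z hz
    have h5 : z' ∈ E.Hgr a n (g + -k) := hz'
    refine ⟨z', ?_, ?_⟩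
    · rw [sub_eq_add_neg]
      exact h5
    · rw [← hmul]
      exact hz''
  · intro n z
    have h4 : x • z ∈ LinearMap.range ((mulCMap E x k hx).Hmap a n) := ⟨z, hmul n z⟩
    rw [← h1 n] at h4
    exact h4
  · intro n g w hw hδ
    have h4 : w ∈ LinearMap.ker (δ n) := hδ
    rw [h2 n] at h4
    obtain ⟨y, hy⟩ := h4
    exact exists_mem_of_isGrHom (E.Hgr a n) (F.Hgr a n) (intE n) (intF n)
      (ψc.Hmap a n) (ψc.Hmap_isGrHom a n) hw y hy
  · intro n y
    have h4 : ψc.Hmap a n y ∈ LinearMap.range (ψc.Hmap a n) := ⟨y, rfl⟩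
    rw [← h2 n] at h4
    exact h4
  · intro n g y hy hxy
    have h4 : (mulCMap E x k hx).Hmap a (n + 1) y = 0 := by rw [hmul]; exact hxy
    have h5 : (show (shiftRes E (-k)).H a (n + 1) from y) ∈ LinearMap.ker ((mulCMap E x k hx).Hmap a (n + 1)) := h4
    rw [h3 n] at h5
    obtain ⟨w, hw⟩ := h5
    have hy' : (show (shiftRes E (-k)).H a (n + 1) from y) ∈ (shiftRes E (-k)).Hgr a (n + 1) (g + k) := by
      rw [mem_shiftRes_Hgr]
      have : g + k + -k = g := by abel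
      rw [this]
      exact hy
    exact exists_mem_of_isGrHom (F.Hgr a n) ((shiftRes E (-k)).Hgr a (n + 1)) (intF n) (intE' (n + 1))
      (δ n) (hδgr n) hy' w hw
  · intro n w
    have h4 : δ n w ∈ LinearMap.range (δ n) := ⟨w, rfl⟩
    rw [← h3 n] at h4
    have h5 : (mulCMap E x k hx).Hmap a (n + 1) (δ n w) = 0 := h4
    rw [← hmul]
    exact h5

end Regular

end Groth.Agent.Lib.helper19.GrLes
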