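import Mathlib
import Groth.Prelude.Def_GrLC
import Groth.Agent.Lib.Helper19.GrMod

/-!
# The coinduced graded module `I[ι]` of an `R`-module `I` (right adjoint of "forget the grading")

For a `ι`-graded ring `R` and an (ungraded) `R`-module `I`, the group `ι →₀ I` with the twisted
action `r • (n t^g) = Σ_h (r_h n) t^(h+g)` is a graded module `J 𝒜 I`, and
`Hom_gr(B, J 𝒜 I) = Hom_R(B, I)` for every graded module `B`.  In particular `J 𝒜 I` is *injective
when `I` is injective, and every graded module embeds into a *injective one.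
-/

set_option autoImplicit false
universe u

namespace Groth.Agent.Lib.helper19.GrCoind

open Groth.Agent.Lib.helper19.GrMod

section Def

variable {ι : Type} [AddCommGroup ι] [DecidableEq ι]
variable {R : Type u} [CommRing R] (𝒜 : ι → AddSubgroup R) [GradedRing 𝒜]
variable (I : Type u) [AddCommGroup I] [Module R I]

/-- the shift operator `n t^g ↦ n t^(h+g)` -/
noncomputable def T (R : Type u) [CommRing R] (I : Type u) [AddCommGroup I] [Module R I] (h : ι) :
    Module.End R (ι →₀ I) := Finsupp.lmapDomain I R (fun g => h + g)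

omit [DecidableEq ι] in
theorem T_single (h g : ι) (n : I) : T R I h (Finsupp.single g n) = Finsupp.single (h + g) n := by
  simp [T, Finsupp.lmapDomain_apply, Finsupp.mapDomain_single]

omit [DecidableEq ι] in
theorem T_zero : T R I (0 : ι) = 1 := by
  apply Finsupp.lhom_ext
  intro g n
  rw [T_single, zero_add]
  rfl

omit [DecidableEq ι] in
theorem T_add (h k : ι) : T R I (h + k) = T R I h * T R I k := by
  apply Finsupp.lhom_ext
  intro g n
  rw [Module.End.mul_apply, T_single, T_single, T_single, add_assoc]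

/-- the family of additive maps `𝒜 h → End (ι →₀ I)`, `a ↦ a • T h` -/
noncomputable def fam (h : ι) : 𝒜 h →+ Module.End R (ι →₀ I) where
  toFun a := (a : R) • T R I h
  map_zero' := by simp
  map_add' a b := by simp [add_smul]

/-- the twisted action as a ring homomorphism -/
noncomputable def Φ : R →+* Module.End R (ι →₀ I) :=
  (DirectSum.toSemiring (fam 𝒜 I)
    (by
      show ((1 : R) : R) • T R I (0 : ι) = 1
      rw [one_smul, T_zero])
    (by
      intro i j ai aj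
      show ((ai : R) * (aj : R)) • T R I (i + j) = ((ai : R) • T R I i) * ((aj : R) • T R I j)
      rw [T_add, smul_mul_smul_comm])).comp (DirectSum.decomposeRingEquiv 𝒜).toRingHom

theorem Φ_of_mem {h : ι} {r : R} (hr : r ∈ 𝒜 h) : Φ 𝒜 I r = r • T R I h := by
  unfold Φ
  rw [RingHom.comp_apply]
  have h1 : (DirectSum.decomposeRingEquiv 𝒜).toRingHom r = DirectSum.of (fun i => 𝒜 i) h ⟨r, hr⟩ :=
    DirectSum.decompose_of_mem 𝒜 hr
  rw [h1, DirectSum.toSemiring_of]
  rfl

/-- the coinduced module: `ι →₀ I` with the twisted action -/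
def J (_𝒜 : ι → AddSubgroup R) (I : Type u) [AddCommGroup I] : Type u := ι →₀ I

noncomputable instance : AddCommGroup (J 𝒜 I) := by
  unfold J; infer_instance

noncomputable instance : Module R (J 𝒜 I) := Module.compHom (ι →₀ I) (Φ 𝒜 I)

theorem smul_def (r : R) (v : J 𝒜 I) : r • v = Φ 𝒜 I r (v : ι →₀ I) := rfl

/-- `n ↦ n t^g` -/
noncomputable def sg (g : ι) : I →+ J 𝒜 I := Finsupp.singleAddHom g

theorem smul_sg {h : ι} {r : R} (hr : r ∈ 𝒜 h) (g : ι) (n : I) :
    r • sg 𝒜 I g n = sg 𝒜 I (h + g) (r • n) := by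
  rw [smul_def, Φ_of_mem 𝒜 I hr]
  show r • (T R I h (Finsupp.single g n)) = Finsupp.single (h + g) (r • n)
  rw [T_single, Finsupp.smul_single]

omit [DecidableEq ι] [GradedRing 𝒜] in
theorem sg_injective (g : ι) : Function.Injective (sg 𝒜 I g) :=
  Finsupp.single_injective g

/-- the pieces -/
noncomputable def piece (g : ι) : AddSubgroup (J 𝒜 I) := (sg 𝒜 I g).range

omit [DecidableEq ι] [GradedRing 𝒜] in
theorem sg_mem (g : ι) (n : I) : sg 𝒜 I g n ∈ piece 𝒜 I g := ⟨n, rfl⟩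

instance gradedSMul : SetLike.GradedSMul 𝒜 (piece 𝒜 I) where
  smul_mem := by
    rintro i j r _ hr ⟨n, rfl⟩
    rw [smul_sg 𝒜 I hr]
    exact sg_mem 𝒜 I _ _

/-- decomposition map -/
noncomputable def decHom : J 𝒜 I →+ DirectSum ι (fun g => piece 𝒜 I g) :=
  Finsupp.liftAddHom (fun g => (DirectSum.of (fun g => piece 𝒜 I g) g).comp (sg 𝒜 I g).rangeRestrict)

theorem decHom_sg (g : ι) (n : I) :
    decHom 𝒜 I (sg 𝒜 I g n) = DirectSum.of (fun g => piece 𝒜 I g) g ⟨sg 𝒜 I g n, sg_mem 𝒜 I g n⟩ := by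
  show Finsupp.liftAddHom _ (Finsupp.single g n) = _
  rw [Finsupp.liftAddHom_apply_single]
  rfl

noncomputable instance decomposition : DirectSum.Decomposition (piece 𝒜 I) where
  decompose' := decHom 𝒜 I
  left_inv v := by
    have h : (DirectSum.coeAddMonoidHom (piece 𝒜 I)).comp (decHom 𝒜 I) = AddMonoidHom.id _ := by
      apply Finsupp.addHom_ext
      intro g n
      show DirectSum.coeAddMonoidHom (piece 𝒜 I) (decHom 𝒜 I (sg 𝒜 I g n)) = sg 𝒜 I g n
      rw [decHom_sg, DirectSum.coeAddMonoidHom_of]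
    exact DFunLike.congr_fun h v
  right_inv z := by
    induction z using DirectSum.induction_on with
    | zero => simp
    | of g q =>
      obtain ⟨n, hn⟩ := q.2
      rw [DirectSum.coeAddMonoidHom_of]
      have h1 : (q : J 𝒜 I) = sg 𝒜 I g n := hn.symm
      rw [h1, decHom_sg]
      congr 1
      exact Subtype.ext hn
    | add a b ha hb =>
      rw [map_add, map_add, ha, hb]

/-- the augmentation `Σ n_g t^g ↦ Σ n_g` as an additive map -/
noncomputable def εAdd : J 𝒜 I →+ I := Finsupp.liftAddHom (fun _ => AddMonoidHom.id I)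

omit [DecidableEq ι] [GradedRing 𝒜] in
theorem εAdd_sg (g : ι) (n : I) : εAdd 𝒜 I (sg 𝒜 I g n) = n := by
  show Finsupp.liftAddHom _ (Finsupp.single g n) = _
  rw [Finsupp.liftAddHom_apply_single]
  rfl

/-- induction principle for the coinduced module -/
theorem J_induction {P : J 𝒜 I → Prop} (h0 : P 0) (hs : ∀ g n, P (sg 𝒜 I g n))
    (hadd : ∀ v w, P v → P w → P (v + w)) (v : J 𝒜 I) : P v := by
  have := @Finsupp.induction_linear ι I _ (fun v => P v) v h0 (fun v w hv hw => hadd v w hv hw)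
    (fun g n => hs g n)
  exact this

/-- the augmentation is `R`-linear for the twisted action -/
noncomputable def ε : J 𝒜 I →ₗ[R] I where
  toFun := εAdd 𝒜 I
  map_add' := map_add _
  map_smul' r v := by
    simp only [RingHom.id_apply]
    induction v using J_induction 𝒜 I with
    | h0 => rw [smul_zero, map_zero, smul_zero]
    | hs g n =>
      induction r using DirectSum.Decomposition.inductionOn 𝒜 with
      | zero => rw [zero_smul, map_zero, zero_smul]
      | @homogeneous h a =>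
        rw [smul_sg 𝒜 I a.2, εAdd_sg, εAdd_sg]
      | add a b ha hb => rw [add_smul, map_add, ha, hb, add_smul]
    | hadd v w hv hw => rw [smul_add, map_add, hv, hw, map_add, smul_add]

theorem ε_sg (g : ι) (n : I) : ε 𝒜 I (sg 𝒜 I g n) = n := εAdd_sg 𝒜 I g n

end Def

section Coind

variable {ι : Type} [AddCommGroup ι] [DecidableEq ι]
variable {R : Type u} [CommRing R] (𝒜 : ι → AddSubgroup R) [GradedRing 𝒜]
variable (I : Type u) [AddCommGroup I] [Module R I]
variable {B : Type u} [AddCommGroup B] [Module R B] (ℬ : ι → AddSubgroup B)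
  [DirectSum.Decomposition ℬ] [SetLike.GradedSMul 𝒜 ℬ]

/-- the adjoint of an `R`-linear map `B → I`, as an additive map -/
noncomputable def coindAdd (ψ : B →+ I) : B →+ J 𝒜 I :=
  (DirectSum.toAddMonoid (fun g => (sg 𝒜 I g).comp (ψ.comp (ℬ g).subtype))).comp
    (DirectSum.decomposeAddEquiv ℬ).toAddMonoidHom

omit [GradedRing 𝒜] [SetLike.GradedSMul 𝒜 ℬ] in
theorem coindAdd_of_mem (ψ : B →+ I) {g : ι} {b : B} (hb : b ∈ ℬ g) :
    coindAdd 𝒜 I ℬ ψ b = sg 𝒜 I g (ψ b) := by
  show (DirectSum.toAddMonoid _) (DirectSum.decompose ℬ b) = _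
  rw [DirectSum.decompose_of_mem ℬ hb, DirectSum.toAddMonoid_of]
  rfl

/-- the adjoint of an `R`-linear map `B → I`: `b ↦ Σ_g ψ(b_g) t^g` -/
noncomputable def coind (ψ : B →ₗ[R] I) : B →ₗ[R] J 𝒜 I where
  toFun := coindAdd 𝒜 I ℬ ψ.toAddMonoidHom
  map_add' := map_add _
  map_smul' r b := by
    simp only [RingHom.id_apply]
    induction b using DirectSum.Decomposition.inductionOn ℬ with
    | zero => rw [smul_zero, map_zero, smul_zero]
    | @homogeneous g b =>
      induction r using DirectSum.Decomposition.inductionOn 𝒜 with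
      | zero => rw [zero_smul, map_zero, zero_smul]
      | @homogeneous h a =>
        rw [coindAdd_of_mem 𝒜 I ℬ _ (smul_mem_add 𝒜 ℬ a.2 b.2), coindAdd_of_mem 𝒜 I ℬ _ b.2,
          smul_sg 𝒜 I a.2]
        congr 1
        exact ψ.map_smul _ _
      | add a c ha hc => rw [add_smul, map_add, ha, hc, add_smul]
    | add v w hv hw => rw [smul_add, map_add, hv, hw, map_add, smul_add]

theorem coind_of_mem (ψ : B →ₗ[R] I) {g : ι} {b : B} (hb : b ∈ ℬ g) :
    coind 𝒜 I ℬ ψ b = sg 𝒜 I g (ψ b) := coindAdd_of_mem 𝒜 I ℬ _ hb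

theorem coind_isGrHom (ψ : B →ₗ[R] I) : GrLC.IsGrHom ℬ (piece 𝒜 I) (coind 𝒜 I ℬ ψ) := by
  intro g b hb
  rw [coind_of_mem 𝒜 I ℬ ψ hb]
  exact sg_mem 𝒜 I _ _

omit [GradedRing 𝒜] [SetLike.GradedSMul 𝒜 ℬ] in
/-- linear maps out of a graded module agreeing on homogeneous elements are equal -/
theorem lhom_ext_homogeneous {Y : Type u} [AddCommGroup Y] [Module R Y] (f₁ f₂ : B →ₗ[R] Y)
    (h : ∀ (g : ι) (b : B), b ∈ ℬ g → f₁ b = f₂ b) : f₁ = f₂ := by
  apply LinearMap.ext
  intro b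
  induction b using DirectSum.Decomposition.inductionOn ℬ with
  | zero => rw [map_zero, map_zero]
  | @homogeneous g b => exact h g b b.2
  | add v w hv hw => rw [map_add, map_add, hv, hw]

theorem ε_comp_coind (ψ : B →ₗ[R] I) : ε 𝒜 I ∘ₗ coind 𝒜 I ℬ ψ = ψ := by
  apply lhom_ext_homogeneous ℬ
  intro g b hb
  rw [LinearMap.comp_apply, coind_of_mem 𝒜 I ℬ ψ hb, ε_sg]

theorem coind_ε_comp (γ : B →ₗ[R] J 𝒜 I) (hγ : GrLC.IsGrHom ℬ (piece 𝒜 I) γ) :
    coind 𝒜 I ℬ (ε 𝒜 I ∘ₗ γ) = γ := by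
  apply lhom_ext_homogeneous ℬ
  intro g b hb
  rw [coind_of_mem 𝒜 I ℬ _ hb, LinearMap.comp_apply]
  obtain ⟨n, hn⟩ := hγ g b hb
  rw [← hn, ε_sg]

theorem coind_comp {A : Type u} [AddCommGroup A] [Module R A] (𝓐 : ι → AddSubgroup A)
    [DirectSum.Decomposition 𝓐] [SetLike.GradedSMul 𝒜 𝓐] (ψ : B →ₗ[R] I) (φ : A →ₗ[R] B)
    (hφ : GrLC.IsGrHom 𝓐 ℬ φ) :
    coind 𝒜 I ℬ ψ ∘ₗ φ = coind 𝒜 I 𝓐 (ψ ∘ₗ φ) := by
  apply lhom_ext_homogeneous 𝓐
  intro g a ha
  rw [LinearMap.comp_apply, coind_of_mem 𝒜 I ℬ ψ (hφ g a ha), coind_of_mem 𝒜 I 𝓐 _ ha,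
    LinearMap.comp_apply]

/-- the unit of the adjunction is injective when `ψ` is -/
theorem coind_injective (ψ : B →ₗ[R] I) (hψ : Function.Injective ψ) :
    Function.Injective (coind 𝒜 I ℬ ψ) := by
  rw [← LinearMap.ker_eq_bot]
  by_contra hne
  obtain ⟨g, b, hbK, hbg, hb0⟩ := exists_homogeneous_ne_zero ℬ
    (ker_isHomogeneous ℬ (piece 𝒜 I) _ (coind_isGrHom 𝒜 I ℬ ψ)) hne
  rw [LinearMap.mem_ker, coind_of_mem 𝒜 I ℬ ψ hbg] at hbK
  have h1 : ψ b = 0 := sg_injective 𝒜 I g (by rw [hbK, map_zero])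
  exact hb0 (hψ (by rw [h1, map_zero]))

/-- the coinduced module of an injective module is *injective -/
theorem starInj [Module.Injective R I] : GrLC.IsStarInj 𝒜 (piece 𝒜 I) := by
  intro A B' φ hφgr hφinj γ hγgr
  obtain ⟨β, hβ⟩ := Module.Injective.out φ hφinj (ε 𝒜 I ∘ₗ γ)
  refine ⟨coind 𝒜 I B'.gr β, coind_isGrHom 𝒜 I B'.gr β, ?_⟩
  rw [coind_comp 𝒜 I B'.gr A.gr β φ hφgr]
  have h1 : β ∘ₗ φ = ε 𝒜 I ∘ₗ γ := LinearMap.ext hβ
  rw [h1]
  exact coind_ε_comp 𝒜 I A.gr γ hγgr

end Coind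

end Groth.Agent.Lib.helper19.GrCoind
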