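import Mathlib
import Groth.Agent.Lib.Helper7.ModSES

/-!
# Dimension shifting for `Ext^i(-, I)` on a class of modules with projective covers
-/

set_option autoImplicit false
universe u

open CategoryTheory Abelian

namespace Groth.Agent.Lib.helper19.ExtShift

variable {R : Type u} [CommRing R]

/-- If every module `M` of a class `Pr` has a presentation `0 → K → F → M → 0` with `F` projective, `K` in `Pr`
and every linear map `K → I` extending to `F`, then `Ext^i(M, I) = 0` for all `M` in `Pr` and `i ≥ 1`. -/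
theorem ext_subsingleton_of_class (I : Type u) [AddCommGroup I] [Module R I]
    (Pr : ∀ (M : Type u) [AddCommGroup M] [Module R M], Prop)
    (h : ∀ (M : Type u) [AddCommGroup M] [Module R M], Pr M →
      ∃ (F K : Type u) (_ : AddCommGroup F) (_ : Module R F) (_ : AddCommGroup K) (_ : Module R K)
        (ι : K →ₗ[R] F) (π : F →ₗ[R] M), Module.Projective R F ∧ Function.Injective ι ∧
          Function.Surjective π ∧ Function.Exact ι π ∧ Pr K ∧
          ∀ ψ : K →ₗ[R] I, ∃ χ : F →ₗ[R] I, χ ∘ₗ ι = ψ)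
    (n : ℕ) : ∀ (M : Type u) [AddCommGroup M] [Module R M], Pr M →
      Subsingleton (Ext.{u} (ModuleCat.of R M) (ModuleCat.of R I) (n + 1)) := by
  induction n with
  | zero =>
    intro M _ _ hM
    obtain ⟨F, K, _, _, _, _, ι, π, hproj, hι, hπ, hex, hK, hext⟩ := h M hM
    have hS := Groth.Agent.Lib.helper7.ModSES.mkSES_shortExact ι π hex hι hπ
    have : Projective (ModuleCat.of R F) := (IsProjective.iff_projective F).1 hproj
    have h0 : ∀ x : Ext.{u} (ModuleCat.of R M) (ModuleCat.of R I) (0 + 1), x = 0 := by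
      intro x
      have h2 : (Ext.mk₀ (Groth.Agent.Lib.helper7.ModSES.mkSES ι π hex).g).comp x (zero_add 1) = 0 :=
        Ext.eq_zero_of_projective (P := ModuleCat.of R F) _
      obtain ⟨y, hy⟩ := Ext.contravariant_sequence_exact₃ hS _ x h2 (n₀ := 0) rfl
      obtain ⟨χ, hχ⟩ := hext (Ext.homEquiv₀ y).hom
      have hy2 : y = (Ext.mk₀ (Groth.Agent.Lib.helper7.ModSES.mkSES ι π hex).f).comp
          (Ext.mk₀ (ModuleCat.ofHom χ)) (zero_add 0) := by
        rw [Ext.mk₀_comp_mk₀, ← Ext.mk₀_homEquiv₀_apply y]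
        congr 1
        ext k
        exact (LinearMap.congr_fun hχ k).symm
      rw [← hy, hy2]
      exact hS.extClass_comp_assoc _
    exact ⟨fun a b => by rw [h0 a, h0 b]⟩
  | succ n ih =>
    intro M _ _ hM
    obtain ⟨F, K, _, _, _, _, ι, π, hproj, hι, hπ, hex, hK, hext⟩ := h M hM
    have hS := Groth.Agent.Lib.helper7.ModSES.mkSES_shortExact ι π hex hι hπ
    have : Projective (ModuleCat.of R F) := (IsProjective.iff_projective F).1 hproj
    have hKsub : Subsingleton (Ext.{u} (ModuleCat.of R K) (ModuleCat.of R I) (n + 1)) := ih K hK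
    have h0 : ∀ x : Ext.{u} (ModuleCat.of R M) (ModuleCat.of R I) (n + 1 + 1), x = 0 := by
      intro x
      have h2 : (Ext.mk₀ (Groth.Agent.Lib.helper7.ModSES.mkSES ι π hex).g).comp x (zero_add (n + 1 + 1)) = 0 :=
        Ext.eq_zero_of_projective (P := ModuleCat.of R F) _
      obtain ⟨y, hy⟩ := Ext.contravariant_sequence_exact₃ hS _ x h2 (n₀ := n + 1) (by omega)
      have hy0 : y = 0 := hKsub.elim _ _
      rw [← hy, hy0, Ext.comp_zero]
      rfl
    exact ⟨fun a b => by rw [h0 a, h0 b]⟩

end Groth.Agent.Lib.helper19.ExtShift
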