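import Mathlib
import Groth.Prelude.Def_GrLC
import Groth.Agent.Lib.Helper19.GrMod
import Groth.Agent.Lib.Helper19.GrShift

/-!
# Finiteness properties of finitely generated graded modules over positively `ℤ`-graded
Noetherian rings (helper19), part 1

* `decompose_smul_of_tail` : `(r • t)_n = r_0 • t_n` if `t` has no components below `n`
* `projZero` : the projection `R → R_0` as a ring homomorphism; `deg0_noetherian`
* `finite_comp` : `M_n` is a finite `R_0`-module
* `piece_le_pow` : `R_d ⊆ (R_+)^t` for `d ≥ t * D`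
* `exists_bound_torsion` : `Γ_{R_+}(M)_n = 0` for `n ≫ 0`
-/

set_option autoImplicit false
universe u

namespace Groth.Agent.Lib.helper19.GrFin

open GrLC Groth.Agent.Lib.helper19.GrMod DirectSum

section Tail

variable {R : Type u} [CommRing R] (𝒜 : ℤ → AddSubgroup R) [GradedRing 𝒜]
variable {M : Type u} [AddCommGroup M] [Module R M] (ℳ : ℤ → AddSubgroup M)
  [DirectSum.Decomposition ℳ] [SetLike.GradedSMul 𝒜 ℳ]

include 𝒜 in
theorem decompose_smul_of_tail (hpos : ∀ n : ℤ, n < 0 → 𝒜 n = ⊥) (r : R) (t : M) (n : ℤ)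
    (ht : ∀ j < n, ((decompose ℳ t j : ℳ j) : M) = 0) :
    ((decompose ℳ (r • t) n : ℳ n) : M) =
        ((decompose 𝒜 r 0 : 𝒜 0) : R) • ((decompose ℳ t n : ℳ n) : M) ∧
      ∀ j < n, ((decompose ℳ (r • t) j : ℳ j) : M) = 0 := by
  classical
  induction r using DirectSum.Decomposition.inductionOn 𝒜 with
  | zero =>
    refine ⟨?_, fun j _ => ?_⟩
    · rw [zero_smul, decompose_zero, decompose_zero]
      simp
    · rw [zero_smul, decompose_zero]
      rfl
  | @homogeneous i r =>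
    rcases lt_trichotomy i 0 with hi | hi | hi
    · have hr0 : (r : R) = 0 := by
        have h1 : (r : R) ∈ 𝒜 i := r.2
        have h2 : (r : R) ∈ (⊥ : AddSubgroup R) := (hpos i hi) ▸ h1
        exact (AddSubgroup.mem_bot).1 h2
      rw [hr0]
      refine ⟨?_, fun j _ => ?_⟩
      · rw [zero_smul, decompose_zero, decompose_zero]
        simp
      · rw [zero_smul, decompose_zero]
        rfl
    · subst hi
      refine ⟨?_, fun j hj => ?_⟩
      · rw [decompose_smul_apply 𝒜 ℳ r.2 t n, decompose_of_mem_same 𝒜 r.2]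
        rw [coe_decompose_congr ℳ t (sub_zero n)]
      · rw [decompose_smul_apply 𝒜 ℳ r.2 t j, coe_decompose_congr ℳ t (sub_zero j), ht j hj, smul_zero]
    · refine ⟨?_, fun j hj => ?_⟩
      · rw [decompose_smul_apply 𝒜 ℳ r.2 t n, ht (n - i) (by omega), smul_zero,
          decompose_of_mem_ne 𝒜 r.2 (ne_of_gt hi), zero_smul]
      · rw [decompose_smul_apply 𝒜 ℳ r.2 t j, ht (j - i) (by omega), smul_zero]
  | add r s hr hs =>
    refine ⟨?_, fun j hj => ?_⟩
    · rw [add_smul, decompose_add, DirectSum.add_apply, AddSubgroup.coe_add, hr.1, hs.1,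
        decompose_add, DirectSum.add_apply, AddSubgroup.coe_add, add_smul]
    · rw [add_smul, decompose_add, DirectSum.add_apply, AddSubgroup.coe_add, hr.2 j hj, hs.2 j hj,
        add_zero]

end Tail

section Proj

variable {R : Type u} [CommRing R] (𝒜 : ℤ → AddSubgroup R) [GradedRing 𝒜]
  (hpos : ∀ n : ℤ, n < 0 → 𝒜 n = ⊥)

theorem coe_decompose_eq_zero_of_neg (hpos : ∀ n : ℤ, n < 0 → 𝒜 n = ⊥) (r : R) {j : ℤ} (hj : j < 0) :
    ((decompose 𝒜 r j : 𝒜 j) : R) = 0 := by
  have h1 : ((decompose 𝒜 r j : 𝒜 j) : R) ∈ 𝒜 j := SetLike.coe_mem _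
  have h2 : ((decompose 𝒜 r j : 𝒜 j) : R) ∈ (⊥ : AddSubgroup R) := (hpos j hj) ▸ h1
  exact (AddSubgroup.mem_bot).1 h2

/-- the projection onto the degree-zero subring, for a positively graded ring -/
noncomputable def projZero : R →+* deg0 𝒜 where
  toFun r := ⟨((decompose 𝒜 r 0 : 𝒜 0) : R), SetLike.coe_mem _⟩
  map_one' := Subtype.ext (decompose_of_mem_same 𝒜 SetLike.GradedOne.one_mem)
  map_zero' := Subtype.ext (by rw [decompose_zero]; rfl)
  map_add' x y := Subtype.ext (by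
    show ((decompose 𝒜 (x + y) 0 : 𝒜 0) : R) = _
    rw [decompose_add, DirectSum.add_apply, AddSubgroup.coe_add]
    rfl)
  map_mul' x y := Subtype.ext (by
    show ((decompose 𝒜 (x * y) 0 : 𝒜 0) : R) = ((decompose 𝒜 x 0 : 𝒜 0) : R) * ((decompose 𝒜 y 0 : 𝒜 0) : R)
    have := (decompose_smul_of_tail 𝒜 𝒜 hpos x y 0
      (fun j hj => coe_decompose_eq_zero_of_neg 𝒜 hpos y hj)).1
    rw [smul_eq_mul, smul_eq_mul] at this
    exact this)

theorem projZero_coe (c : deg0 𝒜) : projZero 𝒜 hpos (c : R) = c :=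
  Subtype.ext (decompose_of_mem_same 𝒜 c.2)

theorem projZero_surjective : Function.Surjective (projZero 𝒜 hpos) :=
  fun c => ⟨c, projZero_coe 𝒜 hpos c⟩

include hpos in
theorem deg0_noetherian [IsNoetherianRing R] : IsNoetherianRing (deg0 𝒜) :=
  isNoetherianRing_of_surjective R (deg0 𝒜) (projZero 𝒜 hpos) (projZero_surjective 𝒜 hpos)

end Proj

section FiniteComp

variable {R : Type u} [CommRing R] (𝒜 : ℤ → AddSubgroup R) [GradedRing 𝒜]
  (hpos : ∀ n : ℤ, n < 0 → 𝒜 n = ⊥)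
variable {M : Type u} [AddCommGroup M] [Module R M] (ℳ : ℤ → AddSubgroup M)
  [DirectSum.Decomposition ℳ] [SetLike.GradedSMul 𝒜 ℳ]

/-- elements with no component below `n` -/
def tail (n : ℤ) : Submodule R M where
  carrier := {t | ∀ j < n, ((decompose ℳ t j : ℳ j) : M) = 0}
  add_mem' := by
    intro a b ha hb j hj
    rw [decompose_add, DirectSum.add_apply, AddSubgroup.coe_add, ha j hj, hb j hj, add_zero]
  zero_mem' := by
    intro j _
    rw [decompose_zero]
    rfl
  smul_mem' := by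
    intro r t ht
    exact (decompose_smul_of_tail 𝒜 ℳ hpos r t n ht).2

theorem mem_tail_of_mem {n : ℤ} {y : M} (hy : y ∈ ℳ n) : y ∈ tail 𝒜 hpos ℳ n := by
  intro j hj
  rw [decompose_of_mem_ne ℳ hy (ne_of_gt hj)]

include hpos in
/-- the pieces of a finitely generated graded module are finite over `R_0` -/
theorem finite_comp [IsNoetherianRing R] [Module.Finite R M] (n : ℤ) :
    Module.Finite (deg0 𝒜) (comp 𝒜 ℳ n) := by
  classical
  obtain ⟨S, hS⟩ := (IsNoetherian.noetherian (tail 𝒜 hpos ℳ n) : (tail 𝒜 hpos ℳ n).FG)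
  rw [Module.Finite.iff_fg]
  refine ⟨S.image (fun t => ((decompose ℳ t n : ℳ n) : M)), ?_⟩
  apply le_antisymm
  · rw [Submodule.span_le]
    intro y hy
    obtain ⟨t, -, rfl⟩ := Finset.mem_image.1 hy
    exact SetLike.coe_mem _
  · intro y hy
    have hy' : y ∈ ℳ n := hy
    have hyT : y ∈ Submodule.span R (S : Set M) := by
      rw [hS]
      exact mem_tail_of_mem 𝒜 hpos ℳ hy'
    have key : ∀ z (hz : z ∈ Submodule.span R (S : Set M)),
        ((decompose ℳ z n : ℳ n) : M) ∈ Submodule.span (deg0 𝒜)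
          ((S.image (fun t => ((decompose ℳ t n : ℳ n) : M)) : Finset M) : Set M) := by
      intro z hz
      induction hz using Submodule.span_induction with
      | mem t ht =>
        exact Submodule.subset_span (Finset.mem_coe.2 (Finset.mem_image.2 ⟨t, ht, rfl⟩))
      | zero =>
        rw [decompose_zero]
        exact zero_mem _
      | add a b _ _ iha ihb =>
        rw [decompose_add, DirectSum.add_apply, AddSubgroup.coe_add]
        exact add_mem iha ihb
      | smul r a ha iha =>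
        have haT : a ∈ tail 𝒜 hpos ℳ n := by rw [← hS]; exact ha
        rw [(decompose_smul_of_tail 𝒜 ℳ hpos r a n haT).1]
        exact Submodule.smul_mem _ (⟨_, SetLike.coe_mem _⟩ : deg0 𝒜) iha
    have := key y hyT
    rw [decompose_of_mem_same ℳ hy'] at this
    exact this

end FiniteComp

section Irr

variable {R : Type u} [CommRing R] (𝒜 : ℤ → AddSubgroup R) [GradedRing 𝒜]
  (hpos : ∀ n : ℤ, n < 0 → 𝒜 n = ⊥)

/-- the irrelevant ideal -/
def irr : Ideal R := Ideal.span (⋃ n ∈ Set.Ioi (0 : ℤ), (𝒜 n : Set R))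

theorem mem_irr_of_mem {n : ℤ} (hn : 0 < n) {x : R} (hx : x ∈ 𝒜 n) : x ∈ irr 𝒜 :=
  Ideal.subset_span (Set.mem_biUnion (Set.mem_Ioi.2 hn) hx)

/-- pieces of high degree lie in high powers of the irrelevant ideal -/
theorem exists_piece_le_pow [IsNoetherianRing R] :
    ∃ D : ℕ, 0 < D ∧ ∀ (t : ℕ) (d : ℤ), ((t * D : ℕ) : ℤ) ≤ d → ∀ r ∈ 𝒜 d, r ∈ irr 𝒜 ^ t := by
  classical
  have hfg : (irr 𝒜).FG := IsNoetherian.noetherian _
  obtain ⟨S, hSsub, hSspan⟩ := (Submodule.fg_span_iff_fg_span_finset_subset _).1 hfg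
  have hdeg : ∀ s ∈ S, ∃ n : ℤ, 0 < n ∧ s ∈ 𝒜 n := by
    intro s hs
    have := hSsub (Finset.mem_coe.2 hs)
    simp only [Set.mem_iUnion, Set.mem_Ioi, SetLike.mem_coe] at this
    obtain ⟨n, hn, hsn⟩ := this
    exact ⟨n, hn, hsn⟩
  choose! dg hdg using hdeg
  refine ⟨1 + ∑ s ∈ S, (dg s).toNat, by omega, ?_⟩
  have hle : ∀ s ∈ S, dg s ≤ ((1 + ∑ s ∈ S, (dg s).toNat : ℕ) : ℤ) := by
    intro s hs
    have h1 : (dg s).toNat ≤ ∑ s ∈ S, (dg s).toNat :=
      Finset.single_le_sum (f := fun s => (dg s).toNat) (fun _ _ => Nat.zero_le _) hs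
    have h2 : dg s = ((dg s).toNat : ℤ) := (Int.toNat_of_nonneg (hdg s hs).1.le).symm
    omega
  intro t
  induction t with
  | zero =>
    intro d _ r _
    rw [pow_zero, Ideal.one_eq_top]
    exact Submodule.mem_top
  | succ t ih =>
    intro d hd r hr
    set D : ℕ := 1 + ∑ s ∈ S, (dg s).toNat with hD
    have hd1 : ((t * D : ℕ) : ℤ) + (D : ℤ) ≤ d := by
      have : ((t + 1) * D : ℕ) = t * D + D := by ring
      rw [this] at hd
      push_cast at hd ⊢
      exact hd
    have hdpos : 0 < d := by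
      have : (0 : ℤ) ≤ ((t * D : ℕ) : ℤ) := Int.natCast_nonneg _
      have hD1 : (1 : ℤ) ≤ (D : ℤ) := by
        have : 1 ≤ D := by rw [hD]; omega
        exact_mod_cast this
      omega
    have hrirr : r ∈ Submodule.span R ((S : Set R)) := by
      have h1 : r ∈ irr 𝒜 := mem_irr_of_mem 𝒜 hdpos hr
      have h2 : irr 𝒜 = Submodule.span R (S : Set R) := hSspan
      rw [h2] at h1
      exact h1
    rw [← Set.image_id (S : Set R)] at hrirr
    obtain ⟨l, hl, hlr⟩ := (Finsupp.mem_span_image_iff_linearCombination R).1 hrirr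
    rw [Finsupp.linearCombination_apply] at hlr
    have hr2 : r = ((decompose 𝒜 r d : 𝒜 d) : R) := (decompose_of_mem_same 𝒜 hr).symm
    rw [hr2, ← hlr]
    unfold Finsupp.sum
    rw [decompose_sum, DFinsupp.finsetSum_apply, AddSubmonoidClass.coe_finsetSum]
    apply Ideal.sum_mem
    intro s hs
    have hsS : s ∈ S := Finset.mem_coe.1 (hl hs)
    have h3 : (fun i a => a • id i) s (l s) = s • l s := by
      simp [mul_comm]
    rw [h3, decompose_smul_apply 𝒜 𝒜 (hdg s hsS).2 (l s) d, pow_succ', smul_eq_mul]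
    apply Ideal.mul_mem_mul (mem_irr_of_mem 𝒜 (hdg s hsS).1 (hdg s hsS).2)
    apply ih (d - dg s) _ _ (SetLike.coe_mem _)
    have := hle s hsS
    omega

end Irr

section Torsion

variable {R : Type u} [CommRing R] [IsNoetherianRing R]

/-- a finitely generated `a`-torsion submodule is killed by a power of `a` -/
theorem exists_pow_smul_gam_eq_bot (a : Ideal R) {M : Type u} [AddCommGroup M] [Module R M]
    [Module.Finite R M] : ∃ t : ℕ, ∀ y ∈ gam a M, ∀ r ∈ a ^ t, r • y = 0 := by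
  classical
  obtain ⟨S, hS⟩ := (IsNoetherian.noetherian (gam a M) : (gam a M).FG)
  have hk : ∀ s ∈ S, ∃ k : ℕ, ∀ r ∈ a ^ k, r • s = 0 := by
    intro s hs
    have : s ∈ gam a M := by rw [← hS]; exact Submodule.subset_span hs
    exact this
  choose! k hk' using hk
  refine ⟨∑ s ∈ S, k s, ?_⟩
  intro y hy r hr
  rw [← hS] at hy
  induction hy using Submodule.span_induction with
  | mem s hs =>
    apply hk' s hs
    exact Ideal.pow_le_pow_right (Finset.single_le_sum (f := k) (fun _ _ => Nat.zero_le _) hs) hr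
  | zero => exact smul_zero r
  | add x z _ _ hx hz => rw [smul_add, hx, hz, add_zero]
  | smul c x _ hx => rw [smul_comm, hx, smul_zero]

variable (𝒜 : ℤ → AddSubgroup R) [GradedRing 𝒜] (hpos : ∀ n : ℤ, n < 0 → 𝒜 n = ⊥)
variable {M : Type u} [AddCommGroup M] [Module R M] (ℳ : ℤ → AddSubgroup M)
  [DirectSum.Decomposition ℳ] [SetLike.GradedSMul 𝒜 ℳ]

/-- pieces of high degree of a finitely generated graded module lie in `(R_+)^t M` -/
theorem exists_piece_le_pow_smul [Module.Finite R M] (t : ℕ) :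
    ∃ r0 : ℤ, ∀ n, r0 ≤ n → ∀ m ∈ ℳ n, m ∈ (irr 𝒜 ^ t • (⊤ : Submodule R M)) := by
  classical
  obtain ⟨D, -, hD⟩ := exists_piece_le_pow 𝒜
  obtain ⟨T₀, hT₀, hspan⟩ := Groth.Agent.Lib.helper19.GrShift.exists_homogeneous_generators (R := R) ℳ
  refine ⟨(∑ p ∈ T₀, (p.1.natAbs : ℤ)) + ((t * D : ℕ) : ℤ), ?_⟩
  intro n hn m hm
  have hle : ∀ p ∈ T₀, p.1 ≤ ∑ p ∈ T₀, (p.1.natAbs : ℤ) := by
    intro p hp
    have h1 : (p.1.natAbs : ℤ) ≤ ∑ p ∈ T₀, (p.1.natAbs : ℤ) :=
      Finset.single_le_sum (f := fun p : ℤ × M => (p.1.natAbs : ℤ)) (fun _ _ => Int.natCast_nonneg _) hp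
    have h2 : p.1 ≤ (p.1.natAbs : ℤ) := Int.le_natAbs
    omega
  have hmspan : m ∈ Submodule.span R (Prod.snd '' (T₀ : Set (ℤ × M))) := by
    rw [hspan]; exact Submodule.mem_top
  obtain ⟨l, hl, hlm⟩ := (Finsupp.mem_span_image_iff_linearCombination R).1 hmspan
  rw [Finsupp.linearCombination_apply] at hlm
  have hm2 : m = ((decompose ℳ m n : ℳ n) : M) := (decompose_of_mem_same ℳ hm).symm
  rw [hm2, ← hlm]
  unfold Finsupp.sum
  rw [decompose_sum, DFinsupp.finsetSum_apply, AddSubmonoidClass.coe_finsetSum]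
  apply Submodule.sum_mem
  intro p hp
  have hpT : p ∈ T₀ := Finset.mem_coe.1 (hl hp)
  show ((decompose ℳ (l p • p.2) n : ℳ n) : M) ∈ _
  rw [decompose_smul_apply' 𝒜 ℳ (l p) (hT₀ p hpT) n]
  apply Submodule.smul_mem_smul _ Submodule.mem_top
  apply hD t (n - p.1) _ _ (SetLike.coe_mem _)
  have := hle p hpT
  omega

include hpos in
/-- the `R_+`-torsion of a finitely generated graded module vanishes in high degrees -/
theorem exists_bound_torsion [Module.Finite R M] :
    ∃ r0 : ℤ, ∀ n, r0 ≤ n → ∀ m ∈ ℳ n, m ∈ gam (irr 𝒜) M → m = 0 := by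
  classical
  obtain ⟨t, ht⟩ := exists_pow_smul_gam_eq_bot (irr 𝒜) (M := M)
  obtain ⟨c, hc⟩ := Ideal.exists_pow_inf_eq_pow_smul (irr 𝒜) (gam (irr 𝒜) M)
  obtain ⟨r0, hr0⟩ := exists_piece_le_pow_smul 𝒜 ℳ (t + c)
  refine ⟨r0, fun n hn m hm hmT => ?_⟩
  have h1 : m ∈ (irr 𝒜 ^ (t + c) • (⊤ : Submodule R M)) ⊓ gam (irr 𝒜) M := ⟨hr0 n hn m hm, hmT⟩
  rw [hc (t + c) (Nat.le_add_left c t), Nat.add_sub_cancel] at h1
  have h2 : irr 𝒜 ^ t • ((irr 𝒜 ^ c • (⊤ : Submodule R M)) ⊓ gam (irr 𝒜) M) ≤ ⊥ := by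
    rw [Submodule.smul_le]
    intro r hr y hy
    rw [Submodule.mem_bot]
    exact ht y hy.2 r hr
  exact (Submodule.mem_bot R).1 (h2 h1)

end Torsion

end Groth.Agent.Lib.helper19.GrFin
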