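import Mathlib
import Groth.Prelude.Def_GrLC
import Groth.Agent.Lib.Helper19.GrMod
import Groth.Agent.Lib.Helper19.GrFin1

/-!
# Finiteness properties of graded modules (helper19), part 2:
homogeneous prime avoidance and homogeneous regular elements of positive degree
(the proof of prime avoidance follows helper26's `Seg.exists_homogeneous_notMem`, here for rings
graded by additive subgroups)
-/

set_option autoImplicit false
universe u

namespace Groth.Agent.Lib.helper19.GrFin

open GrLC Groth.Agent.Lib.helper19.GrMod DirectSum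

section Avoid

variable {R : Type u} [CommRing R] (𝒜 : ℤ → AddSubgroup R) [GradedRing 𝒜]

theorem exists_homogeneous_notMem_of_not_le (p : Ideal R) (hp : ¬ irr 𝒜 ≤ p) :
    ∃ (n : ℤ) (_ : 0 < n) (x : R), x ∈ 𝒜 n ∧ x ∉ p := by
  by_contra hcon
  push Not at hcon
  apply hp
  unfold irr
  rw [Ideal.span_le]
  intro x hx
  simp only [Set.mem_iUnion, Set.mem_Ioi, SetLike.mem_coe] at hx
  obtain ⟨n, hn, hxn⟩ := hx
  exact hcon n hn x hxn

/-- **Homogeneous prime avoidance.** -/
theorem exists_homogeneous_notMem : ∀ (m : ℕ) (s : Finset (Ideal R)), s.card = m →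
    (∀ p ∈ s, p.IsPrime ∧ ¬ irr 𝒜 ≤ p) →
    ∃ (d : ℕ) (_ : 0 < d) (x : R), x ∈ 𝒜 d ∧ ∀ p ∈ s, x ∉ p := by
  classical
  intro m
  induction m using Nat.strong_induction_on with
  | _ m ih =>
  intro s hcard hs
  rcases Nat.eq_zero_or_pos m with hm | hm
  · subst hm
    rw [Finset.card_eq_zero] at hcard
    subst hcard
    exact ⟨1, one_pos, 0, zero_mem _, by simp⟩
  -- for each `p ∈ s` an element avoiding the others
  have hstep : ∀ p ∈ s, ∃ (d : ℕ) (_ : 0 < d) (x : R), x ∈ 𝒜 d ∧ ∀ q ∈ s.erase p, x ∉ q := by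
    intro p hp
    apply ih (m - 1) (by omega) (s.erase p) (by rw [Finset.card_erase_of_mem hp, hcard])
    intro q hq
    exact hs q (Finset.mem_of_mem_erase hq)
  by_cases hex : ∃ p ∈ s, ∃ (d : ℕ) (_ : 0 < d) (x : R), x ∈ 𝒜 d ∧ (∀ q ∈ s.erase p, x ∉ q) ∧ x ∉ p
  · obtain ⟨p, hp, d, hd, x, hx, hxq, hxp⟩ := hex
    refine ⟨d, hd, x, hx, ?_⟩
    intro q hq
    by_cases hqp : q = p
    · subst hqp; exact hxp
    · exact hxq q (Finset.mem_erase.2 ⟨hqp, hq⟩)
  push Not at hex
  -- choose the elements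
  choose! d hd x hx hxq using hstep
  have hxp : ∀ p ∈ s, x p ∈ p := fun p hp => hex p hp (d p) (hd p hp) (x p) (hx p hp) (hxq p hp)
  obtain ⟨p₁, hp₁⟩ : s.Nonempty := by
    rw [← Finset.card_pos, hcard]; exact hm
  by_cases hone : s.erase p₁ = ∅
  · -- only one prime
    obtain ⟨n, hn, y, hy, hyp⟩ := exists_homogeneous_notMem_of_not_le 𝒜 p₁ (hs p₁ hp₁).2
    lift n to ℕ using hn.le
    refine ⟨n, by exact_mod_cast hn, y, hy, ?_⟩
    intro q hq
    by_cases hqp : q = p₁
    · subst hqp; exact hyp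
    · exfalso
      have : q ∈ s.erase p₁ := Finset.mem_erase.2 ⟨hqp, hq⟩
      rw [hone] at this
      simp at this
  -- several primes
  set s' := s.erase p₁ with hs'
  set y : R := ∏ q ∈ s', x q with hy
  set e : ℕ := ∑ q ∈ s', d q with he
  have hymem : y ∈ 𝒜 (e : ℤ) := by
    rw [hy, he]
    have : ∀ t : Finset (Ideal R), t ⊆ s' → (∏ q ∈ t, x q) ∈ 𝒜 ((∑ q ∈ t, d q : ℕ) : ℤ) := by
      intro t
      induction t using Finset.induction_on with
      | empty => intro _; simpa using SetLike.GradedOne.one_mem (A := 𝒜)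
      | insert a t ha iht =>
        intro hsub
        rw [Finset.prod_insert ha, Finset.sum_insert ha]
        push_cast
        have ha' : a ∈ s := Finset.mem_of_mem_erase (hsub (Finset.mem_insert_self _ _))
        exact SetLike.mul_mem_graded (hx a ha')
          (by simpa using iht (fun q hq => hsub (Finset.mem_insert_of_mem hq)))
    exact this s' subset_rfl
  have hepos : 0 < e := by
    obtain ⟨q, hq⟩ := Finset.nonempty_iff_ne_empty.2 hone
    have hq' : q ∈ s := Finset.mem_of_mem_erase hq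
    exact lt_of_lt_of_le (hd q hq') (Finset.single_le_sum (f := d) (fun _ _ => Nat.zero_le _) hq)
  have hd1 : 0 < d p₁ := hd p₁ hp₁
  refine ⟨d p₁ * e, Nat.mul_pos hd1 hepos, x p₁ ^ e + y ^ (d p₁), ?_, ?_⟩
  · apply add_mem
    · have := SetLike.pow_mem_graded e (hx p₁ hp₁)
      simpa [mul_comm] using this
    · have := SetLike.pow_mem_graded (d p₁) hymem
      simpa [mul_comm] using this
  · intro q hq
    have hqprime : q.IsPrime := (hs q hq).1
    by_cases hqp : q = p₁
    · subst hqp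
      -- x q ∈ q, y ∉ q
      intro hmem
      have h1 : x q ^ e ∈ q := Ideal.pow_mem_of_mem _ (hxp q hq) e hepos
      have h2 : y ^ (d q) ∈ q := (Ideal.add_mem_iff_right _ h1).1 hmem
      have h3 : y ∈ q := hqprime.mem_of_pow_mem _ h2
      rw [hy] at h3
      obtain ⟨q', hq', hq'mem⟩ := (hqprime.prod_mem_iff).1 h3
      have hq's : q' ∈ s := Finset.mem_of_mem_erase hq'
      have hne : q ≠ q' := fun h => (Finset.mem_erase.1 hq').1 h.symm
      exact hxq q' hq's q (Finset.mem_erase.2 ⟨hne, hq⟩) hq'mem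
    · -- x p₁ ∉ q, y ∈ q
      intro hmem
      have hqs' : q ∈ s' := Finset.mem_erase.2 ⟨hqp, hq⟩
      have h1 : y ∈ q := by
        obtain ⟨c, hc⟩ := Finset.dvd_prod_of_mem x hqs'
        rw [hy, hc]
        exact q.mul_mem_right _ (hxp q hq)
      have h2 : y ^ (d p₁) ∈ q := Ideal.pow_mem_of_mem _ h1 _ hd1
      have h3 : x p₁ ^ e ∈ q := (Ideal.add_mem_iff_left _ h2).1 hmem
      have h4 : x p₁ ∈ q := hqprime.mem_of_pow_mem _ h3
      exact hxq p₁ hp₁ q hqs' h4

end Avoid

section Regular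

variable {R : Type u} [CommRing R] [IsNoetherianRing R] (𝒜 : ℤ → AddSubgroup R) [GradedRing 𝒜]
variable (M : Type u) [AddCommGroup M] [Module R M] [Module.Finite R M]

/-- if `Γ_{R_+}(M) = 0` for a finite module `M` then there is a homogeneous `M`-regular element of
positive degree -/
theorem exists_homogeneous_regular (htors : gam (irr 𝒜) M = ⊥) :
    ∃ (d : ℕ) (_ : 0 < d) (x : R), x ∈ 𝒜 d ∧ IsSMulRegular M x := by
  classical
  have hfin : (associatedPrimes R M).Finite := associatedPrimes.finite R M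
  obtain ⟨d, hd, x, hx, hxs⟩ := exists_homogeneous_notMem 𝒜 _ hfin.toFinset rfl (by
    intro p hp
    have hp' : p ∈ associatedPrimes R M := hfin.mem_toFinset.1 hp
    refine ⟨hp'.isPrime, fun hle => ?_⟩
    obtain ⟨hprime, m, hm⟩ := isAssociatedPrime_iff.1 hp'
    have hmT : m ∈ gam (irr 𝒜) M := by
      refine ⟨1, fun r hr => ?_⟩
      rw [pow_one] at hr
      have : r ∈ p := hle hr
      rw [hm] at this
      exact (Submodule.mem_colon_singleton.1 this)
    rw [htors, Submodule.mem_bot] at hmT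
    apply hprime.ne_top
    rw [hm, hmT]
    rw [Ideal.eq_top_iff_one]
    exact Submodule.mem_colon_singleton.2 (by rw [smul_zero]; exact Submodule.zero_mem _))
  refine ⟨d, hd, x, hx, ?_⟩
  have hunion := biUnion_associatedPrimes_eq_compl_regular R M
  by_contra hnr
  have hx' : x ∈ {r : R | IsSMulRegular M r}ᶜ := hnr
  rw [← hunion] at hx'
  obtain ⟨p, hp, hxp⟩ := Set.mem_iUnion₂.1 hx'
  exact hxs p (hfin.mem_toFinset.2 hp) hxp

end Regular

end Groth.Agent.Lib.helper19.GrFin
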