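import Mathlib
import Groth.Prelude.Def_GrLC
import Groth.Agent.Lib.Helper19.GrMod
import Groth.Agent.Lib.Helper19.GrShift
import Groth.Agent.Lib.Helper19.GrLes1
import Groth.Agent.Lib.Helper19.GrLes2
import Groth.Agent.Lib.Helper19.GrLes3
import Groth.Agent.Lib.Helper19.GrLes4
import Groth.Agent.Lib.Helper19.GrLes5
import Groth.Agent.Lib.Helper19.GrLes6

/-!
# Graded homological algebra for `GrLC.StarInjRes` (helper19), part 7:
`endDeg` calculus, the `a`-invariant step for a homogeneous regular element, invariance under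
graded isomorphisms.
-/

set_option autoImplicit false
universe u

namespace Groth.Agent.Lib.helper19.GrLes

open GrLC Groth.Agent.Lib.helper19.GrMod Groth.Agent.Lib.helper19.GrShift

section EndDeg

/-- the value type of `endDeg` -/
abbrev W := WithBot (WithTop ℤ)

theorem cast_add (a b : ℤ) : ((a : WithTop ℤ) : W) + ((b : WithTop ℤ) : W) = (((a + b : ℤ) : WithTop ℤ) : W) := by
  push_cast
  rfl

theorem cast_le {a b : ℤ} : ((a : WithTop ℤ) : W) ≤ ((b : WithTop ℤ) : W) ↔ a ≤ b := by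
  rw [WithBot.coe_le_coe, WithTop.coe_le_coe]

theorem add_cast_neg_cancel (w : W) (k : ℤ) :
    w + ((k : WithTop ℤ) : W) + (((-k : ℤ) : WithTop ℤ) : W) = w := by
  rw [add_assoc, cast_add, add_neg_cancel]
  exact add_zero w

theorem add_cast_neg_cancel' (w : W) (k : ℤ) :
    w + (((-k : ℤ) : WithTop ℤ) : W) + ((k : WithTop ℤ) : W) = w := by
  rw [add_assoc, cast_add, neg_add_cancel]
  exact add_zero w

variable {M : Type u} [AddCommGroup M]

theorem le_endDeg (ℳ : ℤ → AddSubgroup M) {n : ℤ} (h : ℳ n ≠ ⊥) :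
    ((n : WithTop ℤ) : W) ≤ endDeg ℳ :=
  le_iSup₂ (f := fun (n : ℤ) (_ : ℳ n ≠ ⊥) => ((n : WithTop ℤ) : W)) n h

theorem endDeg_le (ℳ : ℤ → AddSubgroup M) (c : W) (h : ∀ n, ℳ n ≠ ⊥ → ((n : WithTop ℤ) : W) ≤ c) :
    endDeg ℳ ≤ c :=
  iSup₂_le h

theorem endDeg_add_le (ℳ : ℤ → AddSubgroup M) (k : ℤ) (c : W)
    (h : ∀ n, ℳ n ≠ ⊥ → ((n : WithTop ℤ) : W) + ((k : WithTop ℤ) : W) ≤ c) :
    endDeg ℳ + ((k : WithTop ℤ) : W) ≤ c := by
  have h1 : endDeg ℳ ≤ c + (((-k : ℤ) : WithTop ℤ) : W) := by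
    apply endDeg_le
    intro n hn
    have h2 := add_le_add_left (h n hn) (((-k : ℤ) : WithTop ℤ) : W)
    rw [add_cast_neg_cancel] at h2
    exact h2
  have h3 := add_le_add_left h1 ((k : WithTop ℤ) : W)
  rw [add_cast_neg_cancel'] at h3
  exact h3

theorem endDeg_eq_bot (ℳ : ℤ → AddSubgroup M) (h : ∀ n, ℳ n = ⊥) : endDeg ℳ = ⊥ := by
  apply le_antisymm _ bot_le
  apply endDeg_le
  intro n hn
  exact absurd (h n) hn

theorem endDeg_congr {N : Type u} [AddCommGroup N] (ℳ : ℤ → AddSubgroup M) (𝒩 : ℤ → AddSubgroup N)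
    (h : ∀ n, ℳ n = ⊥ ↔ 𝒩 n = ⊥) : endDeg ℳ = endDeg 𝒩 := by
  apply le_antisymm
  · apply endDeg_le
    intro n hn
    exact le_endDeg 𝒩 (fun h' => hn ((h n).2 h'))
  · apply endDeg_le
    intro n hn
    exact le_endDeg ℳ (fun h' => hn ((h n).1 h'))

end EndDeg

section SMul

variable {ι : Type} [AddCommGroup ι] [DecidableEq ι]
variable {R : Type u} [CommRing R] {𝒜 : ι → AddSubgroup R} [GradedRing 𝒜]
variable {M : Type u} [AddCommGroup M] [Module R M] {ℳ : ι → AddSubgroup M}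
  [DirectSum.Decomposition ℳ] [SetLike.GradedSMul 𝒜 ℳ]

theorem smul_mem_Hgr (E : StarInjRes 𝒜 ℳ) (a : HomogeneousIdeal 𝒜) (n : ℕ) {x : R} {k : ι} (hx : x ∈ 𝒜 k)
    {g : ι} {y : E.H a n} (hy : y ∈ E.Hgr a n g) : x • y ∈ E.Hgr a n (k + g) := by
  obtain ⟨z, hz, rfl⟩ := hy
  refine ⟨x • z, ?_, map_smul _ _ _⟩
  exact smul_mem_add 𝒜 (E.X n).gr hx hz

theorem eq_bot_of_subsingleton (E : StarInjRes 𝒜 ℳ) (a : HomogeneousIdeal 𝒜) (n : ℕ)
    [Subsingleton (E.H a n)] (g : ι) : E.Hgr a n g = ⊥ := by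
  rw [eq_bot_iff]
  intro y _
  rw [Subsingleton.elim y 0]
  exact zero_mem _

end SMul

section Step

variable {R : Type u} [CommRing R] [IsNoetherianRing R] {𝒜 : ℤ → AddSubgroup R} [GradedRing 𝒜]
variable {M : Type u} [AddCommGroup M] [Module R M] {ℳ : ℤ → AddSubgroup M}
  [DirectSum.Decomposition ℳ] [SetLike.GradedSMul 𝒜 ℳ]
variable {N : Type u} [AddCommGroup N] [Module R N] {𝒩 : ℤ → AddSubgroup N}
  [DirectSum.Decomposition 𝒩] [SetLike.GradedSMul 𝒜 𝒩]

theorem pow_smul_mem_Hgr (E : StarInjRes 𝒜 ℳ) (a : HomogeneousIdeal 𝒜) (n : ℕ) {x : R} {k : ℤ}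
    (hx : x ∈ 𝒜 k) {g : ℤ} {y : E.H a n} (hy : y ∈ E.Hgr a n g) (j : ℕ) :
    x ^ j • y ∈ E.Hgr a n (g + j * k) := by
  induction j with
  | zero =>
    rw [pow_zero, one_smul]
    have : g + ((0 : ℕ) : ℤ) * k = g := by simp
    rw [this]
    exact hy
  | succ j ih =>
    have h1 := smul_mem_Hgr E a n hx ih
    have h2 : k + (g + (j : ℤ) * k) = g + ((j + 1 : ℕ) : ℤ) * k := by push_cast; ring
    rw [h2] at h1
    rw [pow_succ', mul_smul]
    exact h1

/-- the `a`-invariant step: if `x ∈ a` is homogeneous of degree `k ≥ 0`, regular on `M`, `N = M/xM`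
and `H^i_a(M) = 0`, then `end H^i_a(N) = end H^{i+1}_a(M) + k`. -/
theorem endDeg_step (E : StarInjRes 𝒜 ℳ) (F : StarInjRes 𝒜 𝒩) (x : R) (k : ℤ) (hx : x ∈ 𝒜 k)
    (hk : 0 ≤ k) (a : HomogeneousIdeal 𝒜) (hxa : x ∈ a.toIdeal)
    (hreg : IsSMulRegular M x) (π : M →ₗ[R] N) (hπ : IsGrHom ℳ 𝒩 π) (hsurj : Function.Surjective π)
    (hker : LinearMap.ker π = LinearMap.range (x • (LinearMap.id : M →ₗ[R] M)))
    (i : ℕ) (hvan : Subsingleton (E.H a i)) :
    endDeg (F.Hgr a i) = endDeg (E.Hgr a (i + 1)) + ((k : WithTop ℤ) : W) := by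
  classical
  obtain ⟨ψ, δ, -, hδgr, -, -, -, hP2, -, hP3, -⟩ := les_regular E F x k hx hreg π hπ hsurj hker a
  apply le_antisymm
  · apply endDeg_le
    intro g hg
    obtain ⟨⟨w, hw⟩, hw0'⟩ := (AddSubgroup.ne_bot_iff_exists_ne_zero).1 hg
    have hw0 : w ≠ 0 := fun h => hw0' (Subtype.ext h)
    have h1 : δ i w ∈ E.Hgr a (i + 1) (g - k) := hδgr i g w hw
    have h2 : δ i w ≠ 0 := by
      intro h0
      obtain ⟨y, -, hy⟩ := hP2 i g w hw h0
      rw [Subsingleton.elim y 0, map_zero] at hy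
      exact hw0 hy.symm
    have h3 : E.Hgr a (i + 1) (g - k) ≠ ⊥ := by
      intro hbot
      rw [hbot] at h1
      exact h2 ((AddSubgroup.mem_bot).1 h1)
    have h4 := add_le_add_left (le_endDeg (E.Hgr a (i + 1)) h3) ((k : WithTop ℤ) : W)
    rw [cast_add, sub_add_cancel] at h4
    exact h4
  · apply endDeg_add_le
    intro g hg
    obtain ⟨⟨y, hy⟩, hy0'⟩ := (AddSubgroup.ne_bot_iff_exists_ne_zero).1 hg
    have hy0 : y ≠ 0 := fun h => hy0' (Subtype.ext h)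
    have hex : ∃ j : ℕ, x ^ j • y = 0 := exists_pow_smul_eq_zero' a E (i + 1) y x hxa
    have hn0 : Nat.find hex ≠ 0 := by
      intro h0
      have := Nat.find_spec hex
      rw [h0, pow_zero, one_smul] at this
      exact hy0 this
    obtain ⟨n1, hn1⟩ := Nat.exists_eq_succ_of_ne_zero hn0
    have hmin : x ^ n1 • y ≠ 0 := Nat.find_min hex (by rw [hn1]; exact Nat.lt_succ_self n1)
    have hkill : x • (x ^ n1 • y) = 0 := by
      have := Nat.find_spec hex
      rw [hn1, Nat.succ_eq_add_one, pow_succ', mul_smul] at this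
      exact this
    have hmem : x ^ n1 • y ∈ E.Hgr a (i + 1) (g + n1 * k) := pow_smul_mem_Hgr E a (i + 1) hx hy n1
    obtain ⟨w, hw, hδw⟩ := hP3 i (g + n1 * k) (x ^ n1 • y) hmem hkill
    have hw0 : w ≠ 0 := by
      intro h0
      rw [h0, map_zero] at hδw
      exact hmin hδw.symm
    have h3 : F.Hgr a i (g + n1 * k + k) ≠ ⊥ := by
      intro hbot
      rw [hbot] at hw
      exact hw0 ((AddSubgroup.mem_bot).1 hw)
    rw [cast_add]
    refine le_trans ?_ (le_endDeg (F.Hgr a i) h3)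
    rw [cast_le]
    have : 0 ≤ (n1 : ℤ) * k := mul_nonneg (Int.natCast_nonneg n1) hk
    lia

end Step

section Iso

variable {ι : Type} [AddCommGroup ι] [DecidableEq ι]
variable {R : Type u} [CommRing R] {𝒜 : ι → AddSubgroup R} [GradedRing 𝒜]
variable {M : Type u} [AddCommGroup M] [Module R M] {ℳ : ι → AddSubgroup M}
  [DirectSum.Decomposition ℳ] [SetLike.GradedSMul 𝒜 ℳ]
variable {N : Type u} [AddCommGroup N] [Module R N] {𝒩 : ι → AddSubgroup N}
  [DirectSum.Decomposition 𝒩] [SetLike.GradedSMul 𝒜 𝒩]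

/-- graded local cohomology is invariant under graded isomorphisms -/
theorem Hgr_eq_bot_iff_of_bijective (E : StarInjRes 𝒜 ℳ) (F : StarInjRes 𝒜 𝒩) (π : M →ₗ[R] N)
    (hπ : IsGrHom ℳ 𝒩 π) (hbij : Function.Bijective π) (a : HomogeneousIdeal 𝒜) (n : ℕ) (g : ι) :
    E.Hgr a n g = ⊥ ↔ F.Hgr a n g = ⊥ := by
  classical
  let e : M ≃ₗ[R] N := LinearEquiv.ofBijective π hbij
  have he : IsGrHom 𝒩 ℳ e.symm.toLinearMap := by
    intro d y hy
    apply mem_of_map_mem ℳ 𝒩 π hπ hbij.1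
    have : π (e.symm y) = y := e.apply_symm_apply y
    show π (e.symm y) ∈ 𝒩 d
    rw [this]
    exact hy
  obtain ⟨c⟩ := exists_cmap E F π hπ
  obtain ⟨c'⟩ := exists_cmap F E e.symm.toLinearMap he
  have h1 : ∀ y, c'.Hmap a n (c.Hmap a n y) = y := by
    intro y
    rw [← CMap.Hmap_comp, Hmap_eq' (c.comp c') (CMap.id E)
      (by ext m; exact e.symm_apply_apply m), CMap.Hmap_id]
  have h2 : ∀ y, c.Hmap a n (c'.Hmap a n y) = y := by
    intro y
    rw [← CMap.Hmap_comp, Hmap_eq' (c'.comp c) (CMap.id F)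
      (by ext m; exact e.apply_symm_apply m), CMap.Hmap_id]
  constructor
  · intro hE
    rw [eq_bot_iff]
    intro y hy
    have h3 : c'.Hmap a n y ∈ E.Hgr a n g := c'.Hmap_isGrHom a n g y hy
    rw [hE] at h3
    have h4 : c'.Hmap a n y = 0 := (AddSubgroup.mem_bot).1 h3
    rw [← h2 y, h4, map_zero]
    exact zero_mem _
  · intro hF
    rw [eq_bot_iff]
    intro y hy
    have h3 : c.Hmap a n y ∈ F.Hgr a n g := c.Hmap_isGrHom a n g y hy
    rw [hF] at h3
    have h4 : c.Hmap a n y = 0 := (AddSubgroup.mem_bot).1 h3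
    rw [← h1 y, h4, map_zero]
    exact zero_mem _

end Iso

end Groth.Agent.Lib.helper19.GrLes
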