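import Mathlib
import Groth.Prelude.Def_GrLC
import Groth.Prelude.Def_CAlg
import Groth.Agent.Lib.Helper19.GrMod
import Groth.Agent.Lib.Helper19.GrShift
import Groth.Agent.Lib.Helper19.GrLes7
import Groth.Agent.Lib.Helper26.Depth3
import Groth.Agent.S13215
import Groth.Agent.S13224
import Groth.Agent.S0318
import Groth.Agent.Lib.Helper19.LCGroth

/-!
# Graded homological algebra for `GrLC.StarInjRes` (helper19), part 8:
the `a`-invariant of a quotient by a homogeneous regular sequence.
-/

set_option autoImplicit false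
universe u

namespace Groth.Agent.Lib.helper19.GrLes

open GrLC Groth.Agent.Lib.helper19.GrMod Groth.Agent.Lib.helper19.GrShift
open scoped Pointwise

section Quot

variable {ι : Type} [AddCommGroup ι] [DecidableEq ι]
variable {R : Type u} [CommRing R] {𝒜 : ι → AddSubgroup R} [GradedRing 𝒜]
variable {M : Type u} [AddCommGroup M] [Module R M] {ℳ : ι → AddSubgroup M}
  [DirectSum.Decomposition ℳ] [SetLike.GradedSMul 𝒜 ℳ]

theorem smul_top_isHomogeneous {x : R} {k : ι} (hx : x ∈ 𝒜 k) :
    (x • (⊤ : Submodule R M)).IsHomogeneous ℳ := by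
  intro n y hy
  obtain ⟨m, -, rfl⟩ := (Submodule.mem_smul_pointwise_iff_exists _ _ _).1 hy
  rw [decompose_smul_apply 𝒜 ℳ hx m n]
  exact Submodule.smul_mem_pointwise_smul _ _ _ Submodule.mem_top

omit [DecidableEq ι] [AddCommGroup ι] in
theorem smul_top_eq_range (x : R) :
    (x • (⊤ : Submodule R M)) = LinearMap.range (x • (LinearMap.id : M →ₗ[R] M)) := by
  ext y
  rw [Submodule.mem_smul_pointwise_iff_exists]
  constructor
  · rintro ⟨m, -, rfl⟩
    exact ⟨m, rfl⟩
  · rintro ⟨m, rfl⟩
    exact ⟨m, Submodule.mem_top, rfl⟩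

end Quot

section Ker

variable {R : Type u} [CommRing R] {M : Type u} [AddCommGroup M] [Module R M]
  {N : Type u} [AddCommGroup N] [Module R N]

theorem smul_top_le_ker_of_cons (x : R) (rs : List R) (π : M →ₗ[R] N)
    (hker : LinearMap.ker π = Ideal.ofList (x :: rs) • (⊤ : Submodule R M)) :
    (x • (⊤ : Submodule R M)) ≤ LinearMap.ker π := by
  rw [hker]
  intro y hy
  obtain ⟨m, -, rfl⟩ := (Submodule.mem_smul_pointwise_iff_exists _ _ _).1 hy
  exact Submodule.smul_mem_smul (Ideal.subset_span (by simp)) Submodule.mem_top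

theorem ker_liftQ_cons (x : R) (rs : List R) (π : M →ₗ[R] N)
    (hker : LinearMap.ker π = Ideal.ofList (x :: rs) • (⊤ : Submodule R M)) :
    LinearMap.ker ((x • (⊤ : Submodule R M)).liftQ π (smul_top_le_ker_of_cons x rs π hker)) =
      Ideal.ofList rs • (⊤ : Submodule R (M ⧸ (x • (⊤ : Submodule R M)))) := by
  apply le_antisymm
  · intro q hq
    obtain ⟨m, rfl⟩ := Submodule.mkQ_surjective _ q
    have hm : m ∈ LinearMap.ker π := hq
    rw [hker, Ideal.ofList_cons, Submodule.sup_smul, Submodule.ideal_span_singleton_smul] at hm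
    obtain ⟨u, hu, v, hv, rfl⟩ := Submodule.mem_sup.1 hm
    rw [map_add]
    have hu0 : (x • (⊤ : Submodule R M)).mkQ u = 0 := (Submodule.Quotient.mk_eq_zero _).2 hu
    rw [hu0, zero_add]
    have h1 : (x • (⊤ : Submodule R M)).mkQ v ∈
        (Ideal.ofList rs • (⊤ : Submodule R M)).map (x • (⊤ : Submodule R M)).mkQ :=
      Submodule.mem_map_of_mem hv
    rw [Submodule.map_smul''] at h1
    exact Submodule.smul_mono le_rfl le_top h1
  · intro q hq
    refine Submodule.smul_induction_on hq ?_ ?_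
    · intro r hr n _
      obtain ⟨m, rfl⟩ := Submodule.mkQ_surjective _ n
      show (x • (⊤ : Submodule R M)).liftQ π _ (r • (x • (⊤ : Submodule R M)).mkQ m) = 0
      rw [← map_smul]
      show π (r • m) = 0
      have : r • m ∈ LinearMap.ker π := by
        rw [hker]
        refine Submodule.smul_mem_smul ?_ Submodule.mem_top
        rw [Ideal.ofList_cons]
        exact Ideal.mem_sup_right hr
      exact this
    · intro y z hy hz
      exact add_mem hy hz

end Ker

section Seq

variable {R : Type u} [CommRing R] [IsNoetherianRing R] (𝒜 : ℤ → AddSubgroup R) [GradedRing 𝒜]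

/-- the `a`-invariant of a quotient by a homogeneous regular sequence `x_1, …, x_t ∈ a` of a finite
graded module `M` with `depth_a M ≥ c`: `end H^{c-t}_a(M/(x)M) = end H^c_a(M) + Σ deg x_i`. -/
theorem endDeg_seq (hpos : ∀ n : ℤ, n < 0 → 𝒜 n = ⊥) (a : HomogeneousIdeal 𝒜) (ps : List (R × ℤ)) :
    ∀ (M : Type u) [AddCommGroup M] [Module R M] [Module.Finite R M] (ℳ : ℤ → AddSubgroup M)
      [DirectSum.Decomposition ℳ] [SetLike.GradedSMul 𝒜 ℳ] (E : StarInjRes 𝒜 ℳ)
      (N : Type u) [AddCommGroup N] [Module R N] (𝒩 : ℤ → AddSubgroup N)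
      [DirectSum.Decomposition 𝒩] [SetLike.GradedSMul 𝒜 𝒩] (F : StarInjRes 𝒜 𝒩)
      (π : M →ₗ[R] N), IsGrHom ℳ 𝒩 π → Function.Surjective π →
      LinearMap.ker π = Ideal.ofList (ps.map Prod.fst) • (⊤ : Submodule R M) →
      (∀ p ∈ ps, p.1 ∈ 𝒜 p.2 ∧ p.1 ∈ a.toIdeal) →
      ∀ (c : ℕ), ps.length ≤ c → RingTheory.Sequence.IsWeaklyRegular M (ps.map Prod.fst) →
      (c : ℕ∞) ≤ LocCoh.idealDepth a.toIdeal M →
      endDeg (F.Hgr a (c - ps.length)) =
        endDeg (E.Hgr a c) + ((((ps.map Prod.snd).sum : ℤ) : WithTop ℤ) : W) := by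
  classical
  induction ps with
  | nil =>
    intro M _ _ _ ℳ _ _ E N _ _ 𝒩 _ _ F π hπ hsurj hker _ c _ _ _
    have hinj : Function.Injective π := by
      rw [← LinearMap.ker_eq_bot, hker, List.map_nil, Ideal.ofList_nil, Submodule.bot_smul]
    rw [List.length_nil, Nat.sub_zero, List.map_nil, List.sum_nil]
    have h0 : (((0 : ℤ) : WithTop ℤ) : W) = 0 := rfl
    rw [h0, add_zero]
    exact endDeg_congr _ _ (fun g => (Hgr_eq_bot_iff_of_bijective E F π hπ ⟨hinj, hsurj⟩ a c g).symm)
  | cons p ps ih =>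
    intro M _ _ _ ℳ _ _ E N _ _ 𝒩 _ _ F π hπ hsurj hker hmem c hc hreg hdepth
    obtain ⟨x, k⟩ := p
    have hxk : x ∈ 𝒜 k := (hmem (x, k) List.mem_cons_self).1
    have hxa : x ∈ a.toIdeal := (hmem (x, k) List.mem_cons_self).2
    rw [List.map_cons] at hker hreg
    rw [RingTheory.Sequence.isWeaklyRegular_cons_iff] at hreg
    obtain ⟨hregx, hreg'⟩ := hreg
    by_cases hk : 0 ≤ k
    swap
    · -- degenerate case: `x = 0`, so `M = 0`
      push Not at hk
      have hx0 : x = 0 := by
        have := hxk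
        rw [hpos k hk] at this
        exact (AddSubgroup.mem_bot).1 this
      have hx0' : (x, k).1 = 0 := hx0
      rw [hx0'] at hregx
      have hsubM : Subsingleton M := IsSMulRegular.zero_iff_subsingleton.1 hregx
      have hsubN : Subsingleton N := hsurj.subsingleton
      have h1 : Subsingleton (E.H a c) := by
        obtain ⟨e⟩ := Groth.Agent.S13224.result R 𝒜 a M ℳ E c
        have : Subsingleton (LocCoh.H a.toIdeal c M) :=
          Groth.Agent.Lib.helper19.LCGroth.H_subsingleton_of_subsingleton a.toIdeal c M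
        exact e.toEquiv.subsingleton
      have h2 : Subsingleton (F.H a (c - ((x, k) :: ps).length)) := by
        obtain ⟨e⟩ := Groth.Agent.S13224.result R 𝒜 a N 𝒩 F (c - ((x, k) :: ps).length)
        have : Subsingleton (LocCoh.H a.toIdeal (c - ((x, k) :: ps).length) N) :=
          Groth.Agent.Lib.helper19.LCGroth.H_subsingleton_of_subsingleton a.toIdeal _ N
        exact e.toEquiv.subsingleton
      rw [endDeg_eq_bot _ (fun g => eq_bot_of_subsingleton F a _ g),
        endDeg_eq_bot _ (fun g => eq_bot_of_subsingleton E a c g)]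
      rfl
    obtain ⟨c', rfl⟩ : ∃ c', c = c' + 1 := ⟨c - 1, by rw [List.length_cons] at hc; omega⟩
    have hK : (x • (⊤ : Submodule R M)).IsHomogeneous ℳ := smul_top_isHomogeneous hxk
    letI : DirectSum.Decomposition (quotPiece ℳ (x • (⊤ : Submodule R M))) :=
      quotDecomposition ℳ (x • (⊤ : Submodule R M)) hK
    letI : SetLike.GradedSMul 𝒜 (quotPiece ℳ (x • (⊤ : Submodule R M))) :=
      quot_gradedSMul 𝒜 ℳ (x • (⊤ : Submodule R M))
    obtain ⟨E₁⟩ := Groth.Agent.S13215.result R 𝒜 (M ⧸ (x • (⊤ : Submodule R M)))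
      (quotPiece ℳ (x • (⊤ : Submodule R M)))
    have hvan : Subsingleton (E.H a c') := by
      obtain ⟨e⟩ := Groth.Agent.S13224.result R 𝒜 a M ℳ E c'
      have : Subsingleton (LocCoh.H a.toIdeal c' M) :=
        Groth.Agent.S0318.H_vanish_below a.toIdeal M c'
          (lt_of_lt_of_le (by exact_mod_cast Nat.lt_succ_self c') hdepth)
      exact e.toEquiv.subsingleton
    have hstep := endDeg_step E E₁ x k hxk hk a hxa hregx (x • (⊤ : Submodule R M)).mkQ
      (mkQ_isGrHom ℳ (x • (⊤ : Submodule R M))) (Submodule.mkQ_surjective _)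
      (by rw [Submodule.ker_mkQ]; exact smul_top_eq_range x) c' hvan
    have hsurj₁ : Function.Surjective ((x • (⊤ : Submodule R M)).liftQ π
        (smul_top_le_ker_of_cons x (ps.map Prod.fst) π hker)) := by
      intro n
      obtain ⟨m, rfl⟩ := hsurj n
      exact ⟨(x • (⊤ : Submodule R M)).mkQ m, rfl⟩
    have hπ₁ : IsGrHom (quotPiece ℳ (x • (⊤ : Submodule R M))) 𝒩 ((x • (⊤ : Submodule R M)).liftQ π
        (smul_top_le_ker_of_cons x (ps.map Prod.fst) π hker)) := by
      rintro g q ⟨y, hy, rfl⟩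
      exact hπ g y hy
    have hdepth' : (c' : ℕ∞) ≤ LocCoh.idealDepth a.toIdeal (M ⧸ (x • (⊤ : Submodule R M))) := by
      have h1 := Groth.Agent.Lib.helper26.Depth.idealDepth_quotSMulTop_add_one a.toIdeal M x hxa hregx
      rw [← h1] at hdepth
      push_cast at hdepth
      exact (WithTop.add_le_add_iff_right ENat.one_ne_top).1 hdepth
    have ih' := ih (M ⧸ (x • (⊤ : Submodule R M))) (quotPiece ℳ (x • (⊤ : Submodule R M))) E₁ N 𝒩 F
      ((x • (⊤ : Submodule R M)).liftQ π (smul_top_le_ker_of_cons x (ps.map Prod.fst) π hker))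
      hπ₁ hsurj₁ (ker_liftQ_cons x (ps.map Prod.fst) π hker)
      (fun p hp => hmem p (List.mem_cons_of_mem _ hp)) c'
      (by rw [List.length_cons] at hc; omega) hreg' hdepth'
    rw [List.length_cons, Nat.add_sub_add_right, ih', hstep, add_assoc, cast_add, List.map_cons,
      List.sum_cons]

end Seq

end Groth.Agent.Lib.helper19.GrLes
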