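import Mathlib
import Groth.Prelude.Def_GrLC
import Groth.Agent.Lib.Helper19.GrMod
import Groth.Agent.Lib.Helper19.GrFin1
import Groth.Agent.Lib.Helper19.GrFin2
import Groth.Agent.Lib.Helper19.GrLes8
import Groth.Agent.Lib.Helper19.LCZero
import Groth.Agent.Lib.Helper19.LCGen
import Groth.Agent.Lib.Helper19.LCRes

/-!
# Finiteness properties of graded local cohomology w.r.t. the irrelevant ideal (helper19), part 3

* `fg_of_le` : submodules of f.g. submodules over a Noetherian ring
* `H0toM` : `H^0_a(M) ↪ M` computed from a *injective resolution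
* `vanish_of_card_lt` : `H^q_a = 0` for `q` larger than the number of generators of `a`
* `gam_quot_gam` : `Γ_a(M/Γ_a(M)) = 0`
-/

set_option autoImplicit false
universe u

namespace Groth.Agent.Lib.helper19.GrFin

open GrLC Groth.Agent.Lib.helper19.GrMod Groth.Agent.Lib.helper19.GrLes DirectSum

section Helpers

theorem fg_of_le {A : Type*} [CommRing A] [IsNoetherianRing A] {M : Type*} [AddCommGroup M] [Module A M]
    {N N' : Submodule A M} (h : N ≤ N') (h' : N'.FG) : N.FG := by
  haveI : IsNoetherian A N' := isNoetherian_of_fg_of_noetherian N' h'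
  have h1 : (N.comap N'.subtype).FG := IsNoetherian.noetherian _
  have h2 : (N.comap N'.subtype).map N'.subtype = N := by
    rw [Submodule.map_comap_eq, Submodule.range_subtype]
    exact inf_eq_right.2 h
  rw [← h2]
  exact h1.map _

end Helpers

section HZero

variable {ι : Type} [AddCommGroup ι] [DecidableEq ι]
variable {R : Type u} [CommRing R] {𝒜 : ι → AddSubgroup R} [GradedRing 𝒜]
variable {M : Type u} [AddCommGroup M] [Module R M] {ℳ : ι → AddSubgroup M}
  [DirectSum.Decomposition ℳ] [SetLike.GradedSMul 𝒜 ℳ]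

theorem cocyc_zero_le (E : StarInjRes 𝒜 ℳ) (a : HomogeneousIdeal 𝒜) :
    E.cocyc a 0 ≤ LinearMap.range E.ε := by
  intro z hz
  rw [← E.exact_zero]
  exact hz.2

/-- `H^0_a(M) → M` -/
noncomputable def H0toM (E : StarInjRes 𝒜 ℳ) (a : HomogeneousIdeal 𝒜) : E.H a 0 →ₗ[R] M :=
  Submodule.liftQ _ ((LinearEquiv.ofInjective E.ε E.ε_injective).symm.toLinearMap ∘ₗ
    Submodule.inclusion (cocyc_zero_le E a)) (by
      intro z hz
      have hz0 : (z : (E.X 0).carrier) = 0 := hz
      have : z = 0 := Subtype.ext hz0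
      rw [this]
      exact zero_mem _)

theorem ε_H0toM (E : StarInjRes 𝒜 ℳ) (a : HomogeneousIdeal 𝒜) (z : ↥(E.cocyc a 0)) :
    E.ε (H0toM E a (E.toH a 0 z)) = z := by
  have h1 : H0toM E a (E.toH a 0 z) = (LinearEquiv.ofInjective E.ε E.ε_injective).symm
      (Submodule.inclusion (cocyc_zero_le E a) z) := rfl
  rw [h1]
  have h2 := (LinearEquiv.ofInjective E.ε E.ε_injective).apply_symm_apply
    (Submodule.inclusion (cocyc_zero_le E a) z)
  have h3 := congrArg Subtype.val h2
  exact h3

theorem H0toM_injective (E : StarInjRes 𝒜 ℳ) (a : HomogeneousIdeal 𝒜) :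
    Function.Injective (H0toM E a) := by
  rw [injective_iff_map_eq_zero]
  intro y hy
  obtain ⟨z, rfl⟩ := Submodule.mkQ_surjective _ y
  have h1 := ε_H0toM E a z
  rw [hy, map_zero] at h1
  have : z = 0 := Subtype.ext h1.symm
  rw [this, map_zero]

theorem H0toM_mem_gam (E : StarInjRes 𝒜 ℳ) (a : HomogeneousIdeal 𝒜) (y : E.H a 0) :
    H0toM E a y ∈ gam a.toIdeal M := by
  obtain ⟨z, rfl⟩ := Submodule.mkQ_surjective _ y
  obtain ⟨n, hn⟩ := z.2.1
  refine ⟨n, fun r hr => ?_⟩
  apply E.ε_injective
  rw [map_smul, ε_H0toM, hn r hr, map_zero]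

theorem H0toM_mem_piece (E : StarInjRes 𝒜 ℳ) (a : HomogeneousIdeal 𝒜) {g : ι} {y : E.H a 0}
    (hy : y ∈ E.Hgr a 0 g) : H0toM E a y ∈ ℳ g := by
  obtain ⟨z, hz, rfl⟩ := hy
  apply mem_of_map_mem ℳ (E.X 0).gr E.ε E.ε_grHom E.ε_injective
  rw [ε_H0toM]
  exact hz

end HZero

section Ara

variable {R : Type u} [CommRing R] [IsNoetherianRing R]

/-- local cohomology vanishes above the number of generators of the ideal -/
theorem vanish_of_card_lt (S : Finset R) :
    ∀ (X : Type u) [AddCommGroup X] [Module R X] (q : ℕ), S.card < q →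
      Subsingleton ((localCohomology (Ideal.span (S : Set R)) q).obj (ModuleCat.of R X) :
        ModuleCat.{u} R) := by
  classical
  induction S using Finset.induction_on with
  | empty =>
    intro X _ _ q hq
    have h0 : Ideal.span ((∅ : Finset R) : Set R) = ⊥ := by
      rw [Finset.coe_empty, Ideal.span_empty]
    rw [h0]
    exact Groth.Agent.Lib.helper19.LCGen.H_bot_vanish X q (by simpa using hq)
  | insert b S hb ih =>
    intro X _ _ q hq
    have h0 : Ideal.span ((insert b S : Finset R) : Set R) =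
        Ideal.span (S : Set R) ⊔ Ideal.span {b} := by
      rw [Finset.coe_insert, Ideal.span_insert, sup_comm]
    rw [h0]
    rw [Finset.card_insert_of_notMem hb] at hq
    exact Groth.Agent.Lib.helper19.LCRes.vanish_sup_span (Ideal.span (S : Set R)) b S.card
      (fun Y _ _ p hp => ih Y p hp) X q hq

/-- `Γ_a(M/Γ_a(M)) = 0` -/
theorem gam_quot_gam (a : Ideal R) (M : Type u) [AddCommGroup M] [Module R M] :
    gam a (M ⧸ gam a M) = ⊥ := by
  classical
  rw [eq_bot_iff]
  intro q hq
  obtain ⟨m, rfl⟩ := Submodule.mkQ_surjective _ q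
  obtain ⟨k, hk⟩ := hq
  rw [Submodule.mem_bot]
  show (gam a M).mkQ m = 0
  rw [Submodule.mkQ_apply, Submodule.Quotient.mk_eq_zero]
  -- generators of `a ^ k`
  obtain ⟨S, hS⟩ := (IsNoetherian.noetherian (a ^ k) : (a ^ k).FG)
  have hSk : ∀ s ∈ S, ∃ j : ℕ, ∀ r ∈ a ^ j, r • (s • m) = 0 := by
    intro s hs
    have hsk : s ∈ a ^ k := by rw [← hS]; exact Submodule.subset_span hs
    have h1 := hk s hsk
    rw [← map_smul, Submodule.mkQ_apply, Submodule.Quotient.mk_eq_zero] at h1
    exact h1
  choose! j hj using hSk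
  refine ⟨(∑ s ∈ S, j s) + k, fun r hr => ?_⟩
  rw [pow_add] at hr
  refine Submodule.mul_induction_on hr ?_ ?_
  · intro u hu v hv
    rw [← hS] at hv
    rw [mul_smul]
    induction hv using Submodule.span_induction with
    | mem s hs =>
      apply hj s hs
      exact Ideal.pow_le_pow_right (Finset.single_le_sum (f := j) (fun _ _ => Nat.zero_le _) hs) hu
    | zero => rw [zero_smul, smul_zero]
    | add x y _ _ hx hy => rw [add_smul, smul_add, hx, hy, add_zero]
    | smul c x _ hx =>
      rw [smul_eq_mul, mul_smul, smul_comm, hx, smul_zero]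
  · intro x y hx hy
    rw [add_smul, hx, hy, add_zero]

end Ara

end Groth.Agent.Lib.helper19.GrFin
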