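import Mathlib
import Groth.Prelude.Def_GrLC
import Groth.Agent.Lib.Helper19.GrMod
import Groth.Agent.Lib.Helper19.GrFin1
import Groth.Agent.Lib.Helper19.GrFin2
import Groth.Agent.Lib.Helper19.GrFin3
import Groth.Agent.Lib.Helper19.GrLes8
import Groth.Agent.Lib.Helper19.LCZero
import Groth.Agent.S13215
import Groth.Agent.S13224

/-!
# Finiteness properties of graded local cohomology w.r.t. the irrelevant ideal (helper19), part 4

`main`: for a Noetherian positively `ℤ`-graded ring, `a = R_+` and a finitely generated graded module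
`M`, every piece `H^i_a(M)_g` is a finitely generated `R_0`-module and vanishes for `g ≫ 0`.
-/

set_option autoImplicit false
universe u

namespace Groth.Agent.Lib.helper19.GrFin

open GrLC Groth.Agent.Lib.helper19.GrMod Groth.Agent.Lib.helper19.GrLes DirectSum
open scoped Pointwise

section Reduce

variable {R : Type u} [CommRing R] [IsNoetherianRing R] {𝒜 : ℤ → AddSubgroup R} [GradedRing 𝒜]
variable {M : Type u} [AddCommGroup M] [Module R M] {ℳ : ℤ → AddSubgroup M}
  [DirectSum.Decomposition ℳ] [SetLike.GradedSMul 𝒜 ℳ]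

/-- in positive degrees, the graded local cohomology of `M` embeds (homogeneously) into that of
`M/Γ_a(M)` -/
theorem exists_injective_to_quot (a : HomogeneousIdeal 𝒜) (E : StarInjRes 𝒜 ℳ)
    [DirectSum.Decomposition (quotPiece ℳ (gam a.toIdeal M))]
    [SetLike.GradedSMul 𝒜 (quotPiece ℳ (gam a.toIdeal M))]
    (E' : StarInjRes 𝒜 (quotPiece ℳ (gam a.toIdeal M))) (n : ℕ) (hn : 0 < n) :
    ∃ ψ : E.H a n →ₗ[R] E'.H a n, IsGrHom (E.Hgr a n) (E'.Hgr a n) ψ ∧ Function.Injective ψ := by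
  classical
  have hT : (gam a.toIdeal M).IsHomogeneous ℳ := gam_isHomogeneous 𝒜 a ℳ
  letI : DirectSum.Decomposition (subPiece ℳ (gam a.toIdeal M)) := subDecomposition ℳ _ hT
  letI : SetLike.GradedSMul 𝒜 (subPiece ℳ (gam a.toIdeal M)) := sub_gradedSMul 𝒜 ℳ _
  obtain ⟨ET⟩ := Groth.Agent.S13215.result R 𝒜 ↥(gam a.toIdeal M) (subPiece ℳ (gam a.toIdeal M))
  obtain ⟨φc⟩ := exists_cmap ET E (gam a.toIdeal M).subtype (subtype_isGrHom ℳ _)
  obtain ⟨ψc⟩ := exists_cmap E E' (gam a.toIdeal M).mkQ (mkQ_isGrHom ℳ _)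
  obtain ⟨δ, -, -, h1, -, -⟩ := les (gam a.toIdeal M).subtype (gam a.toIdeal M).mkQ
    (subtype_isGrHom ℳ _) (mkQ_isGrHom ℳ _) (Submodule.injective_subtype _)
    (Submodule.mkQ_surjective _) (by rw [Submodule.ker_mkQ, Submodule.range_subtype])
    ET E E' φc ψc a
  have hsub : Subsingleton (ET.H a n) := by
    obtain ⟨e⟩ := Groth.Agent.S13224.result R 𝒜 a ↥(gam a.toIdeal M) (subPiece ℳ (gam a.toIdeal M)) ET n
    have : Subsingleton (LocCoh.H a.toIdeal n ↥(gam a.toIdeal M)) :=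
      Groth.Agent.Lib.helper19.LCZero.H_subsingleton_of_torsion a.toIdeal ↥(gam a.toIdeal M)
        (by
          intro x
          obtain ⟨k, hk⟩ := x.2
          exact ⟨k, fun r hr => Subtype.ext (hk r hr)⟩) n hn
    exact e.toEquiv.subsingleton
  refine ⟨ψc.Hmap a n, ψc.Hmap_isGrHom a n, ?_⟩
  rw [← LinearMap.ker_eq_bot, h1 n, eq_bot_iff]
  rintro _ ⟨y, rfl⟩
  rw [Subsingleton.elim y 0, map_zero]
  exact zero_mem _

end Reduce

section Step

variable {R : Type u} [CommRing R] [IsNoetherianRing R] {𝒜 : ℤ → AddSubgroup R} [GradedRing 𝒜]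
variable {M : Type u} [AddCommGroup M] [Module R M] {ℳ : ℤ → AddSubgroup M}
  [DirectSum.Decomposition ℳ] [SetLike.GradedSMul 𝒜 ℳ]
variable {N : Type u} [AddCommGroup N] [Module R N] {𝒩 : ℤ → AddSubgroup N}
  [DirectSum.Decomposition 𝒩] [SetLike.GradedSMul 𝒜 𝒩]

theorem mem_Hcomp_iff (E : StarInjRes 𝒜 ℳ) (a : HomogeneousIdeal 𝒜) (n : ℕ) (g : ℤ) (y : E.H a n) :
    y ∈ E.Hcomp a n g ↔ y ∈ E.Hgr a n g := Iff.rfl

/-- the step of the induction, for a homogeneous regular element of positive degree -/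
theorem step_regular (hpos : ∀ n : ℤ, n < 0 → 𝒜 n = ⊥) (a : HomogeneousIdeal 𝒜)
    (E : StarInjRes 𝒜 ℳ) (F : StarInjRes 𝒜 𝒩) (x : R) (k : ℤ) (hk : 0 < k) (hx : x ∈ 𝒜 k)
    (hxa : x ∈ a.toIdeal) (hreg : IsSMulRegular M x) (π : M →ₗ[R] N) (hπ : IsGrHom ℳ 𝒩 π)
    (hsurj : Function.Surjective π)
    (hker : LinearMap.ker π = LinearMap.range (x • (LinearMap.id : M →ₗ[R] M)))
    (i : ℕ) (hFG : ∀ g, (F.Hcomp a i g).FG) (r : ℤ) (hr : ∀ g, r ≤ g → F.Hcomp a i g = ⊥) :
    (∀ g, (E.Hcomp a (i + 1) g).FG) ∧ (∀ g, r - k ≤ g → E.Hcomp a (i + 1) g = ⊥) := by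
  classical
  haveI : IsNoetherianRing (deg0 𝒜) := deg0_noetherian 𝒜 hpos
  obtain ⟨ψ, δ, -, hδgr, -, -, -, -, -, hP3, hxδ⟩ := les_regular E F x k hx hreg π hπ hsurj hker a
  -- vanishing
  have hvan : ∀ (j : ℕ) (g : ℤ), r - k ≤ g → ∀ y ∈ E.Hgr a (i + 1) g, x ^ j • y = 0 → y = 0 := by
    intro j
    induction j with
    | zero =>
      intro g _ y _ hy
      rwa [pow_zero, one_smul] at hy
    | succ j ih =>
      intro g hg y hy hxy
      have hmem := pow_smul_mem_Hgr E a (i + 1) hx hy j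
      have hkill : x • (x ^ j • y) = 0 := by
        rw [← mul_smul, ← pow_succ']
        exact hxy
      obtain ⟨w, hw, hδw⟩ := hP3 i (g + j * k) (x ^ j • y) hmem hkill
      have hw0 : w = 0 := by
        have h1 : w ∈ F.Hcomp a i (g + j * k + k) := hw
        rw [hr (g + j * k + k) (by
          have : 0 ≤ (j : ℤ) * k := mul_nonneg (Int.natCast_nonneg j) hk.le
          omega)] at h1
        exact (Submodule.mem_bot _).1 h1
      rw [hw0, map_zero] at hδw
      exact ih g hg y hy hδw.symm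
  have hvan' : ∀ g, r - k ≤ g → E.Hcomp a (i + 1) g = ⊥ := by
    intro g hg
    rw [eq_bot_iff]
    intro y hy
    obtain ⟨j, hj⟩ := exists_pow_smul_eq_zero' a E (i + 1) y x hxa
    rw [Submodule.mem_bot]
    exact hvan j g hg y hy hj
  refine ⟨?_, hvan'⟩
  -- finiteness
  have hfin : ∀ (j : ℕ) (g : ℤ), r - k - j * k ≤ g → (E.Hcomp a (i + 1) g).FG := by
    intro j
    induction j with
    | zero =>
      intro g hg
      rw [hvan' g (by simpa using hg)]
      exact Submodule.fg_bot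
    | succ j ih =>
      intro g hg
      have hnext : (E.Hcomp a (i + 1) (g + k)).FG := ih (g + k) (by push_cast at hg; linarith)
      apply Submodule.fg_of_fg_map_of_fg_inf_ker
        ((x • (LinearMap.id : E.H a (i + 1) →ₗ[R] E.H a (i + 1))).restrictScalars (deg0 𝒜))
      · refine fg_of_le ?_ hnext
        rintro _ ⟨y, hy, rfl⟩
        have h1 := smul_mem_Hgr E a (i + 1) hx (show y ∈ E.Hgr a (i + 1) g from hy)
        rw [add_comm k g] at h1
        exact h1
      · refine fg_of_le ?_ ((hFG (g + k)).map (δ i |>.restrictScalars (deg0 𝒜)))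
        rintro y ⟨hy, hy0⟩
        have hy0' : x • y = 0 := hy0
        obtain ⟨w, hw, hδw⟩ := hP3 i g y hy hy0'
        exact ⟨w, hw, hδw⟩
  intro g
  obtain ⟨j, hj⟩ : ∃ j : ℕ, r - k - j * k ≤ g := by
    refine ⟨(r - k - g).toNat, ?_⟩
    have h1 : r - k - g ≤ ((r - k - g).toNat : ℤ) := Int.self_le_toNat _
    have h2 : ((r - k - g).toNat : ℤ) ≤ ((r - k - g).toNat : ℤ) * k := by
      have : (0 : ℤ) ≤ ((r - k - g).toNat : ℤ) := Int.natCast_nonneg _
      nlinarith
    linarith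
  exact hfin j g hj

end Step

section Main

variable {R : Type u} [CommRing R] [IsNoetherianRing R] (𝒜 : ℤ → AddSubgroup R) [GradedRing 𝒜]

/-- finiteness and vanishing of the pieces of graded local cohomology w.r.t. the irrelevant ideal -/
theorem main (hpos : ∀ n : ℤ, n < 0 → 𝒜 n = ⊥) (a : HomogeneousIdeal 𝒜) (ha : a.toIdeal = irr 𝒜)
    (i : ℕ) :
    ∀ (M : Type u) [AddCommGroup M] [Module R M] [Module.Finite R M] (ℳ : ℤ → AddSubgroup M)
      [DirectSum.Decomposition ℳ] [SetLike.GradedSMul 𝒜 ℳ] (E : StarInjRes 𝒜 ℳ),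
      (∀ g, (E.Hcomp a i g).FG) ∧ ∃ r : ℤ, ∀ g, r ≤ g → E.Hcomp a i g = ⊥ := by
  classical
  haveI : IsNoetherianRing (deg0 𝒜) := deg0_noetherian 𝒜 hpos
  induction i with
  | zero =>
    intro M _ _ _ ℳ _ _ E
    constructor
    · intro g
      apply Submodule.fg_of_fg_map_injective ((H0toM E a).restrictScalars (deg0 𝒜)) (H0toM_injective E a)
      have hfin : (comp 𝒜 ℳ g).FG := Module.Finite.iff_fg.1 (finite_comp 𝒜 hpos ℳ g)
      refine fg_of_le ?_ hfin
      rintro _ ⟨y, hy, rfl⟩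
      exact H0toM_mem_piece E a (show y ∈ E.Hgr a 0 g from hy)
    · obtain ⟨r0, hr0⟩ := exists_bound_torsion 𝒜 hpos ℳ
      refine ⟨r0, fun g hg => ?_⟩
      rw [eq_bot_iff]
      intro y hy
      rw [Submodule.mem_bot]
      apply H0toM_injective E a
      rw [map_zero]
      apply hr0 g hg _ (H0toM_mem_piece E a (show y ∈ E.Hgr a 0 g from hy))
      rw [← ha]
      exact H0toM_mem_gam E a y
  | succ i ih =>
    intro M _ _ _ ℳ _ _ E
    -- pass to `M' = M/Γ_a(M)`
    have hT : (gam a.toIdeal M).IsHomogeneous ℳ := gam_isHomogeneous 𝒜 a ℳ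
    letI : DirectSum.Decomposition (quotPiece ℳ (gam a.toIdeal M)) := quotDecomposition ℳ _ hT
    letI : SetLike.GradedSMul 𝒜 (quotPiece ℳ (gam a.toIdeal M)) := quot_gradedSMul 𝒜 ℳ _
    obtain ⟨E'⟩ := Groth.Agent.S13215.result R 𝒜 (M ⧸ gam a.toIdeal M) (quotPiece ℳ (gam a.toIdeal M))
    obtain ⟨ψ, hψgr, hψinj⟩ := exists_injective_to_quot a E E' (i + 1) (Nat.succ_pos i)
    have htf : gam (irr 𝒜) (M ⧸ gam a.toIdeal M) = ⊥ := by
      rw [← ha]
      exact gam_quot_gam a.toIdeal M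
    -- a homogeneous regular element of positive degree
    obtain ⟨d, hd, x, hx, hreg⟩ := exists_homogeneous_regular 𝒜 (M ⧸ gam a.toIdeal M) htf
    have hxa : x ∈ a.toIdeal := by
      rw [ha]
      exact mem_irr_of_mem 𝒜 (by exact_mod_cast hd) hx
    have hK : (x • (⊤ : Submodule R (M ⧸ gam a.toIdeal M))).IsHomogeneous
        (quotPiece ℳ (gam a.toIdeal M)) := smul_top_isHomogeneous hx
    letI : DirectSum.Decomposition (quotPiece (quotPiece ℳ (gam a.toIdeal M))
        (x • (⊤ : Submodule R (M ⧸ gam a.toIdeal M)))) := quotDecomposition _ _ hK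
    letI : SetLike.GradedSMul 𝒜 (quotPiece (quotPiece ℳ (gam a.toIdeal M))
        (x • (⊤ : Submodule R (M ⧸ gam a.toIdeal M)))) := quot_gradedSMul 𝒜 _ _
    obtain ⟨F⟩ := Groth.Agent.S13215.result R 𝒜
      ((M ⧸ gam a.toIdeal M) ⧸ (x • (⊤ : Submodule R (M ⧸ gam a.toIdeal M))))
      (quotPiece (quotPiece ℳ (gam a.toIdeal M)) (x • (⊤ : Submodule R (M ⧸ gam a.toIdeal M))))
    obtain ⟨hFG, r, hr⟩ := ih ((M ⧸ gam a.toIdeal M) ⧸ (x • (⊤ : Submodule R (M ⧸ gam a.toIdeal M))))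
      (quotPiece (quotPiece ℳ (gam a.toIdeal M)) (x • (⊤ : Submodule R (M ⧸ gam a.toIdeal M)))) F
    obtain ⟨hFG', hvan'⟩ := step_regular hpos a E' F x (d : ℤ) (by exact_mod_cast hd) hx hxa hreg
      (x • (⊤ : Submodule R (M ⧸ gam a.toIdeal M))).mkQ (mkQ_isGrHom _ _) (Submodule.mkQ_surjective _)
      (by rw [Submodule.ker_mkQ]; exact smul_top_eq_range x) i hFG r hr
    constructor
    · intro g
      apply Submodule.fg_of_fg_map_injective (ψ.restrictScalars (deg0 𝒜)) hψinj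
      refine fg_of_le ?_ (hFG' g)
      rintro _ ⟨y, hy, rfl⟩
      exact hψgr g y hy
    · refine ⟨r - d, fun g hg => ?_⟩
      rw [eq_bot_iff]
      intro y hy
      rw [Submodule.mem_bot]
      apply hψinj
      rw [map_zero]
      have h1 : ψ y ∈ E'.Hcomp a (i + 1) g := hψgr g y hy
      rw [hvan' g hg] at h1
      exact (Submodule.mem_bot _).1 h1

end Main

end Groth.Agent.Lib.helper19.GrFin
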