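import Mathlib
import Groth.Prelude.Def_CAlgX
import Groth.Agent.Lib.Helper24.CohenPS
import Groth.Agent.Lib.Helper17.FieldLift

/-!
# Cohen presentations over a base field (helper19)

* `exists_fin_generators'`: generators of a finitely generated ideal indexed by `Fin n`.
* `cohen_pres`: a complete Noetherian local `k`-algebra `R` whose residue field `κ` is formally
  smooth over `k` is a `k`-algebra quotient of `κ⟦X₁..Xₙ⟧`, with prescribed images
  `Xᵢ ↦ wᵢ` for any generators `wᵢ` of the maximal ideal, and a coefficient field containing `k`.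
* `isAdicFormallySmooth_ps`: `κ⟦X₁..Xₙ⟧` is formally smooth over `k` for the adic topology when
  `κ` is formally smooth over `k`.
-/

set_option autoImplicit false
universe u

namespace Groth.Agent.Lib.helper19.CohenK

open IsLocalRing

theorem exists_fin_generators' {R : Type u} [CommRing R] (c : Ideal R) (hc : c.FG) :
    ∃ w : Fin c.spanFinrank → R, Ideal.span (Set.range w) = c := by
  obtain ⟨S, hS, hspan⟩ := Submodule.FG.exists_span_finset_card_eq_spanFinrank hc
  let e := Finset.equivFinOfCardEq hS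
  refine ⟨fun i => (e.symm i : R), ?_⟩
  refine Eq.trans ?_ hspan
  show Submodule.span R _ = Submodule.span R _
  congr 1
  ext x
  constructor
  · rintro ⟨i, rfl⟩
    exact (e.symm i).2
  · intro hx
    exact ⟨e ⟨x, hx⟩, by simp⟩

/-- **Cohen presentation over a base field.** -/
theorem cohen_pres (k R : Type u) [Field k] [CommRing R] [Algebra k R] [IsNoetherianRing R]
    [IsLocalRing R] [IsAdicComplete (maximalIdeal R) R]
    [Algebra.FormallySmooth k (ResidueField R)]
    (n : ℕ) (w : Fin n → R) (hw : Ideal.span (Set.range w) = maximalIdeal R) :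
    ∃ (g : ResidueField R →ₐ[k] R) (F : MvPowerSeries (Fin n) (ResidueField R) →ₐ[k] R),
      (∀ c, residue R (g c) = c) ∧ (∀ c, F (MvPowerSeries.C c) = g c) ∧
      (∀ i, F (MvPowerSeries.X i) = w i) ∧ Function.Surjective F ∧
      (maximalIdeal (MvPowerSeries (Fin n) (ResidueField R))).map F.toRingHom = maximalIdeal R := by
  classical
  let f₀ : ResidueField R →ₐ[k] R ⧸ maximalIdeal R :=
    { RingHom.id (R ⧸ maximalIdeal R) with commutes' := fun c => rfl }
  obtain ⟨g, hg⟩ := Algebra.FormallySmooth.exists_mkₐ_comp_eq_of_isAdicComplete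
    (I := maximalIdeal R) f₀
  have hg' : ∀ c : ResidueField R, residue R (g c) = c := fun c => congr($hg c)
  have hres : Function.Surjective ((residue R).comp g.toRingHom) := fun y => ⟨y, hg' y⟩
  have hmK : maximalIdeal R =
      (maximalIdeal (ResidueField R)).map g.toRingHom ⊔ Ideal.span (Set.range w) := by
    rw [IsLocalRing.maximalIdeal_eq_bot, Ideal.map_bot, bot_sup_eq, hw]
  have hKc : IsAdicComplete (maximalIdeal (ResidueField R)) (ResidueField R) := by
    rw [IsLocalRing.maximalIdeal_eq_bot]; infer_instance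
  obtain ⟨F, hFC, hFX, hFs, hFm⟩ :=
    Groth.Agent.Lib.Helper24.CohenPS.exists_ps_surjective g.toRingHom hres n w hmK
  have hFC' : ∀ y, F (MvPowerSeries.C y) = g y := fun y => congr($hFC y)
  let F' : MvPowerSeries (Fin n) (ResidueField R) →ₐ[k] R :=
    { F with
      commutes' := fun c => by
        show F (algebraMap k (MvPowerSeries (Fin n) (ResidueField R)) c) = _
        rw [MvPowerSeries.algebraMap_apply, hFC', g.commutes] }
  exact ⟨g, F', hg', hFC', hFX, hFs, hFm⟩

/-- power series rings over a formally smooth field extension are formally smooth for the adic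
topology. -/
theorem isAdicFormallySmooth_ps (k κ : Type u) [Field k] [Field κ] [Algebra k κ]
    [Algebra.FormallySmooth k κ] (n : ℕ) :
    CAlgX.IsAdicFormallySmooth k (MvPowerSeries (Fin n) κ)
      (maximalIdeal (MvPowerSeries (Fin n) κ)) := by
  classical
  intro B _ _ J hJ ψ ⟨N, hN⟩
  -- lift the coefficient field
  let ψ₀ : κ →ₐ[k] B ⧸ J := ψ.comp (IsScalarTower.toAlgHom k κ (MvPowerSeries (Fin n) κ))
  have hnil : IsNilpotent J := ⟨2, hJ⟩
  let χ₀ : κ →ₐ[k] B := Algebra.FormallySmooth.lift J hnil ψ₀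
  have hχ₀ : ∀ c, Ideal.Quotient.mk J (χ₀ c) = ψ₀ c := fun c =>
    Algebra.FormallySmooth.mk_lift J hnil ψ₀ c
  letI algκB : Algebra κ B := χ₀.toRingHom.toAlgebra
  have hψC : ∀ c : κ, ψ (MvPowerSeries.C c) = Ideal.Quotient.mk J (χ₀ c) := by
    intro c
    rw [hχ₀]
    rfl
  let ψκ : MvPowerSeries (Fin n) κ →ₐ[κ] B ⧸ J :=
    { ψ.toRingHom with
      commutes' := fun c => by
        show ψ (algebraMap κ (MvPowerSeries (Fin n) κ) c) = _
        rw [MvPowerSeries.algebraMap_apply, Algebra.algebraMap_self, RingHom.id_apply, hψC]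
        rfl }
  -- lifts of the variables
  have hb : ∀ i : Fin n, ∃ b : B, Ideal.Quotient.mk J b = ψ (MvPowerSeries.X i) := fun i =>
    Ideal.Quotient.mk_surjective _
  choose b hb using hb
  have hXN : ∀ i : Fin n, ψ (MvPowerSeries.X i) ^ N = 0 := by
    intro i
    rw [← map_pow]
    exact hN _ (Ideal.pow_mem_pow (Groth.Agent.LibCR29.X_mem_maximalIdeal_ps i) N)
  have hz : ∀ i : Fin n, b i ^ (2 * N + 1 + 1) = 0 := by
    intro i
    have h1 : b i ^ N ∈ J := by
      rw [← Ideal.Quotient.eq_zero_iff_mem, map_pow, hb, hXN]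
    have h2 : b i ^ N * b i ^ N ∈ J ^ 2 := by
      rw [pow_two]; exact Ideal.mul_mem_mul h1 h1
    rw [hJ, Ideal.mem_bot] at h2
    have : b i ^ (2 * N + 1 + 1) = b i ^ N * b i ^ N * b i ^ 2 := by ring
    rw [this, h2, zero_mul]
  have hz' : ∀ i : Fin n, (Ideal.Quotient.mk J (b i)) ^ (2 * N + 1 + 1) = 0 := by
    intro i
    rw [← map_pow, hz, map_zero]
  let χκ : MvPowerSeries (Fin n) κ →ₐ[κ] B := Groth.Agent.LibPS29.ev b (2 * N + 1) hz
  have hχX : ∀ i, χκ (MvPowerSeries.X i) = b i := fun i =>
    Groth.Agent.LibPS29.ev_X b (2 * N + 1) (by omega) hz i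
  have h1 : (Ideal.Quotient.mkₐ κ J).comp χκ =
      Groth.Agent.LibPS29.ev (fun i => Ideal.Quotient.mk J (b i)) (2 * N + 1) hz' := by
    apply Groth.Agent.LibPS29.algHom_eq_ev
    intro i
    rw [AlgHom.comp_apply, hχX]
    rfl
  have h2 : ψκ =
      Groth.Agent.LibPS29.ev (fun i => Ideal.Quotient.mk J (b i)) (2 * N + 1) hz' := by
    apply Groth.Agent.LibPS29.algHom_eq_ev
    intro i
    exact (hb i).symm
  have htower : IsScalarTower k κ B := IsScalarTower.of_algebraMap_eq fun c => by
    show algebraMap k B c = χ₀ (algebraMap k κ c)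
    rw [χ₀.commutes]
  refine ⟨χκ.restrictScalars k, ?_⟩
  ext p
  have h3 := congrArg (fun f : MvPowerSeries (Fin n) κ →ₐ[κ] B ⧸ J => f p) (h1.trans h2.symm)
  exact h3

end Groth.Agent.Lib.helper19.CohenK
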