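import Mathlib
import Groth.Prelude.Def_IdealRed

/-!
# Fibre cones, integrality of Rees algebras and Krull dimension

* `ringKrullDim_le_of_isIntegral`: an integral ring map does not raise Krull dimension.
* `isIntegral_monomial`: an element integrally dependent on `a` gives an element `r t` of `R[t]`
  integral over the Rees algebra of `a`.
* `ringKrullDim_fibreCone_le`: if every element of `b` is integrally dependent on `a = (v_1..v_s)`
  then the fibre cone of `b` has dimension at most `s`.
-/

set_option autoImplicit false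
universe u

namespace Groth.Agent.Lib.helper19.FibreCone

open Polynomial

theorem ringKrullDim_le_of_isIntegral {A B : Type*} [CommRing A] [CommRing B] (f : A →+* B)
    (hf : f.IsIntegral) : ringKrullDim B ≤ ringKrullDim A := by
  algebraize [f]
  have : Algebra.IsIntegral A B := ⟨hf⟩
  refine Order.krullDim_le_of_strictMono
    (fun p : PrimeSpectrum B => PrimeSpectrum.comap (algebraMap A B) p) ?_
  intro p q hpq
  have : p.asIdeal < q.asIdeal := hpq
  exact Ideal.IsIntegral.comap_lt_comap (R := A) this

variable {R : Type u} [CommRing R]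

/-- homogenisation of a polynomial: `∑ (c_j t^(n-j)) Y^j`. -/
noncomputable def hom (p : R[X]) : R[X][X] :=
  ∑ j ∈ Finset.range (p.natDegree + 1), monomial j (monomial (p.natDegree - j) (p.coeff j))

theorem coeff_hom (p : R[X]) (i : ℕ) :
    (hom p).coeff i = monomial (p.natDegree - i) (p.coeff i) := by
  unfold hom
  rw [Polynomial.finsetSum_coeff]
  simp only [coeff_monomial]
  rw [Finset.sum_ite_eq']
  split_ifs with h
  · rfl
  · have : p.natDegree < i := by
      simp only [Finset.mem_range] at h; omega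
    rw [Polynomial.coeff_eq_zero_of_natDegree_lt this]; simp

theorem hom_monic (p : R[X]) (hp : p.Monic) : (hom p).Monic := by
  apply Polynomial.monic_of_natDegree_le_of_coeff_eq_one p.natDegree
  · rw [Polynomial.natDegree_le_iff_coeff_eq_zero]
    intro N hN
    rw [coeff_hom, Polynomial.coeff_eq_zero_of_natDegree_lt hN]; simp
  · rw [coeff_hom, hp.coeff_natDegree]; simp

theorem eval_hom (p : R[X]) (r : R) :
    (hom p).eval (monomial 1 r) = monomial p.natDegree (p.eval r) := by
  unfold hom
  rw [Polynomial.eval_finsetSum, Polynomial.eval_eq_sum_range, map_sum]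
  refine Finset.sum_congr rfl fun j hj => ?_
  have hj' : j ≤ p.natDegree := by simp only [Finset.mem_range] at hj; omega
  rw [Polynomial.eval_monomial, Polynomial.monomial_pow, Polynomial.monomial_mul_monomial]
  have e : p.natDegree - j + 1 * j = p.natDegree := by omega
  rw [e]

theorem isIntegral_monomial (a : Ideal R) (r : R) (p : R[X]) (hp : p.Monic)
    (hc : ∀ j : ℕ, p.coeff j ∈ a ^ (p.natDegree - j)) (h0 : p.eval r = 0) :
    IsIntegral (reesAlgebra a) (monomial 1 r : R[X]) := by
  have hl : hom p ∈ Polynomial.lifts (algebraMap (reesAlgebra a) R[X]) := by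
    rw [Polynomial.lifts_iff_coeff_lifts]
    intro n
    rw [coeff_hom]
    exact ⟨⟨_, reesAlgebra.monomial_mem.mpr (hc n)⟩, rfl⟩
  obtain ⟨q, hq, -, hqm⟩ := Polynomial.lifts_and_natDegree_eq_and_monic hl (hom_monic p hp)
  refine ⟨q, hqm, ?_⟩
  rw [← Polynomial.eval_map, hq, eval_hom, h0]; simp

theorem reesAlgebra_mono {a b : Ideal R} (hab : a ≤ b) : reesAlgebra a ≤ reesAlgebra b := by
  intro f hf i
  exact Ideal.pow_right_mono hab i (hf i)

/-- every element of `R[bt]` is integral over `R[at]` if every element of `b` is integrally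
dependent on `a`. -/
theorem isIntegral_of_mem_reesAlgebra (a b : Ideal R)
    (hint : ∀ r ∈ b, ∃ p : R[X], p.Monic ∧ (∀ j : ℕ, p.coeff j ∈ a ^ (p.natDegree - j)) ∧
      p.eval r = 0) (y : R[X]) (hy : y ∈ reesAlgebra b) : IsIntegral (reesAlgebra a) y := by
  have h1 : reesAlgebra b ≤ (integralClosure (reesAlgebra a) R[X]).restrictScalars R := by
    rw [← adjoin_monomial_eq_reesAlgebra]
    apply Algebra.adjoin_le
    rintro _ ⟨r, hr, rfl⟩
    obtain ⟨p, hp, hc, h0⟩ := hint r hr
    exact isIntegral_monomial a r p hp hc h0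
  exact h1 hy

theorem inclusion_isIntegral (a b : Ideal R) (hab : a ≤ b)
    (hint : ∀ r ∈ b, ∃ p : R[X], p.Monic ∧ (∀ j : ℕ, p.coeff j ∈ a ^ (p.natDegree - j)) ∧
      p.eval r = 0) :
    (Subalgebra.inclusion (reesAlgebra_mono hab)).toRingHom.IsIntegral := by
  intro x
  obtain ⟨q, hq, hq0⟩ := isIntegral_of_mem_reesAlgebra a b hint x.1 x.2
  refine ⟨q, hq, ?_⟩
  apply Subtype.ext
  have := Polynomial.hom_eval₂ q (Subalgebra.inclusion (reesAlgebra_mono hab)).toRingHom
    (reesAlgebra b).val.toRingHom x
  rw [ZeroMemClass.coe_zero]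
  refine Eq.trans ?_ hq0
  exact this

/-- the generators `v i t` of the Rees algebra. -/
noncomputable def gen (a : Ideal R) {σ : Type*} (v : σ → R) (hv : ∀ i, v i ∈ a) (i : σ) :
    reesAlgebra a :=
  ⟨monomial 1 (v i), reesAlgebra.monomial_mem.mpr (by rw [pow_one]; exact hv i)⟩

theorem aeval_gen_surjective (a : Ideal R) {σ : Type*} (v : σ → R)
    (hva : Ideal.span (Set.range v) = a) (hv : ∀ i, v i ∈ a) :
    Function.Surjective (MvPolynomial.aeval (R := R) (gen a v hv)) := by
  intro x
  have h1 : (reesAlgebra a).val.comp (MvPolynomial.aeval (R := R) (gen a v hv)) =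
      MvPolynomial.aeval (fun i => (monomial 1 (v i) : R[X])) := by
    apply MvPolynomial.algHom_ext
    intro i
    simp [gen]
  have h2 : (x : R[X]) ∈ (MvPolynomial.aeval (R := R) (fun i => (monomial 1 (v i) : R[X]))).range := by
    rw [← Algebra.adjoin_range_eq_range_aeval]
    have h3 : Algebra.adjoin R (Set.range fun i => (monomial 1 (v i) : R[X])) = reesAlgebra a := by
      rw [← adjoin_monomial_eq_reesAlgebra, ← hva, Ideal.span, Submodule.map_span,
        Algebra.adjoin_span, ← Set.range_comp]
      rfl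
    rw [h3]
    exact x.2
  obtain ⟨P, hP⟩ := h2
  refine ⟨P, Subtype.ext ?_⟩
  rw [← hP, ← h1]
  rfl

theorem ringKrullDim_fibreCone_le [IsLocalRing R] [IsNoetherianRing R] (a b : Ideal R)
    (hab : a ≤ b) {σ : Type*} [Finite σ] (v : σ → R) (hva : Ideal.span (Set.range v) = a)
    (hint : ∀ r ∈ b, ∃ p : R[X], p.Monic ∧ (∀ j : ℕ, p.coeff j ∈ a ^ (p.natDegree - j)) ∧
      p.eval r = 0) :
    ringKrullDim (IdealRed.FibreCone R b) ≤ ((Nat.card σ : ℕ) : WithBot ℕ∞) := by
  have hv : ∀ i, v i ∈ a := fun i => hva ▸ Ideal.subset_span ⟨i, rfl⟩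
  let φ := MvPolynomial.aeval (R := R) (gen a v hv)
  let ι := Subalgebra.inclusion (reesAlgebra_mono hab)
  let π : reesAlgebra b →+* IdealRed.FibreCone R b := Ideal.Quotient.mk _
  let g : MvPolynomial σ R →+* IdealRed.FibreCone R b := π.comp (ι.toRingHom.comp φ.toRingHom)
  have hg1 : (ι.toRingHom.comp φ.toRingHom).IsIntegral :=
    RingHom.IsIntegral.trans _ _
      (RingHom.isIntegral_of_surjective _ (aeval_gen_surjective a v hva hv))
      (inclusion_isIntegral a b hab hint)
  have hg : g.IsIntegral := by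
    show (π.comp (ι.toRingHom.comp φ.toRingHom)).IsIntegral
    exact RingHom.IsIntegral.trans (T := IdealRed.FibreCone R b) (ι.toRingHom.comp φ.toRingHom) π hg1
      (RingHom.isIntegral_of_surjective (S := IdealRed.FibreCone R b) π Ideal.Quotient.mk_surjective)
  have hk : ∀ x ∈ Ideal.map (MvPolynomial.C (σ := σ)) (IsLocalRing.maximalIdeal R), g x = 0 := by
    have : Ideal.map (MvPolynomial.C (σ := σ)) (IsLocalRing.maximalIdeal R) ≤ RingHom.ker g := by
      rw [Ideal.map_le_iff_le_comap]
      intro r hr
      rw [Ideal.mem_comap, RingHom.mem_ker]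
      have h1 : g (MvPolynomial.C r) = π (algebraMap R (reesAlgebra b) r) := by
        simp only [g, RingHom.comp_apply]
        congr 1
        have : φ.toRingHom (MvPolynomial.C r) = algebraMap R (reesAlgebra a) r := by
          simp [φ]
        rw [this]
        exact (ι.commutes r)
      rw [h1]
      exact Ideal.Quotient.eq_zero_iff_mem.mpr (Ideal.mem_map_of_mem _ hr)
    exact fun x hx => this hx
  let g' : (MvPolynomial σ R ⧸ Ideal.map (MvPolynomial.C (σ := σ)) (IsLocalRing.maximalIdeal R)) →+*
      IdealRed.FibreCone R b := Ideal.Quotient.lift _ g hk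
  have hg' : g'.IsIntegral := by
    apply RingHom.IsIntegral.tower_top (R := MvPolynomial σ R)
      (S := MvPolynomial σ R ⧸ Ideal.map (MvPolynomial.C (σ := σ)) (IsLocalRing.maximalIdeal R))
      (T := IdealRed.FibreCone R b) (Ideal.Quotient.mk _) g'
    rw [Ideal.Quotient.lift_comp_mk]; exact hg
  have hf : IsField (R ⧸ IsLocalRing.maximalIdeal R) :=
    (Ideal.Quotient.maximal_ideal_iff_isField_quotient _).mp inferInstance
  calc ringKrullDim (IdealRed.FibreCone R b)
      ≤ ringKrullDim (MvPolynomial σ R ⧸ Ideal.map (MvPolynomial.C (σ := σ))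
          (IsLocalRing.maximalIdeal R)) :=
        ringKrullDim_le_of_isIntegral (B := IdealRed.FibreCone R b)
          (A := MvPolynomial σ R ⧸ Ideal.map (MvPolynomial.C (σ := σ))
          (IsLocalRing.maximalIdeal R)) g' hg'
    _ = ringKrullDim (MvPolynomial σ (R ⧸ IsLocalRing.maximalIdeal R)) :=
        (ringKrullDim_eq_of_ringEquiv (MvPolynomial.quotientEquivQuotientMvPolynomial
          (IsLocalRing.maximalIdeal R)).toRingEquiv).symm
    _ = ringKrullDim (R ⧸ IsLocalRing.maximalIdeal R) + Nat.card σ :=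
        MvPolynomial.ringKrullDim_of_isNoetherianRing
    _ = ((Nat.card σ : ℕ) : WithBot ℕ∞) := by
        rw [ringKrullDim_eq_zero_of_isField hf, zero_add]

end Groth.Agent.Lib.helper19.FibreCone
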