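import Mathlib
import Groth.Agent.Lib.Helper19.FibreCone

/-!
# Fibre cones II: powers of an ideal

* `ringKrullDim_le_of_isIntegral_of_injective`: an injective integral ring map does not lower Krull
  dimension (going up).
* `mem_map_algebraMap_reesAlgebra_iff`: `f ∈ m R[It] ↔ ∀ i, f_i ∈ m I^i`.
* `expandRees`: the map `R[b^t T] → R[b T]`, `T ↦ T^t`; it is integral.
* `ringKrullDim_fibreCone_pow`: the fibre cones of `b^t` and `b` have the same dimension.
-/

set_option autoImplicit false
universe u

namespace Groth.Agent.Lib.helper19.FibreCone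
open Polynomial

theorem ringKrullDim_le_of_isIntegral_of_injective {A B : Type*} [CommRing A] [CommRing B]
    (f : A →+* B) (hf : f.IsIntegral) (hinj : Function.Injective f) :
    ringKrullDim A ≤ ringKrullDim B := by
  algebraize [f]
  have : Algebra.IsIntegral A B := ⟨hf⟩
  have hinj' : Function.Injective (algebraMap A B) := hinj
  unfold ringKrullDim Order.krullDim
  apply iSup_le
  intro l
  obtain ⟨P, -, hP, hPl⟩ := Ideal.exists_ideal_over_prime_of_isIntegral
    (S := B) l.head.asIdeal (⊥ : Ideal B) (by
      rw [← RingHom.ker_eq_comap_bot, (RingHom.injective_iff_ker_eq_bot _).mp hinj']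
      exact bot_le)
  have : P.LiesOver l.head.asIdeal := ⟨hPl.symm⟩
  obtain ⟨L, hL, -, -⟩ := Ideal.exists_ltSeries_of_hasGoingUp l P
  rw [← hL]
  exact le_iSup (fun p : LTSeries (PrimeSpectrum B) => (p.length : WithBot ℕ∞)) L

variable {R : Type u} [CommRing R]

/-- description of the extension `m · R[It]` of an ideal `m` of `R` to the Rees algebra. -/
theorem mem_map_algebraMap_reesAlgebra_iff (m I : Ideal R) (f : reesAlgebra I) :
    f ∈ Ideal.map (algebraMap R (reesAlgebra I)) m ↔ ∀ i, (f : R[X]).coeff i ∈ m * I ^ i := by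
  constructor
  · intro hf
    unfold Ideal.map at hf
    induction hf using Submodule.span_induction with
    | mem x hx =>
      obtain ⟨r, hr, rfl⟩ := hx
      intro i
      show (algebraMap R R[X] r).coeff i ∈ _
      rw [Polynomial.algebraMap_apply, Polynomial.coeff_C]
      split_ifs with h
      · subst h; simpa using hr
      · exact zero_mem _
    | zero => intro i; simp
    | add x y _ _ hx hy =>
      intro i
      show ((x : R[X]) + (y : R[X])).coeff i ∈ _
      rw [Polynomial.coeff_add]
      exact add_mem (hx i) (hy i)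
    | smul g x _ hx =>
      intro k
      show ((g : R[X]) * (x : R[X])).coeff k ∈ _
      rw [Polynomial.coeff_mul]
      apply Ideal.sum_mem
      rintro ⟨i, j⟩ e
      rw [← (Finset.HasAntidiagonal.mem_antidiagonal.mp e : i + j = k), pow_add, mul_left_comm]
      exact Ideal.mul_mem_mul (g.2 i) (hx j)
  · intro h
    have h1 : f = ∑ i ∈ (f : R[X]).support,
        (⟨monomial i ((f : R[X]).coeff i), reesAlgebra.monomial_mem.mpr (f.2 i)⟩ :
          reesAlgebra I) := by
      apply Subtype.ext
      rw [AddSubmonoidClass.coe_finsetSum]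
      exact (f : R[X]).as_sum_support
    rw [h1]
    apply Ideal.sum_mem
    intro i _
    have key : ∀ c (hc : c ∈ m * I ^ i), ∀ hc' : c ∈ I ^ i,
        (⟨monomial i c, reesAlgebra.monomial_mem.mpr hc'⟩ : reesAlgebra I) ∈
          Ideal.map (algebraMap R (reesAlgebra I)) m := by
      intro c hc
      induction hc using Submodule.mul_induction_on' with
      | mem_mul_mem r hr y hy =>
        intro hc'
        have : (⟨monomial i (r * y), reesAlgebra.monomial_mem.mpr hc'⟩ : reesAlgebra I) =
            algebraMap R (reesAlgebra I) r * ⟨monomial i y, reesAlgebra.monomial_mem.mpr hy⟩ := by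
          apply Subtype.ext
          show monomial i (r * y) = algebraMap R R[X] r * monomial i y
          rw [Polynomial.algebraMap_apply, Polynomial.C_mul_monomial]; simp
        rw [this]
        exact Ideal.mul_mem_right _ _ (Ideal.mem_map_of_mem _ hr)
      | add x hx y hy ihx ihy =>
        intro hc'
        have hx' : x ∈ I ^ i := Ideal.mul_le_right hx
        have hy' : y ∈ I ^ i := Ideal.mul_le_right hy
        have : (⟨monomial i (x + y), reesAlgebra.monomial_mem.mpr hc'⟩ : reesAlgebra I) =
            ⟨monomial i x, reesAlgebra.monomial_mem.mpr hx'⟩ +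
            ⟨monomial i y, reesAlgebra.monomial_mem.mpr hy'⟩ := by
          apply Subtype.ext
          show monomial i (x + y) = monomial i x + monomial i y
          rw [map_add]
        rw [this]
        exact add_mem (ihx hx') (ihy hy')
    exact key _ (h i) (f.2 i)

theorem expand_mem (b : Ideal R) (t : ℕ) (ht : 0 < t) (f : R[X]) (hf : f ∈ reesAlgebra (b ^ t)) :
    Polynomial.expand R t f ∈ reesAlgebra b := by
  intro i
  rw [Polynomial.coeff_expand ht]
  split_ifs with h
  · obtain ⟨k, rfl⟩ := h
    rw [Nat.mul_div_cancel_left k ht, pow_mul]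
    exact hf k
  · exact zero_mem _

/-- the map `R[b^t T] → R[b T]`, `T ↦ T^t`. -/
noncomputable def expandRees (b : Ideal R) (t : ℕ) (ht : 0 < t) :
    reesAlgebra (b ^ t) →ₐ[R] reesAlgebra b :=
  ((Polynomial.expand R t).comp (reesAlgebra (b ^ t)).val).codRestrict (reesAlgebra b)
    (fun f => expand_mem b t ht f.1 f.2)

theorem coe_expandRees (b : Ideal R) (t : ℕ) (ht : 0 < t) (f : reesAlgebra (b ^ t)) :
    ((expandRees b t ht f : reesAlgebra b) : R[X]) = Polynomial.expand R t (f : R[X]) := rfl

theorem expandRees_isIntegral (b : Ideal R) (t : ℕ) (ht : 0 < t) :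
    (expandRees b t ht).toRingHom.IsIntegral := by
  intro x
  have hx : (x : R[X]) ∈ Algebra.adjoin R
      (Submodule.map (monomial 1 : R →ₗ[R] R[X]) b : Set R[X]) := by
    rw [adjoin_monomial_eq_reesAlgebra]; exact x.2
  have key : ∀ (y : R[X]) (hy : y ∈ Algebra.adjoin R
      (Submodule.map (monomial 1 : R →ₗ[R] R[X]) b : Set R[X])),
      (expandRees b t ht).toRingHom.IsIntegralElem
        ⟨y, by rw [adjoin_monomial_eq_reesAlgebra] at hy; exact hy⟩ := by
    intro y hy
    induction hy using Algebra.adjoin_induction with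
    | mem y hy =>
      obtain ⟨r, hr, rfl⟩ := hy
      have hrt : r ^ t ∈ (b ^ t) ^ 1 := by rw [pow_one]; exact Ideal.pow_mem_pow hr t
      refine ⟨X ^ t - C ⟨monomial 1 (r ^ t), reesAlgebra.monomial_mem.mpr hrt⟩,
        Polynomial.monic_X_pow_sub_C _ ht.ne', ?_⟩
      rw [Polynomial.eval₂_sub, Polynomial.eval₂_X_pow, Polynomial.eval₂_C, sub_eq_zero]
      apply Subtype.ext
      show (monomial 1 r : R[X]) ^ t = Polynomial.expand R t (monomial 1 (r ^ t))
      rw [Polynomial.monomial_pow, Polynomial.expand_monomial]
    | algebraMap r =>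
      have : (⟨algebraMap R R[X] r, by
          rw [← adjoin_monomial_eq_reesAlgebra]; exact Subalgebra.algebraMap_mem _ r⟩ :
          reesAlgebra b) = (expandRees b t ht).toRingHom (algebraMap R _ r) := by
        apply Subtype.ext
        show algebraMap R R[X] r = Polynomial.expand R t (algebraMap R R[X] r)
        simp
      rw [this]
      exact RingHom.isIntegralElem_map _
    | add y z hy hz ihy ihz =>
      exact RingHom.IsIntegralElem.add _ ihy ihz
    | mul y z hy hz ihy ihz =>
      exact RingHom.IsIntegralElem.mul _ ihy ihz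
  exact key x.1 hx

theorem map_le_comap_expandRees (m b : Ideal R) (t : ℕ) (ht : 0 < t) :
    Ideal.map (algebraMap R (reesAlgebra (b ^ t))) m ≤
      (Ideal.map (algebraMap R (reesAlgebra b)) m).comap (expandRees b t ht).toRingHom := by
  rw [Ideal.map_le_iff_le_comap]
  intro r hr
  rw [Ideal.mem_comap, Ideal.mem_comap]
  have : (expandRees b t ht).toRingHom (algebraMap R _ r) = algebraMap R _ r :=
    (expandRees b t ht).commutes r
  rw [this]
  exact Ideal.mem_map_of_mem _ hr

theorem comap_expandRees_le (m b : Ideal R) (t : ℕ) (ht : 0 < t) :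
    (Ideal.map (algebraMap R (reesAlgebra b)) m).comap (expandRees b t ht).toRingHom ≤
      Ideal.map (algebraMap R (reesAlgebra (b ^ t))) m := by
  intro x hx
  rw [Ideal.mem_comap, mem_map_algebraMap_reesAlgebra_iff] at hx
  rw [mem_map_algebraMap_reesAlgebra_iff]
  intro n
  have := hx (n * t)
  rw [show (((expandRees b t ht).toRingHom x : reesAlgebra b) : R[X]) =
    Polynomial.expand R t (x : R[X]) from rfl, Polynomial.coeff_expand_mul ht, pow_mul'] at this
  exact this

theorem ringKrullDim_fibreCone_pow [IsLocalRing R] (b : Ideal R) (t : ℕ) (ht : 0 < t) :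
    ringKrullDim (IdealRed.FibreCone R (b ^ t)) = ringKrullDim (IdealRed.FibreCone R b) := by
  let θ : IdealRed.FibreCone R (b ^ t) →+* IdealRed.FibreCone R b :=
    Ideal.quotientMap _ (expandRees b t ht).toRingHom
      (map_le_comap_expandRees (IsLocalRing.maximalIdeal R) b t ht)
  have hinj : Function.Injective θ :=
    Ideal.quotientMap_injective' (comap_expandRees_le (IsLocalRing.maximalIdeal R) b t ht)
  have hint : RingHom.IsIntegral (R := IdealRed.FibreCone R (b ^ t))
      (A := IdealRed.FibreCone R b) θ := by
    apply RingHom.IsIntegral.tower_top (R := reesAlgebra (b ^ t))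
      (S := IdealRed.FibreCone R (b ^ t)) (T := IdealRed.FibreCone R b) (Ideal.Quotient.mk _) θ
    rw [Ideal.quotientMap_comp_mk]
    exact RingHom.IsIntegral.trans (T := IdealRed.FibreCone R b) _ _
      (expandRees_isIntegral b t ht)
      (RingHom.isIntegral_of_surjective (S := IdealRed.FibreCone R b) _
        Ideal.Quotient.mk_surjective)
  exact le_antisymm
    (ringKrullDim_le_of_isIntegral_of_injective (A := IdealRed.FibreCone R (b ^ t))
      (B := IdealRed.FibreCone R b) θ hint hinj)
    (ringKrullDim_le_of_isIntegral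
      (A := IdealRed.FibreCone R (b ^ t)) (B := IdealRed.FibreCone R b) θ hint)

end Groth.Agent.Lib.helper19.FibreCone
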