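import Mathlib
import Groth.Agent.Lib.Helper19.FibreCone2

/-!
# Fibre cones III: analytic independence and a lower bound for the analytic spread

* `le_ringKrullDim_of_algebraicIndependent`: an algebra of finite type over a field containing `t`
  algebraically independent elements has Krull dimension at least `t` (Noether normalization and
  transcendence degree).
* `coeff_aeval_monomial`: coefficients of `P(v_1 T, ..., v_t T)`.
* `algebraicIndependent_of_analyticIndep`: analytically independent elements of `b` give
  algebraically independent elements of the fibre cone.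
* `le_ringKrullDim_fibreCone`: hence `t ≤ dim F(b)`.
-/

set_option autoImplicit false
universe u

namespace Groth.Agent.Lib.helper19.FibreCone
open Polynomial

/-- a domain of finite type over a field containing `t` algebraically independent elements has
dimension at least `t`. -/
theorem le_ringKrullDim_of_algebraicIndependent_of_isDomain (k : Type u) [Field k]
    (D : Type u) [CommRing D] [IsDomain D] [Algebra k D] [Algebra.FiniteType k D] (t : ℕ)
    (x : Fin t → D) (hx : AlgebraicIndependent k x) :
    ((t : ℕ∞) : WithBot ℕ∞) ≤ ringKrullDim D := by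
  obtain ⟨s, g, hinj, hint⟩ := exists_integral_inj_algHom_of_fg k D
  -- `s ≤ dim D`
  have h1 : ringKrullDim (MvPolynomial (Fin s) k) ≤ ringKrullDim D :=
    ringKrullDim_le_of_isIntegral_of_injective g.toRingHom hint hinj
  rw [MvPolynomial.ringKrullDim_of_isNoetherianRing, ringKrullDim_eq_zero_of_field, zero_add,
    Nat.card_fin] at h1
  -- `t ≤ s`
  let S : Set D := Set.range (fun i => g (MvPolynomial.X i))
  have hmem : ∀ y, g y ∈ Algebra.adjoin k S := by
    intro y
    have : g = MvPolynomial.aeval (fun i => g (MvPolynomial.X i)) := by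
      apply MvPolynomial.algHom_ext
      intro i; simp
    rw [this, Algebra.adjoin_range_eq_range_aeval]
    exact ⟨y, rfl⟩
  let h : MvPolynomial (Fin s) k →ₐ[k] Algebra.adjoin k S := g.codRestrict _ hmem
  have : Algebra.IsAlgebraic (Algebra.adjoin k S) D := by
    refine ⟨fun d => IsIntegral.isAlgebraic ?_⟩
    obtain ⟨p, hp, hp0⟩ := hint d
    refine ⟨p.map h.toRingHom, hp.map _, ?_⟩
    rw [Polynomial.eval₂_map]
    exact hp0
  have h2 : Algebra.trdeg k D ≤ Cardinal.mk S := Algebra.IsAlgebraic.trdeg_le_cardinalMk k S
  have h3 : Cardinal.mk S ≤ Cardinal.lift.{u} (Cardinal.mk (Fin s)) := by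
    have := Cardinal.mk_range_le_lift (f := fun i : Fin s => g (MvPolynomial.X i))
    rwa [Cardinal.lift_id'] at this
  have h4 := hx.lift_cardinalMk_le_trdeg
  have h5 : (t : Cardinal.{u}) ≤ (s : Cardinal.{u}) := by
    have := (h4.trans (Cardinal.lift_le.mpr h2))
    simp only [Cardinal.mk_fin, Cardinal.lift_natCast] at this h3
    rw [Cardinal.lift_id'] at this
    exact this.trans h3
  have h6 : t ≤ s := by exact_mod_cast h5
  refine le_trans ?_ h1
  exact_mod_cast h6

/-- an algebra of finite type over a field containing `t` algebraically independent elements has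
dimension at least `t`. -/
theorem le_ringKrullDim_of_algebraicIndependent (k : Type u) [Field k]
    (B : Type u) [CommRing B] [Algebra k B] [Algebra.FiniteType k B] (t : ℕ)
    (x : Fin t → B) (hx : AlgebraicIndependent k x) :
    ((t : ℕ∞) : WithBot ℕ∞) ≤ ringKrullDim B := by
  have hinj : Function.Injective (MvPolynomial.aeval x : MvPolynomial (Fin t) k →ₐ[k] B) := hx
  obtain ⟨P, hP, hPc⟩ := Ideal.exists_comap_eq_of_mem_minimalPrimes_of_injective
    (f := (MvPolynomial.aeval x : MvPolynomial (Fin t) k →ₐ[k] B).toRingHom) hinj ⊥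
    (by rw [IsDomain.minimalPrimes_eq_singleton_bot]; rfl)
  have hx' : AlgebraicIndependent k (fun i => Ideal.Quotient.mkₐ k P (x i)) := by
    show Function.Injective (MvPolynomial.aeval (fun i => Ideal.Quotient.mkₐ k P (x i)))
    have e : (MvPolynomial.aeval (fun i => Ideal.Quotient.mkₐ k P (x i)) :
        MvPolynomial (Fin t) k →ₐ[k] B ⧸ P) =
        (Ideal.Quotient.mkₐ k P).comp (MvPolynomial.aeval x) := by
      apply MvPolynomial.algHom_ext
      intro i; simp
    rw [e]
    rw [injective_iff_map_eq_zero]
    intro a ha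
    have h1 : (MvPolynomial.aeval x a) ∈ P := by
      rw [AlgHom.comp_apply] at ha
      exact Ideal.Quotient.eq_zero_iff_mem.mp ha
    have h2 : a ∈ Ideal.comap (MvPolynomial.aeval x : MvPolynomial (Fin t) k →ₐ[k] B).toRingHom P :=
      h1
    rw [hPc] at h2
    exact h2
  exact (le_ringKrullDim_of_algebraicIndependent_of_isDomain k (B ⧸ P) t _ hx').trans
    (ringKrullDim_quotient_le P)

variable {R : Type u} [CommRing R]

theorem prod_monomial' {ι : Type*} (s : Finset ι) (n : ι → ℕ) (a : ι → R) :
    ∏ i ∈ s, (monomial (n i) (a i) : R[X]) = monomial (∑ i ∈ s, n i) (∏ i ∈ s, a i) := by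
  classical
  induction s using Finset.induction_on with
  | empty => simp
  | insert i s hi ih =>
    rw [Finset.prod_insert hi, Finset.sum_insert hi, Finset.prod_insert hi, ih,
      Polynomial.monomial_mul_monomial]

/-- coefficients of the image of `P` under `X_i ↦ v_i T`. -/
theorem coeff_aeval_monomial {t : ℕ} (v : Fin t → R) (P : MvPolynomial (Fin t) R) (h : ℕ) :
    (MvPolynomial.aeval (fun i => (monomial 1 (v i) : R[X])) P).coeff h =
      MvPolynomial.eval v (MvPolynomial.homogeneousComponent h P) := by
  classical
  induction P using MvPolynomial.induction_on' with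
  | monomial d c =>
    rw [MvPolynomial.aeval_monomial, MvPolynomial.homogeneousComponent_apply]
    have h1 : (d.prod fun i k => (monomial 1 (v i) : R[X]) ^ k) =
        monomial d.degree (d.prod fun i k => v i ^ k) := by
      simp only [Polynomial.monomial_pow, one_mul, Finsupp.prod]
      rw [prod_monomial']
      rfl
    rw [h1, Polynomial.algebraMap_apply, Polynomial.C_mul_monomial, Polynomial.coeff_monomial]
    rw [MvPolynomial.support_monomial]
    by_cases hc : c = 0
    · simp [hc]
    · rw [if_neg hc, Finset.sum_filter, Finset.sum_singleton, MvPolynomial.coeff_monomial,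
        if_pos rfl]
      by_cases hd : d.degree = h
      · rw [if_pos hd, if_pos hd, MvPolynomial.eval_monomial]
        rfl
      · rw [if_neg hd, if_neg hd, map_zero]
  | add p q hp hq =>
    rw [map_add, Polynomial.coeff_add, hp, hq, map_add, map_add]

variable [IsLocalRing R]

theorem algebraicIndependent_of_analyticIndep (b : Ideal R) (t : ℕ) (v : Fin t → R)
    (hv : ∀ i, v i ∈ b)
    (hind : ∀ (h : ℕ) (f : MvPolynomial (Fin t) R), f.IsHomogeneous h →
      MvPolynomial.eval v f ∈ b ^ h * IsLocalRing.maximalIdeal R →
      ∀ d : Fin t →₀ ℕ, f.coeff d ∈ IsLocalRing.maximalIdeal R) :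
    AlgebraicIndependent (R ⧸ IsLocalRing.maximalIdeal R)
      (fun i => (Ideal.Quotient.mk _ (gen b v hv i) : IdealRed.FibreCone R b)) := by
  show Function.Injective (MvPolynomial.aeval _)
  rw [injective_iff_map_eq_zero]
  intro P hP
  obtain ⟨Q, rfl⟩ := MvPolynomial.map_surjective _
    (Ideal.Quotient.mk_surjective (I := IsLocalRing.maximalIdeal R)) P
  -- the two ring maps agree
  have hcomp : ∀ Q : MvPolynomial (Fin t) R,
      MvPolynomial.aeval (R := R ⧸ IsLocalRing.maximalIdeal R)
        (fun i => (Ideal.Quotient.mk _ (gen b v hv i) : IdealRed.FibreCone R b))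
        (MvPolynomial.map (Ideal.Quotient.mk (IsLocalRing.maximalIdeal R)) Q) =
      Ideal.Quotient.mk _ (MvPolynomial.aeval (R := R) (gen b v hv) Q) := by
    intro Q
    induction Q using MvPolynomial.induction_on with
    | C r =>
      rw [MvPolynomial.map_C, MvPolynomial.aeval_C, MvPolynomial.aeval_C]
      rfl
    | add p q hp hq => rw [map_add, map_add, hp, hq, map_add, map_add]
    | mul_X p i hp =>
      rw [map_mul, map_mul, hp, MvPolynomial.map_X, MvPolynomial.aeval_X, map_mul, map_mul,
        MvPolynomial.aeval_X]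
  rw [hcomp, Ideal.Quotient.eq_zero_iff_mem, mem_map_algebraMap_reesAlgebra_iff] at hP
  have hval : ∀ Q : MvPolynomial (Fin t) R,
      ((MvPolynomial.aeval (R := R) (gen b v hv) Q : reesAlgebra b) : R[X]) =
        MvPolynomial.aeval (fun i => (monomial 1 (v i) : R[X])) Q := by
    intro Q
    have : (reesAlgebra b).val.comp (MvPolynomial.aeval (R := R) (gen b v hv)) =
        MvPolynomial.aeval (fun i => (monomial 1 (v i) : R[X])) := by
      apply MvPolynomial.algHom_ext
      intro i
      simp [gen]
    exact AlgHom.congr_fun this Q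
  have hcoef : ∀ d, Q.coeff d ∈ IsLocalRing.maximalIdeal R := by
    intro d
    have h1 := hP d.degree
    rw [hval, coeff_aeval_monomial, mul_comm] at h1
    have h2 := hind d.degree _ (MvPolynomial.homogeneousComponent_isHomogeneous d.degree Q) h1 d
    rwa [MvPolynomial.coeff_homogeneousComponent, if_pos rfl] at h2
  ext d
  rw [MvPolynomial.coeff_map, MvPolynomial.coeff_zero]
  exact Ideal.Quotient.eq_zero_iff_mem.mpr (hcoef d)

theorem le_ringKrullDim_fibreCone [IsNoetherianRing R] (b : Ideal R) (t : ℕ) (v : Fin t → R)
    (hv : ∀ i, v i ∈ b)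
    (hind : ∀ (h : ℕ) (f : MvPolynomial (Fin t) R), f.IsHomogeneous h →
      MvPolynomial.eval v f ∈ b ^ h * IsLocalRing.maximalIdeal R →
      ∀ d : Fin t →₀ ℕ, f.coeff d ∈ IsLocalRing.maximalIdeal R) :
    ((t : ℕ∞) : WithBot ℕ∞) ≤ ringKrullDim (IdealRed.FibreCone R b) := by
  have : Algebra.FiniteType R (IdealRed.FibreCone R b) :=
    Algebra.FiniteType.of_surjective (Ideal.Quotient.mkₐ R _) Ideal.Quotient.mk_surjective
  have : Algebra.FiniteType (R ⧸ IsLocalRing.maximalIdeal R) (IdealRed.FibreCone R b) :=
    Algebra.FiniteType.of_restrictScalars_finiteType R _ _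
  let _ : Field (R ⧸ IsLocalRing.maximalIdeal R) := Ideal.Quotient.field _
  exact le_ringKrullDim_of_algebraicIndependent (R ⧸ IsLocalRing.maximalIdeal R)
    (IdealRed.FibreCone R b) t _ (algebraicIndependent_of_analyticIndep b t v hv hind)

end Groth.Agent.Lib.helper19.FibreCone
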