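import Mathlib
import Groth.Agent.Lib.Helper19.CohenK
import Groth.Agent.LibObs29d
import Groth.Agent.S12136
import Groth.Agent.S3282

/-!
# Regularity and adic formal smoothness over a field, complete case (helper19)

For a complete Noetherian local `k`-algebra `R` whose residue field is formally smooth over `k`:
`R` is regular iff `R` is formally smooth over `k` for the adic topology.
-/

set_option autoImplicit false
universe u

namespace Groth.Agent.Lib.helper19.CohenK

open IsLocalRing TensorProduct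

theorem spanFinrank_span_range_le {R : Type u} [CommRing R] {d : ℕ} (x : Fin d → R) :
    (Ideal.span (Set.range x)).spanFinrank ≤ d := by
  classical
  have h1 : Set.range x = ((Finset.univ.image x : Finset R) : Set R) := by simp
  have h2 := Submodule.spanFinrank_span_le_ncard_of_finite (R := R) (Set.finite_range x)
  refine h2.trans ?_
  rw [h1, Set.ncard_coe_finset]
  exact Finset.card_image_le.trans (by simp)

section

variable (k R : Type u) [Field k] [CommRing R] [Algebra k R]

theorem isAdicFormallySmooth_of_regular [IsRegularLocalRing R]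
    [IsAdicComplete (maximalIdeal R) R] [Algebra.FormallySmooth k (ResidueField R)] :
    CAlgX.IsAdicFormallySmooth k R (maximalIdeal R) := by
  classical
  have hfg : (maximalIdeal R).FG := (maximalIdeal R).fg_of_isNoetherianRing
  obtain ⟨d, w, hw, hdim⟩ : ∃ (d : ℕ) (w : Fin d → R),
      Ideal.span (Set.range w) = maximalIdeal R ∧ ringKrullDim R = d := by
    obtain ⟨w, hw⟩ := exists_fin_generators' (maximalIdeal R) hfg
    exact ⟨_, w, hw, (IsRegularLocalRing.spanFinrank_maximalIdeal (R := R)).symm⟩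
  obtain ⟨g, F, hg, hFC, hFX, hFs, hFm⟩ := cohen_pres k R d w hw
  have hS : ringKrullDim (MvPowerSeries (Fin d) (ResidueField R)) ≤ d := by
    refine (ringKrullDim_le_spanFinrank_maximalIdeal _).trans ?_
    rw [Groth.Agent.LibCR29.maximalIdeal_ps, IsLocalRing.maximalIdeal_eq_bot, Ideal.map_bot,
      bot_sup_eq]
    exact_mod_cast spanFinrank_span_range_le _
  have hinj : Function.Injective F := by
    rw [injective_iff_map_eq_zero]
    intro r hr
    by_contra hne
    have hr0 : r ∈ nonZeroDivisors (MvPowerSeries (Fin d) (ResidueField R)) :=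
      mem_nonZeroDivisors_of_ne_zero hne
    have h1 := ringKrullDim_quotient_succ_le_of_nonZeroDivisor hr0
    let q : MvPowerSeries (Fin d) (ResidueField R) ⧸ Ideal.span {r} →+* R :=
      Ideal.Quotient.lift _ F.toRingHom (by
        intro a ha
        rw [Ideal.mem_span_singleton] at ha
        obtain ⟨b, rfl⟩ := ha
        show F (r * b) = 0
        rw [map_mul, hr, zero_mul])
    have hq : Function.Surjective q := by
      intro y
      obtain ⟨a, rfl⟩ := hFs y
      exact ⟨Ideal.Quotient.mk _ a, Ideal.Quotient.lift_mk _ _ _⟩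
    have h2 := ringKrullDim_le_of_surjective q hq
    rw [hdim] at h2
    have h3 : ((d : ℕ) : WithBot ℕ∞) + 1 ≤ d := (add_le_add h2 le_rfl).trans (h1.trans hS)
    have h4 : ((d + 1 : ℕ) : WithBot ℕ∞) ≤ ((d : ℕ) : WithBot ℕ∞) := by
      push_cast; exact h3
    have h5 : d + 1 ≤ d := by exact_mod_cast h4
    omega
  have hP := isAdicFormallySmooth_ps k (ResidueField R) d
  intro B _ _ J hJ ψ ⟨N, hN⟩
  have hkill : ∀ x ∈ maximalIdeal (MvPowerSeries (Fin d) (ResidueField R)) ^ N,
      (ψ.comp F) x = 0 := by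
    intro x hx
    apply hN
    rw [← hFm, ← Ideal.map_pow]
    exact Ideal.mem_map_of_mem _ hx
  obtain ⟨χ, hχ⟩ := hP B J hJ (ψ.comp F) ⟨N, hkill⟩
  let e : MvPowerSeries (Fin d) (ResidueField R) ≃ₐ[k] R := AlgEquiv.ofBijective F ⟨hinj, hFs⟩
  refine ⟨χ.comp e.symm.toAlgHom, ?_⟩
  ext x
  obtain ⟨p, rfl⟩ := hFs x
  have h1 : e.symm (F p) = p := by
    rw [AlgEquiv.symm_apply_eq]; rfl
  have h2 := congr($hχ p)
  simp only [AlgHom.comp_apply] at h2 ⊢
  have h3 : (e.symm.toAlgHom : R →ₐ[k] _) (F p) = p := h1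
  rw [h3]
  exact h2

theorem isRegularLocalRing_of_isAdicFormallySmooth [IsNoetherianRing R] [IsLocalRing R]
    [IsAdicComplete (maximalIdeal R) R] [Algebra.FormallySmooth k (ResidueField R)]
    (h : CAlgX.IsAdicFormallySmooth k R (maximalIdeal R)) : IsRegularLocalRing R := by
  classical
  have hfg : (maximalIdeal R).FG := (maximalIdeal R).fg_of_isNoetherianRing
  obtain ⟨n, w, hw, hn⟩ : ∃ (n : ℕ) (w : Fin n → R),
      Ideal.span (Set.range w) = maximalIdeal R ∧ (Ideal.span (Set.range w)).spanFinrank = n := by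
    obtain ⟨w, hw⟩ := exists_fin_generators' (maximalIdeal R) hfg
    exact ⟨_, w, hw, by rw [hw]⟩
  obtain ⟨g, F, hg, hFC, hFX, hFs, hFm⟩ := cohen_pres k R n w hw
  set P := MvPowerSeries (Fin n) (ResidueField R) with hPdef
  set I : Ideal P := RingHom.ker F.toRingHom with hIdef
  have hmP : maximalIdeal P = Ideal.span (Set.range (MvPowerSeries.X : Fin n → P)) := by
    rw [Groth.Agent.LibCR29.maximalIdeal_ps, IsLocalRing.maximalIdeal_eq_bot, Ideal.map_bot,
      bot_sup_eq]
  have hImax : I ≤ maximalIdeal P := by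
    intro p hp
    by_contra hnot
    have hu : IsUnit p := by
      rwa [IsLocalRing.mem_maximalIdeal, mem_nonunits_iff, not_not] at hnot
    have h1 : IsUnit (F p) := hu.map F
    rw [show F p = 0 from hp] at h1
    exact not_isUnit_zero h1
  have hI2 : I ≤ maximalIdeal P ^ 2 := by
    intro p hp
    have hp' := hImax hp
    rw [hmP] at hp'
    obtain ⟨a, ha⟩ := Ideal.mem_span_range_iff_exists_fun.mp hp'
    have h0 : ∑ i, F (a i) * w i = 0 := by
      have h1 : F p = 0 := hp
      rw [← ha, map_sum] at h1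
      rw [← h1]
      exact Finset.sum_congr rfl fun i _ => by rw [map_mul, hFX]
    have ha' : ∀ i, a i ∈ maximalIdeal P := by
      intro i
      by_contra hnot
      have hu : IsUnit (a i) := by
        rwa [IsLocalRing.mem_maximalIdeal, mem_nonunits_iff, not_not] at hnot
      have h2 := Groth.Agent.S3282.spanFinrank_lt_of_relation w (fun i => F (a i)) h0 i (hu.map F)
      omega
    rw [← ha, pow_two]
    refine Ideal.sum_mem _ fun i _ => Ideal.mul_mem_mul (ha' i) ?_
    rw [hmP]
    exact Ideal.subset_span ⟨i, rfl⟩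
  let e : (P ⧸ I) ≃ₐ[k] R := Ideal.quotientKerAlgEquivOfSurjective hFs
  have hC : CAlgX.IsAdicFormallySmooth k (P ⧸ I)
      ((maximalIdeal P).map (Ideal.Quotient.mk I)) := by
    intro B _ _ J hJ ψ ⟨N, hN⟩
    let es : R →ₐ[k] P ⧸ I := e.symm.toAlgHom
    let ef : P ⧸ I →ₐ[k] R := e.toAlgHom
    have hes : ∀ p : P, es (F p) = Ideal.Quotient.mk I p := by
      intro p
      show e.symm (F p) = _
      rw [AlgEquiv.symm_apply_eq]; rfl
    have hes2 : ∀ x, es (ef x) = x := fun x => e.symm_apply_apply x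
    have hmap : ∀ x ∈ maximalIdeal R ^ N, (ψ.comp es) x = 0 := by
      intro x hx
      show ψ (es x) = 0
      apply hN
      rw [← hFm, ← Ideal.map_pow] at hx
      obtain ⟨p, hp, rfl⟩ := (Ideal.mem_map_iff_of_surjective F.toRingHom hFs).1 hx
      show es (F p) ∈ _
      rw [hes, ← Ideal.map_pow]
      exact Ideal.mem_map_of_mem _ hp
    obtain ⟨χ, hχ⟩ := h B J hJ (ψ.comp es) ⟨N, hmap⟩
    refine ⟨χ.comp ef, ?_⟩
    ext x
    have h3 := congr($hχ (ef x))
    simp only [AlgHom.comp_apply] at h3 ⊢
    rw [hes2] at h3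
    exact h3
  have hP := isAdicFormallySmooth_ps k (ResidueField R) n
  obtain ⟨g', hg'⟩ := (Groth.Agent.S12136.result (A := k) (B := P) (maximalIdeal P) I hP
    ((maximalIdeal P).map (Ideal.Quotient.mk I)) ⟨1, by simp⟩ ⟨1, by simp⟩).1 hC
  clear hC hP h
  set Q := Ideal.map (Ideal.Quotient.mk I) (maximalIdeal P) with hQ
  set K := RingHom.ker (algebraMap P (P ⧸ I)) with hK
  have hKI : K = I := by rw [hK, Ideal.Quotient.algebraMap_eq, Ideal.mk_ker]
  have hsmul : ∀ c ∈ maximalIdeal P, ∀ t : (P ⧸ I) ⧸ Q, c • t = 0 := by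
    intro c hc t
    have h1 : algebraMap P ((P ⧸ I) ⧸ Q) c = 0 := by
      show Ideal.Quotient.mk Q (Ideal.Quotient.mk I c) = 0
      rw [Ideal.Quotient.eq_zero_iff_mem]
      exact Ideal.mem_map_of_mem _ hc
    rw [Algebra.smul_def, h1, zero_mul]
  have hzero : ∀ p ∈ maximalIdeal P ^ 2, ∀ t : (P ⧸ I) ⧸ Q,
      t ⊗ₜ[P] ((1 : P ⧸ I) ⊗ₜ[P] KaehlerDifferential.D k P p) = 0 := by
    intro p hp t
    rw [pow_two] at hp
    refine Submodule.mul_induction_on hp ?_ ?_
    · intro a ha b hb
      rw [Derivation.leibniz, TensorProduct.tmul_add, TensorProduct.tmul_add,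
        TensorProduct.tmul_smul, TensorProduct.tmul_smul, TensorProduct.tmul_smul,
        TensorProduct.tmul_smul, TensorProduct.smul_tmul', TensorProduct.smul_tmul',
        hsmul a ha, hsmul b hb, TensorProduct.zero_tmul, TensorProduct.zero_tmul, add_zero]
    · intro x y hx hy
      rw [map_add, TensorProduct.tmul_add, TensorProduct.tmul_add, hx, hy, add_zero]
  have hbc : LinearMap.baseChange ((P ⧸ I) ⧸ Q)
      (KaehlerDifferential.kerCotangentToTensor k P (P ⧸ I)) = 0 := by
    refine LinearMap.ext fun x => ?_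
    induction x using TensorProduct.induction_on with
    | zero => simp
    | tmul t c =>
      obtain ⟨⟨p, hp⟩, rfl⟩ := Ideal.toCotangent_surjective _ c
      rw [LinearMap.baseChange_tmul, KaehlerDifferential.kerCotangentToTensor_toCotangent]
      have hp' : p ∈ I := hKI ▸ hp
      exact hzero p (hI2 hp') t
    | add x y hx hy => rw [map_add, hx, hy]; simp
  have hsub : Subsingleton (((P ⧸ I) ⧸ Q) ⊗[P] K.Cotangent) := by
    have h0 : ∀ x : ((P ⧸ I) ⧸ Q) ⊗[P] K.Cotangent, x = 0 := by
      intro x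
      have hx := congr($hg' x)
      rw [hbc] at hx
      simpa using hx.symm
    exact ⟨fun x y => by rw [h0 x, h0 y]⟩
  have hcot : Subsingleton K.Cotangent := by
    let E1 : ((P ⧸ I) ⧸ Q) ≃ₗ[P] P ⧸ maximalIdeal P :=
      (DoubleQuot.quotQuotEquivQuotOfLEₐ P hImax).toLinearEquiv
    let E2 := TensorProduct.congr E1 (LinearEquiv.refl P K.Cotangent)
    let E3 := TensorProduct.quotTensorEquivQuotSMul K.Cotangent (maximalIdeal P)
    have h1 : Subsingleton (K.Cotangent ⧸ (maximalIdeal P • ⊤ : Submodule P K.Cotangent)) :=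
      (E2.trans E3).symm.toEquiv.subsingleton
    rw [Submodule.Quotient.subsingleton_iff] at h1
    have hfin : Module.Finite P K.Cotangent :=
      Module.Finite.of_surjective K.toCotangent K.toCotangent_surjective
    have h2 : (⊤ : Submodule P K.Cotangent) = ⊥ :=
      Submodule.eq_bot_of_le_smul_of_le_jacobson_bot (maximalIdeal P) ⊤ Module.Finite.fg_top
        (by rw [h1]) (IsLocalRing.maximalIdeal_le_jacobson _)
    exact (Submodule.subsingleton_iff P).1 (subsingleton_of_bot_eq_top h2.symm)
  have hidem : IsIdempotentElem K := (Ideal.cotangent_subsingleton_iff K).1 hcot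
  have hK0 : K = ⊥ := by
    refine Submodule.eq_bot_of_le_smul_of_le_jacobson_bot (maximalIdeal P) K
      (IsNoetherian.noetherian K) ?_ (IsLocalRing.maximalIdeal_le_jacobson _)
    rw [smul_eq_mul]
    calc K = K * K := hidem.eq.symm
      _ ≤ maximalIdeal P * K := Ideal.mul_mono_left (hKI ▸ hImax)
  have hinj : Function.Injective F := by
    rw [injective_iff_map_eq_zero]
    intro r hr
    have h1 : r ∈ I := hr
    rw [← hKI, hK0] at h1
    exact h1
  have hreg : IsRegularLocalRing P :=
    Groth.Agent.LibObs29.isRegularLocalRing_mvPowerSeries (ResidueField R) n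
  exact IsRegularLocalRing.of_ringEquiv (RingEquiv.ofBijective F.toRingHom ⟨hinj, hFs⟩)

end

end Groth.Agent.Lib.helper19.CohenK
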