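import Mathlib
import Groth.Agent.Lib.Helper19.CohenK2
import Groth.Agent.S0548
import Groth.Agent.S9318
import Groth.Agent.S0542

/-!
# Regularity and adic formal smoothness over a field, general Noetherian local case (helper19)

For a Noetherian local `k`-algebra `A` whose residue field is formally smooth over `k`
(e.g. separable over `k`, or `k` of characteristic zero):
* `regular_iff_isAdicFormallySmooth`: `A` is regular iff `A` is formally smooth over `k` for the
  adic topology;
* `exists_completion_equiv_of_regular`: if `A` is regular, its completion is `k`-isomorphic to a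
  power series ring over the residue field of `A`.
-/

set_option autoImplicit false
universe u

namespace Groth.Agent.Lib.helper19.CohenK

open IsLocalRing

section

variable (k R : Type u) [Field k] [CommRing R] [Algebra k R]

theorem exists_algEquiv_of_regular [IsRegularLocalRing R]
    [IsAdicComplete (maximalIdeal R) R] [Algebra.FormallySmooth k (ResidueField R)] :
    ∃ (d : ℕ) (F : MvPowerSeries (Fin d) (ResidueField R) ≃ₐ[k] R),
      (maximalIdeal (MvPowerSeries (Fin d) (ResidueField R))).map
        (F : MvPowerSeries (Fin d) (ResidueField R) →ₐ[k] R).toRingHom = maximalIdeal R := by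
  classical
  have hfg : (maximalIdeal R).FG := (maximalIdeal R).fg_of_isNoetherianRing
  obtain ⟨d, w, hw, hdim⟩ : ∃ (d : ℕ) (w : Fin d → R),
      Ideal.span (Set.range w) = maximalIdeal R ∧ ringKrullDim R = d := by
    obtain ⟨w, hw⟩ := exists_fin_generators' (maximalIdeal R) hfg
    exact ⟨_, w, hw, (IsRegularLocalRing.spanFinrank_maximalIdeal (R := R)).symm⟩
  obtain ⟨g, F, hg, hFC, hFX, hFs, hFm⟩ := cohen_pres k R d w hw
  have hS : ringKrullDim (MvPowerSeries (Fin d) (ResidueField R)) ≤ d := by
    refine (ringKrullDim_le_spanFinrank_maximalIdeal _).trans ?_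
    rw [Groth.Agent.LibCR29.maximalIdeal_ps, IsLocalRing.maximalIdeal_eq_bot, Ideal.map_bot,
      bot_sup_eq]
    exact_mod_cast spanFinrank_span_range_le _
  have hinj : Function.Injective F := by
    rw [injective_iff_map_eq_zero]
    intro r hr
    by_contra hne
    have hr0 : r ∈ nonZeroDivisors (MvPowerSeries (Fin d) (ResidueField R)) :=
      mem_nonZeroDivisors_of_ne_zero hne
    have h1 := ringKrullDim_quotient_succ_le_of_nonZeroDivisor hr0
    let q : MvPowerSeries (Fin d) (ResidueField R) ⧸ Ideal.span {r} →+* R :=
      Ideal.Quotient.lift _ F.toRingHom (by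
        intro a ha
        rw [Ideal.mem_span_singleton] at ha
        obtain ⟨b, rfl⟩ := ha
        show F (r * b) = 0
        rw [map_mul, hr, zero_mul])
    have hq : Function.Surjective q := by
      intro y
      obtain ⟨a, rfl⟩ := hFs y
      exact ⟨Ideal.Quotient.mk _ a, Ideal.Quotient.lift_mk _ _ _⟩
    have h2 := ringKrullDim_le_of_surjective q hq
    rw [hdim] at h2
    have h3 : ((d : ℕ) : WithBot ℕ∞) + 1 ≤ d := (add_le_add h2 le_rfl).trans (h1.trans hS)
    have h4 : ((d + 1 : ℕ) : WithBot ℕ∞) ≤ ((d : ℕ) : WithBot ℕ∞) := by
      push_cast; exact h3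
    have h5 : d + 1 ≤ d := by exact_mod_cast h4
    omega
  exact ⟨d, AlgEquiv.ofBijective F ⟨hinj, hFs⟩, hFm⟩

end

section

variable (k A : Type u) [Field k] [CommRing A] [Algebra k A] [IsNoetherianRing A] [IsLocalRing A]

/-- the residue field of the completion, as a `k`-algebra. -/
noncomputable def residueFieldEquiv :
    ResidueField A ≃ₐ[k] ResidueField (AdicCompletion (maximalIdeal A) A) :=
  AlgEquiv.ofBijective
    { IsLocalRing.ResidueField.map (algebraMap A (AdicCompletion (maximalIdeal A) A)) with
      commutes' := fun c => by
        show IsLocalRing.ResidueField.map (algebraMap A (AdicCompletion (maximalIdeal A) A))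
          (residue A (algebraMap k A c)) = residue _ (algebraMap k _ c)
        rw [IsLocalRing.ResidueField.map_residue]
        rfl }
    (AdicCompletion.residueField_map_bijective A)

theorem residueFieldEquiv_residue (a : A) :
    residueFieldEquiv k A (residue A a) =
      residue _ (algebraMap A (AdicCompletion (maximalIdeal A) A) a) :=
  IsLocalRing.ResidueField.map_residue _ a

theorem regular_iff_isAdicFormallySmooth [Algebra.FormallySmooth k (ResidueField A)] :
    IsRegularLocalRing A ↔ CAlgX.IsAdicFormallySmooth k A (maximalIdeal A) := by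
  have hfg : (maximalIdeal A).FG := (maximalIdeal A).fg_of_isNoetherianRing
  have hN : IsNoetherianRing (AdicCompletion (maximalIdeal A) A) :=
    Groth.Agent.S0542.result A _ hfg
  have hfs : Algebra.FormallySmooth k (ResidueField (AdicCompletion (maximalIdeal A) A)) :=
    Algebra.FormallySmooth.of_equiv (residueFieldEquiv k A)
  rw [Groth.Agent.S0548.result A, Groth.Agent.S9318.result (maximalIdeal A) hfg,
    ← AdicCompletion.maximalIdeal_eq_map]
  constructor
  · intro h
    exact isAdicFormallySmooth_of_regular k _
  · exact isRegularLocalRing_of_isAdicFormallySmooth k _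

noncomputable def psMapEquiv {K K' : Type u} [CommRing K] [CommRing K'] (d : ℕ) (e : K ≃+* K') :
    MvPowerSeries (Fin d) K ≃+* MvPowerSeries (Fin d) K' :=
  RingEquiv.ofRingHom (MvPowerSeries.map (e : K →+* K')) (MvPowerSeries.map (e.symm : K' →+* K))
    (by rw [← MvPowerSeries.map_comp]; simp [MvPowerSeries.map_id])
    (by rw [← MvPowerSeries.map_comp]; simp [MvPowerSeries.map_id])

theorem exists_completion_equiv_of_regular [Algebra.FormallySmooth k (ResidueField A)]
    (hA : IsRegularLocalRing A) :
    ∃ (n : ℕ) (e : AdicCompletion (maximalIdeal A) A ≃+* MvPowerSeries (Fin n) (ResidueField A)),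
      ∀ x : k, e (algebraMap A (AdicCompletion (maximalIdeal A) A) (algebraMap k A x)) =
        algebraMap (ResidueField A) (MvPowerSeries (Fin n) (ResidueField A))
          (algebraMap k (ResidueField A) x) := by
  classical
  have hfg : (maximalIdeal A).FG := (maximalIdeal A).fg_of_isNoetherianRing
  have hN : IsNoetherianRing (AdicCompletion (maximalIdeal A) A) :=
    Groth.Agent.S0542.result A _ hfg
  have hfs : Algebra.FormallySmooth k (ResidueField (AdicCompletion (maximalIdeal A) A)) :=
    Algebra.FormallySmooth.of_equiv (residueFieldEquiv k A)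
  have hreg : IsRegularLocalRing (AdicCompletion (maximalIdeal A) A) :=
    (Groth.Agent.S0548.result A).1 hA
  obtain ⟨n, F, hF⟩ := exists_algEquiv_of_regular k (AdicCompletion (maximalIdeal A) A)
  refine ⟨n, F.symm.toRingEquiv.trans (psMapEquiv n (residueFieldEquiv k A).symm.toRingEquiv),
    fun x => ?_⟩
  have h1 : algebraMap A (AdicCompletion (maximalIdeal A) A) (algebraMap k A x) =
      algebraMap k (AdicCompletion (maximalIdeal A) A) x := rfl
  rw [h1]
  show MvPowerSeries.map ((residueFieldEquiv k A).symm.toRingEquiv : _ →+* ResidueField A)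
    (F.symm (algebraMap k (AdicCompletion (maximalIdeal A) A) x)) = _
  rw [F.symm.commutes, MvPowerSeries.algebraMap_apply, MvPowerSeries.map_C,
    MvPowerSeries.algebraMap_apply, Algebra.algebraMap_self, RingHom.id_apply]
  congr 1
  exact (residueFieldEquiv k A).symm.commutes x

end

end Groth.Agent.Lib.helper19.CohenK
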