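import Mathlib
import Groth.Agent.Lib.Helper19.CohenK3
import Groth.Agent.Lib.Helper3.GeomRed

/-!
# Adic formal smoothness over an arbitrary field implies regularity (helper19)

* `isAdicFormallySmooth_trans`: transitivity: `k₀ → k` formally smooth, `k → A` adic formally smooth
  ⇒ `k₀ → A` adic formally smooth.
* `formallySmooth_of_perfectField`: every field extension of a perfect field is formally smooth.
* `isRegularLocalRing_of_isAdicFormallySmooth_field`: a Noetherian local `k`-algebra which is
  formally smooth over `k` for the adic topology is regular (`k` any field).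
-/

set_option autoImplicit false
universe u

namespace Groth.Agent.Lib.helper19.CohenK

open IsLocalRing

theorem isAdicFormallySmooth_trans (k₀ k A : Type u) [Field k₀] [Field k] [CommRing A]
    [Algebra k₀ k] [Algebra k A] [Algebra k₀ A] [IsScalarTower k₀ k A]
    [Algebra.FormallySmooth k₀ k] (𝔫 : Ideal A) (h : CAlgX.IsAdicFormallySmooth k A 𝔫) :
    CAlgX.IsAdicFormallySmooth k₀ A 𝔫 := by
  intro B _ _ J hJ ψ ⟨N, hN⟩
  let ψ₀ : k →ₐ[k₀] B ⧸ J := ψ.comp (IsScalarTower.toAlgHom k₀ k A)
  have hnil : IsNilpotent J := ⟨2, hJ⟩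
  let χ₀ : k →ₐ[k₀] B := Algebra.FormallySmooth.lift J hnil ψ₀
  have hχ₀ : ∀ c, Ideal.Quotient.mk J (χ₀ c) = ψ₀ c := fun c =>
    Algebra.FormallySmooth.mk_lift J hnil ψ₀ c
  letI algkB : Algebra k B := χ₀.toRingHom.toAlgebra
  have htower : IsScalarTower k₀ k B := IsScalarTower.of_algebraMap_eq fun c => by
    show algebraMap k₀ B c = χ₀ (algebraMap k₀ k c)
    rw [χ₀.commutes]
  let ψk : A →ₐ[k] B ⧸ J :=
    { ψ.toRingHom with
      commutes' := fun c => by
        show ψ (algebraMap k A c) = Ideal.Quotient.mk J (χ₀ c)
        rw [hχ₀]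
        rfl }
  obtain ⟨χ, hχ⟩ := h B J hJ ψk ⟨N, hN⟩
  refine ⟨χ.restrictScalars k₀, ?_⟩
  ext x
  exact congr($hχ x)

theorem formallySmooth_of_perfectField (k₀ K : Type u) [Field k₀] [Field K] [Algebra k₀ K]
    [PerfectField k₀] : Algebra.FormallySmooth k₀ K := by
  have : Algebra.IsGeometricallyReduced k₀ K :=
    Groth.Agent.Lib.helper3.GeomRed.isGeometricallyReduced_of_perfectField k₀ K
  exact Groth.Agent.Lib.helper17.FieldLift.formallySmooth_of_isGeometricallyReduced

theorem isRegularLocalRing_of_tower (k₀ k A : Type u) [Field k₀] [Field k] [CommRing A]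
    [Algebra k₀ k] [Algebra k A] [Algebra k₀ A] [IsScalarTower k₀ k A] [PerfectField k₀]
    [IsNoetherianRing A] [IsLocalRing A]
    (h : CAlgX.IsAdicFormallySmooth k A (maximalIdeal A)) : IsRegularLocalRing A := by
  have h1 : Algebra.FormallySmooth k₀ k := formallySmooth_of_perfectField k₀ k
  have h2 : Algebra.FormallySmooth k₀ (ResidueField A) :=
    formallySmooth_of_perfectField k₀ (ResidueField A)
  exact (regular_iff_isAdicFormallySmooth k₀ A).2 (isAdicFormallySmooth_trans k₀ k A _ h)

/-- a copy of the prime subfield of `k` (kept opaque to instance search). -/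
def P0 (k : Type u) [Field k] : Type u := ↥(⊥ : Subfield k)

noncomputable instance (k : Type u) [Field k] : Field (P0 k) :=
  inferInstanceAs (Field ↥(⊥ : Subfield k))

/-- the inclusion of the prime subfield. -/
def P0.incl (k : Type u) [Field k] : P0 k →+* k := (⊥ : Subfield k).subtype

theorem perfectField_P0 (k : Type u) [Field k] : PerfectField (P0 k) := by
  obtain ⟨p, hp⟩ := CharP.exists k
  rcases CharP.char_is_prime_or_zero k p with hp' | rfl
  · have : Fact p.Prime := ⟨hp'⟩
    have : Fintype (P0 k) := Subfield.fintypeBot k p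
    infer_instance
  · have : CharZero k := CharP.charP_to_charZero k
    have : CharZero (P0 k) := (P0.incl k).charZero
    infer_instance

/-- a Noetherian local `k`-algebra which is formally smooth for the adic topology is regular. -/
theorem isRegularLocalRing_of_isAdicFormallySmooth_field (k A : Type u) [Field k] [CommRing A]
    [Algebra k A] [IsNoetherianRing A] [IsLocalRing A]
    (h : CAlgX.IsAdicFormallySmooth k A (maximalIdeal A)) : IsRegularLocalRing A := by
  have := perfectField_P0 k
  letI : Algebra (P0 k) k := (P0.incl k).toAlgebra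
  letI : Algebra (P0 k) A := ((algebraMap k A).comp (P0.incl k)).toAlgebra
  have : IsScalarTower (P0 k) k A := IsScalarTower.of_algebraMap_eq fun _ => rfl
  exact isRegularLocalRing_of_tower (P0 k) k A h

end Groth.Agent.Lib.helper19.CohenK
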