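import Mathlib
import Groth.Prelude.Def_CohB1

/-!
# Properness of the Prelude projective spaces (helper19)

`CohB1.ProjSpace.toSpec n R : P^n_R ⟶ Spec R` and `CohB1.ProjSpaceOver.toBase n S : P^n_S ⟶ S`
are proper (from Mathlib's `Proj.toSpecZero` being proper for algebras of finite type).
-/

set_option autoImplicit false
universe u
open CategoryTheory CategoryTheory.Limits AlgebraicGeometry

namespace Groth.Agent.Lib.helper19.ProjSpaceProper

theorem surj_zero (n : ℕ) (R : Type u) [CommRing R] :
    Function.Surjective (algebraMap R (CohB1.polyGrading n R 0)) := by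
  rintro ⟨p, hp⟩
  have hp' : p ∈ MvPolynomial.homogeneousSubmodule (Fin (n + 1)) R 0 := hp
  rw [MvPolynomial.homogeneousSubmodule_zero, Submodule.mem_one] at hp'
  obtain ⟨r, rfl⟩ := hp'
  exact ⟨r, Subtype.ext rfl⟩

instance tower (n : ℕ) (R : Type u) [CommRing R] :
    IsScalarTower R (CohB1.polyGrading n R 0) (MvPolynomial (Fin (n + 1)) R) :=
  IsScalarTower.of_algebraMap_eq (R := R) (S := CohB1.polyGrading n R 0)
    (A := MvPolynomial (Fin (n + 1)) R) (fun _ => rfl)

instance ft (n : ℕ) (R : Type u) [CommRing R] :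
    Algebra.FiniteType (CohB1.polyGrading n R 0) (MvPolynomial (Fin (n + 1)) R) :=
  Algebra.FiniteType.of_restrictScalars_finiteType R _ _

instance proper_toSpec (n : ℕ) (R : Type u) [CommRing R] :
    IsProper (CohB1.ProjSpace.toSpec n R) := by
  unfold CohB1.ProjSpace.toSpec
  have h1 : IsClosedImmersion (Spec.map (CommRingCat.ofHom (algebraMap R (CohB1.polyGrading n R 0)))) :=
    IsClosedImmersion.spec_of_surjective _ (surj_zero n R)
  have h2 : IsProper (Proj.toSpecZero (CohB1.polyGrading n R)) := inferInstance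
  have h3 : IsProper (Spec.map (CommRingCat.ofHom (algebraMap R (CohB1.polyGrading n R 0)))) :=
    inferInstance
  exact MorphismProperty.comp_mem _ _ _ h2 h3

instance proper_toBase (n : ℕ) (S : Scheme.{u}) : IsProper (CohB1.ProjSpaceOver.toBase n S) := by
  unfold CohB1.ProjSpaceOver.toBase
  exact MorphismProperty.pullback_snd _ _ (proper_toSpec n _)

end Groth.Agent.Lib.helper19.ProjSpaceProper
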