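import Mathlib
import Groth.Prelude.Def_W4c6instabfans3Fan

/-!
# Basic API for formal fans (helper19)
-/

open CategoryTheory Opposite

universe u

namespace Groth.Agent.Lib.helper19

open Instab

theorem realMap_id (n : ICone) (v : Fin n.dim → ℝ) : ICone.Hom.realMap (𝟙 n) v = v := by
  funext j
  change ∑ i, (((LinearMap.id : (Fin n.dim → ℤ) →ₗ[ℤ] _) (Pi.single i 1) j : ℤ) : ℝ) * v i = v j
  rw [Finset.sum_eq_single j]
  · simp
  · intro i _ hij
    simp [hij.symm]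
  · intro h; exact absurd (Finset.mem_univ j) h

theorem realMap_smul {k n : ICone} (φ : k ⟶ n) (c : ℝ) (v : Fin k.dim → ℝ) :
    φ.realMap (c • v) = c • φ.realMap v := by
  funext j
  simp only [ICone.Hom.realMap, Pi.smul_apply, smul_eq_mul, Finset.mul_sum]
  refine Finset.sum_congr rfl fun i _ => ?_
  ring

theorem realMap_add {k n : ICone} (φ : k ⟶ n) (v w : Fin k.dim → ℝ) :
    φ.realMap (v + w) = φ.realMap v + φ.realMap w := by
  funext j
  simp only [ICone.Hom.realMap, Pi.add_apply, ← Finset.sum_add_distrib]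
  refine Finset.sum_congr rfl fun i _ => ?_
  ring

theorem toLin_eq_sum {k n : ICone} (φ : k ⟶ n) (x : Fin k.dim → ℤ) (j : Fin n.dim) :
    φ.toLin x j = ∑ i, φ.toLin (Pi.single i 1) j * x i := by
  have hx : x = ∑ i, x i • (Pi.single i (1 : ℤ) : Fin k.dim → ℤ) := by
    funext l
    simp [Finset.sum_apply, Pi.single_apply]
  conv_lhs => rw [hx]
  rw [map_sum, Finset.sum_apply]
  refine Finset.sum_congr rfl fun i _ => ?_
  rw [map_smul, Pi.smul_apply, smul_eq_mul, mul_comm]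

theorem realMap_comp {k m n : ICone} (φ : k ⟶ m) (ψ : m ⟶ n) (v : Fin k.dim → ℝ) :
    (φ ≫ ψ).realMap v = ψ.realMap (φ.realMap v) := by
  funext j
  change ∑ i, ((ψ.toLin (φ.toLin (Pi.single i 1)) j : ℤ) : ℝ) * v i =
    ∑ l, ((ψ.toLin (Pi.single l 1) j : ℤ) : ℝ) * ∑ i, ((φ.toLin (Pi.single i 1) l : ℤ) : ℝ) * v i
  simp_rw [Finset.mul_sum]
  rw [Finset.sum_comm]
  refine Finset.sum_congr rfl fun i _ => ?_
  rw [toLin_eq_sum ψ (φ.toLin (Pi.single i 1)) j]
  push_cast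
  rw [Finset.sum_mul]
  refine Finset.sum_congr rfl fun l _ => ?_
  ring

variable {F : Fan.{u}}

theorem P_mk_glue {k n : ICone} (φ : k ⟶ n) (ξ : F.obj (op n)) (v : Fan.Orth k) (w : Fan.Orth n)
    (c : ℝ) (hc : 0 < c) (h : w.1 = c • φ.realMap v.1) :
    Fan.P.mk (F.map φ.op ξ) v = Fan.P.mk ξ w :=
  Quot.sound (Fan.Rel.glue φ ξ v w c hc h)

theorem P_mk_smul {n : ICone} (ξ : F.obj (op n)) (v w : Fan.Orth n)
    (c : ℝ) (hc : 0 < c) (h : w.1 = c • v.1) :
    Fan.P.mk ξ v = Fan.P.mk ξ w := by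
  have h1 := P_mk_glue (F := F) (𝟙 n) ξ v w c hc (by rw [realMap_id]; exact h)
  have h2 : F.map (𝟙 n).op ξ = ξ := by
    rw [op_id]
    exact Functor.map_id_apply F _ ξ
  rw [h2] at h1
  exact h1

end Groth.Agent.Lib.helper19
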