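import Mathlib
import Groth.Agent.Lib.Helper8.LocalFlat

/-!
# Flatness and freeness modulo a nilpotent ideal (helper19)

* `subsingleton_of_tensor_quot` : nilpotent Nakayama, `(A/J) ⊗ C = 0 → C = 0`.
* `surjective_of_lTensor_quot_surjective` : `ψ` is surjective if `(A/J) ⊗ ψ` is.
* `injective_of_flat_of_lTensor_quot_injective` : a surjection onto a flat module which is
  injective modulo a nilpotent ideal is injective.
* `exists_free_lift` : if `(A/J) ⊗ M` is free, there is `ψ : (I →₀ A) → M` surjective with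
  `ψ.baseChange (A/J)` bijective.
* `lTensor_bijective_of_baseChange_bijective` : if `ψ.baseChange (A/J)` is bijective then `Q ⊗ ψ`
  is bijective for every `A/J`-module `Q`.
-/

open TensorProduct Function

namespace Groth.Agent.Lib.Helper19.NilpFlat

open Groth.Agent.Lib.helper8.LocalFlat

universe u v w

section Nakayama

variable {A : Type u} [CommRing A] (J : Ideal A)

theorem pow_smul_top_eq_top {C : Type*} [AddCommGroup C] [Module A C]
    (h : J • (⊤ : Submodule A C) = ⊤) (n : ℕ) : J ^ n • (⊤ : Submodule A C) = ⊤ := by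
  induction n with
  | zero => simp
  | succ n ih => rw [pow_succ, Submodule.mul_smul, h, ih]

theorem subsingleton_of_smul_top_eq_top (hJ : IsNilpotent J) {C : Type*} [AddCommGroup C]
    [Module A C] (h : J • (⊤ : Submodule A C) = ⊤) : Subsingleton C := by
  obtain ⟨n, hn⟩ := hJ
  have h1 := pow_smul_top_eq_top J h n
  rw [hn, Ideal.zero_eq_bot, Submodule.bot_smul] at h1
  exact (Submodule.subsingleton_iff A).mp (subsingleton_of_bot_eq_top h1)

theorem subsingleton_of_tensor_quot (hJ : IsNilpotent J) {C : Type*} [AddCommGroup C]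
    [Module A C] [h : Subsingleton ((A ⧸ J) ⊗[A] C)] : Subsingleton C := by
  apply subsingleton_of_smul_top_eq_top J hJ
  have : Subsingleton (C ⧸ J • (⊤ : Submodule A C)) :=
    (TensorProduct.quotTensorEquivQuotSMul C J).symm.toEquiv.subsingleton
  exact Submodule.Quotient.subsingleton_iff.mp this

variable {F M : Type*} [AddCommGroup F] [Module A F] [AddCommGroup M] [Module A M]

theorem surjective_of_lTensor_quot_surjective (hJ : IsNilpotent J) (ψ : F →ₗ[A] M)
    (h : Surjective (ψ.lTensor (A ⧸ J))) : Surjective ψ := by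
  rw [← LinearMap.range_eq_top]
  have hπ : (LinearMap.range ψ).mkQ ∘ₗ ψ = 0 := by
    ext x; simp
  have h0 : ∀ z, ((LinearMap.range ψ).mkQ.lTensor (A ⧸ J)) z = 0 := by
    intro z
    obtain ⟨y, rfl⟩ := h z
    rw [← LinearMap.comp_apply, ← LinearMap.lTensor_comp, hπ, LinearMap.lTensor_zero,
      LinearMap.zero_apply]
  have : Subsingleton ((A ⧸ J) ⊗[A] (M ⧸ LinearMap.range ψ)) := by
    refine ⟨fun a b => ?_⟩
    obtain ⟨a', rfl⟩ := LinearMap.lTensor_surjective (A ⧸ J) (LinearMap.range ψ).mkQ_surjective a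
    obtain ⟨b', rfl⟩ := LinearMap.lTensor_surjective (A ⧸ J) (LinearMap.range ψ).mkQ_surjective b
    rw [h0, h0]
  have := subsingleton_of_tensor_quot J hJ (C := M ⧸ LinearMap.range ψ)
  exact Submodule.Quotient.subsingleton_iff.mp this

theorem injective_of_flat_of_lTensor_quot_injective (hJ : IsNilpotent J) (ψ : F →ₗ[A] M)
    (hs : Surjective ψ) [Module.Flat A M] (h : Injective (ψ.lTensor (A ⧸ J))) : Injective ψ := by
  have hι : Injective ((LinearMap.ker ψ).subtype.lTensor (A ⧸ J)) :=
    LinearMap.lTensor_injective_of_exact_of_flat ψ hs (LinearMap.ker ψ).subtype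
      Subtype.val_injective (LinearMap.exact_subtype_ker_map ψ) (A ⧸ J)
  have hc : ψ ∘ₗ (LinearMap.ker ψ).subtype = 0 := by
    ext x; exact x.2
  have : Subsingleton ((A ⧸ J) ⊗[A] (LinearMap.ker ψ)) := by
    refine ⟨fun a b => ?_⟩
    apply hι
    apply h
    rw [← LinearMap.comp_apply, ← LinearMap.comp_apply, ← LinearMap.lTensor_comp, hc,
      LinearMap.lTensor_zero, LinearMap.zero_apply, LinearMap.zero_apply]
  have := subsingleton_of_tensor_quot J hJ (C := LinearMap.ker ψ)
  rw [← LinearMap.ker_eq_bot]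
  exact Submodule.eq_bot_of_subsingleton

end Nakayama

section
variable {A : Type u} [CommRing A] (J : Ideal A) {M : Type u} [AddCommGroup M] [Module A M]

theorem exists_free_lift (hfree : Module.Free (A ⧸ J) ((A ⧸ J) ⊗[A] M)) :
    ∃ (I : Type u) (ψ : (I →₀ A) →ₗ[A] M), Bijective (ψ.baseChange (A ⧸ J)) := by
  let I := Module.Free.ChooseBasisIndex (A ⧸ J) ((A ⧸ J) ⊗[A] M)
  let b : Module.Basis I (A ⧸ J) ((A ⧸ J) ⊗[A] M) := Module.Free.chooseBasis _ _
  have hsurj := TensorProduct.mk_surjective A M (A ⧸ J) Ideal.Quotient.mk_surjective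
  choose m hm using fun i => hsurj (b i)
  refine ⟨I, Finsupp.linearCombination A m, ?_⟩
  let b1 : Module.Basis I (A ⧸ J) ((A ⧸ J) ⊗[A] (I →₀ A)) :=
    (Finsupp.basisSingleOne (R := A) (ι := I)).baseChange (A ⧸ J)
  have heq : (Finsupp.linearCombination A m).baseChange (A ⧸ J) =
      (b1.equiv b (Equiv.refl I)).toLinearMap := by
    apply b1.ext
    intro i
    rw [LinearEquiv.coe_coe, Module.Basis.equiv_apply]
    simp only [b1, Module.Basis.baseChange_apply, Finsupp.coe_basisSingleOne,
      LinearMap.baseChange_tmul, Finsupp.linearCombination_single, one_smul, Equiv.refl_apply]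
    exact hm i
  rw [heq]
  exact (b1.equiv b (Equiv.refl I)).bijective

end

section
variable {A : Type u} [CommRing A] (J : Ideal A) {F M : Type*} [AddCommGroup F] [Module A F]
  [AddCommGroup M] [Module A M]

theorem lTensor_bijective_of_baseChange_bijective (ψ : F →ₗ[A] M)
    (hψ : Bijective (ψ.baseChange (A ⧸ J)))
    (Q : Type*) [AddCommGroup Q] [Module A Q] [Module (A ⧸ J) Q] [IsScalarTower A (A ⧸ J) Q] :
    Bijective (ψ.lTensor Q) := by
  let e : (A ⧸ J) ⊗[A] F ≃ₗ[A ⧸ J] (A ⧸ J) ⊗[A] M := LinearEquiv.ofBijective _ hψ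
  have h1 : Bijective ((ψ.baseChange (A ⧸ J)).lTensor Q) := by
    have : (ψ.baseChange (A ⧸ J)).lTensor Q = (LinearEquiv.lTensor Q e).toLinearMap := by
      ext; simp [e]
    rw [this]
    exact (LinearEquiv.lTensor Q e).bijective
  have hc : ∀ z, AlgebraTensorModule.cancelBaseChange A (A ⧸ J) (A ⧸ J) Q M
      (((ψ.baseChange (A ⧸ J)).lTensor Q) z) =
      ψ.lTensor Q (AlgebraTensorModule.cancelBaseChange A (A ⧸ J) (A ⧸ J) Q F z) :=
    cancelBaseChange_lTensor Q ψ
  have hfun : ⇑(ψ.lTensor Q) = (AlgebraTensorModule.cancelBaseChange A (A ⧸ J) (A ⧸ J) Q M) ∘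
      ((ψ.baseChange (A ⧸ J)).lTensor Q) ∘
      (AlgebraTensorModule.cancelBaseChange A (A ⧸ J) (A ⧸ J) Q F).symm := by
    funext z
    simp only [Function.comp_apply]
    rw [hc, LinearEquiv.apply_symm_apply]
  rw [hfun]
  exact (LinearEquiv.bijective _).comp (h1.comp (LinearEquiv.bijective _))

/-- Claim B core: if `A' ⊗ M` is flat over `A'`, then `A' ⊗ ψ` is injective. -/
theorem baseChange_injective_of_flat (hJ : IsNilpotent J) (ψ : F →ₗ[A] M)
    (hψ : Bijective (ψ.baseChange (A ⧸ J))) (hs : Surjective ψ)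
    (A' : Type*) [CommRing A'] [Algebra A A'] [Module.Flat A' (A' ⊗[A] M)] :
    Injective (ψ.baseChange A') := by
  have hJ' : IsNilpotent (J.map (algebraMap A A')) := by
    obtain ⟨n, hn⟩ := hJ
    exact ⟨n, by rw [← Ideal.map_pow, hn]; exact Ideal.map_bot⟩
  have hs' : Surjective (ψ.baseChange A') := by
    rw [LinearMap.baseChange_eq_ltensor]
    exact LinearMap.lTensor_surjective A' hs
  apply injective_of_flat_of_lTensor_quot_injective (J.map (algebraMap A A')) hJ' _ hs'
  have hb := (lTensor_bijective_of_baseChange_bijective J ψ hψ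
    (A' ⧸ J.map (algebraMap A A'))).1
  intro z w hzw
  apply (AlgebraTensorModule.cancelBaseChange A A' A' (A' ⧸ J.map (algebraMap A A')) F).injective
  apply hb
  rw [← cancelBaseChange_lTensor, ← cancelBaseChange_lTensor, hzw]

end


section
variable {A : Type u} [CommRing A] {I : Type*} {M : Type*} [AddCommGroup M] [Module A M]
  (ψ : (I →₀ A) →ₗ[A] M)

/-- the ideal of all coordinates of elements of the kernel -/
def coordIdeal : Ideal A := Ideal.span {a | ∃ x ∈ LinearMap.ker ψ, ∃ i, a = x i}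

variable (A' : Type*) [CommRing A'] [Algebra A A']

theorem coord_eq_zero_of_injective (h : Injective (ψ.baseChange A')) :
    (coordIdeal ψ).map (algebraMap A A') = ⊥ := by
  rw [coordIdeal, Ideal.map_span, Ideal.span_eq_bot]
  rintro _ ⟨a, ⟨x, hx, i, rfl⟩, rfl⟩
  have h1 : (ψ.baseChange A') (1 ⊗ₜ x) = 0 := by
    rw [LinearMap.baseChange_tmul, LinearMap.mem_ker.mp hx, tmul_zero]
  have h2 : (1 : A') ⊗ₜ[A] x = 0 := h (h1.trans (map_zero _).symm)
  have h3 := congrArg (fun z => AlgebraTensorModule.rid A A' A'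
    (((Finsupp.lapply i : (I →₀ A) →ₗ[A] A).baseChange A') z)) h2
  simp only [LinearMap.baseChange_tmul, Finsupp.lapply_apply, AlgebraTensorModule.rid_tmul,
    map_zero] at h3
  rw [Algebra.algebraMap_eq_smul_one]
  exact h3

theorem injective_of_coord_eq_zero (hs : Surjective ψ)
    (h : (coordIdeal ψ).map (algebraMap A A') = ⊥) :
    Injective (ψ.baseChange A') := by
  have hx0 : ∀ x ∈ LinearMap.ker ψ, ∀ a' : A', a' ⊗ₜ[A] x = 0 := by
    intro x hx a'
    have hxi : ∀ i, algebraMap A A' (x i) = 0 := by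
      intro i
      have : algebraMap A A' (x i) ∈ (coordIdeal ψ).map (algebraMap A A') :=
        Ideal.mem_map_of_mem _ (Ideal.subset_span ⟨x, hx, i, rfl⟩)
      rw [h] at this
      exact this
    conv_lhs => rw [← Finsupp.sum_single x]
    rw [Finsupp.sum, tmul_sum]
    refine Finset.sum_eq_zero fun i _ => ?_
    rw [← Finsupp.smul_single_one, tmul_smul, smul_tmul', Algebra.smul_def, hxi, zero_mul,
      zero_tmul]
  rw [injective_iff_map_eq_zero]
  intro z hz
  have hz' : (ψ.lTensor A') z = 0 := hz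
  obtain ⟨y, rfl⟩ := (lTensor_exact A' (M := ↥(LinearMap.ker ψ)) (f := (LinearMap.ker ψ).subtype)
    (LinearMap.exact_subtype_ker_map ψ) hs z).mp hz'
  clear hz hz'
  induction y using TensorProduct.induction_on with
  | zero => simp
  | add a b ha hb => rw [map_add, ha, hb, add_zero]
  | tmul a' x => rw [LinearMap.lTensor_tmul]; exact hx0 x.1 x.2 a'

end



end Groth.Agent.Lib.Helper19.NilpFlat
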