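import Mathlib

/-!
# Flat modules over local rings: independence modulo the maximal ideal (helper19)

`key`: if `N` is flat over a local ring `R` and `z : Fin r → N` is independent modulo `𝔪`, then
`∑ q i ⊗ₜ z i = 0` in `Q ⊗ N` forces all `q i = 0`.  Also conversion lemmas between the
elementwise statement `u n ∈ I M → n ∈ I N` and injectivity of `lTensor (R ⧸ I) u`.
-/

set_option autoImplicit false

namespace Groth.Agent.Lib.Helper19.FlatIndep

open TensorProduct IsLocalRing

section Key
variable {R : Type*} [CommRing R] [IsLocalRing R]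

/-- a finite family is independent modulo the maximal ideal -/
def IndepMod (R : Type*) [CommRing R] [IsLocalRing R] {N : Type*} [AddCommGroup N] [Module R N]
    {r : ℕ} (z : Fin r → N) : Prop :=
  ∀ c : Fin r → R, ∑ i, c i • z i ∈ maximalIdeal R • (⊤ : Submodule R N) →
    ∀ i, c i ∈ maximalIdeal R

variable {N : Type*} [AddCommGroup N] [Module R N] [Module.Flat R N]
variable {Q : Type*} [AddCommGroup Q] [Module R Q]

theorem key : ∀ (r : ℕ) (z : Fin r → N) (q : Fin r → Q), IndepMod R z →
    ∑ i, q i ⊗ₜ[R] z i = 0 → ∀ i, q i = 0 := by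
  intro r
  induction r with
  | zero => intro z q _ _ i; exact i.elim0
  | succ r ih =>
    intro z q hz hsum i
    obtain ⟨k, a, y, hay, ham⟩ :=
      vanishesTrivially_of_sum_tmul_eq_zero_of_rTensor_injective R
        (Module.Flat.rTensor_preserves_injective_linearMap _ Subtype.val_injective) hsum
    have hex : ∃ j, IsUnit (a (Fin.last r) j) := by
      by_contra hcon
      push Not at hcon
      have hmem : z (Fin.last r) ∈ maximalIdeal R • (⊤ : Submodule R N) := by
        rw [hay]
        exact Submodule.sum_mem _ fun j _ =>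
          Submodule.smul_mem_smul ((mem_maximalIdeal _).mpr (hcon j)) trivial
      have := hz (Pi.single (Fin.last r) 1) (by
        rw [Finset.sum_eq_single (Fin.last r)]
        · simpa using hmem
        · intro b _ hb; simp [Pi.single_eq_of_ne hb]
        · intro h; exact absurd (Finset.mem_univ _) h) (Fin.last r)
      rw [Pi.single_eq_same] at this
      exact (maximalIdeal.isMaximal R).ne_top ((Ideal.eq_top_iff_one _).mpr this)
    obtain ⟨j, hj⟩ := hex
    set c : Fin r → R := fun i => - (a i.castSucc j * ↑hj.unit⁻¹) with hc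
    have hq : q (Fin.last r) = ∑ i, c i • q i.castSucc := by
      have h1 := ham j
      rw [Fin.sum_univ_castSucc] at h1
      have h2 : a (Fin.last r) j • q (Fin.last r) = - ∑ i : Fin r, a i.castSucc j • q i.castSucc :=
        eq_neg_of_add_eq_zero_right h1
      have h3 : q (Fin.last r) = (↑hj.unit⁻¹ : R) • (a (Fin.last r) j • q (Fin.last r)) := by
        rw [smul_smul, IsUnit.val_inv_mul, one_smul]
      rw [h3, h2, smul_neg, Finset.smul_sum, ← Finset.sum_neg_distrib]
      refine Finset.sum_congr rfl fun i _ => ?_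
      rw [hc]
      simp only [neg_smul, smul_smul, mul_comm]
    have hz' : IndepMod R (fun i : Fin r => z i.castSucc + c i • z (Fin.last r)) := by
      intro c' hc' i
      have := hz (Fin.snoc c' (∑ i, c' i * c i)) (by
        rw [Fin.sum_univ_castSucc]
        simp only [Fin.snoc_castSucc, Fin.snoc_last]
        convert hc' using 1
        simp only [smul_add, Finset.sum_add_distrib, smul_smul, Finset.sum_smul]) i.castSucc
      simpa using this
    have hsum' : ∑ i : Fin r, q i.castSucc ⊗ₜ[R] (z i.castSucc + c i • z (Fin.last r)) = 0 := by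
      rw [Fin.sum_univ_castSucc] at hsum
      rw [← hsum, hq]
      simp only [tmul_add, Finset.sum_add_distrib, sum_tmul, tmul_smul, smul_tmul']
    have h0 := ih _ _ hz' hsum'
    refine Fin.lastCases ?_ ?_ i
    · rw [hq]; simp [h0]
    · exact h0

end Key

section Conv
variable {R : Type*} [CommRing R] {M N : Type*} [AddCommGroup M] [Module R M]
  [AddCommGroup N] [Module R N] (u : N →ₗ[R] M)

lemma P_of_inj (I : Ideal R) (h : Function.Injective (LinearMap.lTensor (R ⧸ I) u)) :
    ∀ n, u n ∈ I • (⊤ : Submodule R M) → n ∈ I • (⊤ : Submodule R N) := by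
  intro n hn
  rw [← LinearMap.ker_tensorProductMk] at hn ⊢
  rw [LinearMap.mem_ker] at hn ⊢
  apply h
  rw [map_zero]
  simpa using hn

lemma inj_of_P (I : Ideal R)
    (hP : ∀ n, u n ∈ I • (⊤ : Submodule R M) → n ∈ I • (⊤ : Submodule R N)) :
    Function.Injective (LinearMap.lTensor (R ⧸ I) u) := by
  rw [injective_iff_map_eq_zero]
  intro x hx
  obtain ⟨n, rfl⟩ := TensorProduct.mk_surjective R N (R ⧸ I) Ideal.Quotient.mk_surjective x
  have h1 : u n ∈ I • (⊤ : Submodule R M) := by
    rw [← LinearMap.ker_tensorProductMk, LinearMap.mem_ker]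
    simpa using hx
  have h2 := hP n h1
  rw [← LinearMap.ker_tensorProductMk, LinearMap.mem_ker] at h2
  exact h2

lemma sum_mk_tmul_eq_zero_iff (J : Ideal R) {r : ℕ} (a : Fin r → R) (z : Fin r → M) :
    ∑ t, (Ideal.Quotient.mk J (a t)) ⊗ₜ[R] z t = 0 ↔
      ∑ t, a t • z t ∈ J • (⊤ : Submodule R M) := by
  rw [← LinearMap.ker_tensorProductMk, LinearMap.mem_ker, map_sum]
  have : ∀ t, (Ideal.Quotient.mk J (a t)) ⊗ₜ[R] z t =
      (TensorProduct.mk R (R ⧸ J) M) 1 (a t • z t) := by
    intro t
    rw [TensorProduct.mk_apply, TensorProduct.tmul_smul, TensorProduct.smul_tmul']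
    congr 1
    rw [Algebra.smul_def, mul_one]; rfl
  simp_rw [this]

lemma exists_fin_rep (J : Ideal R) (x : N) (hx : x ∈ J • (⊤ : Submodule R N)) :
    ∃ (r : ℕ) (a : Fin r → R) (y : Fin r → N), (∀ t, a t ∈ J) ∧ ∑ t, a t • y t = x := by
  classical
  have hx' : x ∈ J • Submodule.span R (Set.range (id : N → N)) := by
    simpa using hx
  obtain ⟨a, ha, hsum⟩ := (Submodule.mem_ideal_smul_span_iff_exists_sum J id x).mp hx'
  let e := a.support.equivFin.symm
  refine ⟨a.support.card, fun t => a (e t), fun t => (e t : N), fun t => ha _, ?_⟩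
  rw [← hsum, Finsupp.sum, ← Finset.sum_coe_sort a.support]
  exact Equiv.sum_comp e (fun i : a.support => a i • (i : N))

end Conv

section Reduce
variable {R : Type*} [CommRing R] [IsLocalRing R] {N : Type*} [AddCommGroup N] [Module R N]

lemma reduce (K : Submodule R N) (j : ℕ)
    (hK : (maximalIdeal R) ^ (j + 1) • (⊤ : Submodule R N) ≤ K) :
    ∀ (r : ℕ) (x : N) (a : Fin r → R) (y : Fin r → N), (∀ t, a t ∈ (maximalIdeal R) ^ j) →
      x - ∑ t, a t • y t ∈ K →
      ∃ (r' : ℕ) (a' : Fin r' → R) (y' : Fin r' → N), (∀ t, a' t ∈ (maximalIdeal R) ^ j) ∧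
        IndepMod R y' ∧ x - ∑ t, a' t • y' t ∈ K := by
  intro r
  induction r with
  | zero => intro x a y ha hx; exact ⟨0, a, y, ha, fun c _ i => i.elim0, hx⟩
  | succ r ih =>
    intro x a y ha hx
    by_cases hy : IndepMod R y
    · exact ⟨r + 1, a, y, ha, hy, hx⟩
    · unfold IndepMod at hy
      push Not at hy
      obtain ⟨c, hc, t0, ht0⟩ := hy
      have hunit : IsUnit (c t0) := by
        rwa [mem_maximalIdeal, mem_nonunits_iff, not_not] at ht0
      refine ih x (fun i => a (t0.succAbove i) - a t0 * ↑hunit.unit⁻¹ * c (t0.succAbove i))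
        (fun i => y (t0.succAbove i)) ?_ ?_
      · intro i
        exact Ideal.sub_mem _ (ha _)
          (Ideal.mul_mem_right _ _ (Ideal.mul_mem_right _ _ (ha t0)))
      · have key : x - ∑ i, (a (t0.succAbove i) - a t0 * ↑hunit.unit⁻¹ * c (t0.succAbove i)) •
              y (t0.succAbove i)
            = (x - ∑ t, a t • y t) + (a t0 * ↑hunit.unit⁻¹) • ∑ t, c t • y t := by
          rw [Fin.sum_univ_succAbove (fun t => a t • y t) t0,
            Fin.sum_univ_succAbove (fun t => c t • y t) t0]
          simp only [sub_smul, Finset.sum_sub_distrib, smul_add, Finset.smul_sum, smul_smul]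
          have h1 : a t0 * ↑hunit.unit⁻¹ * c t0 = a t0 := by
            rw [mul_assoc, IsUnit.val_inv_mul, mul_one]
          rw [h1]
          abel
        rw [key]
        refine K.add_mem hx (hK ?_)
        rw [pow_succ, Submodule.mul_smul]
        exact Submodule.smul_mem_smul (Ideal.mul_mem_right _ _ (ha t0)) hc

end Reduce


end Groth.Agent.Lib.Helper19.FlatIndep
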