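import Mathlib
import Groth.Agent.Lib.Helper8.LocalFlat

set_option autoImplicit false
universe u
open TensorProduct Function Pointwise

namespace Groth.Agent.Lib.Helper19.DefCI

section Inf
variable {C A : Type u} [CommRing C] [CommRing A] [Algebra C A]

/-- If `A/I` is flat over `C`, then `I ∩ 𝔞A = 𝔞 I`. -/
theorem inf_map_le_mul (I : Ideal A) [Module.Flat C (A ⧸ I)] (𝔞 : Ideal C) :
    I ⊓ 𝔞.map (algebraMap C A) ≤ 𝔞.map (algebraMap C A) * I := by
  rintro x ⟨hxI, hxa⟩
  -- multiplication map 𝔞 ⊗ A → A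
  let μ : ↥𝔞 ⊗[C] A →ₗ[C] A := TensorProduct.lift
    ((LinearMap.lsmul C A).comp 𝔞.subtype)
  have hμ : ∀ (a : ↥𝔞) (y : A), μ (a ⊗ₜ y) = (a : C) • y := fun a y => by simp [μ]
  have hmul : ∀ (b : A) (t : ↥𝔞 ⊗[C] A),
      μ ((LinearMap.lTensor ↥𝔞 (LinearMap.mulLeft C b)) t) = b • μ t := by
    intro b t
    induction t using TensorProduct.induction_on with
    | zero => simp
    | tmul a y => simp [hμ]
    | add t₁ t₂ h₁ h₂ => simp only [map_add, h₁, h₂, smul_add]
  -- x is in the range of μ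
  have hx : ∃ t, μ t = x := by
    have : ∀ z ∈ 𝔞.map (algebraMap C A), ∃ t, μ t = z := by
      intro z hz
      refine Submodule.span_induction ?_ ?_ ?_ ?_ hz
      · rintro _ ⟨c, hc, rfl⟩
        exact ⟨(⟨c, hc⟩ : ↥𝔞) ⊗ₜ 1, by rw [hμ, Algebra.smul_def, mul_one]⟩
      · exact ⟨0, map_zero _⟩
      · rintro _ _ _ _ ⟨t₁, rfl⟩ ⟨t₂, rfl⟩
        exact ⟨t₁ + t₂, map_add _ _ _⟩
      · rintro b _ _ ⟨t, rfl⟩
        exact ⟨(LinearMap.lTensor ↥𝔞 (LinearMap.mulLeft C b)) t, hmul b t⟩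
    exact this x hxa
  obtain ⟨t, rfl⟩ := hx
  let π : A →ₗ[C] A ⧸ I := (Submodule.mkQ I).restrictScalars C
  let ι : ↥I →ₗ[C] A := (Submodule.subtype I).restrictScalars C
  have hex : Function.Exact ι π := by
    intro y
    constructor
    · intro hy
      exact ⟨⟨y, (Submodule.Quotient.mk_eq_zero I).mp hy⟩, rfl⟩
    · rintro ⟨z, rfl⟩
      exact (Submodule.Quotient.mk_eq_zero I).mpr z.2
  have hπ : Function.Surjective π := Submodule.mkQ_surjective I
  have hex2 := lTensor_exact ↥𝔞 hex hπ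
  -- (id ⊗ π) t = 0 by flatness
  have hinj : Function.Injective (LinearMap.rTensor (A ⧸ I) (Submodule.subtype 𝔞)) :=
    Module.Flat.rTensor_preserves_injective_linearMap _ Subtype.val_injective
  have h0 : LinearMap.lTensor ↥𝔞 π t = 0 := by
    apply hinj
    rw [map_zero]
    apply (TensorProduct.lid C (A ⧸ I)).injective
    rw [map_zero]
    have key : ∀ t : ↥𝔞 ⊗[C] A, (TensorProduct.lid C (A ⧸ I))
        (LinearMap.rTensor (A ⧸ I) (Submodule.subtype 𝔞) (LinearMap.lTensor ↥𝔞 π t)) = π (μ t) := by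
      intro t
      induction t using TensorProduct.induction_on with
      | zero => simp
      | tmul a y => simp [hμ, π]
      | add t₁ t₂ h₁ h₂ => simp only [map_add, h₁, h₂]
    rw [key]
    exact (Submodule.Quotient.mk_eq_zero I).mpr hxI
  obtain ⟨s, rfl⟩ := (hex2 t).mp h0
  clear h0 hxa hxI
  induction s using TensorProduct.induction_on with
  | zero => simp
  | tmul a i =>
    simp only [LinearMap.lTensor_tmul, hμ, ι]
    rw [Algebra.smul_def]
    exact Ideal.mul_mem_mul (Ideal.mem_map_of_mem _ a.2) i.2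
  | add s₁ s₂ h₁ h₂ =>
    simp only [map_add]
    exact Ideal.add_mem _ h₁ h₂

end Inf

section Nak
variable {A : Type u} [CommRing A]

theorem le_sup_pow_mul (K I' I'' : Ideal A) (h2 : I' ≤ I'' ⊔ K * I') (n : ℕ) :
    I' ≤ I'' ⊔ K ^ n * I' := by
  induction n with
  | zero => simp
  | succ n ih =>
    refine ih.trans (sup_le le_sup_left ?_)
    calc K ^ n * I' ≤ K ^ n * (I'' ⊔ K * I') := Ideal.mul_mono_right h2
      _ = K ^ n * I'' ⊔ K ^ n * (K * I') := Ideal.mul_sup _ _ _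
      _ ≤ I'' ⊔ K ^ (n + 1) * I' := by
        refine sup_le_sup Ideal.mul_le_right ?_
        rw [← mul_assoc, ← pow_succ]

theorem eq_of_le_sup_mul (K I' I'' : Ideal A) (hK : IsNilpotent K) (h1 : I'' ≤ I')
    (h2 : I' ≤ I'' ⊔ K * I') : I' = I'' := by
  obtain ⟨n, hn⟩ := hK
  refine le_antisymm ?_ h1
  have := le_sup_pow_mul K I' I'' h2 n
  rwa [hn, Ideal.zero_eq_bot, Ideal.bot_mul, sup_bot_eq] at this

end Nak

section Lift
variable {C A : Type u} [CommRing C] [CommRing A] [Algebra C A]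

/-- Generators of the reduction of `I` modulo a nilpotent ideal of the base lift to generators of
`I` when `A/I` is flat over the base. -/
theorem span_eq_of_flat (𝔞 : Ideal C) (h𝔞 : IsNilpotent 𝔞)
    (I : Ideal A) [Module.Flat C (A ⧸ I)] {ι : Type*} (a' : ι → A) (ha' : ∀ i, a' i ∈ I)
    (h : I.map (Ideal.Quotient.mk (𝔞.map (algebraMap C A))) =
      Ideal.span (Set.range (fun i => Ideal.Quotient.mk (𝔞.map (algebraMap C A)) (a' i)))) :
    I = Ideal.span (Set.range a') := by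
  set K := 𝔞.map (algebraMap C A) with hKdef
  have hK : IsNilpotent K := by
    obtain ⟨n, hn⟩ := h𝔞
    refine ⟨n, ?_⟩
    rw [hKdef, ← Ideal.map_pow, hn, Ideal.zero_eq_bot, Ideal.map_bot, Ideal.zero_eq_bot]
  have h1 : Ideal.span (Set.range a') ≤ I := Ideal.span_le.mpr (by rintro _ ⟨i, rfl⟩; exact ha' i)
  refine eq_of_le_sup_mul K I _ hK h1 ?_
  intro x hx
  have hx' : Ideal.Quotient.mk K x ∈ I.map (Ideal.Quotient.mk K) := Ideal.mem_map_of_mem _ hx
  rw [h] at hx'
  have hmap : Ideal.span (Set.range (fun i => Ideal.Quotient.mk K (a' i))) =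
      (Ideal.span (Set.range a')).map (Ideal.Quotient.mk K) := by
    rw [Ideal.map_span, ← Set.range_comp]
    rfl
  rw [hmap] at hx'
  obtain ⟨y, hy, hyx⟩ := (Ideal.mem_map_iff_of_surjective _ Ideal.Quotient.mk_surjective).mp hx'
  have hxy : x - y ∈ K := by
    rw [← Ideal.Quotient.eq, hyx]
  have hxy' : x - y ∈ I := I.sub_mem hx (h1 hy)
  have := inf_map_le_mul I 𝔞 ⟨hxy', hxy⟩
  have hx2 : x = y + (x - y) := by ring
  rw [hx2]
  exact Ideal.add_mem _ (Ideal.mem_sup_left hy) (Ideal.mem_sup_right this)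

end Lift



section B1
variable {C : Type u} [CommRing C] (𝔞 : Ideal C)

/-- the multiplication map `𝔟 ⊗ M → M` -/
noncomputable def mu (𝔟 : Ideal C) (M : Type u) [AddCommGroup M] [Module C M] : ↥𝔟 ⊗[C] M →ₗ[C] M :=
  (TensorProduct.lid C M).toLinearMap ∘ₗ (LinearMap.rTensor M (Submodule.subtype 𝔟))

@[simp] theorem mu_tmul (𝔟 : Ideal C) (M : Type u) [AddCommGroup M] [Module C M] (a : ↥𝔟) (m : M) :
    mu 𝔟 M (a ⊗ₜ m) = (a : C) • m := by
  simp [mu]

theorem mu_mem (𝔟 : Ideal C) (M : Type u) [AddCommGroup M] [Module C M] (K : Submodule C M)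
    (t : ↥𝔟 ⊗[C] ↥K) : mu 𝔟 M (LinearMap.lTensor ↥𝔟 K.subtype t) ∈ 𝔟 • K := by
  induction t using TensorProduct.induction_on with
  | zero => simp
  | tmul a m => simpa using Submodule.smul_mem_smul a.2 m.2
  | add t₁ t₂ h₁ h₂ => simpa using Submodule.add_mem _ h₁ h₂

theorem mu_mem_top (𝔟 : Ideal C) (M : Type u) [AddCommGroup M] [Module C M]
    (t : ↥𝔟 ⊗[C] M) : mu 𝔟 M t ∈ 𝔟 • (⊤ : Submodule C M) := by
  induction t using TensorProduct.induction_on with
  | zero => simp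
  | tmul a m => simpa using Submodule.smul_mem_smul a.2 (Submodule.mem_top (x := m))
  | add t₁ t₂ h₁ h₂ => simpa using Submodule.add_mem _ h₁ h₂

theorem exists_mu_eq (𝔟 : Ideal C) (M : Type u) [AddCommGroup M] [Module C M] (x : M)
    (hx : x ∈ 𝔟 • (⊤ : Submodule C M)) : ∃ t, mu 𝔟 M t = x := by
  refine Submodule.smul_induction_on hx ?_ ?_
  · intro a ha m _
    exact ⟨(⟨a, ha⟩ : ↥𝔟) ⊗ₜ m, by simp⟩
  · rintro _ _ ⟨t₁, rfl⟩ ⟨t₂, rfl⟩
    exact ⟨t₁ + t₂, map_add _ _ _⟩

theorem mu_naturality (𝔟 : Ideal C) {M N : Type u} [AddCommGroup M] [Module C M] [AddCommGroup N]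
    [Module C N] (u : M →ₗ[C] N) (t : ↥𝔟 ⊗[C] M) :
    mu 𝔟 N (LinearMap.lTensor ↥𝔟 u t) = u (mu 𝔟 M t) := by
  induction t using TensorProduct.induction_on with
  | zero => simp
  | tmul a m => simp
  | add t₁ t₂ h₁ h₂ => simp only [map_add, h₁, h₂]

theorem mu_injective (𝔟 : Ideal C) (M : Type u) [AddCommGroup M] [Module C M] [Module.Flat C M] :
    Function.Injective (mu 𝔟 M) := by
  unfold mu
  rw [LinearMap.coe_comp]
  exact (TensorProduct.lid C M).injective.comp
    (Module.Flat.rTensor_preserves_injective_linearMap _ Subtype.val_injective)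

variable {M N : Type u} [AddCommGroup M] [Module C M] [AddCommGroup N] [Module C N]

theorem flat_coker (u : M →ₗ[C] N) [Module.Flat C N] (h𝔞 : IsNilpotent 𝔞)
    (h1 : ∀ x : M, u x ∈ 𝔞 • (⊤ : Submodule C N) → x ∈ 𝔞 • (⊤ : Submodule C M))
    [Module.Flat (C ⧸ 𝔞) ((C ⧸ 𝔞) ⊗[C] (N ⧸ LinearMap.range u))] :
    Module.Flat C (N ⧸ LinearMap.range u) := by
  refine Groth.Agent.Lib.helper8.LocalFlat.flat_of_isNilpotent 𝔞 _ ?_ h𝔞
  set Q := N ⧸ LinearMap.range u
  let π : N →ₗ[C] Q := (LinearMap.range u).mkQ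
  have hπ : Function.Surjective π := Submodule.mkQ_surjective _
  have hinj : Function.Injective (mu 𝔞 Q) ↔
      Function.Injective (LinearMap.rTensor Q (Submodule.subtype 𝔞)) := by
    unfold mu
    rw [LinearMap.coe_comp]
    exact (TensorProduct.lid C Q).injective.of_comp_iff _
  rw [← hinj, injective_iff_map_eq_zero]
  intro x hx
  obtain ⟨y, rfl⟩ := LinearMap.lTensor_surjective ↥𝔞 hπ x
  rw [mu_naturality] at hx
  have hy : mu 𝔞 N y ∈ LinearMap.range u := by
    rwa [← Submodule.Quotient.mk_eq_zero]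
  obtain ⟨z, hz⟩ := hy
  have hz' : z ∈ 𝔞 • (⊤ : Submodule C M) := by
    apply h1
    rw [hz]
    exact mu_mem_top 𝔞 N y
  obtain ⟨w, rfl⟩ := exists_mu_eq 𝔞 M z hz'
  have : LinearMap.lTensor ↥𝔞 u w = y := by
    apply mu_injective 𝔞 N
    rw [mu_naturality, hz]
  rw [← this, ← LinearMap.comp_apply, ← LinearMap.lTensor_comp]
  have hcomp : π ∘ₗ u = 0 := by
    ext m
    simp only [LinearMap.comp_apply, LinearMap.zero_apply, π, Submodule.mkQ_apply]
    exact (Submodule.Quotient.mk_eq_zero _).mpr ⟨m, rfl⟩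
  rw [hcomp, LinearMap.lTensor_zero, LinearMap.zero_apply]

theorem ker_inf_smul_le (u : M →ₗ[C] N) [Module.Flat C N]
    [Module.Flat C (N ⧸ LinearMap.range u)] (𝔟 : Ideal C) :
    LinearMap.ker u ⊓ 𝔟 • (⊤ : Submodule C M) ≤ 𝔟 • LinearMap.ker u := by
  rintro x ⟨hxK, hxb⟩
  obtain ⟨w, rfl⟩ := exists_mu_eq 𝔟 M x hxb
  have hι : Function.Injective (LinearMap.lTensor ↥𝔟 (LinearMap.range u).subtype) :=
    LinearMap.lTensor_injective_of_exact_of_flat (LinearMap.range u).mkQ
      (Submodule.mkQ_surjective _) (LinearMap.range u).subtype (Submodule.subtype_injective _)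
      (LinearMap.exact_subtype_mkQ _) ↥𝔟
  have h0 : LinearMap.lTensor ↥𝔟 u.rangeRestrict w = 0 := by
    apply hι
    apply mu_injective 𝔟 N
    have e : LinearMap.lTensor ↥𝔟 (LinearMap.range u).subtype
        (LinearMap.lTensor ↥𝔟 u.rangeRestrict w) = LinearMap.lTensor ↥𝔟 u w := by
      rw [← LinearMap.comp_apply, ← LinearMap.lTensor_comp]
      rfl
    rw [e, map_zero, map_zero, mu_naturality]
    exact hxK
  have hex := lTensor_exact ↥𝔟 (LinearMap.exact_subtype_ker_map u.rangeRestrict)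
    (LinearMap.surjective_rangeRestrict u)
  obtain ⟨s, rfl⟩ := (hex w).mp h0
  have hker : LinearMap.ker u.rangeRestrict = LinearMap.ker u := LinearMap.ker_rangeRestrict u
  exact Submodule.smul_mono le_rfl hker.le (mu_mem 𝔟 M (LinearMap.ker u.rangeRestrict) s)

theorem injective_of_flat_coker (u : M →ₗ[C] N) [Module.Flat C N] (h𝔞 : IsNilpotent 𝔞)
    (h1 : ∀ x : M, u x ∈ 𝔞 • (⊤ : Submodule C N) → x ∈ 𝔞 • (⊤ : Submodule C M))
    [Module.Flat C (N ⧸ LinearMap.range u)] : Function.Injective u := by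
  rw [← LinearMap.ker_eq_bot]
  have hB : LinearMap.ker u ≤ 𝔞 • (⊤ : Submodule C M) := by
    intro x hx
    apply h1
    rw [LinearMap.mem_ker.mp hx]
    exact Submodule.zero_mem _
  have hC : ∀ n : ℕ, LinearMap.ker u ≤ 𝔞 ^ n • (⊤ : Submodule C M) := by
    intro n
    induction n with
    | zero => simp
    | succ n ih =>
      calc LinearMap.ker u ≤ LinearMap.ker u ⊓ 𝔞 ^ n • (⊤ : Submodule C M) := le_inf le_rfl ih
        _ ≤ 𝔞 ^ n • LinearMap.ker u := ker_inf_smul_le u _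
        _ ≤ 𝔞 ^ n • (𝔞 • (⊤ : Submodule C M)) := Submodule.smul_mono le_rfl hB
        _ = 𝔞 ^ (n + 1) • (⊤ : Submodule C M) := by rw [← Submodule.mul_smul, ← pow_succ]
  obtain ⟨n, hn⟩ := h𝔞
  have := hC n
  rwa [hn, Ideal.zero_eq_bot, Submodule.bot_smul, le_bot_iff] at this

theorem injective_and_flat_coker (u : M →ₗ[C] N) [Module.Flat C N] (h𝔞 : IsNilpotent 𝔞)
    (h1 : ∀ x : M, u x ∈ 𝔞 • (⊤ : Submodule C N) → x ∈ 𝔞 • (⊤ : Submodule C M))
    [Module.Flat (C ⧸ 𝔞) ((C ⧸ 𝔞) ⊗[C] (N ⧸ LinearMap.range u))] :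
    Function.Injective u ∧ Module.Flat C (N ⧸ LinearMap.range u) := by
  have := flat_coker 𝔞 u h𝔞 h1
  exact ⟨injective_of_flat_coker 𝔞 u h𝔞 h1, this⟩

end B1

section StepB
open RingTheory.Sequence

variable {C A : Type u} [CommRing C] [CommRing A] [Algebra C A] (𝔞 : Ideal C)

/-- `X/𝔞X` is flat over `C/𝔞`. -/
def FlatMod (X : Type u) [AddCommGroup X] [Module C X] : Prop :=
  Module.Flat (C ⧸ 𝔞) ((C ⧸ 𝔞) ⊗[C] X)

theorem FlatMod.of_linearEquiv {X Y : Type u} [AddCommGroup X] [Module C X] [AddCommGroup Y]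
    [Module C Y] (e : X ≃ₗ[C] Y) (h : FlatMod 𝔞 X) : FlatMod 𝔞 Y := by
  unfold FlatMod at h ⊢
  exact Module.Flat.of_linearEquiv
    (TensorProduct.AlgebraTensorModule.congr (LinearEquiv.refl (C ⧸ 𝔞) (C ⧸ 𝔞)) e).symm

theorem mem_smul_top_iff (M : Type u) [AddCommGroup M] [Module A M] [Module C M]
    [IsScalarTower C A M] (x : M) :
    x ∈ 𝔞 • (⊤ : Submodule C M) ↔ x ∈ (𝔞.map (algebraMap C A)) • (⊤ : Submodule A M) := by
  have := Ideal.smul_restrictScalars (R := C) (S := A) 𝔞 (⊤ : Submodule A M)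
  rw [Submodule.restrictScalars_top] at this
  rw [← this, Submodule.restrictScalars_mem]

/-- C-linear equivalence between quotient by an `A`-submodule and by a `C`-submodule with the
same carrier. -/
noncomputable def quotEquivOfCarrier (M : Type u) [AddCommGroup M] [Module A M] [Module C M]
    [IsScalarTower C A M] (P : Submodule A M) (P' : Submodule C M) (h : P.restrictScalars C = P') :
    (M ⧸ P) ≃ₗ[C] (M ⧸ P') :=
  (Submodule.Quotient.restrictScalarsEquiv C P).symm ≪≫ₗ Submodule.quotEquivOfEq _ _ h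

theorem ker_map_quotSMulTop (r : A) {M M₀ : Type u} [AddCommGroup M] [Module A M]
    [AddCommGroup M₀] [Module A M₀] (p : M →ₗ[A] M₀) (hp : Function.Surjective p) (I : Ideal A)
    (hker : LinearMap.ker p = I • (⊤ : Submodule A M)) :
    LinearMap.ker (QuotSMulTop.map r p) = I • (⊤ : Submodule A (QuotSMulTop r M)) := by
  apply le_antisymm
  · intro x hx
    obtain ⟨m, rfl⟩ := Submodule.mkQ_surjective _ x
    rw [LinearMap.mem_ker, Submodule.mkQ_apply, QuotSMulTop.map_apply_mk,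
      Submodule.Quotient.mk_eq_zero, Submodule.mem_smul_pointwise_iff_exists] at hx
    obtain ⟨m₀, -, hm₀⟩ := hx
    obtain ⟨m', rfl⟩ := hp m₀
    have h1 : m - r • m' ∈ I • (⊤ : Submodule A M) := by
      rw [← hker, LinearMap.mem_ker, map_sub, map_smul, ← hm₀, sub_self]
    have h2 : (r • (⊤ : Submodule A M)).mkQ m = (r • (⊤ : Submodule A M)).mkQ (m - r • m') := by
      rw [map_sub, sub_eq_self.mpr]
      rw [Submodule.mkQ_apply, Submodule.Quotient.mk_eq_zero]
      exact Submodule.smul_mem_pointwise_smul _ _ _ Submodule.mem_top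
    rw [h2]
    have h3 := Submodule.mem_map_of_mem (f := (r • (⊤ : Submodule A M)).mkQ) h1
    rw [Submodule.map_smul''] at h3
    exact Submodule.smul_mono le_rfl le_top h3
  · intro x hx
    refine Submodule.smul_induction_on hx ?_ ?_
    · intro a ha y _
      obtain ⟨m, rfl⟩ := Submodule.mkQ_surjective _ y
      rw [LinearMap.mem_ker, map_smul, Submodule.mkQ_apply, QuotSMulTop.map_apply_mk,
        ← Submodule.Quotient.mk_smul, ← map_smul]
      have : a • m ∈ LinearMap.ker p := by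
        rw [hker]
        exact Submodule.smul_mem_smul ha Submodule.mem_top
      rw [LinearMap.mem_ker.mp this, Submodule.Quotient.mk_zero]
    · intro x y hx hy
      exact Submodule.add_mem _ hx hy

theorem flat_quot_nil (M : Type u) [AddCommGroup M] [Module A M] [Module C M]
    [IsScalarTower C A M] [Module.Flat C M] :
    Module.Flat C (M ⧸ (Ideal.ofList ([] : List A) • ⊤ : Submodule A M)) := by
  have h0 : (Ideal.ofList ([] : List A) • ⊤ : Submodule A M) = ⊥ := by
    rw [Ideal.ofList_nil, Submodule.bot_smul]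
  exact Module.Flat.of_linearEquiv ((Submodule.quotEquivOfEqBot _ h0).restrictScalars C)

theorem stepB (h𝔞 : IsNilpotent 𝔞) (rs : List A) :
    ∀ (M M₀ : Type u) [AddCommGroup M] [Module A M] [Module C M] [IsScalarTower C A M]
      [Module.Flat C M] [AddCommGroup M₀] [Module A M₀] (p : M →ₗ[A] M₀),
      Function.Surjective p →
      LinearMap.ker p = (𝔞.map (algebraMap C A)) • (⊤ : Submodule A M) →
      IsWeaklyRegular M₀ rs →
      (∀ i, FlatMod 𝔞 (M ⧸ (Ideal.ofList (rs.take i) • ⊤ : Submodule A M))) →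
      IsWeaklyRegular M rs ∧
        ∀ i, Module.Flat C (M ⧸ (Ideal.ofList (rs.take i) • ⊤ : Submodule A M)) := by
  induction rs with
  | nil =>
    intro M M₀ _ _ _ _ _ _ _ p hp hker hreg hflat
    refine ⟨IsWeaklyRegular.nil A M, fun i => ?_⟩
    rw [List.take_nil]
    exact flat_quot_nil M
  | cons r rs ih =>
    intro M M₀ _ _ _ _ _ _ _ p hp hker hreg hflat
    obtain ⟨hr0, hrs0⟩ := (isWeaklyRegular_cons_iff M₀ r rs).mp hreg
    -- multiplication by r
    let uM : M →ₗ[C] M := (LinearMap.lsmul A M r).restrictScalars C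
    have huM : ∀ x, uM x = r • x := fun x => rfl
    have hrange : (r • (⊤ : Submodule A M)).restrictScalars C = LinearMap.range uM := by
      ext x
      rw [Submodule.restrictScalars_mem, Submodule.mem_smul_pointwise_iff_exists]
      constructor
      · rintro ⟨y, -, rfl⟩
        exact ⟨y, rfl⟩
      · rintro ⟨y, rfl⟩
        exact ⟨y, Submodule.mem_top, rfl⟩
    have h1 : ∀ x : M, uM x ∈ 𝔞 • (⊤ : Submodule C M) → x ∈ 𝔞 • (⊤ : Submodule C M) := by
      intro x hx
      rw [mem_smul_top_iff (A := A), ← hker, LinearMap.mem_ker] at hx ⊢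
      rw [huM, map_smul] at hx
      apply hr0
      show r • p x = r • 0
      rw [hx, smul_zero]
    have e1 : (M ⧸ (Ideal.ofList ((r :: rs).take 1) • ⊤ : Submodule A M)) ≃ₗ[C]
        (M ⧸ LinearMap.range uM) := by
      refine quotEquivOfCarrier M _ _ ?_
      rw [← hrange]
      congr 1
      rw [List.take_succ_cons, List.take_zero, Ideal.ofList_singleton,
        Submodule.ideal_span_singleton_smul]
    haveI : Module.Flat (C ⧸ 𝔞) ((C ⧸ 𝔞) ⊗[C] (M ⧸ LinearMap.range uM)) :=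
      FlatMod.of_linearEquiv 𝔞 e1 (hflat 1)
    obtain ⟨hinj, hfl⟩ := injective_and_flat_coker 𝔞 uM h𝔞 h1
    have hrM : IsSMulRegular M r := hinj
    haveI : Module.Flat C (QuotSMulTop r M) :=
      Module.Flat.of_linearEquiv (quotEquivOfCarrier M _ _ hrange)
    have hker1 := ker_map_quotSMulTop r p hp _ hker
    have hflat1 : ∀ i, FlatMod 𝔞 (QuotSMulTop r M ⧸
        (Ideal.ofList (rs.take i) • ⊤ : Submodule A (QuotSMulTop r M))) := by
      intro i
      have := hflat (i + 1)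
      rw [List.take_succ_cons] at this
      exact FlatMod.of_linearEquiv 𝔞
        ((Submodule.quotOfListConsSMulTopEquivQuotSMulTopInner M r (rs.take i)).restrictScalars C)
        this
    obtain ⟨hreg1, hfl1⟩ := ih (QuotSMulTop r M) (QuotSMulTop r M₀) (QuotSMulTop.map r p)
      (QuotSMulTop.map_surjective r hp) hker1 hrs0 hflat1
    refine ⟨(isWeaklyRegular_cons_iff M r rs).mpr ⟨hrM, hreg1⟩, fun i => ?_⟩
    cases i with
    | zero =>
      rw [List.take_zero]
      exact flat_quot_nil M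
    | succ i =>
      rw [List.take_succ_cons]
      haveI := hfl1 i
      exact Module.Flat.of_linearEquiv
        ((Submodule.quotOfListConsSMulTopEquivQuotSMulTopInner M r (rs.take i)).restrictScalars C)

end StepB


section StepA
open RingTheory.Sequence

variable {D A : Type u} [CommRing D] [CommRing A] [Algebra D A] [IsNoetherianRing A] [IsLocalRing A]

theorem flat_of_flat_quotSMulTop {N : Type u} [AddCommGroup N] [Module A N] [Module D N]
    [IsScalarTower D A N] [Module.Finite A N] (r : A) (hr : r ∈ IsLocalRing.maximalIdeal A)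
    (hreg : IsSMulRegular N r) [Module.Flat D (QuotSMulTop r N)] : Module.Flat D N := by
  rw [Module.Flat.iff_lTensor_injective]
  intro 𝔟 h𝔟
  haveI : Module.Finite D ↥𝔟 := Module.Finite.iff_fg.mpr h𝔟
  haveI : Module.Finite A (N ⊗[D] ↥𝔟) :=
    Groth.Agent.Lib.helper8.LocalFlat.finite_tensor_left N ↥𝔟
  let f : N ⊗[D] ↥𝔟 →ₗ[A] N ⊗[D] D := AlgebraTensorModule.lTensor A N 𝔟.subtype
  have hf : ∀ x, f x = LinearMap.lTensor N 𝔟.subtype x := fun x => rfl
  suffices h : LinearMap.ker f = ⊥ by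
    have := LinearMap.ker_eq_bot.mp h
    exact this
  refine Submodule.eq_bot_of_le_smul_of_le_jacobson_bot (Ideal.span {r}) _
    (IsNoetherian.noetherian _) ?_ ?_
  · intro t ht
    rw [LinearMap.mem_ker] at ht
    let π : N →ₗ[D] QuotSMulTop r N := (Submodule.mkQ _).restrictScalars D
    have hπ : Function.Surjective π := Submodule.mkQ_surjective _
    let mulr : N →ₗ[D] N := (LinearMap.lsmul A N r).restrictScalars D
    have hex : Function.Exact mulr π := by
      intro y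
      constructor
      · intro hy
        have : y ∈ r • (⊤ : Submodule A N) := (Submodule.Quotient.mk_eq_zero _).mp hy
        obtain ⟨z, -, rfl⟩ := (Submodule.mem_smul_pointwise_iff_exists _ _ _).mp this
        exact ⟨z, rfl⟩
      · rintro ⟨z, rfl⟩
        exact (Submodule.Quotient.mk_eq_zero _).mpr
          (Submodule.smul_mem_pointwise_smul _ _ _ Submodule.mem_top)
    have hex2 := rTensor_exact ↥𝔟 hex hπ
    have hg : LinearMap.rTensor ↥𝔟 π t = 0 := by
      apply Module.Flat.lTensor_preserves_injective_linearMap (M := QuotSMulTop r N) 𝔟.subtype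
        Subtype.val_injective
      rw [map_zero, ← LinearMap.comp_apply, LinearMap.lTensor_comp_rTensor,
        ← LinearMap.rTensor_comp_lTensor, LinearMap.comp_apply, ← hf, ht, map_zero]
    have hrs : ∀ s : N ⊗[D] ↥𝔟, LinearMap.rTensor ↥𝔟 mulr s = r • s := by
      intro s
      induction s using TensorProduct.induction_on with
      | zero => simp
      | tmul n b => simp [mulr, TensorProduct.smul_tmul']
      | add s₁ s₂ h₁ h₂ => simp only [map_add, h₁, h₂, smul_add]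
    obtain ⟨s, rfl⟩ := (hex2 t).mp hg
    rw [hrs] at ht ⊢
    have hreg' : IsSMulRegular (N ⊗[D] D) r :=
      ((TensorProduct.AlgebraTensorModule.rid D A N).isSMulRegular_congr r).mpr hreg
    have hs : s ∈ LinearMap.ker f := by
      rw [LinearMap.mem_ker]
      apply hreg'
      show r • f s = r • 0
      rw [← map_smul, ht, smul_zero]
    exact Submodule.smul_mem_smul (Ideal.mem_span_singleton_self r) hs
  · rw [IsLocalRing.jacobson_eq_maximalIdeal ⊥ bot_ne_top]
    exact (Ideal.span_singleton_le_iff_mem _).mpr hr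

theorem flat_of_flat_quot_nil (N : Type u) [AddCommGroup N] [Module A N] [Module D N]
    [IsScalarTower D A N]
    (h : Module.Flat D (N ⧸ (Ideal.ofList ([] : List A) • ⊤ : Submodule A N))) :
    Module.Flat D N := by
  have h0 : (Ideal.ofList ([] : List A) • ⊤ : Submodule A N) = ⊥ := by
    rw [Ideal.ofList_nil, Submodule.bot_smul]
  exact Module.Flat.of_linearEquiv ((Submodule.quotEquivOfEqBot _ h0).symm.restrictScalars D)

theorem flat_take (rs : List A) :
    ∀ (N : Type u) [AddCommGroup N] [Module A N] [Module D N] [IsScalarTower D A N]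
      [Module.Finite A N],
      (∀ x ∈ rs, x ∈ IsLocalRing.maximalIdeal A) → IsWeaklyRegular N rs →
      Module.Flat D (N ⧸ (Ideal.ofList rs • ⊤ : Submodule A N)) →
      ∀ i, Module.Flat D (N ⧸ (Ideal.ofList (rs.take i) • ⊤ : Submodule A N)) := by
  induction rs with
  | nil =>
    intro N _ _ _ _ _ hmem hreg hflat i
    rw [List.take_nil]
    exact hflat
  | cons r rs ih =>
    intro N _ _ _ _ _ hmem hreg hflat
    obtain ⟨hr, hrs⟩ := (isWeaklyRegular_cons_iff N r rs).mp hreg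
    have hflat1 : Module.Flat D (QuotSMulTop r N ⧸
        (Ideal.ofList rs • ⊤ : Submodule A (QuotSMulTop r N))) :=
      Module.Flat.of_linearEquiv
        ((Submodule.quotOfListConsSMulTopEquivQuotSMulTopInner N r rs).symm.restrictScalars D)
    have ih1 := ih (QuotSMulTop r N) (fun x hx => hmem x (List.mem_cons_of_mem _ hx)) hrs hflat1
    haveI : Module.Flat D (QuotSMulTop r N) := by
      apply flat_of_flat_quot_nil (A := A)
      have := ih1 0
      rwa [List.take_zero] at this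
    haveI : Module.Flat D N :=
      flat_of_flat_quotSMulTop (A := A) r (hmem r List.mem_cons_self) hr
    intro i
    cases i with
    | zero =>
      rw [List.take_zero]
      exact flat_quot_nil N
    | succ i =>
      rw [List.take_succ_cons]
      haveI := ih1 i
      exact Module.Flat.of_linearEquiv
        ((Submodule.quotOfListConsSMulTopEquivQuotSMulTopInner N r (rs.take i)).restrictScalars D)

end StepA

section NilQuot
variable {R : Type u} [CommRing R] (𝔫 : Ideal R)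

theorem le_of_isNilpotent (h : IsNilpotent 𝔫) (P : Ideal R) [P.IsPrime] : 𝔫 ≤ P := by
  obtain ⟨n, hn⟩ := h
  intro x hx
  have : x ^ n ∈ 𝔫 ^ n := Ideal.pow_mem_pow hx n
  rw [hn] at this
  have h0 : x ^ n = 0 := this
  exact Ideal.IsPrime.mem_of_pow_mem ‹_› n (h0 ▸ P.zero_mem)

theorem le_jacobson_of_isNilpotent (h : IsNilpotent 𝔫) : 𝔫 ≤ Ideal.jacobson ⊥ := by
  rw [Ideal.jacobson]
  refine le_sInf ?_
  rintro P ⟨-, hP⟩
  haveI := hP.isPrime
  exact le_of_isNilpotent 𝔫 h P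

theorem isLocalRing_of_quotient_nilpotent (h : IsNilpotent 𝔫) [IsLocalRing (R ⧸ 𝔫)] :
    IsLocalRing R := by
  haveI := isLocalHom_of_le_jacobson_bot 𝔫 (le_jacobson_of_isNilpotent 𝔫 h)
  exact RingHom.domain_isLocalRing (Ideal.Quotient.mk 𝔫)

theorem isNoetherianRing_of_quotient_nilpotent (hfg : 𝔫.FG) (h : IsNilpotent 𝔫)
    [IsNoetherianRing (R ⧸ 𝔫)] : IsNoetherianRing R := by
  apply IsNoetherianRing.of_prime
  intro P hP
  have hle : 𝔫 ≤ P := le_of_isNilpotent 𝔫 h P
  refine Ideal.fg_of_fg_map_of_fg_inf_ker_of_surjective (f := Ideal.Quotient.mk 𝔫)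
    (IsNoetherian.noetherian _) ?_ Ideal.Quotient.mk_surjective
  rw [Ideal.mk_ker, inf_eq_right.mpr hle]
  exact hfg

end NilQuot

section Conv
variable {C : Type u} [CommRing C] (𝔞 : Ideal C)

theorem flatMod_of_surjective {Q Q₀ : Type u} [AddCommGroup Q] [Module C Q]
    [AddCommGroup Q₀] [Module C Q₀] [Module (C ⧸ 𝔞) Q₀] [IsScalarTower C (C ⧸ 𝔞) Q₀]
    (q : Q →ₗ[C] Q₀) (hq : Function.Surjective q)
    (hker : LinearMap.ker q = 𝔞 • (⊤ : Submodule C Q)) [Module.Flat (C ⧸ 𝔞) Q₀] :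
    FlatMod 𝔞 Q := by
  unfold FlatMod
  let φ : (C ⧸ 𝔞) ⊗[C] Q →ₗ[C ⧸ 𝔞] Q₀ := LinearMap.liftBaseChange (C ⧸ 𝔞) q
  have hφ : ∀ (d : C ⧸ 𝔞) (x : Q), φ (d ⊗ₜ x) = d • q x := fun d x => by
    simp [φ]
  have hone : ∀ t : (C ⧸ 𝔞) ⊗[C] Q, ∃ x : Q, t = (1 : C ⧸ 𝔞) ⊗ₜ x := by
    intro t
    induction t using TensorProduct.induction_on with
    | zero => exact ⟨0, by simp⟩
    | tmul d x =>
      obtain ⟨c, rfl⟩ := Ideal.Quotient.mk_surjective d
      refine ⟨c • x, ?_⟩
      rw [TensorProduct.tmul_smul, TensorProduct.smul_tmul', Algebra.smul_def, mul_one]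
      rfl
    | add t₁ t₂ h₁ h₂ =>
      obtain ⟨x₁, rfl⟩ := h₁
      obtain ⟨x₂, rfl⟩ := h₂
      exact ⟨x₁ + x₂, by rw [TensorProduct.tmul_add]⟩
  have hinj : Function.Injective φ := by
    rw [injective_iff_map_eq_zero]
    intro t ht
    obtain ⟨x, rfl⟩ := hone t
    rw [hφ, one_smul] at ht
    have hx : x ∈ 𝔞 • (⊤ : Submodule C Q) := by rw [← hker]; exact ht
    refine Submodule.smul_induction_on hx ?_ ?_
    · intro a ha y _
      rw [TensorProduct.tmul_smul, TensorProduct.smul_tmul', Algebra.smul_def, mul_one]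
      have : algebraMap C (C ⧸ 𝔞) a = 0 := Ideal.Quotient.eq_zero_iff_mem.mpr ha
      rw [this, TensorProduct.zero_tmul]
    · intro y z hy hz
      rw [TensorProduct.tmul_add, hy, hz, add_zero]
  have hsurj : Function.Surjective φ := by
    intro y
    obtain ⟨x, rfl⟩ := hq y
    exact ⟨1 ⊗ₜ x, by rw [hφ, one_smul]⟩
  exact Module.Flat.of_linearEquiv (LinearEquiv.ofBijective φ ⟨hinj, hsurj⟩)

end Conv

section Red
variable {C' A' : Type u} [CommRing C'] [CommRing A'] [Algebra C' A'] (J : Ideal C')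

theorem flatMod_quot (K : Ideal A')
    [Module.Flat (C' ⧸ J) ((A' ⧸ J.map (algebraMap C' A')) ⧸
      ((K.map (Ideal.Quotient.mk (J.map (algebraMap C' A')))) • ⊤ :
        Submodule (A' ⧸ J.map (algebraMap C' A')) (A' ⧸ J.map (algebraMap C' A'))))] :
    FlatMod J (A' ⧸ (K • ⊤ : Submodule A' A')) := by
  let g : A' →ₗ[A'] ((A' ⧸ J.map (algebraMap C' A')) ⧸
      ((K.map (Ideal.Quotient.mk (J.map (algebraMap C' A')))) • ⊤ :
        Submodule (A' ⧸ J.map (algebraMap C' A')) (A' ⧸ J.map (algebraMap C' A')))) :=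
    ((Submodule.mkQ _).restrictScalars A') ∘ₗ (Algebra.linearMap A' (A' ⧸ J.map (algebraMap C' A')))
  have hg : ∀ y : A', g y = Submodule.Quotient.mk (Ideal.Quotient.mk _ y) := fun y => rfl
  have hKg : (K • ⊤ : Submodule A' A') ≤ LinearMap.ker g := by
    intro y hy
    rw [smul_eq_mul, Ideal.mul_top] at hy
    rw [LinearMap.mem_ker, hg, Submodule.Quotient.mk_eq_zero, smul_eq_mul, Ideal.mul_top]
    exact Ideal.mem_map_of_mem _ hy
  let q : (A' ⧸ (K • ⊤ : Submodule A' A')) →ₗ[C'] _ :=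
    (Submodule.liftQ _ g hKg).restrictScalars C'
  have hq : ∀ y : A', q (Submodule.Quotient.mk y) = Submodule.Quotient.mk (Ideal.Quotient.mk _ y) :=
    fun y => rfl
  refine flatMod_of_surjective J q ?_ ?_
  · intro z
    obtain ⟨w, rfl⟩ := Submodule.Quotient.mk_surjective _ z
    obtain ⟨y, rfl⟩ := Ideal.Quotient.mk_surjective w
    exact ⟨Submodule.Quotient.mk y, hq y⟩
  · apply le_antisymm
    · intro x hx
      obtain ⟨y, rfl⟩ := Submodule.Quotient.mk_surjective _ x
      rw [LinearMap.mem_ker, hq, Submodule.Quotient.mk_eq_zero, smul_eq_mul, Ideal.mul_top] at hx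
      obtain ⟨z, hz, hzy⟩ := (Ideal.mem_map_iff_of_surjective _ Ideal.Quotient.mk_surjective).mp hx
      have hyz : y - z ∈ J.map (algebraMap C' A') := by
        rw [← Ideal.Quotient.eq, hzy]
      have h1 : (Submodule.Quotient.mk y : A' ⧸ (K • ⊤ : Submodule A' A')) =
          Submodule.Quotient.mk (y - z) := by
        rw [Submodule.Quotient.mk_sub, sub_eq_self.mpr]
        rw [Submodule.Quotient.mk_eq_zero, smul_eq_mul, Ideal.mul_top]
        exact hz
      rw [h1, mem_smul_top_iff (A := A')]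
      have h2 : y - z ∈ (J.map (algebraMap C' A')) • (⊤ : Submodule A' A') := by
        rwa [smul_eq_mul, Ideal.mul_top]
      have h3 := Submodule.mem_map_of_mem (f := (K • ⊤ : Submodule A' A').mkQ) h2
      rw [Submodule.map_smul''] at h3
      exact Submodule.smul_mono le_rfl le_top h3
    · intro x hx
      refine Submodule.smul_induction_on hx ?_ ?_
      · intro j hj y _
        rw [LinearMap.mem_ker, map_smul, ← algebraMap_smul (C' ⧸ J) j (q y)]
        have : algebraMap C' (C' ⧸ J) j = 0 := Ideal.Quotient.eq_zero_iff_mem.mpr hj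
        rw [this, zero_smul]
      · intro y z hy hz
        exact Submodule.add_mem _ hy hz

end Red


section Tors
variable {C' A' : Type u} [CommRing C'] [CommRing A'] [Algebra C' A'] (J : Ideal C')
  (B : Type u) [CommRing B] [Algebra A' B] [Algebra C' B] [IsScalarTower C' A' B]

/-- multiplication `A' ⊗ J → A'`, `A'`-linear. -/
noncomputable def muA : A' ⊗[C'] ↥J →ₗ[A'] A' :=
  (AlgebraTensorModule.rid C' A' A').toLinearMap ∘ₗ AlgebraTensorModule.lTensor A' A' J.subtype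

/-- `A' ⊗ J → B ⊗ J`, `A'`-linear. -/
noncomputable def rhoA : A' ⊗[C'] ↥J →ₗ[A'] B ⊗[C'] ↥J :=
  AlgebraTensorModule.rTensor C' ↥J (Algebra.linearMap A' B)

@[simp] theorem muA_tmul (a : A') (j : ↥J) : muA J (a ⊗ₜ j) = (j : C') • a := by
  simp [muA]

@[simp] theorem rhoA_tmul (a : A') (j : ↥J) : rhoA J B (a ⊗ₜ j) = (algebraMap A' B a) ⊗ₜ j := by
  simp [rhoA]

theorem muA_eq (z : A' ⊗[C'] ↥J) :
    muA J z = TensorProduct.rid C' A' (LinearMap.lTensor A' (Submodule.subtype J) z) := rfl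

theorem rhoA_eq (z : A' ⊗[C'] ↥J) :
    rhoA J B z = LinearMap.rTensor ↥J (IsScalarTower.toAlgHom C' A' B).toLinearMap z := rfl

theorem muA_injective [Module.Flat C' A'] : Function.Injective (muA (A' := A') J) := by
  intro z₁ z₂ h
  rw [muA_eq, muA_eq] at h
  exact Module.Flat.lTensor_preserves_injective_linearMap (M := A') J.subtype
    Subtype.val_injective ((TensorProduct.rid C' A').injective h)

theorem exists_muA_eq (w : A') (hw : w ∈ J.map (algebraMap C' A')) : ∃ z, muA J z = w := by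
  refine Submodule.span_induction ?_ ?_ ?_ ?_ hw
  · rintro _ ⟨c, hc, rfl⟩
    exact ⟨1 ⊗ₜ ⟨c, hc⟩, by rw [muA_tmul, Algebra.smul_def, mul_one]⟩
  · exact ⟨0, map_zero _⟩
  · rintro _ _ _ _ ⟨z₁, rfl⟩ ⟨z₂, rfl⟩
    exact ⟨z₁ + z₂, map_add _ _ _⟩
  · rintro a _ _ ⟨z, rfl⟩
    exact ⟨a • z, map_smul _ _ _⟩

/-- elements of `J' * K` come from `ker ρ` when `K` maps to zero in `B`. -/
theorem exists_mem_ker_rhoA (K : Ideal A') (hK : ∀ i ∈ K, algebraMap A' B i = 0) (w : A')
    (hw : w ∈ J.map (algebraMap C' A') * K) : ∃ z, rhoA J B z = 0 ∧ muA J z = w := by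
  have hle : J.map (algebraMap C' A') * K ≤ Submodule.map (muA J) (LinearMap.ker (rhoA J B)) := by
    rw [Ideal.mul_le]
    intro b hb i hi
    refine Submodule.span_induction ?_ ?_ ?_ ?_ hb
    · rintro _ ⟨c, hc, rfl⟩
      refine ⟨i ⊗ₜ ⟨c, hc⟩, ?_, ?_⟩
      · rw [SetLike.mem_coe, LinearMap.mem_ker, rhoA_tmul, hK i hi, TensorProduct.zero_tmul]
      · rw [muA_tmul, Algebra.smul_def]
    · rw [zero_mul]; exact Submodule.zero_mem _
    · intro x y _ _ hx hy
      rw [add_mul]; exact Submodule.add_mem _ hx hy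
    · intro a x _ hx
      rw [smul_eq_mul, mul_assoc]
      exact Submodule.smul_mem _ a hx
  obtain ⟨z, hz, hzw⟩ := hle hw
  exact ⟨z, hz, hzw⟩

end Tors

section Main
variable {C' A' : Type u} [CommRing C'] [CommRing A'] [Algebra C' A'] (J : Ideal C')
  [Module.Flat C' A']
  (I : Ideal (A' ⧸ J.map (algebraMap C' A')))
  (I' I'' : Ideal A') [Module.Flat C' (A' ⧸ I')] [Module.Flat C' (A' ⧸ I'')]

/-- the relation defining the difference homomorphism -/
def Rel (x : A' ⧸ J.map (algebraMap C' A'))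
    (y : ((A' ⧸ J.map (algebraMap C' A')) ⧸ I) ⊗[C'] ↥J) : Prop :=
  ∃ x' ∈ I', ∃ x'' ∈ I'', ∃ z : A' ⊗[C'] ↥J,
    Ideal.Quotient.mk (J.map (algebraMap C' A')) x' = x ∧
    Ideal.Quotient.mk (J.map (algebraMap C' A')) x'' = x ∧
    muA J z = x'' - x' ∧ rhoA J ((A' ⧸ J.map (algebraMap C' A')) ⧸ I) z = y

variable {J I I' I''}

omit [Module.Flat C' A'] [Module.Flat C' (A' ⧸ I')] [Module.Flat C' (A' ⧸ I'')] in
theorem algebraMap_eq_zero {K : Ideal A'}
    (hK : K.map (Ideal.Quotient.mk (J.map (algebraMap C' A'))) = I) (i : A') (hi : i ∈ K) :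
    algebraMap A' ((A' ⧸ J.map (algebraMap C' A')) ⧸ I) i = 0 := by
  have : Ideal.Quotient.mk (J.map (algebraMap C' A')) i ∈ I := hK ▸ Ideal.mem_map_of_mem _ hi
  exact Ideal.Quotient.eq_zero_iff_mem.mpr this

omit [Module.Flat C' A'] [Module.Flat C' (A' ⧸ I')] [Module.Flat C' (A' ⧸ I'')] in
theorem rel_total (hI' : I'.map (Ideal.Quotient.mk (J.map (algebraMap C' A'))) = I)
    (hI'' : I''.map (Ideal.Quotient.mk (J.map (algebraMap C' A'))) = I)
    (x : A' ⧸ J.map (algebraMap C' A')) (hx : x ∈ I) : ∃ y, Rel J I I' I'' x y := by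
  obtain ⟨x', hx', hxx'⟩ := (Ideal.mem_map_iff_of_surjective _ Ideal.Quotient.mk_surjective).mp
    (hI'.symm ▸ hx)
  obtain ⟨x'', hx'', hxx''⟩ := (Ideal.mem_map_iff_of_surjective _ Ideal.Quotient.mk_surjective).mp
    (hI''.symm ▸ hx)
  have hd : x'' - x' ∈ J.map (algebraMap C' A') := by
    rw [← Ideal.Quotient.eq, hxx', hxx'']
  obtain ⟨z, hz⟩ := exists_muA_eq J _ hd
  exact ⟨_, x', hx', x'', hx'', z, hxx', hxx'', hz, rfl⟩

theorem rel_unique (hI' : I'.map (Ideal.Quotient.mk (J.map (algebraMap C' A'))) = I)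
    (hI'' : I''.map (Ideal.Quotient.mk (J.map (algebraMap C' A'))) = I)
    {x : A' ⧸ J.map (algebraMap C' A')} {y₁ y₂} (h₁ : Rel J I I' I'' x y₁)
    (h₂ : Rel J I I' I'' x y₂) : y₁ = y₂ := by
  obtain ⟨x'₁, hx'₁, x''₁, hx''₁, z₁, e'₁, e''₁, hz₁, rfl⟩ := h₁
  obtain ⟨x'₂, hx'₂, x''₂, hx''₂, z₂, e'₂, e''₂, hz₂, rfl⟩ := h₂
  -- differences of lifts
  have hd' : x'₂ - x'₁ ∈ I' ⊓ J.map (algebraMap C' A') :=
    ⟨I'.sub_mem hx'₂ hx'₁, Ideal.Quotient.eq.mp (by rw [e'₁, e'₂])⟩
  have hd'' : x''₂ - x''₁ ∈ I'' ⊓ J.map (algebraMap C' A') :=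
    ⟨I''.sub_mem hx''₂ hx''₁, Ideal.Quotient.eq.mp (by rw [e''₁, e''₂])⟩
  obtain ⟨w', hw'0, hw'⟩ := exists_mem_ker_rhoA J _ I' (algebraMap_eq_zero hI') _
    (inf_map_le_mul I' J hd')
  obtain ⟨w'', hw''0, hw''⟩ := exists_mem_ker_rhoA J _ I'' (algebraMap_eq_zero hI'') _
    (inf_map_le_mul I'' J hd'')
  have hz : z₂ = z₁ + w'' - w' := by
    apply muA_injective J
    rw [map_sub, map_add, hz₁, hz₂, hw', hw'']
    ring
  rw [hz, map_sub, map_add, hw'0, hw''0, add_zero, sub_zero]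

omit [Module.Flat C' A'] [Module.Flat C' (A' ⧸ I')] [Module.Flat C' (A' ⧸ I'')] in
theorem rel_add {x₁ x₂ : A' ⧸ J.map (algebraMap C' A')} {y₁ y₂} (h₁ : Rel J I I' I'' x₁ y₁)
    (h₂ : Rel J I I' I'' x₂ y₂) : Rel J I I' I'' (x₁ + x₂) (y₁ + y₂) := by
  obtain ⟨x'₁, hx'₁, x''₁, hx''₁, z₁, e'₁, e''₁, hz₁, rfl⟩ := h₁
  obtain ⟨x'₂, hx'₂, x''₂, hx''₂, z₂, e'₂, e''₂, hz₂, rfl⟩ := h₂
  refine ⟨x'₁ + x'₂, I'.add_mem hx'₁ hx'₂, x''₁ + x''₂, I''.add_mem hx''₁ hx''₂, z₁ + z₂,
    by rw [map_add, e'₁, e'₂], by rw [map_add, e''₁, e''₂], ?_, map_add _ _ _⟩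
  rw [map_add, hz₁, hz₂]
  ring

omit [Module.Flat C' A'] [Module.Flat C' (A' ⧸ I')] [Module.Flat C' (A' ⧸ I'')] in
theorem rel_smul (a : A') {x : A' ⧸ J.map (algebraMap C' A')} {y} (h : Rel J I I' I'' x y) :
    Rel J I I' I'' (a • x) (a • y) := by
  obtain ⟨x', hx', x'', hx'', z, e', e'', hz, rfl⟩ := h
  refine ⟨a * x', I'.mul_mem_left a hx', a * x'', I''.mul_mem_left a hx'', a • z,
    by rw [map_mul, e']; rfl, by rw [map_mul, e'']; rfl, ?_, map_smul _ _ _⟩
  rw [map_smul, hz, smul_eq_mul]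
  ring

end Main


end Groth.Agent.Lib.Helper19.DefCI
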