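import Mathlib
import Groth.Agent.Lib.Helper19.CohenK4
import Groth.Agent.Lib.Helper24.NagataCrit

/-!
# Adic formal smoothness over a field implies geometric regularity (helper19)

* `isAdicFormallySmooth_localization_tensor`: if `A` is a Noetherian local `k`-algebra, formally
  smooth for the adic topology, and `k'/k` is a finite field extension, then every localization of
  `A ⊗[k] k'` at a maximal ideal is formally smooth over `k'` for the adic topology.
* `isRegularRing_tensor_of_isAdicFormallySmooth`: `A ⊗[k] k'` is then a regular ring.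
-/

set_option autoImplicit false
universe u

namespace Groth.Agent.Lib.helper19.CohenK

open IsLocalRing TensorProduct

attribute [local instance] Algebra.TensorProduct.rightAlgebra

section

variable (k A k' : Type u) [Field k] [Field k'] [Algebra k k'] [Module.Finite k k']
  [CommRing A] [Algebra k A] [IsNoetherianRing A] [IsLocalRing A]

omit [IsNoetherianRing A] in
theorem comap_includeLeft_eq (n : Ideal (A ⊗[k] k')) [n.IsMaximal] :
    n.comap (algebraMap A (A ⊗[k] k')) = maximalIdeal A := by
  have : (n.comap (algebraMap A (A ⊗[k] k'))).IsMaximal :=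
    Ideal.isMaximal_comap_of_isIntegral_of_isMaximal (R := A) n
  exact IsLocalRing.eq_maximalIdeal this

omit [IsNoetherianRing A] in
theorem isAdicFormallySmooth_localization_tensor
    (h : CAlgX.IsAdicFormallySmooth k A (maximalIdeal A))
    (n : Ideal (A ⊗[k] k')) [n.IsMaximal] :
    CAlgX.IsAdicFormallySmooth k' (Localization.AtPrime n)
      (maximalIdeal (Localization.AtPrime n)) := by
  classical
  intro B _ _ J hJ ψ ⟨N, hN⟩
  letI : Algebra k B := Algebra.compHom B (algebraMap k k')
  have tw : IsScalarTower k k' B := IsScalarTower.of_algebraMap_eq fun _ => rfl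
  have hnil : IsNilpotent J := ⟨2, hJ⟩
  -- the map from `A`
  let ιA : A →ₐ[k] A ⊗[k] k' := Algebra.TensorProduct.includeLeft
  let ℓ : A ⊗[k] k' →ₐ[k'] Localization.AtPrime n :=
    IsScalarTower.toAlgHom k' (A ⊗[k] k') (Localization.AtPrime n)
  let ψA : A →ₐ[k] B ⧸ J := ((ψ.restrictScalars k).comp (ℓ.restrictScalars k)).comp ιA
  have hψA : ∀ a, ψA a = ψ (algebraMap _ _ (a ⊗ₜ[k] (1 : k'))) := fun a => rfl
  have hmem : ∀ a ∈ maximalIdeal A,
      algebraMap (A ⊗[k] k') (Localization.AtPrime n) (a ⊗ₜ[k] (1 : k')) ∈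
        maximalIdeal (Localization.AtPrime n) := by
    intro a ha
    rw [IsLocalization.AtPrime.to_map_mem_maximal_iff (Localization.AtPrime n) n]
    have h1 : a ∈ n.comap (algebraMap A (A ⊗[k] k')) := by
      rw [comap_includeLeft_eq]; exact ha
    exact h1
  have hkill : ∀ x ∈ maximalIdeal A ^ N, ψA x = 0 := by
    intro x hx
    rw [hψA]
    apply hN
    let φ : A →+* Localization.AtPrime n :=
      (algebraMap (A ⊗[k] k') (Localization.AtPrime n)).comp (algebraMap A (A ⊗[k] k'))
    have h1 : (maximalIdeal A).map φ ≤ maximalIdeal (Localization.AtPrime n) := by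
      rw [Ideal.map_le_iff_le_comap]
      intro a ha
      exact hmem a ha
    have h2 : φ x ∈ ((maximalIdeal A) ^ N).map φ := Ideal.mem_map_of_mem _ hx
    rw [Ideal.map_pow] at h2
    exact Ideal.pow_right_mono h1 N h2
  obtain ⟨χA, hχA⟩ := h B J hJ ψA ⟨N, hkill⟩
  have hχA' : ∀ a, Ideal.Quotient.mk J (χA a) = ψA a := fun a => congr($hχA a)
  -- extend to the tensor product
  let χT₀ : A ⊗[k] k' →ₐ[k] B :=
    Algebra.TensorProduct.lift χA ((Algebra.ofId k' B).restrictScalars k)
      (fun _ _ => Commute.all _ _)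
  have hχT₀ : ∀ (a : A) (c : k'), χT₀ (a ⊗ₜ c) = χA a * algebraMap k' B c := fun a c =>
    Algebra.TensorProduct.lift_tmul _ _ _ a c
  let χT : A ⊗[k] k' →ₐ[k'] B :=
    { χT₀.toRingHom with
      commutes' := fun c => by
        show χT₀ (algebraMap k' (A ⊗[k] k') c) = _
        rw [Algebra.TensorProduct.right_algebraMap_apply, hχT₀, map_one, one_mul] }
  have hχT : ∀ t, Ideal.Quotient.mk J (χT t) = ψ (algebraMap _ _ t) := by
    intro t
    induction t using TensorProduct.induction_on with
    | zero => simp
    | tmul a c =>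
      show Ideal.Quotient.mk J (χT₀ (a ⊗ₜ c)) = _
      rw [hχT₀, map_mul, hχA', hψA]
      have h1 : (a ⊗ₜ[k] c : A ⊗[k] k') = (a ⊗ₜ[k] (1 : k')) * algebraMap k' (A ⊗[k] k') c := by
        rw [Algebra.TensorProduct.right_algebraMap_apply, Algebra.TensorProduct.tmul_mul_tmul,
          mul_one, one_mul]
      rw [h1, map_mul, map_mul]
      congr 1
      rw [← IsScalarTower.algebraMap_apply k' (A ⊗[k] k') (Localization.AtPrime n), ψ.commutes]
      rfl
    | add x y hx hy => rw [map_add, map_add, hx, hy, map_add, map_add]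
  have hunit : ∀ y : n.primeCompl, IsUnit (χT y) := by
    intro y
    rw [← IsNilpotent.isUnit_quotient_mk_iff hnil, hχT]
    exact (IsLocalization.map_units (Localization.AtPrime n) y).map ψ
  let χ : Localization.AtPrime n →ₐ[k'] B := IsLocalization.liftAlgHom (M := n.primeCompl) hunit
  refine ⟨χ, ?_⟩
  apply IsLocalization.algHom_ext n.primeCompl
  ext t
  show Ideal.Quotient.mk J (χ (algebraMap _ _ t)) = ψ (algebraMap _ _ t)
  rw [← hχT]
  congr 1
  exact IsLocalization.lift_eq hunit t

theorem isRegularRing_tensor_of_isAdicFormallySmooth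
    (h : CAlgX.IsAdicFormallySmooth k A (maximalIdeal A)) : IsRegularRing (A ⊗[k] k') := by
  have hN : IsNoetherianRing (A ⊗[k] k') := IsNoetherianRing.of_finite A (A ⊗[k] k')
  rw [isRegularRing_iff]
  intro q hq
  obtain ⟨n, hn, hqn⟩ := Ideal.exists_le_maximal q hq.ne_top
  have hreg : IsRegularLocalRing (Localization.AtPrime n) :=
    isRegularLocalRing_of_isAdicFormallySmooth_field k' (Localization.AtPrime n)
      (isAdicFormallySmooth_localization_tensor k A k' h n)
  exact Groth.Agent.Lib.Helper24.NagataCrit.isRegularLocalRing_atPrime_of_le _ n q hqn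

theorem isGeometricallyRegular_of_isAdicFormallySmooth
    (k A : Type u) [Field k] [CommRing A] [Algebra k A] [IsNoetherianRing A] [IsLocalRing A]
    (h : CAlgX.IsAdicFormallySmooth k A (maximalIdeal A)) : CAlg.IsGeometricallyRegular k A := by
  intro k' _ _ hfin
  have := isRegularRing_tensor_of_isAdicFormallySmooth k A k' h
  exact IsRegularRing.of_ringEquiv (Algebra.TensorProduct.comm k A k').toRingEquiv

end

end Groth.Agent.Lib.helper19.CohenK
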