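import Mathlib
import Groth.Agent.Lib.Helper19.CohenK4

/-!
# Differentials and `p`-th powers in local rings of characteristic `p` (helper19)

* `exists_derivation_eq_one`: in a field `K` of characteristic `p`, an element which is not a
  `p`-th power is not killed by some derivation of `K`.
* `not_isRegularLocalRing_adjoinRoot`: if `x ≡ z^p` modulo `𝔪²` then `A[X]/(X^p - x)` is not regular.
* `exists_sub_pow_mem_sq`: if `dx ∈ 𝔪 Ω_B` (absolute differentials) in a local ring of
  characteristic `p` containing a perfect field, then `x` is a `p`-th power modulo `𝔪²`.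
-/

set_option autoImplicit false
universe u

namespace Groth.Agent.Lib.helper19.FSDiff

open Polynomial IntermediateField IsLocalRing Groth.Agent.Lib.helper19.CohenK

open scoped KaehlerDifferential

section field


/-- In a field `E ⊆ K` (as a subfield) with `K^p ⊆ E`, an element `y ∉ E` has degree `p` over `E`. -/
theorem finrank_adjoin_of_notMem {K : Type u} [Field K] (p : ℕ) [hp : Fact p.Prime] [CharP K p]
    (E : Subfield K) (hE : ∀ y : K, y ^ p ∈ E) (y : K) (hy : y ∉ E) :
    IsIntegral E y ∧ Module.finrank E E⟮y⟯ = p ∧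
      minpoly E y = X ^ p - C (⟨y ^ p, hE y⟩ : E) := by
  let a : E := ⟨y ^ p, hE y⟩
  have hirr : Irreducible (X ^ p - C a : E[X]) := by
    apply X_pow_sub_C_irreducible_of_prime hp.out
    intro b hb
    have h1 : (b : K) ^ p = y ^ p := congrArg Subtype.val hb
    have h2 : (b : K) = y := by
      have := frobenius_inj K p
      apply this
      simpa [frobenius_def] using h1
    exact hy (h2 ▸ b.2)
  have hmonic : (X ^ p - C a : E[X]).Monic := monic_X_pow_sub_C a hp.out.ne_zero
  have hroot : Polynomial.aeval y (X ^ p - C a : E[X]) = 0 := by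
    simp only [map_sub, map_pow, aeval_X, aeval_C]
    show y ^ p - (a : K) = 0
    simp [a]
  have hint : IsIntegral E y := ⟨_, hmonic, hroot⟩
  have hmin : minpoly E y = X ^ p - C a := (minpoly.eq_of_irreducible_of_monic hirr hroot hmonic).symm
  refine ⟨hint, ?_, hmin⟩
  rw [IntermediateField.adjoin.finrank hint, hmin, natDegree_X_pow_sub_C]

/-- There is a subfield `E ⊇ K^p` not containing `c` with `K = E(c)`. -/
theorem exists_subfield_adjoin_eq_top {K : Type u} [Field K] (p : ℕ) [hp : Fact p.Prime] [CharP K p]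
    (c : K) (hc : ∀ b : K, b ^ p ≠ c) :
    ∃ E : Subfield K, (∀ y : K, y ^ p ∈ E) ∧ c ∉ E ∧ (E⟮c⟯ : IntermediateField E K) = ⊤ := by
  classical
  let S : Set (Subfield K) := {E | (∀ y : K, y ^ p ∈ E) ∧ c ∉ E}
  have h0 : (frobenius K p).fieldRange ∈ S := by
    refine ⟨fun y => ⟨y, rfl⟩, ?_⟩
    rintro ⟨b, hb⟩
    exact hc b hb
  obtain ⟨E, -, hEmax⟩ := zorn_le_nonempty₀ S (by
    intro ch hchS hchain y hy
    refine ⟨sSup ch, ⟨fun z => ?_, ?_⟩, fun z hz => le_sSup hz⟩
    · exact (le_sSup hy : y ≤ sSup ch) ((hchS hy).1 z)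
    · rw [Subfield.mem_sSup_of_directedOn ⟨y, hy⟩ hchain.directedOn]
      rintro ⟨s, hs, hcs⟩
      exact (hchS hs).2 hcs) _ h0
  obtain ⟨⟨hEp, hcE⟩, hmax⟩ := hEmax
  refine ⟨E, hEp, hcE, ?_⟩
  rw [eq_top_iff]
  intro y _
  by_cases hy : y ∈ E
  · exact (E⟮c⟯).algebraMap_mem ⟨y, hy⟩
  · -- `c ∈ E(y)` by maximality
    obtain ⟨hinty, hfy, -⟩ := finrank_adjoin_of_notMem p E hEp y hy
    obtain ⟨hintc, hfc, -⟩ := finrank_adjoin_of_notMem p E hEp c hcE
    have hcy : c ∈ (E⟮y⟯ : IntermediateField E K) := by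
      by_contra hcn
      have hle : E ≤ (E⟮y⟯ : IntermediateField E K).toSubfield := by
        intro e he
        exact (E⟮y⟯).algebraMap_mem ⟨e, he⟩
      have hmem : (E⟮y⟯ : IntermediateField E K).toSubfield ∈ S :=
        ⟨fun z => hle (hEp z), hcn⟩
      have := hmax hmem hle
      exact hy (this (mem_adjoin_simple_self E y))
    have hle : (E⟮c⟯ : IntermediateField E K) ≤ E⟮y⟯ := by
      rw [adjoin_simple_le_iff]; exact hcy
    have : FiniteDimensional E (E⟮y⟯ : IntermediateField E K) :=
      adjoin.finiteDimensional hinty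
    have heq := IntermediateField.eq_of_le_of_finrank_eq hle (by rw [hfy, hfc])
    rw [heq]
    exact mem_adjoin_simple_self E y



/-- a ring hom `φ : K → K[ε]` which is a section of the projection gives a derivation -/
noncomputable def derivOfSection {A K : Type u} [CommRing A] [Field K] [Algebra A K]
    (φ : A →+* TrivSqZeroExt K K) (hφ : ∀ a, (φ a).fst = algebraMap A K a) : Derivation ℤ A K where
  toFun a := (φ a).snd
  map_add' a b := by simp
  map_smul' n a := by simp
  map_one_eq_zero' := by simp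
  leibniz' a b := by
    show (φ (a * b)).snd = a • (φ b).snd + b • (φ a).snd
    rw [map_mul, TrivSqZeroExt.snd_mul, hφ, hφ, Algebra.smul_def a, Algebra.smul_def b]
    simp only [smul_eq_mul, MulOpposite.smul_eq_mul_unop, MulOpposite.unop_op]
    ring

theorem exists_derivation_of_adjoin_eq_top {K : Type u} [Field K] (p : ℕ) [hp : Fact p.Prime]
    [CharP K p] (c : K) (E : Subfield K) (hEp : ∀ y : K, y ^ p ∈ E)
    (hint : IsIntegral E c) (hmin : minpoly E c = X ^ p - C (⟨c ^ p, hEp c⟩ : E))
    (htop : (E⟮c⟯ : IntermediateField E K) = ⊤) :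
    ∃ D : Derivation ℤ K K, D c = 1 := by
  let e : AdjoinRoot (minpoly E c) ≃ₐ[E] K :=
    (adjoinRootEquivAdjoin E hint).trans ((equivOfEq htop).trans topEquiv)
  have he : e (AdjoinRoot.root _) = c := by
    simp [e, adjoinRootEquivAdjoin_apply_root]
  let i : E →+* TrivSqZeroExt K K := (TrivSqZeroExt.inlHom K K).comp (algebraMap E K)
  let a : TrivSqZeroExt K K := TrivSqZeroExt.inl c + TrivSqZeroExt.inr 1
  have hpow : a ^ p = TrivSqZeroExt.inl (c ^ p) := by
    apply TrivSqZeroExt.ext
    · simp [a, TrivSqZeroExt.fst_pow]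
    · rw [TrivSqZeroExt.snd_pow]
      simp [a]
  have hev : (minpoly E c).eval₂ i a = 0 := by
    rw [hmin]
    simp only [eval₂_sub, eval₂_pow, eval₂_X, eval₂_C, hpow]
    show TrivSqZeroExt.inl (c ^ p) - TrivSqZeroExt.inl (c ^ p) = 0
    simp
  let Φ : AdjoinRoot (minpoly E c) →+* TrivSqZeroExt K K := AdjoinRoot.lift i a hev
  have hfst : (TrivSqZeroExt.fstHom K K K : TrivSqZeroExt K K →+* K).comp Φ =
      (e : AdjoinRoot (minpoly E c) →+* K) := by
    apply AdjoinRoot.ringHom_ext
    · ext x
      simp [Φ, i]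
    · simp [Φ, he, a]
  let φ : K →+* TrivSqZeroExt K K := Φ.comp (e.symm : K →+* AdjoinRoot (minpoly E c))
  have hφ : ∀ u, (φ u).fst = algebraMap K K u := by
    intro u
    have := congrArg (fun f => f (e.symm u)) hfst
    simpa [φ] using this
  refine ⟨derivOfSection φ hφ, ?_⟩
  show (φ c).snd = 1
  have : e.symm c = AdjoinRoot.root _ := by
    apply e.injective
    rw [he]; simp
  simp [φ, this, Φ, a]


end field

section local_


/-- **Non-regularity.** If `x ≡ z^p` modulo `𝔪²` in a Noetherian local ring of characteristic `p`,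
then `A[X]/(X^p - x)` is not a regular local ring. -/
theorem not_isRegularLocalRing_adjoinRoot {A : Type u} [CommRing A] [IsLocalRing A]
    [IsNoetherianRing A] (p : ℕ) [hp : Fact p.Prime] [CharP A p] (x z : A)
    (h : x - z ^ p ∈ maximalIdeal A ^ 2) [IsLocalRing (AdjoinRoot (X ^ p - C x : A[X]))]
    (hreg : IsRegularLocalRing (AdjoinRoot (X ^ p - C x : A[X]))) : False := by
  classical
  set f : A[X] := X ^ p - C x with hf
  have hmonic : f.Monic := monic_X_pow_sub_C x hp.out.ne_zero
  -- the maximal ideal `M = (𝔪, X - z)`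
  let ev : A[X] →+* ResidueField A := (residue A).comp (evalRingHom z)
  have hev : Function.Surjective ev := by
    intro c
    obtain ⟨a, rfl⟩ := residue_surjective c
    exact ⟨C a, by simp [ev]⟩
  let M : Ideal A[X] := RingHom.ker ev
  have hMmax : M.IsMaximal := RingHom.ker_isMaximal_of_surjective ev hev
  have hMprime : M.IsPrime := hMmax.isPrime
  have hMle : M ≤ Ideal.span {X - C z} ⊔ (maximalIdeal A).map C := by
    intro g hg
    have h1 : g = (X - C z) * (g /ₘ (X - C z)) + C (g.eval z) := by
      conv_lhs => rw [← modByMonic_add_div g (X - C z), modByMonic_X_sub_C_eq_C_eval,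
        add_comm]
    rw [h1]
    refine Ideal.add_mem _ (Ideal.mem_sup_left (Ideal.mul_mem_right _ _
      (Ideal.subset_span rfl))) (Ideal.mem_sup_right (Ideal.mem_map_of_mem _ ?_))
    have : ev g = 0 := hg
    simpa [ev] using this
  have hXz : X - C z ∈ M := by
    show ev (X - C z) = 0
    simp [ev]
  have hmC : (maximalIdeal A).map C ≤ M := by
    rw [Ideal.map_le_iff_le_comap]
    intro a ha
    show ev (C a) = 0
    simpa [ev] using ha
  have hfM2 : f ∈ M ^ 2 := by
    have h1 : f = (X - C z) ^ p - C (x - z ^ p) := by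
      rw [hf, sub_pow_char, ← C_pow, C_sub]; ring
    rw [h1]
    refine Ideal.sub_mem _ ?_ ?_
    · exact Ideal.pow_le_pow_right hp.out.two_le (Ideal.pow_mem_pow hXz p)
    · have : C (x - z ^ p) ∈ ((maximalIdeal A).map C) ^ 2 := by
        rw [← Ideal.map_pow]; exact Ideal.mem_map_of_mem _ h
      exact Ideal.pow_right_mono hmC 2 this
  have hfM : f ∈ M := Ideal.pow_le_self two_ne_zero hfM2
  -- the maximal ideal of the quotient
  let R' := AdjoinRoot f
  let π : A[X] →+* R' := AdjoinRoot.mk f
  have hπ : Function.Surjective π := AdjoinRoot.mk_surjective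
  have hker : ∀ g, π g = 0 ↔ f ∣ g := fun g => AdjoinRoot.mk_eq_zero
  have hcomap : (maximalIdeal R').comap π = M := by
    have h1 : ((maximalIdeal R').comap π).IsMaximal := Ideal.comap_isMaximal_of_surjective π hπ
    have h2 : RingHom.ker π ≤ M := by
      intro g hg
      obtain ⟨q, rfl⟩ := (hker g).1 hg
      exact Ideal.mul_mem_right _ _ hfM
    -- `M.map π` is a proper ideal, so contained in the maximal ideal
    have h3 : M.map π ≠ ⊤ := by
      intro htop
      have : (M.map π).comap π = M := by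
        rw [Ideal.comap_map_of_surjective π hπ]
        exact sup_eq_left.2 (by simpa [RingHom.ker] using h2)
      rw [htop, Ideal.comap_top] at this
      exact hMmax.ne_top this.symm
    have h4 : M.map π ≤ maximalIdeal R' := le_maximalIdeal h3
    have h5 : M ≤ (maximalIdeal R').comap π := Ideal.map_le_iff_le_comap.1 h4
    exact (hMmax.eq_of_le h1.ne_top h5).symm
  -- the localization `P = A[X]_M`
  let P := Localization.AtPrime M
  have hunit : ∀ s : M.primeCompl, IsUnit (π s) := by
    intro s
    by_contra hs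
    have h1 : π s ∈ maximalIdeal R' := hs
    have h2 : (s : A[X]) ∈ (maximalIdeal R').comap π := h1
    rw [hcomap] at h2
    exact s.2 h2
  let q : P →+* R' := IsLocalization.lift (M := M.primeCompl) hunit
  have hq : ∀ g, q (algebraMap A[X] P g) = π g := fun g => IsLocalization.lift_eq hunit g
  have hqs : Function.Surjective q := by
    intro y
    obtain ⟨g, rfl⟩ := hπ y
    exact ⟨algebraMap A[X] P g, hq g⟩
  -- generators of the maximal ideal of `R'`
  have hfg : (maximalIdeal R').FG := (maximalIdeal R').fg_of_isNoetherianRing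
  obtain ⟨d, w, hw, hdim⟩ : ∃ (d : ℕ) (w : Fin d → R'),
      Ideal.span (Set.range w) = maximalIdeal R' ∧ ringKrullDim R' = d := by
    obtain ⟨w, hw⟩ := exists_fin_generators' (maximalIdeal R') hfg
    exact ⟨_, w, hw, (IsRegularLocalRing.spanFinrank_maximalIdeal (R := R')).symm⟩
  choose wt hwt using fun i => hπ (w i)
  have hwtM : ∀ i, wt i ∈ M := by
    intro i
    rw [← hcomap]
    show π (wt i) ∈ maximalIdeal R'
    rw [hwt, ← hw]
    exact Ideal.subset_span ⟨i, rfl⟩
  let N : Ideal P := Ideal.span (Set.range fun i => algebraMap A[X] P (wt i))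
  have hmaxP : maximalIdeal P = M.map (algebraMap A[X] P) :=
    (Localization.AtPrime.map_eq_maximalIdeal).symm
  have hNle : N ≤ maximalIdeal P := by
    rw [Ideal.span_le]
    rintro _ ⟨i, rfl⟩
    rw [hmaxP]
    exact Ideal.mem_map_of_mem _ (hwtM i)
  have hle : maximalIdeal P ≤ N ⊔ maximalIdeal P • maximalIdeal P := by
    refine (le_of_eq hmaxP).trans ?_
    rw [Ideal.map_le_iff_le_comap]
    intro g hg
    have h1 : π g ∈ maximalIdeal R' := by
      have : g ∈ (maximalIdeal R').comap π := by rw [hcomap]; exact hg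
      exact this
    rw [← hw] at h1
    obtain ⟨r, hr⟩ := (Ideal.mem_span_range_iff_exists_fun).1 h1
    choose rt hrt using fun i => hπ (r i)
    have h2 : π (g - ∑ i, rt i * wt i) = 0 := by
      rw [map_sub, map_sum, ← hr, sub_eq_zero]
      refine Finset.sum_congr rfl fun i _ => ?_
      rw [map_mul, hrt, hwt]
    obtain ⟨t, ht⟩ := (hker _).1 h2
    have h3 : g = ∑ i, rt i * wt i + f * t := by rw [← ht]; ring
    show algebraMap A[X] P g ∈ N ⊔ maximalIdeal P • maximalIdeal P
    rw [h3, map_add, map_sum]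
    refine Ideal.add_mem _ (Ideal.mem_sup_left ?_) (Ideal.mem_sup_right ?_)
    · refine Ideal.sum_mem _ fun i _ => ?_
      rw [map_mul]
      exact Ideal.mul_mem_left _ _ (Ideal.subset_span ⟨i, rfl⟩)
    · rw [map_mul, smul_eq_mul, ← pow_two, hmaxP, ← Ideal.map_pow]
      exact Ideal.mul_mem_right _ _ (Ideal.mem_map_of_mem _ hfM2)
  have hPfg : (maximalIdeal P).FG := (maximalIdeal P).fg_of_isNoetherianRing
  have hle2 : maximalIdeal P ≤ N :=
    Submodule.le_of_le_smul_of_le_jacobson_bot hPfg (maximalIdeal_le_jacobson _) hle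
  have heq : maximalIdeal P = N := le_antisymm hle2 hNle
  have hup : ringKrullDim P ≤ d := by
    refine (ringKrullDim_le_spanFinrank_maximalIdeal P).trans ?_
    rw [heq]
    exact_mod_cast spanFinrank_span_range_le _
  -- lower bound
  have hnzd : algebraMap A[X] P f ∈ nonZeroDivisors P :=
    IsLocalization.map_nonZeroDivisors_le M.primeCompl P
      (Submonoid.mem_map_of_mem _ hmonic.mem_nonZeroDivisors)
  have h1 := ringKrullDim_quotient_succ_le_of_nonZeroDivisor hnzd
  let q' : P ⧸ Ideal.span {algebraMap A[X] P f} →+* R' :=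
    Ideal.Quotient.lift _ q (by
      intro a ha
      rw [Ideal.mem_span_singleton] at ha
      obtain ⟨b, rfl⟩ := ha
      rw [map_mul, hq, (hker f).2 dvd_rfl, zero_mul])
  have hq's : Function.Surjective q' := by
    intro y
    obtain ⟨a, rfl⟩ := hqs y
    exact ⟨Ideal.Quotient.mk _ a, Ideal.Quotient.lift_mk _ _ _⟩
  have h2 : ringKrullDim R' ≤ ringKrullDim (P ⧸ Ideal.span {algebraMap A[X] P f}) :=
    ringKrullDim_le_of_surjective q' hq's
  rw [hdim] at h2
  have h3 : ((d : ℕ) : WithBot ℕ∞) + 1 ≤ d := (add_le_add h2 le_rfl).trans (h1.trans hup)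
  have h4 : ((d + 1 : ℕ) : WithBot ℕ∞) ≤ ((d : ℕ) : WithBot ℕ∞) := by
    push_cast; exact h3
  have h5 : d + 1 ≤ d := by exact_mod_cast h4
  omega




theorem exists_derivation_eq_one {K : Type u} [Field K] (p : ℕ) [hp : Fact p.Prime] [CharP K p]
    (c : K) (hc : ∀ b : K, b ^ p ≠ c) : ∃ D : Derivation ℤ K K, D c = 1 := by
  obtain ⟨E, hEp, hcE, htop⟩ := exists_subfield_adjoin_eq_top p c hc
  obtain ⟨hint, -, hmin⟩ := finrank_adjoin_of_notMem p E hEp c hcE
  exact exists_derivation_of_adjoin_eq_top p c E hEp hint hmin htop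

/-- general principle: a derivation maps an element whose differential lies in `𝔪 Ω` into `𝔪 M`,
more precisely into `𝔪 • (span of the image)`. -/
theorem derivation_mem_of_D_mem {B : Type u} [CommRing B] (I : Ideal B)
    {M : Type u} [AddCommGroup M] [Module B M] (δ : Derivation ℤ B M) (N : Submodule B M)
    (hN : ∀ b, δ b ∈ N) (x : B)
    (hx : KaehlerDifferential.D ℤ B x ∈ I • (⊤ : Submodule B Ω[B⁄ℤ])) :
    δ x ∈ I • N := by
  have h1 : δ x = δ.liftKaehlerDifferential (KaehlerDifferential.D ℤ B x) := by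
    rw [Derivation.liftKaehlerDifferential_comp_D]
  rw [h1]
  have h2 : Submodule.map δ.liftKaehlerDifferential (⊤ : Submodule B Ω[B⁄ℤ]) ≤ N := by
    rw [← KaehlerDifferential.span_range_derivation, Submodule.map_span, Submodule.span_le]
    rintro _ ⟨_, ⟨b, rfl⟩, rfl⟩
    rw [Derivation.liftKaehlerDifferential_comp_D]
    exact hN b
  have h3 : δ.liftKaehlerDifferential (KaehlerDifferential.D ℤ B x) ∈
      Submodule.map δ.liftKaehlerDifferential (I • (⊤ : Submodule B Ω[B⁄ℤ])) :=
    Submodule.mem_map_of_mem hx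
  rw [Submodule.map_smul''] at h3
  exact Submodule.smul_mono le_rfl h2 h3


theorem charP_residueField (B : Type u) [CommRing B] [IsLocalRing B] (p : ℕ) [hp : Fact p.Prime]
    [CharP B p] : CharP (ResidueField B) p := by
  rw [CharP.charP_iff_prime_eq_zero hp.out]
  have : ((p : B) : B) = 0 := CharP.cast_eq_zero B p
  have h2 : residue B ((p : ℕ) : B) = 0 := by rw [this, map_zero]
  rwa [map_natCast] at h2

/-- If `dx ∈ 𝔪 Ω_B` in a local ring of characteristic `p` containing a perfect field, then `x` is a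
`p`-th power modulo `𝔪²`. -/
theorem exists_sub_pow_mem_sq {B : Type u} [CommRing B] [IsLocalRing B] (F : Type u) [Field F]
    [PerfectField F] [Algebra F B] (p : ℕ) [hp : Fact p.Prime] [CharP B p] (x : B)
    (hx : KaehlerDifferential.D ℤ B x ∈ (maximalIdeal B) • (⊤ : Submodule B Ω[B⁄ℤ])) :
    ∃ z : B, x - z ^ p ∈ maximalIdeal B ^ 2 := by
  classical
  have hcK : CharP (ResidueField B) p := charP_residueField B p
  -- (ii) the residue of `x` is a `p`-th power
  have hxp : ∃ z₀ : ResidueField B, z₀ ^ p = residue B x := by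
    by_contra hne
    push Not at hne
    obtain ⟨D₀, hD₀⟩ := exists_derivation_eq_one p (residue B x) hne
    let δ : Derivation ℤ B (ResidueField B) := D₀.compAlgebraMap B
    have h1 := derivation_mem_of_D_mem (maximalIdeal B) δ ⊤ (fun _ => trivial) x hx
    have h2 : (maximalIdeal B) • (⊤ : Submodule B (ResidueField B)) = ⊥ := by
      rw [eq_bot_iff, Submodule.smul_le]
      intro a ha c _
      rw [Submodule.mem_bot, Algebra.smul_def]
      have : algebraMap B (ResidueField B) a = 0 := (residue_eq_zero_iff a).2 ha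
      rw [this, zero_mul]
    rw [h2, Submodule.mem_bot] at h1
    have h3 : δ x = D₀ (residue B x) := rfl
    rw [h3, hD₀] at h1
    exact one_ne_zero h1
  obtain ⟨z₀, hz₀⟩ := hxp
  -- the coefficient field of `B/𝔪²`
  have hfs : Algebra.FormallySmooth F (ResidueField B) :=
    formallySmooth_of_perfectField F (ResidueField B)
  let π : (B ⧸ maximalIdeal B ^ 2) →ₐ[F] ResidueField B :=
    Ideal.Quotient.factorₐ F (Ideal.pow_le_self two_ne_zero)
  have hπmk : ∀ b : B, π (Ideal.Quotient.mk _ b) = residue B b := fun b => rfl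
  have hπs : Function.Surjective π := by
    intro c
    obtain ⟨b, rfl⟩ := residue_surjective c
    exact ⟨Ideal.Quotient.mk _ b, hπmk b⟩
  have hker2 : ∀ u v : B ⧸ maximalIdeal B ^ 2, π u = 0 → π v = 0 → u * v = 0 := by
    intro u v hu hv
    obtain ⟨a, rfl⟩ := Ideal.Quotient.mk_surjective u
    obtain ⟨b, rfl⟩ := Ideal.Quotient.mk_surjective v
    rw [hπmk, residue_eq_zero_iff] at hu hv
    rw [← map_mul, Ideal.Quotient.eq_zero_iff_mem, pow_two]
    exact Ideal.mul_mem_mul hu hv
  have hnil : IsNilpotent (RingHom.ker (π : (B ⧸ maximalIdeal B ^ 2) →+* ResidueField B)) := by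
    refine ⟨2, ?_⟩
    rw [Ideal.zero_eq_bot, eq_bot_iff]
    refine (le_of_eq (pow_two _)).trans (Ideal.mul_le.2 ?_)
    intro u hu v hv
    rw [Ideal.mem_bot]
    exact hker2 u v hu hv
  let σ : ResidueField B →ₐ[F] (B ⧸ maximalIdeal B ^ 2) :=
    Algebra.FormallySmooth.liftOfSurjective (AlgHom.id F _) π hπs hnil
  have hσ : ∀ c, π (σ c) = c := fun c =>
    Algebra.FormallySmooth.liftOfSurjective_apply (AlgHom.id F _) π hπs hnil c
  -- the derivation `δ₀ b = b - σ (residue b)`
  let δ₀ : Derivation ℤ B (B ⧸ maximalIdeal B ^ 2) :=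
    { toFun := fun b => Ideal.Quotient.mk _ b - σ (residue B b)
      map_add' := fun a b => by simp only [map_add]; ring
      map_smul' := fun n a => by simp only [map_zsmul, RingHom.id_apply, smul_sub]
      map_one_eq_zero' := by simp
      leibniz' := fun a b => by
        show Ideal.Quotient.mk _ (a * b) - σ (residue B (a * b)) =
          a • (Ideal.Quotient.mk _ b - σ (residue B b)) +
            b • (Ideal.Quotient.mk _ a - σ (residue B a))
        have h0 := hker2 (Ideal.Quotient.mk _ a - σ (residue B a))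
          (Ideal.Quotient.mk _ b - σ (residue B b)) (by rw [map_sub, hσ, hπmk, sub_self])
          (by rw [map_sub, hσ, hπmk, sub_self])
        rw [Algebra.smul_def, Algebra.smul_def, Ideal.Quotient.algebraMap_eq, map_mul, map_mul,
          map_mul]
        linear_combination -h0 }
  have hδ₀ : ∀ b, δ₀ b = Ideal.Quotient.mk _ b - σ (residue B b) := fun b => rfl
  have hδ₀π : ∀ b, π (δ₀ b) = 0 := fun b => by rw [hδ₀, map_sub, hσ, hπmk, sub_self]
  let N : Submodule B (B ⧸ maximalIdeal B ^ 2) :=
    { carrier := {u | π u = 0}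
      add_mem' := fun {u v} hu hv => by
        show π (u + v) = 0
        rw [map_add, hu, hv, add_zero]
      zero_mem' := map_zero π
      smul_mem' := fun b u hu => by
        show π (b • u) = 0
        rw [Algebra.smul_def, map_mul, hu, mul_zero] }
  have h1 := derivation_mem_of_D_mem (maximalIdeal B) δ₀ N hδ₀π x hx
  have h2 : (maximalIdeal B) • N = ⊥ := by
    rw [eq_bot_iff, Submodule.smul_le]
    intro a ha u hu
    rw [Submodule.mem_bot, Algebra.smul_def, Ideal.Quotient.algebraMap_eq]
    exact hker2 _ _ (by rw [hπmk, residue_eq_zero_iff]; exact ha) hu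
  rw [h2, Submodule.mem_bot, hδ₀, sub_eq_zero] at h1
  obtain ⟨z, hz⟩ := Ideal.Quotient.mk_surjective (σ z₀)
  refine ⟨z, ?_⟩
  rw [← Ideal.Quotient.eq_zero_iff_mem, map_sub, map_pow, hz, h1, ← hz₀, map_pow, sub_self]


end local_

end Groth.Agent.Lib.helper19.FSDiff
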