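import Mathlib
import Groth.Agent.Lib.Helper19.FSDiff1
import Groth.Agent.S12136

/-!
# Adic formal smoothness over a field and absolute differentials (helper19)

For a Noetherian local `k`-algebra `A` with residue field `K`:
`A` is formally smooth over `k` for the adic topology iff `A` is regular and
`Ω_{k/ℤ} ⊗ K → Ω_{A/ℤ} ⊗ K` is injective.

* `exists_derivation_extension`: if the map is injective, derivations `k → M` into an `A`-module
  killed by `𝔪` extend to `A`.
* `isAdicFormallySmooth_of_regular_of_injective`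
* `injective_of_isAdicFormallySmooth`
-/

set_option autoImplicit false
universe u

namespace Groth.Agent.Lib.helper19.FSDiff

open IsLocalRing TensorProduct Groth.Agent.Lib.helper19.CohenK
open Groth.Agent.Lib.helper17.FieldLift

open scoped KaehlerDifferential



theorem exists_derivation_extension (k A : Type u) [Field k] [CommRing A] [Algebra k A]
    [IsLocalRing A]
    (hinj : Function.Injective
      ((KaehlerDifferential.mapBaseChange ℤ k A).lTensor (ResidueField A)))
    (M : Type u) [AddCommGroup M] [Module A M] (hM : ∀ a ∈ maximalIdeal A, ∀ n : M, a • n = 0)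
    (D : k →+ M) (hD : ∀ x y, D (x * y) = algebraMap k A x • D y + algebraMap k A y • D x) :
    ∃ δ : Derivation ℤ A M, ∀ x, δ (algebraMap k A x) = D x := by
  classical
  let _ : Module k M := Module.compHom M (algebraMap k A)
  have : IsScalarTower k A M := ⟨fun x a n => by
    show (x • a) • n = (algebraMap k A x) • (a • n)
    rw [Algebra.smul_def, mul_smul]⟩
  have hD1 : D 1 = 0 := by
    have := hD 1 1
    simp only [mul_one, map_one, one_smul] at this
    have h2 : D 1 + D 1 = D 1 + 0 := by rw [add_zero]; exact this.symm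
    exact add_left_cancel h2
  let D' : Derivation ℤ k M :=
    { toFun := D
      map_add' := D.map_add
      map_smul' := fun n x => map_zsmul D n x
      map_one_eq_zero' := hD1
      leibniz' := fun x y => hD x y }
  let g₀ : Ω[k⁄ℤ] →ₗ[k] M := D'.liftKaehlerDifferential
  let X := A ⊗[k] Ω[k⁄ℤ]
  let g : X →ₗ[A] M := LinearMap.liftBaseChange A g₀
  have hg : ∀ (a : A) (ω : Ω[k⁄ℤ]), g (a ⊗ₜ ω) = a • g₀ ω := fun a ω => by
    exact LinearMap.liftBaseChange_tmul A g₀ a ω
  let K := ResidueField A
  have hle : (maximalIdeal A) • (⊤ : Submodule A X) ≤ LinearMap.ker g := by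
    rw [Submodule.smul_le]
    intro a ha ξ _
    rw [LinearMap.mem_ker, map_smul]
    exact hM a ha _
  let gbar : K ⊗[A] X →ₗ[A] M :=
    (Submodule.liftQ _ g hle) ∘ₗ (TensorProduct.quotTensorEquivQuotSMul X (maximalIdeal A)).toLinearMap
  have hgbar : ∀ ξ : X, gbar ((1 : K) ⊗ₜ ξ) = g ξ := by
    intro ξ
    show Submodule.liftQ _ g hle (TensorProduct.quotTensorEquivQuotSMul X (maximalIdeal A)
      ((Ideal.Quotient.mk _ 1) ⊗ₜ ξ)) = g ξ
    rw [TensorProduct.quotTensorEquivQuotSMul_mk_tmul, one_smul]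
    rfl
  let jK : K ⊗[A] X →ₗ[K] K ⊗[A] Ω[A⁄ℤ] :=
    (KaehlerDifferential.mapBaseChange ℤ k A).baseChange K
  have hjK : Function.Injective jK := hinj
  obtain ⟨r, hr⟩ := LinearMap.exists_leftInverse_of_injective jK (LinearMap.ker_eq_bot.2 hjK)
  let dK : Derivation ℤ A (K ⊗[A] Ω[A⁄ℤ]) :=
    (TensorProduct.mk A K Ω[A⁄ℤ] 1).compDer (KaehlerDifferential.D ℤ A)
  let δ : Derivation ℤ A M := (gbar ∘ₗ r.restrictScalars A).compDer dK
  refine ⟨δ, fun x => ?_⟩
  have h1 : (1 : K) ⊗ₜ[A] KaehlerDifferential.D ℤ A (algebraMap k A x) =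
      jK (1 ⊗ₜ (1 ⊗ₜ KaehlerDifferential.D ℤ k x)) := by
    simp [jK, LinearMap.baseChange_tmul, KaehlerDifferential.mapBaseChange_tmul,
      KaehlerDifferential.map_D]
  show gbar (r ((1 : K) ⊗ₜ[A] KaehlerDifferential.D ℤ A (algebraMap k A x))) = D x
  rw [h1]
  have h2 : r (jK (1 ⊗ₜ (1 ⊗ₜ KaehlerDifferential.D ℤ k x))) =
      1 ⊗ₜ (1 ⊗ₜ KaehlerDifferential.D ℤ k x) := LinearMap.congr_fun hr _
  rw [h2, hgbar, hg, one_smul]
  show D'.liftKaehlerDifferential (KaehlerDifferential.D ℤ k x) = D x
  rw [Derivation.liftKaehlerDifferential_comp_D]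
  rfl


/-- **(regular + injectivity of `Ω_k ⊗ K → Ω_A ⊗ K`) ⇒ adic formal smoothness.** -/
theorem isAdicFormallySmooth_of_regular_of_injective (k A : Type u) [Field k] [CommRing A]
    [Algebra k A] [IsLocalRing A] [IsNoetherianRing A] (hreg : IsRegularLocalRing A)
    (hinj : Function.Injective
      ((KaehlerDifferential.mapBaseChange ℤ k A).lTensor (ResidueField A))) :
    CAlgX.IsAdicFormallySmooth k A (maximalIdeal A) := by
  classical
  refine Groth.Agent.S12136.formallySmooth_of_liftProp_one (maximalIdeal A) (maximalIdeal A)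
    ⟨1, by simp⟩ ?_
  intro T _ _ N hN ψ hψ hkill
  have := perfectField_P0 k
  let _ : Algebra (P0 k) k := (P0.incl k).toAlgebra
  let _ : Algebra (P0 k) A := ((algebraMap k A).comp (P0.incl k)).toAlgebra
  have : IsScalarTower (P0 k) k A := IsScalarTower.of_algebraMap_eq fun _ => rfl
  have hfs0 : Algebra.FormallySmooth (P0 k) (ResidueField A) :=
    formallySmooth_of_perfectField _ _
  have hA0 : CAlgX.IsAdicFormallySmooth (P0 k) A (maximalIdeal A) :=
    (regular_iff_isAdicFormallySmooth (P0 k) A).1 hreg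
  let _ : Algebra (P0 k) T := ((algebraMap k T).comp (P0.incl k)).toAlgebra
  have : IsScalarTower (P0 k) k T := IsScalarTower.of_algebraMap_eq fun _ => rfl
  let ψ₀ : A →ₐ[P0 k] T ⧸ N :=
    { ψ.toRingHom with
      commutes' := fun c => by
        show ψ (algebraMap k A (P0.incl k c)) = _
        rw [ψ.commutes]
        rfl }
  obtain ⟨χ₀, hχ₀⟩ := hA0 T N hN ψ₀ hψ
  have hχ₀' : ∀ a, Ideal.Quotient.mk N (χ₀ a) = ψ a := fun a => congr($hχ₀ a)
  let _ : Module A N := Module.compHom N (χ₀ : A →+* T)
  have hsmul : ∀ (a : A) (n : N), ((a • n : N) : T) = χ₀ a * n := fun a n => rfl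
  have hM : ∀ a ∈ maximalIdeal A, ∀ n : N, a • n = 0 := by
    intro a ha n
    apply Subtype.ext
    rw [hsmul]
    exact hkill a (by simpa using ha) (χ₀ a) (hχ₀' a) n n.2
  have hNN : ∀ u v : T, u ∈ N → v ∈ N → u * v = 0 := by
    intro u v hu hv
    have : u * v ∈ N ^ 2 := by rw [pow_two]; exact Ideal.mul_mem_mul hu hv
    rw [hN] at this
    exact this
  have hDmem : ∀ x : k, algebraMap k T x - χ₀ (algebraMap k A x) ∈ N := by
    intro x
    rw [← Ideal.Quotient.eq_zero_iff_mem, map_sub, hχ₀', ψ.commutes]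
    exact sub_self _
  let D : k →+ N :=
    { toFun := fun x => ⟨_, hDmem x⟩
      map_zero' := by apply Subtype.ext; simp
      map_add' := fun x y => by apply Subtype.ext; simp only [map_add]; show _ = _ + _; ring }
  have hDv : ∀ x, ((D x : N) : T) = algebraMap k T x - χ₀ (algebraMap k A x) := fun x => rfl
  have hD : ∀ x y, D (x * y) = algebraMap k A x • D y + algebraMap k A y • D x := by
    intro x y
    apply Subtype.ext
    rw [Submodule.coe_add, hsmul, hsmul, hDv, hDv, hDv, map_mul, map_mul, map_mul]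
    have h0 := hNN _ _ (hDmem x) (hDmem y)
    linear_combination h0
  obtain ⟨δ, hδ⟩ := exists_derivation_extension k A hinj N hM D hD
  let χ : A →ₐ[k] T :=
    { toFun := fun a => χ₀ a + (δ a : T)
      map_one' := by simp [δ.map_one_eq_zero]
      map_mul' := fun a b => by
        have h0 := hNN _ _ (δ a).2 (δ b).2
        rw [δ.leibniz, Submodule.coe_add, hsmul, hsmul, map_mul]
        linear_combination -h0
      map_zero' := by simp
      map_add' := fun a b => by simp only [map_add, Submodule.coe_add]; ring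
      commutes' := fun x => by
        show χ₀ (algebraMap k A x) + (δ (algebraMap k A x) : T) = algebraMap k T x
        rw [hδ, hDv]; ring }
  refine ⟨χ, ?_⟩
  ext a
  show Ideal.Quotient.mk N (χ₀ a + (δ a : T)) = ψ a
  rw [map_add, hχ₀', Ideal.Quotient.eq_zero_iff_mem.2 (δ a).2, add_zero]




section

variable (k A : Type u) [Field k] [CommRing A] [Algebra k A] [IsLocalRing A]

/-- the elements `1 ⊗ (1 ⊗ dx)` -/
noncomputable def e (x : k) : ResidueField A ⊗[A] (A ⊗[k] Ω[k⁄ℤ]) :=
  (1 : ResidueField A) ⊗ₜ[A] ((1 : A) ⊗ₜ[k] KaehlerDifferential.D ℤ k x)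

theorem one_tmul_smul (a : A) (ξ : A ⊗[k] Ω[k⁄ℤ]) :
    (1 : ResidueField A) ⊗ₜ[A] (a • ξ) = (residue A a) • ((1 : ResidueField A) ⊗ₜ[A] ξ) := by
  rw [TensorProduct.smul_tmul', smul_eq_mul, mul_one, ← TensorProduct.smul_tmul]
  congr 1
  rw [Algebra.smul_def, mul_one]
  rfl

theorem mem_span_e_aux1 (ω : Ω[k⁄ℤ]) :
    (1 : ResidueField A) ⊗ₜ[A] ((1 : A) ⊗ₜ[k] ω) ∈
      Submodule.span (ResidueField A) (Set.range (e k A)) := by
  have hω : ω ∈ Submodule.span k (Set.range (KaehlerDifferential.D ℤ k)) := by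
    rw [KaehlerDifferential.span_range_derivation]; trivial
  induction hω using Submodule.span_induction with
  | mem ω hω =>
    obtain ⟨x, rfl⟩ := hω
    exact Submodule.subset_span ⟨x, rfl⟩
  | zero => rw [TensorProduct.tmul_zero, TensorProduct.tmul_zero]; exact zero_mem _
  | add u v _ _ hu hv =>
    rw [TensorProduct.tmul_add, TensorProduct.tmul_add]; exact add_mem hu hv
  | smul y u _ hu =>
    have h3 : (1 : A) ⊗ₜ[k] (y • u) = (algebraMap k A y) • ((1 : A) ⊗ₜ[k] u) := by
      rw [TensorProduct.tmul_smul, algebraMap_smul]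
    rw [h3, one_tmul_smul]
    exact Submodule.smul_mem _ _ hu

theorem mem_span_e_aux2 (ξ : A ⊗[k] Ω[k⁄ℤ]) :
    (1 : ResidueField A) ⊗ₜ[A] ξ ∈ Submodule.span (ResidueField A) (Set.range (e k A)) := by
  induction ξ using TensorProduct.induction_on with
  | zero => rw [TensorProduct.tmul_zero]; exact zero_mem _
  | add u v hu hv => rw [TensorProduct.tmul_add]; exact add_mem hu hv
  | tmul a ω =>
    have h2 : a ⊗ₜ[k] ω = a • ((1 : A) ⊗ₜ[k] ω) := by
      rw [TensorProduct.smul_tmul', smul_eq_mul, mul_one]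
    rw [h2, one_tmul_smul]
    exact Submodule.smul_mem _ _ (mem_span_e_aux1 k A ω)

theorem span_e : Submodule.span (ResidueField A) (Set.range (e k A)) = ⊤ := by
  rw [eq_top_iff]
  rintro ω -
  induction ω using TensorProduct.induction_on with
  | zero => exact zero_mem _
  | add u v hu hv => exact add_mem hu hv
  | tmul c ξ =>
    have h1 : c ⊗ₜ[A] ξ = c • ((1 : ResidueField A) ⊗ₜ[A] ξ) := by
      rw [TensorProduct.smul_tmul', smul_eq_mul, mul_one]
    rw [h1]
    exact Submodule.smul_mem _ _ (mem_span_e_aux2 k A ξ)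

/-- the baseChange map is `K`-linear and sends `e x` to `1 ⊗ d(x·1)` -/
theorem baseChange_e (x : k) :
    (KaehlerDifferential.mapBaseChange ℤ k A).baseChange (ResidueField A) (e k A x) =
      (1 : ResidueField A) ⊗ₜ[A] KaehlerDifferential.D ℤ A (algebraMap k A x) := by
  simp [e, LinearMap.baseChange_tmul, KaehlerDifferential.mapBaseChange_tmul,
    KaehlerDifferential.map_D]

/-- **adic formal smoothness ⇒ injectivity of `Ω_k ⊗ K → Ω_A ⊗ K`.** -/
theorem injective_of_isAdicFormallySmooth
    (h : CAlgX.IsAdicFormallySmooth k A (maximalIdeal A)) :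
    Function.Injective
      ((KaehlerDifferential.mapBaseChange ℤ k A).lTensor (ResidueField A)) := by
  classical
  let K := ResidueField A
  let X := A ⊗[k] Ω[k⁄ℤ]
  let jK : K ⊗[A] X →ₗ[K] K ⊗[A] Ω[A⁄ℤ] :=
    (KaehlerDifferential.mapBaseChange ℤ k A).baseChange K
  show Function.Injective jK
  rw [injective_iff_map_eq_zero]
  intro ω hω
  by_contra hne
  obtain ⟨φ, hφ⟩ : ∃ φ : Module.Dual K (K ⊗[A] X), φ ω ≠ 0 := by
    by_contra hall
    push Not at hall
    exact hne ((Module.forall_dual_apply_eq_zero_iff K ω).1 hall)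
  -- the derivation `D : k → K`
  let D : k → K := fun x => φ (e k A x)
  have hDadd : ∀ x y, D (x + y) = D x + D y := by
    intro x y
    show φ (e k A (x + y)) = φ (e k A x) + φ (e k A y)
    rw [← map_add]
    congr 1
    simp only [e, map_add, TensorProduct.tmul_add]
  have hDmul : ∀ x y, D (x * y) = algebraMap k K x * D y + algebraMap k K y * D x := by
    intro x y
    show φ (e k A (x * y)) = algebraMap k K x * φ (e k A y) + algebraMap k K y * φ (e k A x)
    have h1 : e k A (x * y) = algebraMap k K x • e k A y + algebraMap k K y • e k A x := by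
      simp only [e, Derivation.leibniz, TensorProduct.tmul_add]
      have h3 : ∀ (y : k) (u : Ω[k⁄ℤ]), (1 : K) ⊗ₜ[A] ((1 : A) ⊗ₜ[k] (y • u)) =
          algebraMap k K y • ((1 : K) ⊗ₜ[A] ((1 : A) ⊗ₜ[k] u)) := by
        intro y u
        have : (1 : A) ⊗ₜ[k] (y • u) = (algebraMap k A y) • ((1 : A) ⊗ₜ[k] u) := by
          rw [TensorProduct.tmul_smul, algebraMap_smul]
        rw [this, one_tmul_smul]
        rfl
      rw [h3, h3]
    rw [h1, map_add, map_smul, map_smul, smul_eq_mul, smul_eq_mul]
  -- the dual numbers with the twisted algebra structure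
  let α : k →+* TrivSqZeroExt K K :=
    { toFun := fun x => TrivSqZeroExt.inl (algebraMap k K x) + TrivSqZeroExt.inr (D x)
      map_one' := by
        have : D 1 = 0 := by
          have h1 := hDmul 1 1
          simp only [mul_one, map_one, one_mul] at h1
          have h2 : D 1 + D 1 = D 1 + 0 := by rw [add_zero]; exact h1.symm
          exact add_left_cancel h2
        rw [this]; simp
      map_mul' := fun x y => by
        apply TrivSqZeroExt.ext
        · simp
        · simp only [TrivSqZeroExt.snd_add, TrivSqZeroExt.snd_inl, TrivSqZeroExt.snd_inr,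
            zero_add, TrivSqZeroExt.snd_mul, TrivSqZeroExt.fst_add, TrivSqZeroExt.fst_inl,
            TrivSqZeroExt.fst_inr, add_zero, smul_eq_mul, MulOpposite.smul_eq_mul_unop,
            MulOpposite.unop_op]
          rw [hDmul]; ring
      map_zero' := by
        have : D 0 = 0 := by
          have h1 := hDadd 0 0
          rw [add_zero] at h1
          have h2 : D 0 + D 0 = D 0 + 0 := by rw [add_zero]; exact h1.symm
          exact add_left_cancel h2
        rw [this]; simp
      map_add' := fun x y => by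
        rw [hDadd, map_add, TrivSqZeroExt.inl_add, TrivSqZeroExt.inr_add]; abel }
  let T := Tw α
  let fstT : T →+* K := (TrivSqZeroExt.fstHom K K K : TrivSqZeroExt K K →+* K)
  let J : Ideal T := RingHom.ker fstT
  have hJ : J ^ 2 = ⊥ := by
    rw [eq_bot_iff, pow_two, Ideal.mul_le]
    intro u hu v hv
    rw [Ideal.mem_bot]
    have hu' : TrivSqZeroExt.fst (Tw.out u) = 0 := hu
    have hv' : TrivSqZeroExt.fst (Tw.out v) = 0 := hv
    show (Tw.out u * Tw.out v : TrivSqZeroExt K K) = 0
    apply TrivSqZeroExt.ext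
    · simp [hu']
    · simp [hu', hv']
  let inlT : K →+* T := (TrivSqZeroExt.inlHom K K : K →+* TrivSqZeroExt K K)
  let ψ : A →ₐ[k] T ⧸ J :=
    { ((Ideal.Quotient.mk J).comp (inlT.comp (residue A)) : A →+* T ⧸ J) with
      commutes' := fun x => by
        show Ideal.Quotient.mk J (inlT (residue A (algebraMap k A x))) =
          Ideal.Quotient.mk J (algebraMap k T x)
        rw [Ideal.Quotient.eq]
        show fstT (inlT (residue A (algebraMap k A x)) - algebraMap k T x) = 0
        rw [map_sub, sub_eq_zero]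
        show _ = TrivSqZeroExt.fst (α x)
        simp [α, inlT, fstT]
        rfl }
  obtain ⟨χ, hχ⟩ := h T J hJ ψ ⟨1, fun a ha => by
    rw [pow_one] at ha
    show Ideal.Quotient.mk J (inlT (residue A a)) = 0
    rw [(residue_eq_zero_iff a).2 ha, map_zero, map_zero]⟩
  have hχ' : ∀ a, TrivSqZeroExt.fst (Tw.out (χ a)) = algebraMap A K a := by
    intro a
    have h1 : Ideal.Quotient.mk J (χ a) = Ideal.Quotient.mk J (inlT (residue A a)) :=
      congr($hχ a)
    rw [Ideal.Quotient.eq] at h1
    have h2 : fstT (χ a - inlT (residue A a)) = 0 := h1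
    rw [map_sub, sub_eq_zero] at h2
    rw [show TrivSqZeroExt.fst (Tw.out (χ a)) = fstT (χ a) from rfl, h2]
    simp [inlT, fstT]
    rfl
  let χr : A →+* TrivSqZeroExt K K := (χ : A →+* T)
  let δ : Derivation ℤ A K := derivOfSection χr hχ'
  have hδ : ∀ x, δ (algebraMap k A x) = D x := by
    intro x
    show TrivSqZeroExt.snd (Tw.out (χ (algebraMap k A x))) = D x
    rw [χ.commutes]
    show TrivSqZeroExt.snd (α x) = D x
    simp [α]
  let ψ' : K ⊗[A] Ω[A⁄ℤ] →ₗ[K] K := LinearMap.liftBaseChange K δ.liftKaehlerDifferential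
  have hcomp : ψ' ∘ₗ jK = φ := by
    apply LinearMap.ext_on (span_e k A)
    rintro _ ⟨x, rfl⟩
    show ψ' (jK (e k A x)) = φ (e k A x)
    rw [baseChange_e]
    show LinearMap.liftBaseChange K δ.liftKaehlerDifferential _ = D x
    rw [LinearMap.liftBaseChange_tmul, one_smul, Derivation.liftKaehlerDifferential_comp_D, hδ]
  have : φ ω = ψ' (jK ω) := by rw [← hcomp]; rfl
  rw [hω, map_zero] at this
  exact hφ this

end


end Groth.Agent.Lib.helper19.FSDiff
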