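import Mathlib
import Groth.Agent.Lib.Helper19.FSDiff2
import Groth.Agent.Lib.Helper19.CohenK5

/-!
# The `p`-radical test for adic formal smoothness over a field (helper19)

Let `k` be a field of characteristic `p > 0` and `A` a Noetherian local `k`-algebra. If
`k' ⊗[k] A` is a regular ring for every finite extension `k'/k` with `k'^p ⊆ k`, then `A` is
formally smooth over `k` for the adic topology (EGA 0_IV 22.5.8, Matsumura 28.7).

* `exists_field_roots`: a finite `p`-radical extension containing `p`-th roots of finitely many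
  elements in which a `p`-independent element stays a non-`p`-th power.
* `isLocalRing_tensor`: `A ⊗[k] k₁` is local for `k₁/k` finite with `k₁^p ⊆ k`.
* `injective_of_pRadical`, `isAdicFormallySmooth_of_pRadical`.
-/

set_option autoImplicit false
universe u

namespace Groth.Agent.Lib.helper19.FSDiff

open Polynomial IntermediateField IsLocalRing TensorProduct Groth.Agent.Lib.helper19.CohenK
open Groth.Agent.Lib.helper19.FSDiff

open scoped KaehlerDifferential




/-- the subring of elements whose differential lies in a given subspace -/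
def diffSubring (k : Type u) [Field k] (V : Submodule k Ω[k⁄ℤ]) : Subring k where
  carrier := {y | KaehlerDifferential.D ℤ k y ∈ V}
  mul_mem' {a b} ha hb := by
    show KaehlerDifferential.D ℤ k (a * b) ∈ V
    rw [Derivation.leibniz]
    exact add_mem (V.smul_mem _ hb) (V.smul_mem _ ha)
  one_mem' := by
    show KaehlerDifferential.D ℤ k 1 ∈ V
    rw [Derivation.map_one_eq_zero]; exact zero_mem _
  add_mem' {a b} ha hb := by
    show KaehlerDifferential.D ℤ k (a + b) ∈ V
    rw [map_add]; exact add_mem ha hb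
  zero_mem' := by
    show KaehlerDifferential.D ℤ k 0 ∈ V
    rw [map_zero]; exact zero_mem _
  neg_mem' {a} ha := by
    show KaehlerDifferential.D ℤ k (-a) ∈ V
    rw [map_neg]; exact neg_mem ha

theorem pow_mem_diffSubring (k : Type u) [Field k] (p : ℕ) [CharP k p]
    (V : Submodule k Ω[k⁄ℤ]) (c : k) : c ^ p ∈ diffSubring k V := by
  show KaehlerDifferential.D ℤ k (c ^ p) ∈ V
  rw [Derivation.leibniz_pow, ← Nat.cast_smul_eq_nsmul k, CharP.cast_eq_zero, zero_smul]
  exact zero_mem _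

theorem exists_field_roots (k : Type u) [Field k] (p : ℕ) [hp : Fact p.Prime] [CharP k p]
    (S : Finset k) (x₁ : k)
    (hx₁ : KaehlerDifferential.D ℤ k x₁ ∉
      Submodule.span k ((KaehlerDifferential.D ℤ k) '' (S : Set k))) :
    ∃ (k₁ : Type u) (_ : Field k₁) (_ : Algebra k k₁), Module.Finite k k₁ ∧
      (∀ u : k₁, u ^ p ∈ (algebraMap k k₁).range) ∧
      (∀ y ∈ S, ∃ t : k₁, t ^ p = algebraMap k k₁ y) ∧
      (∀ u : k₁, u ^ p ≠ algebraMap k k₁ x₁) := by
  classical
  let kb := AlgebraicClosure k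
  have hroot : ∀ y : k, ∃ t : kb, t ^ p = algebraMap k kb y := fun y =>
    IsAlgClosed.exists_pow_nat_eq _ hp.out.pos
  choose t ht using hroot
  let T : Set kb := t '' (S : Set k)
  have hTfin : T.Finite := (S.finite_toSet).image t
  have : Finite T := hTfin.to_subtype
  let k₁ : IntermediateField k kb := IntermediateField.adjoin k T
  let V : Submodule k Ω[k⁄ℤ] := Submodule.span k ((KaehlerDifferential.D ℤ k) '' (S : Set k))
  have : CharP kb p := charP_of_injective_algebraMap (algebraMap k kb).injective p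
  have key : ∀ u ∈ Algebra.adjoin k T, ∃ y ∈ diffSubring k V, u ^ p = algebraMap k kb y := by
    intro u hu
    induction hu using Algebra.adjoin_induction with
    | mem u hu =>
      obtain ⟨y, hy, rfl⟩ := hu
      exact ⟨y, Submodule.subset_span ⟨y, hy, rfl⟩, ht y⟩
    | algebraMap c => exact ⟨c ^ p, pow_mem_diffSubring k p V c, by rw [map_pow]⟩
    | add u v _ _ hu hv =>
      obtain ⟨y, hy, hy'⟩ := hu
      obtain ⟨z, hz, hz'⟩ := hv
      exact ⟨y + z, add_mem hy hz, by rw [add_pow_char, hy', hz', map_add]⟩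
    | mul u v _ _ hu hv =>
      obtain ⟨y, hy, hy'⟩ := hu
      obtain ⟨z, hz, hz'⟩ := hv
      exact ⟨y * z, mul_mem hy hz, by rw [mul_pow, hy', hz', map_mul]⟩
  have halg : ∀ x ∈ T, IsAlgebraic k x := fun x _ => Algebra.IsAlgebraic.isAlgebraic x
  have hsub : k₁.toSubalgebra = Algebra.adjoin k T :=
    IntermediateField.adjoin_toSubalgebra_of_isAlgebraic halg
  have key' : ∀ u : k₁, ∃ y ∈ diffSubring k V, (u : kb) ^ p = algebraMap k kb y := by
    intro u
    apply key
    rw [← hsub]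
    exact u.2
  refine ⟨k₁, inferInstance, inferInstance, ?_, ?_, ?_, ?_⟩
  · exact IntermediateField.finiteDimensional_adjoin fun x _ =>
      (Algebra.IsAlgebraic.isAlgebraic x).isIntegral
  · intro u
    obtain ⟨y, -, hy⟩ := key' u
    exact ⟨y, Subtype.ext hy.symm⟩
  · intro y hy
    refine ⟨⟨t y, IntermediateField.subset_adjoin k T ⟨y, hy, rfl⟩⟩, Subtype.ext ?_⟩
    exact ht y
  · intro u hu
    obtain ⟨y, hy, hy'⟩ := key' u
    have h1 : (u : kb) ^ p = algebraMap k kb x₁ := congrArg Subtype.val hu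
    rw [hy'] at h1
    have h2 : y = x₁ := (algebraMap k kb).injective h1
    rw [h2] at hy
    exact hx₁ hy



theorem adjoinRoot_finite (k k₁ : Type u) [Field k] [Field k₁] [Algebra k k₁]
    [Module.Finite k k₁] (p : ℕ) [hp : Fact p.Prime] (a : k₁) :
    Module.Finite k (AdjoinRoot (X ^ p - C a : k₁[X])) := by
  have h1 : Module.Finite k₁ (AdjoinRoot (X ^ p - C a : k₁[X])) :=
    (monic_X_pow_sub_C a hp.out.ne_zero).finite_adjoinRoot
  exact Module.Finite.trans k₁ _

theorem adjoinRoot_pow_mem_range (k k₁ : Type u) [Field k] [Field k₁] [Algebra k k₁]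
    (p : ℕ) [hp : Fact p.Prime] [CharP k p]
    (h1 : ∀ u : k₁, u ^ p ∈ (algebraMap k k₁).range) (a₀ : k)
    (f : k₁[X]) (hf : f = X ^ p - C (algebraMap k k₁ a₀)) (v : AdjoinRoot f) :
    v ^ p ∈ (algebraMap k (AdjoinRoot f)).range := by
  have hne : Nontrivial (AdjoinRoot f) :=
    AdjoinRoot.nontrivial f (by
      rw [hf, degree_X_pow_sub_C hp.out.pos]
      exact_mod_cast hp.out.ne_zero)
  have : CharP (AdjoinRoot f) p :=
    charP_of_injective_algebraMap (algebraMap k (AdjoinRoot f)).injective p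
  have hroot : (AdjoinRoot.root f) ^ p = algebraMap k (AdjoinRoot f) a₀ := by
    have h2 : AdjoinRoot.mk f f = 0 := AdjoinRoot.mk_self
    rw [hf] at h2
    rw [map_sub, map_pow, sub_eq_zero] at h2
    rw [← hf] at h2
    rw [AdjoinRoot.mk_X, AdjoinRoot.mk_C] at h2
    rw [h2]
    rfl
  have key : ∀ g : k₁[X], (AdjoinRoot.mk f g) ^ p ∈ (algebraMap k (AdjoinRoot f)).range := by
    intro g
    induction g using Polynomial.induction_on' with
    | add g₁ g₂ h₁ h₂ =>
      rw [map_add, add_pow_char]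
      exact add_mem h₁ h₂
    | monomial n c =>
      rw [← C_mul_X_pow_eq_monomial, map_mul, map_pow, AdjoinRoot.mk_X, AdjoinRoot.mk_C, mul_pow,
        ← pow_mul, mul_comm n p, pow_mul, hroot]
      refine mul_mem ?_ (pow_mem (⟨a₀, rfl⟩ : _ ∈ (algebraMap k (AdjoinRoot f)).range) n)
      obtain ⟨y, hy⟩ := h1 c
      refine ⟨y, ?_⟩
      rw [← map_pow, ← hy]
      rfl
  obtain ⟨g, hg⟩ := AdjoinRoot.mk_surjective v
  rw [← hg]
  exact key g



section

variable (k A k₁ : Type u) [Field k] [Field k₁] [Algebra k k₁] [CommRing A] [Algebra k A]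
  (p : ℕ) [hp : Fact p.Prime] [CharP k p]

theorem charP_tensor [Nontrivial A] : CharP (A ⊗[k] k₁) p :=
  charP_of_injective_algebraMap (algebraMap k (A ⊗[k] k₁)).injective p

theorem exists_pow_eq_algebraMap [Nontrivial A] (h1 : ∀ u : k₁, u ^ p ∈ (algebraMap k k₁).range)
    (b : A ⊗[k] k₁) : ∃ a : A, b ^ p = algebraMap A (A ⊗[k] k₁) a := by
  have := charP_tensor k A k₁ p
  induction b using TensorProduct.induction_on with
  | zero => exact ⟨0, by rw [zero_pow hp.out.ne_zero, map_zero]⟩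
  | tmul a u =>
    obtain ⟨y, hy⟩ := h1 u
    refine ⟨y • a ^ p, ?_⟩
    rw [Algebra.TensorProduct.tmul_pow, ← hy, Algebra.TensorProduct.algebraMap_apply,
      Algebra.algebraMap_self, RingHom.id_apply, Algebra.algebraMap_eq_smul_one,
      TensorProduct.tmul_smul, TensorProduct.smul_tmul']
  | add b₁ b₂ h₁ h₂ =>
    obtain ⟨a₁, ha₁⟩ := h₁
    obtain ⟨a₂, ha₂⟩ := h₂
    exact ⟨a₁ + a₂, by rw [add_pow_char, ha₁, ha₂, map_add]⟩

theorem isLocalRing_tensor [IsLocalRing A] [Module.Finite k k₁]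
    (h1 : ∀ u : k₁, u ^ p ∈ (algebraMap k k₁).range) : IsLocalRing (A ⊗[k] k₁) := by
  apply IsLocalRing.of_unique_max_ideal
  obtain ⟨n, hn⟩ := Ideal.exists_maximal (A ⊗[k] k₁)
  refine ⟨n, hn, fun n' hn' => ?_⟩
  have key : ∀ (n₁ n₂ : Ideal (A ⊗[k] k₁)), n₁.IsMaximal → n₂.IsMaximal → n₁ ≤ n₂ := by
    intro n₁ n₂ hn₁ hn₂ b hb
    obtain ⟨a, ha⟩ := exists_pow_eq_algebraMap k A k₁ p h1 b
    have h2 : algebraMap A (A ⊗[k] k₁) a ∈ n₁ := ha ▸ Ideal.pow_mem_of_mem _ hb p hp.out.pos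
    have h3 : a ∈ n₁.comap (algebraMap A (A ⊗[k] k₁)) := h2
    rw [comap_includeLeft_eq k A k₁ n₁, ← comap_includeLeft_eq k A k₁ n₂] at h3
    have h4 : b ^ p ∈ n₂ := ha ▸ h3
    exact hn₂.isPrime.mem_of_pow_mem p h4
  exact le_antisymm (key n' n hn' hn) (key n n' hn hn')

end

/-- a relation `Σ cᵢ ⊗ d xᵢ = 0` in `K ⊗ Ω_A` gives `Σ aᵢ d xᵢ ∈ 𝔪 Ω_A` for lifts `aᵢ`. -/
theorem sum_smul_mem_of_tmul_eq_zero {A : Type u} [CommRing A] [IsLocalRing A]
    {ι : Type*} (s : Finset ι) (a : ι → A) (ξ : ι → Ω[A⁄ℤ])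
    (h : ∑ i ∈ s, (Ideal.Quotient.mk (maximalIdeal A) (a i)) ⊗ₜ[A] ξ i =
      (0 : (A ⧸ maximalIdeal A) ⊗[A] Ω[A⁄ℤ])) :
    ∑ i ∈ s, a i • ξ i ∈ (maximalIdeal A) • (⊤ : Submodule A Ω[A⁄ℤ]) := by
  have h1 := congrArg (TensorProduct.quotTensorEquivQuotSMul Ω[A⁄ℤ] (maximalIdeal A)) h
  rw [map_sum, map_zero] at h1
  have h2 : ∀ i, TensorProduct.quotTensorEquivQuotSMul Ω[A⁄ℤ] (maximalIdeal A)
      ((Ideal.Quotient.mk (maximalIdeal A) (a i)) ⊗ₜ[A] ξ i) =
        Submodule.Quotient.mk (a i • ξ i) := fun i =>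
    TensorProduct.quotTensorEquivQuotSMul_mk_tmul _ _ _
  simp only [h2] at h1
  have h3 : (Submodule.mkQ ((maximalIdeal A) • (⊤ : Submodule A Ω[A⁄ℤ])))
      (∑ i ∈ s, a i • ξ i) = 0 := by
    rw [map_sum]; exact h1
  exact (Submodule.Quotient.mk_eq_zero _).1 h3


theorem map_mem_smul_top {A B : Type u} [CommRing A] [CommRing B] [Algebra A B] [IsLocalRing A]
    [IsLocalRing B] (hloc : ∀ a ∈ maximalIdeal A, algebraMap A B a ∈ maximalIdeal B)
    (ξ : Ω[A⁄ℤ]) (h : ξ ∈ (maximalIdeal A) • (⊤ : Submodule A Ω[A⁄ℤ])) :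
    KaehlerDifferential.map ℤ ℤ A B ξ ∈ (maximalIdeal B) • (⊤ : Submodule B Ω[B⁄ℤ]) := by
  induction h using Submodule.smul_induction_on' with
  | smul a ha η _ =>
    rw [map_smul, ← algebraMap_smul B a]
    exact Submodule.smul_mem_smul (hloc a ha) trivial
  | add x hx y hy hx' hy' =>
    rw [map_add]
    exact add_mem hx' hy'

theorem D_mem_of_rel_gen {A B : Type u} [CommRing A] [CommRing B] [Algebra A B] [IsLocalRing A]
    [IsLocalRing B] (p : ℕ) [CharP B p]
    (hloc : ∀ a ∈ maximalIdeal A, algebraMap A B a ∈ maximalIdeal B)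
    {κ : Type u} (s : Finset κ) (i₁ : κ) (hi₁ : i₁ ∈ s) (aa : κ → A) (y : κ → A)
    (hrel : ∑ i ∈ s, aa i • KaehlerDifferential.D ℤ A (y i) ∈
      (maximalIdeal A) • (⊤ : Submodule A Ω[A⁄ℤ]))
    (hroots : ∀ i ∈ s, i ≠ i₁ → ∃ t : B, t ^ p = algebraMap A B (y i))
    (hunit : IsUnit (aa i₁)) :
    KaehlerDifferential.D ℤ B (algebraMap A B (y i₁)) ∈
      maximalIdeal B • (⊤ : Submodule B Ω[B⁄ℤ]) := by
  classical
  have h1 := map_mem_smul_top (B := B) hloc _ hrel
  rw [map_sum] at h1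
  have hzero : ∀ i ∈ s, i ≠ i₁ → KaehlerDifferential.D ℤ B (algebraMap A B (y i)) = 0 := by
    intro i hi hne'
    obtain ⟨t, ht⟩ := hroots i hi hne'
    rw [← ht, Derivation.leibniz_pow, ← Nat.cast_smul_eq_nsmul B, CharP.cast_eq_zero, zero_smul]
  rw [Finset.sum_eq_single_of_mem i₁ hi₁ (fun i hi hne' => by
    rw [map_smul, KaehlerDifferential.map_D, hzero i hi hne', smul_zero])] at h1
  rw [map_smul, KaehlerDifferential.map_D] at h1
  obtain ⟨v, hv⟩ := hunit
  have h3 : KaehlerDifferential.D ℤ B (algebraMap A B (y i₁)) =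
      algebraMap A B (↑v⁻¹ : A) • (aa i₁ • KaehlerDifferential.D ℤ B (algebraMap A B (y i₁))) := by
    rw [algebraMap_smul, ← hv, smul_smul, Units.inv_mul, one_smul]
  rw [h3]
  exact Submodule.smul_mem _ _ h1

section main

variable (k A : Type u) [Field k] (p : ℕ) [hp : Fact p.Prime] [CharP k p]
    [CommRing A] [IsLocalRing A] [IsNoetherianRing A] [Algebra k A]

theorem isRegularLocalRing_of_pRadical
    (H : ∀ (k' : Type u) [Field k'] [Algebra k k'], Module.Finite k k' →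
        (∀ x : k', x ^ p ∈ (algebraMap k k').range) → IsRegularRing (k' ⊗[k] A)) :
    IsRegularLocalRing A := by
  have h1 := H k inferInstance (fun x => ⟨x ^ p, rfl⟩)
  have h2 : IsRegularRing A := IsRegularRing.of_ringEquiv (Algebra.TensorProduct.lid k A).toRingEquiv
  exact IsRegularLocalRing.of_isRegularRing_of_isLocalRing A

omit [IsNoetherianRing A] in
theorem core_false (k₁ : Type u) [Field k₁] [Algebra k k₁] [Module.Finite k k₁]
    [IsNoetherianRing A]
    (hk1p : ∀ u : k₁, u ^ p ∈ (algebraMap k k₁).range) (x₁ : k)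
    (hk1x : ∀ u : k₁, u ^ p ≠ algebraMap k k₁ x₁) [IsLocalRing (A ⊗[k] k₁)]
    (hx : KaehlerDifferential.D ℤ (A ⊗[k] k₁)
        (algebraMap A (A ⊗[k] k₁) (algebraMap k A x₁)) ∈
      maximalIdeal (A ⊗[k] k₁) • (⊤ : Submodule (A ⊗[k] k₁) Ω[(A ⊗[k] k₁)⁄ℤ]))
    (H : ∀ (k' : Type u) [Field k'] [Algebra k k'], Module.Finite k k' →
        (∀ x : k', x ^ p ∈ (algebraMap k k').range) → IsRegularRing (k' ⊗[k] A)) : False := by
  classical
  let B := A ⊗[k] k₁
  let xB : B := algebraMap A B (algebraMap k A x₁)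
  have hNB : IsNoetherianRing B := IsNoetherianRing.of_finite A B
  have hcB : CharP B p := charP_tensor k A k₁ p
  have := perfectField_P0 k
  let _ : Algebra (P0 k) B := ((algebraMap k B).comp (P0.incl k)).toAlgebra
  obtain ⟨z, hz⟩ := exists_sub_pow_mem_sq (P0 k) p xB hx
  let f₁ : k₁[X] := X ^ p - C (algebraMap k k₁ x₁)
  have hirr : Irreducible f₁ := X_pow_sub_C_irreducible_of_prime hp.out hk1x
  have : Fact (Irreducible f₁) := ⟨hirr⟩
  let k' := AdjoinRoot f₁
  have hfin' : Module.Finite k k' := adjoinRoot_finite k k₁ p _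
  have hk'p : ∀ v : k', v ^ p ∈ (algebraMap k k').range :=
    adjoinRoot_pow_mem_range k k₁ p hk1p x₁ f₁ rfl
  have hreg := H k' hfin' hk'p
  let q : B[X] := X ^ p - C xB
  have hq : f₁.map (Algebra.TensorProduct.includeRight : k₁ →ₐ[k] B).toRingHom = q := by
    have h1 : (Algebra.TensorProduct.includeRight : k₁ →ₐ[k] B) (algebraMap k k₁ x₁) = xB := by
      rw [AlgHom.commutes]
      exact IsScalarTower.algebraMap_apply k A B x₁
    simp only [f₁, q, Polynomial.map_sub, Polynomial.map_pow, Polynomial.map_X, Polynomial.map_C]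
    rw [← h1]
    rfl
  let e1 : A ⊗[k] k' ≃ₐ[A] AdjoinRoot q := AdjoinRoot.tensorAlgEquiv f₁ q hq
  let e : k' ⊗[k] A ≃+* AdjoinRoot q :=
    (Algebra.TensorProduct.comm k k' A).toRingEquiv.trans e1.toRingEquiv
  have hreg' : IsRegularRing (AdjoinRoot q) := IsRegularRing.of_ringEquiv e
  have hloc' : IsLocalRing (A ⊗[k] k') := isLocalRing_tensor k A k' p hk'p
  have hloc'' : IsLocalRing (AdjoinRoot q) := e1.toRingEquiv.isLocalRing
  have hrl : IsRegularLocalRing (AdjoinRoot q) :=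
    IsRegularLocalRing.of_isRegularRing_of_isLocalRing _
  exact not_isRegularLocalRing_adjoinRoot p xB z hz hrl

omit [IsNoetherianRing A] in
theorem D_mem_of_rel (k₁ : Type u) [Field k₁] [Algebra k k₁] [Module.Finite k k₁]
    [IsLocalRing (A ⊗[k] k₁)] {κ : Type u} (s : Finset κ) (i₁ : κ) (hi₁ : i₁ ∈ s)
    (aa : κ → A) (a : κ → k)
    (hrel : ∑ i ∈ s, aa i • KaehlerDifferential.D ℤ A (algebraMap k A (a i)) ∈
      (maximalIdeal A) • (⊤ : Submodule A Ω[A⁄ℤ]))
    (hroots : ∀ i ∈ s, i ≠ i₁ → ∃ t : k₁, t ^ p = algebraMap k k₁ (a i))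
    (hunit : IsUnit (aa i₁)) :
    KaehlerDifferential.D ℤ (A ⊗[k] k₁) (algebraMap A (A ⊗[k] k₁) (algebraMap k A (a i₁))) ∈
      maximalIdeal (A ⊗[k] k₁) • (⊤ : Submodule (A ⊗[k] k₁) Ω[(A ⊗[k] k₁)⁄ℤ]) := by
  classical
  have hcB : CharP (A ⊗[k] k₁) p := charP_tensor k A k₁ p
  have hloc : ∀ y ∈ maximalIdeal A, algebraMap A (A ⊗[k] k₁) y ∈ maximalIdeal (A ⊗[k] k₁) := by
    intro y hy
    have h1 := comap_includeLeft_eq k A k₁ (maximalIdeal (A ⊗[k] k₁))
    rw [← h1] at hy
    exact hy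
  refine D_mem_of_rel_gen (B := A ⊗[k] k₁) p hloc s i₁ hi₁ aa (fun i => algebraMap k A (a i))
    hrel ?_ hunit
  intro i hi hne'
  obtain ⟨t, ht⟩ := hroots i hi hne'
  refine ⟨(1 : A) ⊗ₜ[k] t, ?_⟩
  rw [Algebra.TensorProduct.tmul_pow, one_pow, ht, ← IsScalarTower.algebraMap_apply]
  have : ((1 : A) ⊗ₜ[k] (algebraMap k k₁ (a i)) : A ⊗[k] k₁) =
      (Algebra.TensorProduct.includeRight : k₁ →ₐ[k] A ⊗[k] k₁) (algebraMap k k₁ (a i)) := rfl
  rw [this, AlgHom.commutes]

theorem injective_of_pRadical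
    (H : ∀ (k' : Type u) [Field k'] [Algebra k k'], Module.Finite k k' →
        (∀ x : k', x ^ p ∈ (algebraMap k k').range) → IsRegularRing (k' ⊗[k] A)) :
    Function.Injective
      ((KaehlerDifferential.mapBaseChange ℤ k A).lTensor (ResidueField A)) := by
  classical
  let K := ResidueField A
  let X := A ⊗[k] Ω[k⁄ℤ]
  let jK : K ⊗[A] X →ₗ[K] K ⊗[A] Ω[A⁄ℤ] :=
    (KaehlerDifferential.mapBaseChange ℤ k A).baseChange K
  show Function.Injective jK
  rw [injective_iff_map_eq_zero]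
  intro ω hω
  by_contra hne
  obtain ⟨κ, a, -, haspan, hali⟩ :=
    exists_linearIndependent' k (KaehlerDifferential.D ℤ k : k → Ω[k⁄ℤ])
  let bas : Module.Basis κ k Ω[k⁄ℤ] := Module.Basis.mk hali (by
    rw [haspan, KaehlerDifferential.span_range_derivation])
  have hbas : ∀ i, bas i = KaehlerDifferential.D ℤ k (a i) := fun i => by
    simp [bas]
  let bas₂ : Module.Basis κ K (K ⊗[A] X) := (bas.baseChange A).baseChange K
  have hbas₂ : ∀ i, bas₂ i = e k A (a i) := by
    intro i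
    simp only [bas₂, Module.Basis.baseChange_apply, hbas, e]
  let c := bas₂.repr ω
  have hsum : ω = ∑ i ∈ c.support, c i • e k A (a i) := by
    conv_lhs => rw [← bas₂.linearCombination_repr ω]
    rw [Finsupp.linearCombination_apply, Finsupp.sum]
    exact Finset.sum_congr rfl fun i _ => by rw [hbas₂]
  obtain ⟨i₁, hi₁⟩ : ∃ i, i ∈ c.support := by
    by_contra h
    push Not at h
    have : c.support = ∅ := Finset.eq_empty_of_forall_notMem h
    rw [this, Finset.sum_empty] at hsum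
    exact hne hsum
  choose aa haa using fun i => residue_surjective (c i)
  have hrel : ∑ i ∈ c.support, aa i • KaehlerDifferential.D ℤ A (algebraMap k A (a i)) ∈
      (maximalIdeal A) • (⊤ : Submodule A Ω[A⁄ℤ]) := by
    apply sum_smul_mem_of_tmul_eq_zero
    have h1 : jK ω = ∑ i ∈ c.support,
        c i • ((1 : K) ⊗ₜ[A] KaehlerDifferential.D ℤ A (algebraMap k A (a i))) := by
      rw [hsum, map_sum]
      exact Finset.sum_congr rfl fun i _ => by rw [map_smul, baseChange_e]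
    rw [hω] at h1
    refine Eq.trans ?_ h1.symm
    refine Finset.sum_congr rfl fun i _ => ?_
    rw [TensorProduct.smul_tmul', smul_eq_mul, mul_one, ← haa i]
    rfl
  let S : Finset k := (c.support.erase i₁).image a
  have hx₁ : KaehlerDifferential.D ℤ k (a i₁) ∉
      Submodule.span k ((KaehlerDifferential.D ℤ k) '' (S : Set k)) := by
    have h1 := hali.notMem_span_image (s := {i | i ≠ i₁}) (x := i₁) (by simp)
    intro hmem
    apply h1
    refine Submodule.span_mono ?_ hmem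
    rintro _ ⟨y, hy, rfl⟩
    obtain ⟨i, hi, rfl⟩ := Finset.mem_image.1 (Finset.mem_coe.1 hy)
    exact ⟨i, (Finset.mem_erase.1 hi).1, rfl⟩
  obtain ⟨k₁, _, _, hfin, hk1p, hk1roots, hk1x⟩ := exists_field_roots k p S (a i₁) hx₁
  have hlocB : IsLocalRing (A ⊗[k] k₁) := isLocalRing_tensor k A k₁ p hk1p
  refine core_false k A p k₁ hk1p (a i₁) hk1x ?_ H
  refine D_mem_of_rel k A p k₁ c.support i₁ hi₁ aa a hrel ?_ ?_
  · intro i hi hne'
    exact hk1roots (a i) (Finset.mem_image.2 ⟨i, Finset.mem_erase.2 ⟨hne', hi⟩, rfl⟩)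
  · rw [← IsLocalRing.notMem_maximalIdeal, ← residue_eq_zero_iff, haa]
    exact Finsupp.mem_support_iff.1 hi₁

/-- **The `p`-radical test.** -/
theorem isAdicFormallySmooth_of_pRadical
    (H : ∀ (k' : Type u) [Field k'] [Algebra k k'], Module.Finite k k' →
        (∀ x : k', x ^ p ∈ (algebraMap k k').range) → IsRegularRing (k' ⊗[k] A)) :
    CAlgX.IsAdicFormallySmooth k A (maximalIdeal A) :=
  isAdicFormallySmooth_of_regular_of_injective k A (isRegularLocalRing_of_pRadical k A p H)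
    (injective_of_pRadical k A p H)

end main

end Groth.Agent.Lib.helper19.FSDiff
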