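import Mathlib

/-!
# Linearity of the homology functors (helper19)

`HomologicalComplex.homologyFunctor` and `DerivedCategory.homologyFunctor` are `R`-linear when the
abelian category is `R`-linear (Mathlib has this only for short complexes).
-/

set_option autoImplicit false
universe w v u t
open CategoryTheory

namespace Groth.Agent.Lib.helper19.DHomLinear

variable (R : Type t) [Ring R] {C : Type u} [Category.{v} C] [Abelian C] [Linear R C]

theorem hc_smul {ι : Type*} (c : ComplexShape ι) (i : ι)
    {K L : HomologicalComplex C c} (φ : K ⟶ L) (r : R) :
    HomologicalComplex.homologyMap (r • φ) i = r • HomologicalComplex.homologyMap φ i := by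
  have h : (HomologicalComplex.shortComplexFunctor C c i).map (r • φ)
      = r • (HomologicalComplex.shortComplexFunctor C c i).map φ := by
    ext <;> rfl
  have h2 := ShortComplex.homologyMap_smul
    ((HomologicalComplex.shortComplexFunctor C c i).map φ) r
  rw [← h] at h2
  exact h2

instance hcLinear {ι : Type*} (c : ComplexShape ι) (i : ι) :
    Functor.Linear R (HomologicalComplex.homologyFunctor C c i) where
  map_smul φ r := hc_smul R c i φ r

variable [HasDerivedCategory.{w} C]

noncomputable instance liftInst (i : ℤ) :
    Localization.Lifting (DerivedCategory.Q : _ ⥤ DerivedCategory C)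
      (HomologicalComplex.quasiIso C (ComplexShape.up ℤ))
      (HomologicalComplex.homologyFunctor C (ComplexShape.up ℤ) i)
      (DerivedCategory.homologyFunctor C i) :=
  ⟨DerivedCategory.homologyFunctorFactors _ i⟩

instance dLinear (i : ℤ) :
    Functor.Linear R (DerivedCategory.homologyFunctor C i) :=
  (Localization.functor_linear_iff (DerivedCategory.Q : _ ⥤ DerivedCategory C)
      (HomologicalComplex.quasiIso C (ComplexShape.up ℤ)) R
      (HomologicalComplex.homologyFunctor C (ComplexShape.up ℤ) i)
      (DerivedCategory.homologyFunctor C i)).mp inferInstance

end Groth.Agent.Lib.helper19.DHomLinear
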