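import Mathlib
import Groth.Agent.S5162
set_option autoImplicit false

/-! Lengths of `Ext^d(F, G)` for finite length `F` over a local ring, by dévissage:
if `Ext^{d-1}(F', G) = 0` for finite length `F'`, `Ext^{d+1}(k, G) = 0` and `Ext^d(k, G)` has
length one, then `length Ext^d(F, G) = length F`. -/

universe u

namespace Groth.Agent.Lib.helper19.ExtLen
open CategoryTheory IsLocalRing Groth.Agent.S5162

section General
variable {A : Type u} [CommRing A] {G : Type u} [AddCommGroup G] [Module A G]

/-- `Ext^i(-, G)` of isomorphic modules -/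
noncomputable def extEquivOfEquiv {N N' : Type u} [AddCommGroup N] [Module A N]
    [AddCommGroup N'] [Module A N'] (e : N ≃ₗ[A] N') (i : ℕ) :
    Abelian.Ext.{u} (ModuleCat.of A N') (ModuleCat.of A G) i ≃ₗ[A]
      Abelian.Ext.{u} (ModuleCat.of A N) (ModuleCat.of A G) i :=
  LinearEquiv.ofLinearMap
    (Abelian.Ext.precompOfLinear (Abelian.Ext.mk₀ (ModuleCat.ofHom e.toLinearMap)) A
      (ModuleCat.of A G) (zero_add i))
    (Abelian.Ext.precompOfLinear (Abelian.Ext.mk₀ (ModuleCat.ofHom e.symm.toLinearMap)) A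
      (ModuleCat.of A G) (zero_add i))
    (by
      apply LinearMap.ext
      intro z
      show (Abelian.Ext.mk₀ (ModuleCat.ofHom e.toLinearMap)).comp
        ((Abelian.Ext.mk₀ (ModuleCat.ofHom e.symm.toLinearMap)).comp z (zero_add i)) (zero_add i) = z
      rw [← Abelian.Ext.comp_assoc _ _ z (zero_add 0) (zero_add i) (by lia),
        Abelian.Ext.mk₀_comp_mk₀, ← ModuleCat.ofHom_comp]
      have : e.symm.toLinearMap ∘ₗ e.toLinearMap = LinearMap.id := by
        ext x; simp
      rw [this, ModuleCat.ofHom_id, Abelian.Ext.mk₀_id_comp])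
    (by
      apply LinearMap.ext
      intro z
      show (Abelian.Ext.mk₀ (ModuleCat.ofHom e.symm.toLinearMap)).comp
        ((Abelian.Ext.mk₀ (ModuleCat.ofHom e.toLinearMap)).comp z (zero_add i)) (zero_add i) = z
      rw [← Abelian.Ext.comp_assoc _ _ z (zero_add 0) (zero_add i) (by lia),
        Abelian.Ext.mk₀_comp_mk₀, ← ModuleCat.ofHom_comp]
      have : e.toLinearMap ∘ₗ e.symm.toLinearMap = LinearMap.id := by
        ext x; simp
      rw [this, ModuleCat.ofHom_id, Abelian.Ext.mk₀_id_comp])

section SES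
variable {N₁ N₂ N₃ : Type u} [AddCommGroup N₁] [Module A N₁] [AddCommGroup N₂] [Module A N₂]
  [AddCommGroup N₃] [Module A N₃] (f : N₁ →ₗ[A] N₂) (g : N₂ →ₗ[A] N₃)
  (hf : Function.Injective f) (hg : Function.Surjective g) (hfg : Function.Exact f g)

include hf hg hfg in
/-- additivity of the length of `Ext^d(-, G)` on a short exact sequence with vanishing neighbours -/
theorem length_ext_ses (d : ℕ) (h1 : d = 0 ∨ ∃ j, d = j + 1 ∧ E A G N₁ j)
    (h3 : E A G N₃ (d + 1)) :
    Module.length A (Abelian.Ext.{u} (ModuleCat.of A N₂) (ModuleCat.of A G) d) =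
      Module.length A (Abelian.Ext.{u} (ModuleCat.of A N₃) (ModuleCat.of A G) d) +
      Module.length A (Abelian.Ext.{u} (ModuleCat.of A N₁) (ModuleCat.of A G) d) := by
  refine Module.length_eq_add_of_exact
    (Abelian.Ext.precompOfLinear (Abelian.Ext.mk₀ (ModuleCat.ofHom g)) A (ModuleCat.of A G)
      (zero_add d))
    (Abelian.Ext.precompOfLinear (Abelian.Ext.mk₀ (ModuleCat.ofHom f)) A (ModuleCat.of A G)
      (zero_add d)) ?_ ?_ ?_
  · rw [injective_iff_map_eq_zero]
    intro z hz
    exact L2' f g hf hg hfg d h1 z hz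
  · intro x₁
    obtain ⟨x₂, hx₂⟩ := Abelian.Ext.contravariant_sequence_exact₁
      (sesOf_shortExact f g hf hg hfg) (ModuleCat.of A G) x₁ (add_comm 1 d) (h3.elim _ _)
    exact ⟨x₂, hx₂⟩
  · intro y
    constructor
    · intro hy
      obtain ⟨x₃, hx₃⟩ := Abelian.Ext.contravariant_sequence_exact₂
        (sesOf_shortExact f g hf hg hfg) (ModuleCat.of A G) y hy
      exact ⟨x₃, hx₃⟩
    · rintro ⟨z, rfl⟩
      show (Abelian.Ext.mk₀ (ModuleCat.ofHom f)).comp
        ((Abelian.Ext.mk₀ (ModuleCat.ofHom g)).comp z (zero_add d)) (zero_add d) = 0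
      rw [← Abelian.Ext.comp_assoc _ _ z (zero_add 0) (zero_add d) (by lia),
        Abelian.Ext.mk₀_comp_mk₀]
      have : ModuleCat.ofHom f ≫ ModuleCat.ofHom g = 0 := (sesOf f g hfg).zero
      rw [this, Abelian.Ext.mk₀_zero, Abelian.Ext.zero_comp]

end SES

end General

section Local
variable {A : Type u} [CommRing A] [IsLocalRing A]

/-- a simple module over a local ring is killed by the maximal ideal -/
theorem smul_eq_zero_of_simple (S : Type u) [AddCommGroup S] [Module A S] [IsSimpleModule A S]
    (a : A) (ha : a ∈ maximalIdeal A) (x : S) : a • x = 0 := by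
  obtain ⟨I, hI, ⟨e⟩⟩ := isSimpleModule_iff_quot_maximal.mp (inferInstance : IsSimpleModule A S)
  have hI' : I = maximalIdeal A := IsLocalRing.eq_maximalIdeal hI
  subst hI'
  apply e.injective
  rw [map_smul, map_zero]
  obtain ⟨y, hy⟩ := Submodule.Quotient.mk_surjective _ (e x)
  rw [← hy, ← Submodule.Quotient.mk_smul, Submodule.Quotient.mk_eq_zero, smul_eq_mul]
  exact Ideal.mul_mem_right _ _ ha

/-- finite length modules over a local ring are killed by a power of the maximal ideal -/
theorem exists_kill_of_isFiniteLength (F : Type u) [AddCommGroup F] [Module A F]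
    (hF : IsFiniteLength A F) : ∃ k : ℕ, ∀ a ∈ maximalIdeal A ^ k, ∀ x : F, a • x = 0 := by
  induction hF with
  | of_subsingleton => exact ⟨0, fun a _ x => Subsingleton.elim _ _⟩
  | @of_simple_quotient M _ _ N _ hN ih =>
    obtain ⟨k, hk⟩ := ih
    refine ⟨k + 1, fun a ha x => ?_⟩
    rw [pow_succ] at ha
    refine Submodule.mul_induction_on ha ?_ ?_
    · intro b hb c hc
      have hcx : c • x ∈ N := by
        rw [← Submodule.Quotient.mk_eq_zero, Submodule.Quotient.mk_smul]
        exact smul_eq_zero_of_simple (M ⧸ N) c hc _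
      have := hk b hb ⟨c • x, hcx⟩
      rw [mul_smul]
      exact congrArg Subtype.val this
    · intro b c hb hc
      rw [add_smul, hb, hc, add_zero]

variable [IsNoetherianRing A] {G : Type u} [AddCommGroup G] [Module A G]

/-- dévissage: `length Ext^d(F, G) = length F` for `F` of finite length -/
theorem length_ext_eq (d : ℕ)
    (hlow : ∀ (F : Type u) [AddCommGroup F] [Module A F], Module.Finite A F →
      Tors (maximalIdeal A) F → ∀ j : ℕ, j + 1 = d → E A G F j)
    (hk1 : Module.length A
      (Abelian.Ext.{u} (ModuleCat.of A (A ⧸ maximalIdeal A)) (ModuleCat.of A G) d) = 1)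
    (hk2 : E A G (A ⧸ maximalIdeal A) (d + 1))
    (F : Type u) [AddCommGroup F] [Module A F] (hF : IsFiniteLength A F) :
    Module.length A (Abelian.Ext.{u} (ModuleCat.of A F) (ModuleCat.of A G) d) =
      Module.length A F := by
  induction hF with
  | @of_subsingleton M _ _ _ =>
    haveI : Subsingleton (Abelian.Ext.{u} (ModuleCat.of A M) (ModuleCat.of A G) d) :=
      E_of_subsingleton M d
    rw [Module.length_eq_zero, Module.length_eq_zero]
  | @of_simple_quotient M _ _ N _ hN ih =>
    obtain ⟨I, hI, ⟨e⟩⟩ :=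
      isSimpleModule_iff_quot_maximal.mp (inferInstance : IsSimpleModule A (M ⧸ N))
    have hI' : I = maximalIdeal A := IsLocalRing.eq_maximalIdeal hI
    subst hI'
    have hNfin : Module.Finite A N := by
      have := (isFiniteLength_iff_isNoetherian_isArtinian.mp hN).1
      infer_instance
    have hNtors : Tors (maximalIdeal A) N :=
      tors_of_kill _ _ (exists_kill_of_isFiniteLength N hN)
    have h1 : d = 0 ∨ ∃ j, d = j + 1 ∧ E A G N j := by
      cases d with
      | zero => exact Or.inl rfl
      | succ j => exact Or.inr ⟨j, rfl, hlow N hNfin hNtors j rfl⟩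
    have h3 : E A G (M ⧸ N) (d + 1) := E_of_equiv e (d + 1) hk2
    rw [length_ext_ses N.subtype N.mkQ N.injective_subtype (Submodule.mkQ_surjective N)
      (LinearMap.exact_subtype_mkQ N) d h1 h3, ih, (extEquivOfEquiv e d).symm.length_eq, hk1]
    rw [Module.length_eq_add_of_exact N.subtype N.mkQ N.injective_subtype
      (Submodule.mkQ_surjective N) (LinearMap.exact_subtype_mkQ N), Module.length_eq_one A (M ⧸ N),
      add_comm]

end Local

end Groth.Agent.Lib.helper19.ExtLen
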