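import Mathlib
universe u v

/-! Melkersson's lemma: an `a`-torsion module `M` with `(0 :_M a)` Artinian is Artinian. -/

namespace Groth.Agent.Lib.helper19.Melkersson

section Principal
variable {R : Type u} [CommRing R] {M : Type v} [AddCommGroup M] [Module R M]

/-- minimal elements among submodules below an Artinian submodule -/
lemma exists_minimal_of_isArtinian (K : Submodule R M) [IsArtinian R K]
    (S : Set (Submodule R M)) (hS : S.Nonempty) (hK : ∀ V ∈ S, V ≤ K) :
    ∃ V ∈ S, ∀ W ∈ S, W ≤ V → W = V := by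
  obtain ⟨V', ⟨V, hV, rfl⟩, hmin⟩ := IsArtinian.set_has_minimal
    ((Submodule.comap K.subtype) '' S) (hS.image _)
  refine ⟨V, hV, fun W hW hWV => ?_⟩
  have h1 : Submodule.comap K.subtype W = Submodule.comap K.subtype V := by
    by_contra hne
    exact hmin _ ⟨W, hW, rfl⟩ (lt_of_le_of_ne (Submodule.comap_mono hWV) hne)
  have h2 := congrArg (Submodule.map K.subtype) h1
  rw [Submodule.map_comap_subtype, Submodule.map_comap_subtype, inf_eq_right.2 (hK W hW),
    inf_eq_right.2 (hK V hV)] at h2
  exact h2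

/-- the auxiliary submodules `r^t (0 :_{L} r^{t+1})` -/
def U (r : R) (L : Submodule R M) (t : ℕ) : Submodule R M :=
  (L ⊓ Submodule.torsionBy R M (r ^ (t + 1))).map (LinearMap.lsmul R M (r ^ t))

lemma mem_U (r : R) (L : Submodule R M) (t : ℕ) (y : M) :
    y ∈ U r L t ↔ ∃ x ∈ L, r ^ (t + 1) • x = 0 ∧ r ^ t • x = y := by
  unfold U
  rw [Submodule.mem_map]
  constructor
  · rintro ⟨x, hx, rfl⟩
    exact ⟨x, hx.1, (Submodule.mem_torsionBy_iff _ _).1 hx.2, rfl⟩
  · rintro ⟨x, hx, h1, rfl⟩
    exact ⟨x, ⟨hx, (Submodule.mem_torsionBy_iff _ _).2 h1⟩, rfl⟩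

lemma U_le_torsionBy (r : R) (L : Submodule R M) (t : ℕ) : U r L t ≤ Submodule.torsionBy R M r := by
  intro y hy
  obtain ⟨x, _, h1, rfl⟩ := (mem_U r L t y).1 hy
  rw [Submodule.mem_torsionBy_iff, smul_smul, ← pow_succ', h1]

lemma U_mono (r : R) {L L' : Submodule R M} (h : L ≤ L') (t : ℕ) : U r L t ≤ U r L' t := by
  intro y hy
  obtain ⟨x, hx, h1, rfl⟩ := (mem_U r L t y).1 hy
  exact (mem_U r L' t _).2 ⟨x, h hx, h1, rfl⟩

lemma U_succ_le (r : R) (L : Submodule R M) (t : ℕ) : U r L (t + 1) ≤ U r L t := by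
  intro y hy
  obtain ⟨x, hx, h1, rfl⟩ := (mem_U r L (t + 1) y).1 hy
  refine (mem_U r L t _).2 ⟨r • x, L.smul_mem r hx, ?_, ?_⟩
  · rw [smul_smul, ← pow_succ, h1]
  · rw [smul_smul, ← pow_succ]

lemma U_antitone (r : R) (L : Submodule R M) {s t : ℕ} (h : s ≤ t) : U r L t ≤ U r L s := by
  induction t, h using Nat.le_induction with
  | base => exact le_rfl
  | succ t _ ih => exact (U_succ_le r L t).trans ih

/-- **Melkersson's lemma**, principal case -/
theorem isArtinian_of_torsionBy (r : R) (htors : ∀ x : M, ∃ n : ℕ, r ^ n • x = 0)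
    [hK : IsArtinian R (Submodule.torsionBy R M r)] : IsArtinian R M := by
  rw [← monotone_stabilizes_iff_artinian]
  intro L
  let Ls : ℕ → Submodule R M := fun n => OrderDual.ofDual (L n)
  have hanti : ∀ {n n' : ℕ}, n ≤ n' → Ls n' ≤ Ls n := fun h => L.monotone h
  -- the doubly indexed family has a minimal element
  obtain ⟨V, ⟨⟨k0, s⟩, rfl⟩, hmin⟩ := exists_minimal_of_isArtinian (Submodule.torsionBy R M r)
    (Set.range (fun p : ℕ × ℕ => U r (Ls p.1) p.2)) ⟨_, ⟨(0, 0), rfl⟩⟩
    (by rintro _ ⟨p, rfl⟩; exact U_le_torsionBy r _ _)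
  have hbig : ∀ n t, k0 ≤ n → s ≤ t → U r (Ls n) t = U r (Ls k0) s := by
    intro n t hn ht
    exact hmin _ ⟨(n, t), rfl⟩ ((U_antitone r (Ls n) ht).trans (U_mono r (hanti hn) s))
  -- for each fixed `t` the chain stabilizes
  have hfix : ∀ t : ℕ, ∃ k : ℕ, ∀ n, k ≤ n → U r (Ls n) t = U r (Ls k) t := by
    intro t
    obtain ⟨V, ⟨k, rfl⟩, hmin'⟩ := exists_minimal_of_isArtinian (Submodule.torsionBy R M r)
      (Set.range (fun n : ℕ => U r (Ls n) t)) ⟨_, ⟨0, rfl⟩⟩
      (by rintro _ ⟨p, rfl⟩; exact U_le_torsionBy r _ _)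
    exact ⟨k, fun n hn => hmin' _ ⟨n, rfl⟩ (U_mono r (hanti hn) t)⟩
  choose kk hkk using hfix
  let k : ℕ := max k0 ((Finset.range s).sup kk)
  have hk0 : k0 ≤ k := le_max_left _ _
  have hkt : ∀ t, t < s → kk t ≤ k := fun t ht =>
    (Finset.le_sup (Finset.mem_range.2 ht)).trans (le_max_right _ _)
  have hU : ∀ n t, k ≤ n → U r (Ls n) t = U r (Ls k) t := by
    intro n t hn
    rcases Nat.lt_or_ge t s with ht | ht
    · rw [hkk t n ((hkt t ht).trans hn), hkk t k (hkt t ht)]
    · rw [hbig n t (hk0.trans hn) ht, hbig k t hk0 ht]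
  refine ⟨k, fun n hn => ?_⟩
  have hstep : ∀ t : ℕ, ∀ y ∈ Ls k, r ^ t • y = 0 → y ∈ Ls n := by
    intro t
    induction t with
    | zero =>
      intro y _ hy
      rw [pow_zero, one_smul] at hy
      rw [hy]
      exact Submodule.zero_mem _
    | succ t ih =>
      intro y hy hry
      have h1 : r ^ t • y ∈ U r (Ls k) t := (mem_U r _ t _).2 ⟨y, hy, hry, rfl⟩
      rw [← hU n t hn] at h1
      obtain ⟨y', hy', _, hyy'⟩ := (mem_U r _ t _).1 h1
      have h2 : y - y' ∈ Ls n := by
        apply ih
        · exact Submodule.sub_mem _ hy (hanti hn hy')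
        · rw [smul_sub, hyy', sub_self]
      have h3 : y = (y - y') + y' := by abel
      rw [h3]
      exact Submodule.add_mem _ h2 hy'
  have hle : Ls k ≤ Ls n := by
    intro y hy
    obtain ⟨t, ht⟩ := htors y
    exact hstep t y hy ht
  exact le_antisymm (hanti hn) hle

end Principal

section Finset
variable {R : Type u} [CommRing R]

/-- **Melkersson's lemma** for finitely many elements -/
theorem isArtinian_of_torsionBySet (s : Finset R) :
    ∀ (M : Type v) [AddCommGroup M] [Module R M],
      (∀ x : M, ∀ a ∈ s, ∃ n : ℕ, a ^ n • x = 0) →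
      IsArtinian R (Submodule.torsionBySet R M (s : Set R)) → IsArtinian R M := by
  classical
  induction s using Finset.induction_on with
  | empty =>
    intro M _ _ _ h
    have htop : Submodule.torsionBySet R M ((∅ : Finset R) : Set R) = ⊤ := by
      rw [eq_top_iff]
      intro x _
      rw [Submodule.mem_torsionBySet_iff]
      rintro ⟨a, ha⟩
      simp at ha
    rw [htop] at h
    exact isArtinian_of_linearEquiv (Submodule.topEquiv (R := R) (M := M))
  | insert r t hr ih =>
    intro M _ _ htors h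
    apply ih M (fun x a ha => htors x a (Finset.mem_insert_of_mem ha))
    -- `N = (0 :_M t)` is `r`-torsion with `(0 :_N r) = (0 :_M insert r t)`
    have htorsN : ∀ x : Submodule.torsionBySet R M (t : Set R), ∃ n : ℕ, r ^ n • x = 0 := by
      intro x
      obtain ⟨n, hn⟩ := htors x.1 r (Finset.mem_insert_self r t)
      exact ⟨n, Subtype.ext hn⟩
    have : IsArtinian R (Submodule.torsionBy R (Submodule.torsionBySet R M (t : Set R)) r) := by
      let φ : Submodule.torsionBySet R M ((insert r t : Finset R) : Set R) →ₗ[R]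
          Submodule.torsionBy R (Submodule.torsionBySet R M (t : Set R)) r :=
        { toFun := fun x => ⟨⟨x.1, by
            rw [Submodule.mem_torsionBySet_iff]
            rintro ⟨a, ha⟩
            exact (Submodule.mem_torsionBySet_iff _ _).1 x.2
              ⟨a, by rw [Finset.coe_insert]; exact Set.mem_insert_of_mem _ ha⟩⟩, by
            rw [Submodule.mem_torsionBy_iff]
            apply Subtype.ext
            exact (Submodule.mem_torsionBySet_iff _ _).1 x.2
              ⟨r, by rw [Finset.coe_insert]; exact Set.mem_insert _ _⟩⟩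
          map_add' := fun x y => rfl
          map_smul' := fun c x => rfl }
      have hφ : Function.Surjective φ := by
        rintro ⟨⟨x, hx⟩, hrx⟩
        refine ⟨⟨x, ?_⟩, rfl⟩
        rw [Submodule.mem_torsionBySet_iff]
        rintro ⟨a, ha⟩
        rw [Finset.coe_insert, Set.mem_insert_iff] at ha
        rcases ha with rfl | ha
        · exact congrArg Subtype.val ((Submodule.mem_torsionBy_iff _ _).1 hrx)
        · exact (Submodule.mem_torsionBySet_iff _ _).1 hx ⟨a, ha⟩
      exact isArtinian_of_surjective _ φ hφ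
    exact isArtinian_of_torsionBy r htorsN

/-- **Melkersson's lemma** for a finitely generated ideal -/
theorem isArtinian_of_ideal [IsNoetherianRing R] (a : Ideal R) (M : Type v) [AddCommGroup M]
    [Module R M] (htors : ∀ x : M, ∃ n : ℕ, ∀ c ∈ a ^ n, c • x = 0)
    (h : IsArtinian R (Submodule.torsionBySet R M (a : Set R))) : IsArtinian R M := by
  obtain ⟨s, hs⟩ : ∃ s : Finset R, Ideal.span (s : Set R) = a := IsNoetherian.noetherian a
  apply isArtinian_of_torsionBySet s M
  · intro x c hc
    obtain ⟨n, hn⟩ := htors x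
    refine ⟨n, hn _ (Ideal.pow_mem_pow ?_ n)⟩
    rw [← hs]
    exact Ideal.subset_span hc
  · have : Submodule.torsionBySet R M (s : Set R) = Submodule.torsionBySet R M (a : Set R) := by
      rw [← hs]
      exact Submodule.torsionBySet_eq_torsionBySet_span _
    rw [this]
    exact h

end Finset

end Groth.Agent.Lib.helper19.Melkersson
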