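import Mathlib
import Groth.Prelude.Def_Wider
import Groth.Agent.S0301
import Groth.Agent.S0316
set_option autoImplicit false

/-! Tools for injective hulls over Noetherian (local) rings: socle elements, torsion of hulls,
transfer along isomorphisms, finite length quotients, length comparison. -/

universe u

namespace Groth.Agent.Lib.helper19.HullTools
open IsLocalRing Groth.Agent.Lib.helper19.MatlisLen

section Socle
variable {A : Type u} [CommRing A] [IsLocalRing A] {E : Type u} [AddCommGroup E] [Module A E]

/-- the map out of the residue field attached to a socle element -/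
noncomputable def ofSocle (x : E) (hx : ∀ a ∈ maximalIdeal A, a • x = 0) :
    ResidueField A →ₗ[A] E :=
  Submodule.liftQ (maximalIdeal A) (LinearMap.toSpanSingleton A E x) (by
    intro b hb
    rw [LinearMap.mem_ker, LinearMap.toSpanSingleton_apply]
    exact hx b hb)

theorem ofSocle_one (x : E) (hx : ∀ a ∈ maximalIdeal A, a • x = 0) : ofSocle x hx 1 = x := by
  show LinearMap.toSpanSingleton A E x 1 = x
  simp

theorem smul_apply_one (g : ResidueField A →ₗ[A] E) (a : A) (ha : a ∈ maximalIdeal A) :
    a • g 1 = 0 := by
  rw [← map_smul, ← residue_eq_smul_one, (residue_eq_zero_iff a).mpr ha, map_zero]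

theorem ext_one {g h : ResidueField A →ₗ[A] E} (h1 : g 1 = h 1) : g = h := by
  refine LinearMap.ext fun z => ?_
  obtain ⟨a, rfl⟩ := residue_surjective z
  rw [residue_eq_smul_one, map_smul, map_smul, h1]

theorem isSimpleModule_residueField (A : Type u) [CommRing A] [IsLocalRing A] :
    IsSimpleModule A (ResidueField A) := by
  rw [isSimpleModule_iff_quot_maximal]
  exact ⟨maximalIdeal A, inferInstance, ⟨LinearEquiv.refl A _⟩⟩

/-- a socle element of an essential extension lies in the range -/
theorem socle_mem_range {M : Type u} [AddCommGroup M] [Module A M] (j : M →ₗ[A] E)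
    (hj : InjHull.IsEssentialInj j) (y : E) (hy : ∀ b ∈ maximalIdeal A, b • y = 0) :
    y ∈ LinearMap.range j := by
  by_cases hy0 : y = 0
  · rw [hy0]; exact zero_mem _
  have hne : Submodule.span A {y} ≠ ⊥ := by
    rw [Ne, Submodule.span_singleton_eq_bot]; exact hy0
  obtain ⟨z, hz, hz0⟩ := (Submodule.ne_bot_iff _).mp (hj.essential _ hne)
  obtain ⟨hz1, hz2⟩ := hz
  obtain ⟨c, rfl⟩ := Submodule.mem_span_singleton.mp hz1
  have hcu : IsUnit c := by
    by_contra hnu
    exact hz0 (hy c ((mem_maximalIdeal c).mpr hnu))
  obtain ⟨u, rfl⟩ := hcu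
  have : y = (↑u⁻¹ : A) • ((u : A) • y) := by rw [smul_smul, Units.inv_mul, one_smul]
  rw [this]
  exact Submodule.smul_mem _ _ hz2

/-- the socle of an essential extension agrees with the socle of the submodule -/
theorem compRight_residueField_bijective {M : Type u} [AddCommGroup M] [Module A M] (j : M →ₗ[A] E)
    (hj : InjHull.IsEssentialInj j) :
    Function.Bijective (LinearMap.compRight A j : (ResidueField A →ₗ[A] M) →ₗ[A] _) := by
  constructor
  · intro g h hgh
    refine LinearMap.ext fun z => hj.injective ?_
    exact LinearMap.congr_fun hgh z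
  · intro h
    obtain ⟨x, hx⟩ := socle_mem_range j hj (h 1) (smul_apply_one h)
    have hxs : ∀ a ∈ maximalIdeal A, a • x = 0 := by
      intro a ha
      apply hj.injective
      rw [map_smul, hx, map_zero]
      exact smul_apply_one h a ha
    refine ⟨ofSocle x hxs, ext_one ?_⟩
    show j (ofSocle x hxs 1) = h 1
    rw [ofSocle_one, hx]

end Socle

section Torsion

/-- the injective hull of a power-torsion module over a Noetherian ring is power-torsion -/
theorem isPowerTorsion_of_hull (R : Type u) [CommRing R] [IsNoetherianRing R] (𝔞 : Ideal R)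
    (M E : Type u) [AddCommGroup M] [Module R M] [AddCommGroup E] [Module R E]
    (hM : LocCoh.IsPowerTorsion 𝔞 M)
    (f : M →ₗ[R] E) (hf : InjHull.IsInjectiveHull f) : LocCoh.IsPowerTorsion 𝔞 E := by
  have hΓinj := Groth.Agent.S0301.result R E hf.isInjective 𝔞
  set Γ : Submodule R E :=
    ⨆ n : ℕ, Submodule.torsionBySet R E ((𝔞 ^ n : Ideal R) : Set R) with hΓ
  have hmono : Monotone (fun n : ℕ =>
      Submodule.torsionBySet R E ((𝔞 ^ n : Ideal R) : Set R)) :=
    fun a b hab => Submodule.torsionBySet_le_torsionBySet_pow a b hab _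
  have hfΓ : ∀ x, f x ∈ Γ := by
    intro x
    obtain ⟨n, hn⟩ := hM x
    apply Submodule.mem_iSup_of_mem n
    rw [Submodule.mem_torsionBySet_iff]
    rintro ⟨a, ha⟩
    change a • f x = 0
    rw [← map_smul, hn a ha, map_zero]
  obtain ⟨r, hr⟩ := hΓinj.out Γ.subtype Γ.injective_subtype LinearMap.id
  have hrinj : Function.Injective r := by
    rw [← LinearMap.ker_eq_bot]
    by_contra hne
    apply hf.essential (LinearMap.ker r) hne
    rw [eq_bot_iff]
    rintro y ⟨hy1, ⟨x, rfl⟩⟩
    have h1 : r (f x) = ⟨f x, hfΓ x⟩ := hr ⟨f x, hfΓ x⟩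
    rw [SetLike.mem_coe, LinearMap.mem_ker, h1] at hy1
    have h2 : f x = 0 := congrArg Subtype.val hy1
    rw [h2]
    exact Submodule.zero_mem _
  intro y
  have hy : y ∈ Γ := by
    have h1 : r ((r y : E)) = r y := hr (r y)
    have h2 : ((r y : Γ) : E) = y := hrinj h1
    rw [← h2]
    exact (r y).2
  obtain ⟨n, hn⟩ := (Submodule.mem_iSup_of_directed _ hmono.directed_le).mp hy
  refine ⟨n, fun a ha => ?_⟩
  exact (Submodule.mem_torsionBySet_iff _ _).mp hn ⟨a, ha⟩

end Torsion

section Length
variable {A : Type u} [CommRing A]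

/-- an injective map between modules of the same finite length is surjective -/
theorem surjective_of_injective_of_length_eq {M N : Type u} [AddCommGroup M] [Module A M]
    [AddCommGroup N] [Module A N] (φ : M →ₗ[A] N) (hφ : Function.Injective φ)
    (hfin : Module.length A N ≠ ⊤) (h : Module.length A M = Module.length A N) :
    Function.Surjective φ := by
  have hex := Module.length_eq_add_of_exact φ (LinearMap.range φ).mkQ hφ
    (Submodule.mkQ_surjective _) (LinearMap.exact_map_mkQ_range φ)
  rw [h, add_comm] at hex
  have h0 := enat_cancel hfin hex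
  rw [Module.length_eq_zero_iff] at h0
  rw [← LinearMap.range_eq_top]
  exact Submodule.Quotient.subsingleton_iff.mp h0

variable [IsLocalRing A] [IsNoetherianRing A]

/-- `A/𝔞` has finite length when `𝔞` contains a power of the maximal ideal -/
theorem isFiniteLength_quot_of_pow_le (𝔞 : Ideal A) (N : ℕ) (h : maximalIdeal A ^ N ≤ 𝔞) :
    IsFiniteLength A (A ⧸ 𝔞) := by
  have h1 := Groth.Agent.S0316.isFiniteLength_quot (R := A) A N
  have hle : (maximalIdeal A ^ N • (⊤ : Submodule A A)) ≤ 𝔞 := by
    rw [Submodule.smul_le]
    intro r hr n _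
    exact 𝔞.mul_mem_right n (h hr)
  exact h1.of_surjective (f := Submodule.factor hle) (Submodule.factor_surjective hle)

end Length

section Transfer
variable {R : Type u} [CommRing R]

theorem injective_of_linearEquiv {M N : Type u} [AddCommGroup M] [Module R M] [AddCommGroup N]
    [Module R N] (e : M ≃ₗ[R] N) (h : Module.Injective R M) : Module.Injective R N :=
  Module.Baer.injective (Module.Baer.of_equiv e (Module.Baer.of_injective h))

end Transfer

end Groth.Agent.Lib.helper19.HullTools
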