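import Mathlib
set_option autoImplicit false

/-! A natural transformation between right exact additive endofunctors of `ModuleCat R`
(`R` Noetherian) which is bijective on `R` is bijective on every finite module. -/

universe u

namespace Groth.Agent.Lib.helper19.RightExactIso
open CategoryTheory

variable {R : Type u} [CommRing R]

/-- right exactness, elementwise -/
def RightExact (S : ModuleCat.{u} R ⥤ ModuleCat.{u} R) : Prop :=
  ∀ (X Y Z : Type u) [AddCommGroup X] [Module R X] [AddCommGroup Y] [Module R Y]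
    [AddCommGroup Z] [Module R Z] (f : X →ₗ[R] Y) (g : Y →ₗ[R] Z), Function.Exact f g →
    Function.Surjective g →
    Function.Exact (S.map (ModuleCat.ofHom f)).hom (S.map (ModuleCat.ofHom g)).hom ∧
      Function.Surjective (S.map (ModuleCat.ofHom g)).hom

variable (S T : ModuleCat.{u} R ⥤ ModuleCat.{u} R) [S.Additive] [T.Additive] (η : S ⟶ T)

lemma nat_apply {X Y : ModuleCat.{u} R} (f : X ⟶ Y) (x : S.obj X) :
    (η.app Y).hom ((S.map f).hom x) = (T.map f).hom ((η.app X).hom x) := by
  have := η.naturality f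
  exact congrArg (fun t => t.hom x) this

lemma map_sum_apply (F : ModuleCat.{u} R ⥤ ModuleCat.{u} R) [F.Additive] {ι : Type*}
    (s : Finset ι) {X Y : ModuleCat.{u} R} (f : ι → (X ⟶ Y)) (x : F.obj X) :
    (F.map (∑ j ∈ s, f j)).hom x = ∑ j ∈ s, (F.map (f j)).hom x := by
  rw [Functor.map_sum, ModuleCat.hom_sum, LinearMap.sum_apply]

lemma id_pi (r : ℕ) : 𝟙 (ModuleCat.of R (Fin r → R)) = ∑ j : Fin r,
    (ModuleCat.ofHom (LinearMap.proj (R := R) (φ := fun _ : Fin r => R) j) ≫
      ModuleCat.ofHom (LinearMap.single R (fun _ : Fin r => R) j)) := by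
  classical
  apply ModuleCat.hom_ext
  apply LinearMap.ext
  intro v
  rw [ModuleCat.hom_sum, LinearMap.sum_apply]
  simp only [ModuleCat.hom_comp, ModuleCat.hom_ofHom, LinearMap.comp_apply, LinearMap.proj_apply,
    LinearMap.single_apply, ModuleCat.hom_id, LinearMap.id_apply]
  exact (Finset.univ_sum_single v).symm

lemma decompose (F : ModuleCat.{u} R ⥤ ModuleCat.{u} R) [F.Additive] (r : ℕ)
    (x : F.obj (ModuleCat.of R (Fin r → R))) :
    x = ∑ j : Fin r, (F.map (ModuleCat.ofHom (LinearMap.single R (fun _ : Fin r => R) j))).hom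
      ((F.map (ModuleCat.ofHom (LinearMap.proj (R := R) (φ := fun _ : Fin r => R) j))).hom x) := by
  have h1 : (F.map (𝟙 (ModuleCat.of R (Fin r → R)))).hom x = x := by
    rw [CategoryTheory.Functor.map_id]; rfl
  conv_lhs => rw [← h1, id_pi, map_sum_apply]
  refine Finset.sum_congr rfl fun j _ => ?_
  rw [Functor.map_comp, ModuleCat.hom_comp, LinearMap.comp_apply]

/-- bijectivity on finite free modules -/
theorem bijective_pi (hR : Function.Bijective (η.app (ModuleCat.of R R)).hom) (r : ℕ) :
    Function.Bijective (η.app (ModuleCat.of R (Fin r → R))).hom := by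
  constructor
  · rw [injective_iff_map_eq_zero]
    intro x hx
    rw [decompose S r x]
    apply Finset.sum_eq_zero
    intro j _
    have h1 : (η.app (ModuleCat.of R R)).hom ((S.map (ModuleCat.ofHom
        (LinearMap.proj (R := R) (φ := fun _ : Fin r => R) j))).hom x) = 0 := by
      rw [nat_apply, hx, map_zero]
    have h2 := hR.1 (h1.trans (map_zero _).symm)
    rw [h2, map_zero]
  · intro y
    choose x hx using fun j : Fin r => hR.2 ((T.map (ModuleCat.ofHom
        (LinearMap.proj (R := R) (φ := fun _ : Fin r => R) j))).hom y)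
    refine ⟨∑ j : Fin r, (S.map (ModuleCat.ofHom
      (LinearMap.single R (fun _ : Fin r => R) j))).hom (x j), ?_⟩
    rw [map_sum]
    conv_rhs => rw [decompose T r y]
    refine Finset.sum_congr rfl fun j _ => ?_
    rw [nat_apply, hx j]

variable [IsNoetherianRing R]

/-- the main theorem -/
theorem bijective_of_rightExact (hS : RightExact S) (hT : RightExact T)
    (hR : Function.Bijective (η.app (ModuleCat.of R R)).hom)
    (M : Type u) [AddCommGroup M] [Module R M] [Module.Finite R M] :
    Function.Bijective (η.app (ModuleCat.of R M)).hom := by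
  obtain ⟨r, p, hp⟩ := Module.Finite.exists_fin' R M
  obtain ⟨s, q, hq⟩ := Module.Finite.exists_fin' R (LinearMap.ker p)
  let a : (Fin s → R) →ₗ[R] (Fin r → R) := (LinearMap.ker p).subtype ∘ₗ q
  have hexact : Function.Exact a p := by
    intro v
    constructor
    · intro hv
      obtain ⟨w, hw⟩ := hq ⟨v, hv⟩
      exact ⟨w, by simp [a, hw]⟩
    · rintro ⟨w, rfl⟩
      exact (q w).2
  obtain ⟨hSe, hSs⟩ := hS _ _ _ a p hexact hp
  obtain ⟨hTe, hTs⟩ := hT _ _ _ a p hexact hp
  have hr := bijective_pi S T η hR r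
  have hs := bijective_pi S T η hR s
  constructor
  · rw [injective_iff_map_eq_zero]
    intro x hx
    obtain ⟨y, rfl⟩ := hSs x
    rw [nat_apply] at hx
    obtain ⟨ζ, hζ⟩ := (hTe _).mp hx
    obtain ⟨w, rfl⟩ := hs.2 ζ
    rw [← nat_apply] at hζ
    have hy : (S.map (ModuleCat.ofHom a)).hom w = y := hr.1 hζ
    rw [← hy]
    exact (hSe _).mpr ⟨w, rfl⟩
  · intro ξ
    obtain ⟨ξ', rfl⟩ := hTs ξ
    obtain ⟨y, rfl⟩ := hr.2 ξ'
    exact ⟨(S.map (ModuleCat.ofHom p)).hom y, nat_apply S T η _ y⟩

end Groth.Agent.Lib.helper19.RightExactIso
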