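import Mathlib
import Groth.Prelude.Def_Wider
import Groth.Agent.Lib.Helper19.RightExactIso
import Groth.Agent.Lib.Helper19.LCLes
import Groth.Agent.Lib.Helper19.LCLes2
import Groth.Agent.Lib.Helper19.LCFactor
import Groth.Agent.S5162
set_option autoImplicit false

/-! Top local cohomology and canonical modules: if `H^{n+1}_I` vanishes identically then `H^n_I` is
right exact, `H^n_I(M) ≅ M ⊗ H^n_I(R)` for finite `M`, and for a module `K` with
`Hom(K, E) ≅ H^n_I(R)` (`E` injective) there is a natural isomorphism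
`H^n_I(M) ≅ Hom(Hom(M, K), E)` on finite modules. -/

universe u

namespace Groth.Agent.Lib.helper19.LocalDuality0
open CategoryTheory TensorProduct Groth.Agent.Lib.helper19.RightExactIso
  Groth.Agent.Lib.helper19.LCBridge Groth.Agent.Lib.helper19.LCLes
  Groth.Agent.Lib.helper19.LCFactor Groth.Agent.S5162

variable {R : Type u} [CommRing R] (I : Ideal R) (n : ℕ)

/-- `T = H^n_I` -/
noncomputable abbrev T : ModuleCat.{u} R ⥤ ModuleCat.{u} R := localCohomology I n

instance additive_T : (T I n).Additive :=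
  ⟨fun {X Y f g} => by
    apply ModuleCat.hom_ext
    apply LinearMap.ext
    intro x
    exact H_map_add I n f g x⟩

lemma T_map_smul {X Y : ModuleCat.{u} R} (a : R) (f : X ⟶ Y) (x : (T I n).obj X) :
    ((T I n).map (a • f)).hom x = a • ((T I n).map f).hom x := by
  have h : a • f = f ≫ (a • 𝟙 Y) := by
    rw [Linear.comp_smul, Category.comp_id]
  rw [h, Functor.map_comp, ModuleCat.hom_comp, LinearMap.comp_apply, H_map_smul_id]

lemma T_map_comp_apply {X Y Z : ModuleCat.{u} R} (f : X ⟶ Y) (g : Y ⟶ Z) (x : (T I n).obj X) :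
    ((T I n).map g).hom (((T I n).map f).hom x) = ((T I n).map (f ≫ g)).hom x := by
  rw [Functor.map_comp, ModuleCat.hom_comp, LinearMap.comp_apply]

section RightExactT
variable (hv : ∀ M : ModuleCat.{u} R, Subsingleton ((localCohomology I (n + 1)).obj M))

include hv in
theorem rightExact_T : RightExact (T I n) := by
  intro X Y Z _ _ _ _ _ _ f g hfg hg
  -- the short exact sequence 0 → ker g → Y → Z → 0
  have hS1 := sesOf_shortExact (LinearMap.ker g).subtype g (Submodule.injective_subtype _) hg
    (LinearMap.exact_subtype_ker_map g)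
  have hsurj : Function.Surjective ((T I n).map (ModuleCat.ofHom g)).hom :=
    H_surjective_of_vanish I n hS1 (hv _)
  refine ⟨?_, hsurj⟩
  -- factor f through ker g
  let f' : X →ₗ[R] LinearMap.ker g := f.codRestrict (LinearMap.ker g) (fun x => hfg.apply_apply_eq_zero x)
  have hf' : Function.Surjective f' := by
    rintro ⟨y, hy⟩
    obtain ⟨x, rfl⟩ := (hfg y).mp hy
    exact ⟨x, rfl⟩
  have hfac : ModuleCat.ofHom f = ModuleCat.ofHom f' ≫ ModuleCat.ofHom (LinearMap.ker g).subtype := by
    rw [← ModuleCat.ofHom_comp]; rfl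
  have hS2 := sesOf_shortExact (LinearMap.ker f').subtype f' (Submodule.injective_subtype _) hf'
    (LinearMap.exact_subtype_ker_map f')
  have hsurj' : Function.Surjective ((T I n).map (ModuleCat.ofHom f')).hom :=
    H_surjective_of_vanish I n hS2 (hv _)
  intro y
  constructor
  · intro hy
    obtain ⟨z, hz⟩ := H_exact_mid I n hS1 y hy
    obtain ⟨x, rfl⟩ := hsurj' z
    refine ⟨x, ?_⟩
    rw [hfac, ← T_map_comp_apply]
    exact hz
  · rintro ⟨x, rfl⟩
    rw [T_map_comp_apply, ← ModuleCat.ofHom_comp]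
    have : g ∘ₗ f = 0 := LinearMap.ext fun x => hfg.apply_apply_eq_zero x
    rw [this]
    exact H_map_zero I n x

end RightExactT

section D
variable (K E : Type u) [AddCommGroup K] [Module R K] [AddCommGroup E] [Module R E]

/-- the functor `M ↦ Hom(Hom(M, K), E)` -/
noncomputable def D : ModuleCat.{u} R ⥤ ModuleCat.{u} R where
  obj M := ModuleCat.of R ((M →ₗ[R] K) →ₗ[R] E)
  map g := ModuleCat.ofHom (LinearMap.lcomp R E (LinearMap.lcomp R K g.hom))
  map_id M := by
    apply ModuleCat.hom_ext
    apply LinearMap.ext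
    intro ξ
    apply LinearMap.ext
    intro φ
    rfl
  map_comp f g := by
    apply ModuleCat.hom_ext
    apply LinearMap.ext
    intro ξ
    apply LinearMap.ext
    intro φ
    rfl

lemma D_map_apply {M M' : ModuleCat.{u} R} (g : M ⟶ M') (ξ : (M →ₗ[R] K) →ₗ[R] E) :
    ((D K E).map g).hom ξ = ξ ∘ₗ (LinearMap.lcomp R K g.hom) := rfl

instance additive_D : (D (R := R) K E).Additive :=
  ⟨fun {X Y f g} => by
    apply ModuleCat.hom_ext
    apply LinearMap.ext
    intro (ξ : (X →ₗ[R] K) →ₗ[R] E)
    apply LinearMap.ext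
    intro (φ : Y →ₗ[R] K)
    show ξ (φ ∘ₗ (f + g).hom) = ξ (φ ∘ₗ f.hom) + ξ (φ ∘ₗ g.hom)
    rw [ModuleCat.hom_add, LinearMap.comp_add, map_add]⟩

theorem rightExact_D [hE : Module.Injective R E] : RightExact (D (R := R) K E) := by
  intro X Y Z _ _ _ _ _ _ f g hfg hg
  have hcg : Function.Injective (LinearMap.lcomp R K g) := by
    intro φ φ' h
    apply LinearMap.ext
    intro z
    obtain ⟨y, rfl⟩ := hg z
    exact LinearMap.congr_fun h y
  constructor
  · intro (ξ' : (Y →ₗ[R] K) →ₗ[R] E)
    constructor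
    · intro hξ
      -- ξ' vanishes on the kernel of (- ∘ f)
      have hker : LinearMap.ker (LinearMap.lcomp R K f) ≤ LinearMap.ker ξ' := by
        intro ψ hψ
        rw [LinearMap.mem_ker] at hψ ⊢
        have hle : LinearMap.ker g ≤ LinearMap.ker ψ := by
          intro y hy
          obtain ⟨x, rfl⟩ := (hfg y).mp hy
          exact LinearMap.congr_fun hψ x
        let φ : Z →ₗ[R] K := ((LinearMap.ker g).liftQ ψ hle) ∘ₗ
          (LinearMap.quotKerEquivOfSurjective g hg).symm.toLinearMap
        have hφ : φ ∘ₗ g = ψ := by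
          apply LinearMap.ext
          intro y
          show (LinearMap.ker g).liftQ ψ hle ((LinearMap.quotKerEquivOfSurjective g hg).symm (g y)) = ψ y
          have : (LinearMap.quotKerEquivOfSurjective g hg).symm (g y) =
              Submodule.Quotient.mk y := by
            rw [LinearEquiv.symm_apply_eq]; rfl
          rw [this]; rfl
        have := LinearMap.congr_fun hξ φ
        rw [← hφ]
        exact this
      let ζ₀ : LinearMap.range (LinearMap.lcomp R K f) →ₗ[R] E :=
        ((LinearMap.ker (LinearMap.lcomp R K f)).liftQ ξ' hker) ∘ₗ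
          (LinearMap.quotKerEquivRange (LinearMap.lcomp R K f)).symm.toLinearMap
      obtain ⟨ζ, hζ⟩ := hE.out (LinearMap.range (LinearMap.lcomp R K f)).subtype
        (Submodule.injective_subtype _) ζ₀
      refine ⟨ζ, ?_⟩
      apply LinearMap.ext
      intro ψ
      show ζ (ψ ∘ₗ f) = ξ' ψ
      have h1 := hζ ⟨LinearMap.lcomp R K f ψ, ⟨ψ, rfl⟩⟩
      have h2 : ζ₀ ⟨LinearMap.lcomp R K f ψ, ⟨ψ, rfl⟩⟩ = ξ' ψ := by
        show (LinearMap.ker (LinearMap.lcomp R K f)).liftQ ξ' hker
          ((LinearMap.quotKerEquivRange (LinearMap.lcomp R K f)).symm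
            ⟨LinearMap.lcomp R K f ψ, ⟨ψ, rfl⟩⟩) = ξ' ψ
        have : (LinearMap.quotKerEquivRange (LinearMap.lcomp R K f)).symm
            ⟨LinearMap.lcomp R K f ψ, ⟨ψ, rfl⟩⟩ = Submodule.Quotient.mk ψ := by
          rw [LinearEquiv.symm_apply_eq]; rfl
        rw [this]; rfl
      rw [← h2, ← h1]; rfl
    · rintro ⟨(ζ : (X →ₗ[R] K) →ₗ[R] E), rfl⟩
      apply LinearMap.ext
      intro (φ : Z →ₗ[R] K)
      show ζ ((φ ∘ₗ g) ∘ₗ f) = 0
      have : (φ ∘ₗ g) ∘ₗ f = 0 := by
        apply LinearMap.ext
        intro x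
        show φ (g (f x)) = 0
        rw [hfg.apply_apply_eq_zero, map_zero]
      rw [this, map_zero]
  · intro (ξ : (Z →ₗ[R] K) →ₗ[R] E)
    obtain ⟨ξ', hξ'⟩ := hE.out (LinearMap.lcomp R K g) hcg ξ
    exact ⟨ξ', LinearMap.ext hξ'⟩

end D

section Ten
variable (X : Type u) [AddCommGroup X] [Module R X]

/-- the functor `M ↦ M ⊗ X` -/
noncomputable def Ten : ModuleCat.{u} R ⥤ ModuleCat.{u} R where
  obj M := ModuleCat.of R (M ⊗[R] X)
  map g := ModuleCat.ofHom (LinearMap.rTensor X g.hom)
  map_id M := by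
    apply ModuleCat.hom_ext
    exact LinearMap.rTensor_id X M
  map_comp f g := by
    apply ModuleCat.hom_ext
    exact LinearMap.rTensor_comp X g.hom f.hom

instance additive_Ten : (Ten (R := R) X).Additive :=
  ⟨fun {M N f g} => by
    apply ModuleCat.hom_ext
    exact LinearMap.rTensor_add X f.hom g.hom⟩

theorem rightExact_Ten : RightExact (Ten (R := R) X) := by
  intro M N P _ _ _ _ _ _ f g hfg hg
  exact ⟨rTensor_exact X hfg hg, LinearMap.rTensor_surjective X hg⟩

end Ten

section Mu

/-- `X = H^n_I(R)` -/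
abbrev X : Type u := (T I n).obj (ModuleCat.of R R)

lemma ofHom_toSpanSingleton_add (M : Type u) [AddCommGroup M] [Module R M] (m m' : M) :
    ModuleCat.ofHom (LinearMap.toSpanSingleton R M (m + m')) =
      ModuleCat.ofHom (LinearMap.toSpanSingleton R M m) +
        ModuleCat.ofHom (LinearMap.toSpanSingleton R M m') := by
  apply ModuleCat.hom_ext
  apply LinearMap.ext
  intro r
  simp [smul_add]

lemma ofHom_toSpanSingleton_smul (M : Type u) [AddCommGroup M] [Module R M] (a : R) (m : M) :
    ModuleCat.ofHom (LinearMap.toSpanSingleton R M (a • m)) =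
      a • ModuleCat.ofHom (LinearMap.toSpanSingleton R M m) := by
  apply ModuleCat.hom_ext
  apply LinearMap.ext
  intro r
  simp [smul_comm r a m]

lemma ofHom_toSpanSingleton_comp {M M' : Type u} [AddCommGroup M] [Module R M]
    [AddCommGroup M'] [Module R M'] (g : M →ₗ[R] M') (m : M) :
    ModuleCat.ofHom (LinearMap.toSpanSingleton R M m) ≫ ModuleCat.ofHom g =
      ModuleCat.ofHom (LinearMap.toSpanSingleton R M' (g m)) := by
  apply ModuleCat.hom_ext
  apply LinearMap.ext
  intro r
  simp

/-- the bilinear map `M × X → T(M)`, `(m, x) ↦ T(· m)(x)` -/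
noncomputable def B (M : Type u) [AddCommGroup M] [Module R M] :
    M →ₗ[R] X I n →ₗ[R] (T I n).obj (ModuleCat.of R M) where
  toFun m := ((T I n).map (ModuleCat.ofHom (LinearMap.toSpanSingleton R M m))).hom
  map_add' m m' := by
    apply LinearMap.ext
    intro x
    rw [ofHom_toSpanSingleton_add]
    exact H_map_add I n _ _ x
  map_smul' a m := by
    apply LinearMap.ext
    intro x
    rw [ofHom_toSpanSingleton_smul]
    exact T_map_smul I n a _ x

lemma B_apply (M : Type u) [AddCommGroup M] [Module R M] (m : M) (x : X I n) :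
    B I n M m x = ((T I n).map (ModuleCat.ofHom (LinearMap.toSpanSingleton R M m))).hom x := rfl

lemma B_nat {M M' : Type u} [AddCommGroup M] [Module R M] [AddCommGroup M'] [Module R M']
    (g : M →ₗ[R] M') (m : M) (x : X I n) :
    ((T I n).map (ModuleCat.ofHom g)).hom (B I n M m x) = B I n M' (g m) x := by
  rw [B_apply, B_apply, T_map_comp_apply, ofHom_toSpanSingleton_comp]

/-- the comparison `M ⊗ H^n(R) → H^n(M)` -/
noncomputable def μM (M : Type u) [AddCommGroup M] [Module R M] :
    M ⊗[R] X I n →ₗ[R] (T I n).obj (ModuleCat.of R M) :=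
  TensorProduct.lift (B I n M)

/-- `μ` as a natural transformation -/
noncomputable def μ : Ten (R := R) (X I n) ⟶ T I n where
  app M := ModuleCat.ofHom (μM I n M)
  naturality M M' g := by
    apply ModuleCat.hom_ext
    show (μM I n M') ∘ₗ (LinearMap.rTensor (X I n) g.hom) = ((T I n).map g).hom ∘ₗ (μM I n M)
    apply TensorProduct.ext'
    intro m x
    show B I n M' (g.hom m) x = ((T I n).map g).hom (B I n M m x)
    exact (B_nat I n g.hom m x).symm

lemma μ_R_eq : μM I n R = (TensorProduct.lid R (X I n)).toLinearMap := by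
  apply TensorProduct.ext'
  intro r x
  show B I n R r x = _
  rw [B_apply]
  have : ModuleCat.ofHom (LinearMap.toSpanSingleton R R r) = r • 𝟙 (ModuleCat.of R R) := by
    apply ModuleCat.hom_ext
    apply LinearMap.ext
    intro s
    simp [mul_comm]
  rw [this, H_map_smul_id]
  simp

variable [IsNoetherianRing R]
variable (hv : ∀ M : ModuleCat.{u} R, Subsingleton ((localCohomology I (n + 1)).obj M))

include hv in
theorem μ_bijective (M : Type u) [AddCommGroup M] [Module R M] [Module.Finite R M] :
    Function.Bijective (μM I n M) := by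
  have hR : Function.Bijective ((μ I n).app (ModuleCat.of R R)).hom := by
    show Function.Bijective (μM I n R)
    rw [μ_R_eq]
    exact (TensorProduct.lid R (X I n)).bijective
  exact bijective_of_rightExact (Ten (R := R) (X I n)) (T I n) (μ I n) (rightExact_Ten _)
    (rightExact_T I n hv) hR M

end Mu

section Theta
variable [IsNoetherianRing R]
variable (hv : ∀ M : ModuleCat.{u} R, Subsingleton ((localCohomology I (n + 1)).obj M))
variable (K E : Type u) [AddCommGroup K] [Module R K] [Module.Finite R K]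
  [AddCommGroup E] [Module R E] (eK : (K →ₗ[R] E) ≃ₗ[R] X I n)

/-- the trace map `H^n(K) → E` -/
noncomputable def ε : (T I n).obj (ModuleCat.of R K) →ₗ[R] E :=
  (TensorProduct.lift (LinearMap.applyₗ : K →ₗ[R] (K →ₗ[R] E) →ₗ[R] E)) ∘ₗ
    (LinearMap.lTensor K eK.symm.toLinearMap) ∘ₗ
    (LinearEquiv.ofBijective (μM I n K) (μ_bijective I n hv K)).symm.toLinearMap

lemma ε_B (k : K) (x : X I n) : ε I n hv K E eK (B I n K k x) = eK.symm x k := by
  have h1 : (LinearEquiv.ofBijective (μM I n K) (μ_bijective I n hv K)).symm (B I n K k x) =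
      k ⊗ₜ[R] x := by
    rw [LinearEquiv.symm_apply_eq]
    rfl
  show (TensorProduct.lift (LinearMap.applyₗ : K →ₗ[R] (K →ₗ[R] E) →ₗ[R] E))
    ((LinearMap.lTensor K eK.symm.toLinearMap)
      ((LinearEquiv.ofBijective (μM I n K) (μ_bijective I n hv K)).symm (B I n K k x))) = _
  rw [h1]
  simp

/-- `φ ↦ ε ∘ T(φ)` -/
noncomputable def Cθ (M : Type u) [AddCommGroup M] [Module R M] :
    (M →ₗ[R] K) →ₗ[R] ((T I n).obj (ModuleCat.of R M) →ₗ[R] E) where
  toFun φ := ε I n hv K E eK ∘ₗ ((T I n).map (ModuleCat.ofHom φ)).hom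
  map_add' φ φ' := by
    apply LinearMap.ext
    intro x
    rw [LinearMap.add_apply, LinearMap.comp_apply, LinearMap.comp_apply, LinearMap.comp_apply,
      ModuleCat.ofHom_add, H_map_add, map_add]
  map_smul' a φ := by
    apply LinearMap.ext
    intro x
    have h : ModuleCat.ofHom (a • φ) = a • ModuleCat.ofHom φ := by
      apply ModuleCat.hom_ext; rfl
    rw [LinearMap.smul_apply, LinearMap.comp_apply, LinearMap.comp_apply, RingHom.id_apply,
      h, T_map_smul, map_smul]

/-- the duality map `H^n(M) → Hom(Hom(M, K), E)` -/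
noncomputable def θM (M : Type u) [AddCommGroup M] [Module R M] :
    (T I n).obj (ModuleCat.of R M) →ₗ[R] ((M →ₗ[R] K) →ₗ[R] E) :=
  (Cθ I n hv K E eK M).flip

lemma θM_apply (M : Type u) [AddCommGroup M] [Module R M] (x : (T I n).obj (ModuleCat.of R M))
    (φ : M →ₗ[R] K) :
    θM I n hv K E eK M x φ = ε I n hv K E eK (((T I n).map (ModuleCat.ofHom φ)).hom x) := rfl

/-- naturality of the duality map -/
lemma θM_nat {M M' : Type u} [AddCommGroup M] [Module R M] [AddCommGroup M'] [Module R M']
    (g : M →ₗ[R] M') (x : (T I n).obj (ModuleCat.of R M)) (φ' : M' →ₗ[R] K) :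
    θM I n hv K E eK M' (((T I n).map (ModuleCat.ofHom g)).hom x) φ' =
      θM I n hv K E eK M x (φ' ∘ₗ g) := by
  rw [θM_apply, θM_apply, T_map_comp_apply, ← ModuleCat.ofHom_comp]

/-- `θ` as a natural transformation -/
noncomputable def θ : T I n ⟶ D (R := R) K E where
  app M := ModuleCat.ofHom (θM I n hv K E eK M)
  naturality M M' g := by
    apply ModuleCat.hom_ext
    apply LinearMap.ext
    intro x
    apply LinearMap.ext
    intro (φ' : M' →ₗ[R] K)
    exact θM_nat I n hv K E eK g.hom x φ'

lemma θ_R_apply (x : X I n) (φ : R →ₗ[R] K) : θM I n hv K E eK R x φ = eK.symm x (φ 1) := by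
  have h : φ = LinearMap.toSpanSingleton R K (φ 1) := by
    apply LinearMap.ext
    intro r
    simp [← map_smul]
  rw [θM_apply, ← ε_B I n hv K E eK (φ 1) x, B_apply, ← h]

theorem θ_R_bijective : Function.Bijective (θM I n hv K E eK R) := by
  constructor
  · rw [injective_iff_map_eq_zero]
    intro x hx
    have h1 : eK.symm x = 0 := by
      apply LinearMap.ext
      intro k
      have := LinearMap.congr_fun hx (LinearMap.toSpanSingleton R K k)
      rw [θ_R_apply] at this
      simpa using this
    exact (LinearEquiv.map_eq_zero_iff eK.symm).mp h1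
  · intro ξ
    let ψ : K →ₗ[R] E := ξ ∘ₗ (LinearMap.ringLmapEquivSelf R R K).symm.toLinearMap
    refine ⟨eK ψ, ?_⟩
    apply LinearMap.ext
    intro φ
    rw [θ_R_apply, LinearEquiv.symm_apply_apply]
    show ξ ((LinearMap.ringLmapEquivSelf R R K).symm (φ 1)) = ξ φ
    congr 1
    apply LinearMap.ext
    intro r
    simp [← map_smul]

variable [Module.Injective R E]

/-- the duality isomorphism on finite modules -/
theorem θ_bijective (M : Type u) [AddCommGroup M] [Module R M] [Module.Finite R M] :
    Function.Bijective (θM I n hv K E eK M) :=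
  bijective_of_rightExact (T I n) (D (R := R) K E) (θ I n hv K E eK) (rightExact_T I n hv)
    (rightExact_D K E) (θ_R_bijective I n hv K E eK) M

end Theta

end Groth.Agent.Lib.helper19.LocalDuality0
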