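import Mathlib
import Groth.Prelude.Def_Wider
import Groth.Agent.Lib.Helper19.LocalDuality0
import Groth.Agent.Lib.Helper19.LCLes2
import Groth.Agent.Lib.Helper19.LCFactor
import Groth.Agent.S5162
set_option autoImplicit false

/-! Local duality by dimension shifting: if `H^{n+1}_I = 0`, `H^j_I(R) = 0` for `j < n`,
`K` is finite with `Hom(K, E) ≅ H^n_I(R)` and `E` is injective, then for finite `M` and `j + e = n`
`H^j_I(M) ≅ Hom(Ext^e(M, K), E)`. -/

universe u

namespace Groth.Agent.Lib.helper19.LocalDuality1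
open CategoryTheory Groth.Agent.Lib.helper19.LocalDuality0
  Groth.Agent.Lib.helper19.LCBridge Groth.Agent.Lib.helper19.LCLes
  Groth.Agent.Lib.helper19.LCLes2 Groth.Agent.Lib.helper19.LCFactor Groth.Agent.S5162

variable {R : Type u} [CommRing R] [IsNoetherianRing R] (I : Ideal R) (n : ℕ)
variable (hv : ∀ M : ModuleCat.{u} R, Subsingleton ((localCohomology I (n + 1)).obj M))
variable (hlow : ∀ j : ℕ, j < n →
  Subsingleton ((localCohomology I j).obj (ModuleCat.of R R) : ModuleCat.{u} R))
variable (K E : Type u) [AddCommGroup K] [Module R K] [Module.Finite R K]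
  [AddCommGroup E] [Module R E] [Module.Injective R E] (eK : (K →ₗ[R] E) ≃ₗ[R] X I n)

/-- the dual of `Ext^e(M, K)` -/
abbrev DE (e : ℕ) (M : Type u) [AddCommGroup M] [Module R M] : Type u :=
  Abelian.Ext.{u} (ModuleCat.of R M) (ModuleCat.of R K) e →ₗ[R] E

/-- `Ext^0(M, K) ≃ Hom(M, K)` -/
noncomputable def ext0Equiv (M : Type u) [AddCommGroup M] [Module R M] :
    Abelian.Ext.{u} (ModuleCat.of R M) (ModuleCat.of R K) 0 ≃ₗ[R] (M →ₗ[R] K) :=
  (Abelian.Ext.linearEquiv₀ (R := R)).trans ModuleCat.homLinearEquiv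

lemma ext0Equiv_symm_apply (M : Type u) [AddCommGroup M] [Module R M] (ψ : M →ₗ[R] K) :
    (ext0Equiv K M).symm ψ = Abelian.Ext.mk₀ (ModuleCat.ofHom ψ) := rfl

include hv eK in
theorem level0 (M : Type u) [AddCommGroup M] [Module R M] [Module.Finite R M] :
    Nonempty (((localCohomology I n).obj (ModuleCat.of R M) : ModuleCat.{u} R) ≃ₗ[R]
      DE (R := R) K E 0 M) :=
  ⟨(LinearEquiv.ofBijective (θM I n hv K E eK M) (θ_bijective I n hv K E eK M)).trans
    (LinearEquiv.congrLeft E R (ext0Equiv K M)).symm⟩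

section Pres
variable {M : Type u} [AddCommGroup M] [Module R M] {r : ℕ} (p : (Fin r → R) →ₗ[R] M)
  (hp : Function.Surjective p)

/-- the presentation short complex `ker p → R^r → M` -/
noncomputable abbrev presSC : ShortComplex (ModuleCat.{u} R) :=
  ShortComplex.mk (ModuleCat.ofHom (LinearMap.ker p).subtype) (ModuleCat.ofHom p) (by
    apply ModuleCat.hom_ext
    apply LinearMap.ext
    intro x
    exact x.2)

include hp in
/-- the presentation sequence `0 → ker p → R^r → M → 0` -/
lemma presSES : (presSC p).ShortExact :=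
  sesOf_shortExact _ _ (Submodule.injective_subtype _) hp (LinearMap.exact_subtype_ker_map p)

include hlow in
lemma T_free_vanish (j : ℕ) (hj : j < n) :
    Subsingleton ((localCohomology I j).obj (ModuleCat.of R (Fin r → R)) : ModuleCat.{u} R) :=
  H_pi_subsingleton I j (Fin r) (hlow j hj)

/-- the connecting map on `Ext`, as an equivalence in degrees `≥ 1` -/
noncomputable def extShift (e : ℕ) :
    Abelian.Ext.{u} (ModuleCat.of R (LinearMap.ker p)) (ModuleCat.of R K) (e + 1) ≃ₗ[R]
      Abelian.Ext.{u} (ModuleCat.of R M) (ModuleCat.of R K) (e + 2) :=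
  LinearEquiv.ofBijective
    (Abelian.Ext.precompOfLinear (presSES p hp).extClass R (ModuleCat.of R K)
      (show 1 + (e + 1) = e + 2 by omega)) (by
    haveI : Module.Projective R (Fin r → R) := Module.Projective.of_free
    have hF1 := Abelian.Ext.subsingleton_of_projective (ModuleCat.of R (Fin r → R))
      (ModuleCat.of R K) e
    have hF2 := Abelian.Ext.subsingleton_of_projective (ModuleCat.of R (Fin r → R))
      (ModuleCat.of R K) (e + 1)
    constructor
    · rw [injective_iff_map_eq_zero]
      intro x₁ hx₁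
      obtain ⟨x₂, hx₂⟩ := Abelian.Ext.contravariant_sequence_exact₁ (presSES p hp)
        (ModuleCat.of R K) x₁ (show 1 + (e + 1) = e + 2 by omega) hx₁
      have hx0 : x₂ = 0 := hF1.elim _ _
      rw [← hx₂, hx0, Abelian.Ext.comp_zero]
    · intro x₃
      obtain ⟨x₁, hx₁⟩ := Abelian.Ext.contravariant_sequence_exact₃ (presSES p hp)
        (ModuleCat.of R K) x₃ (hF2.elim _ _) (show 1 + (e + 1) = e + 2 by omega)
      exact ⟨x₁, hx₁⟩)

/-- `∂ : Hom(ker p, K) → Ext^1(M, K)` -/
noncomputable def bdry : (LinearMap.ker p →ₗ[R] K) →ₗ[R]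
    Abelian.Ext.{u} (ModuleCat.of R M) (ModuleCat.of R K) 1 :=
  (Abelian.Ext.precompOfLinear (presSES p hp).extClass R (ModuleCat.of R K)
      (show 1 + 0 = 1 by omega)) ∘ₗ (ext0Equiv K (LinearMap.ker p)).symm.toLinearMap

lemma bdry_apply (ψ : LinearMap.ker p →ₗ[R] K) :
    bdry K p hp ψ = (presSES p hp).extClass.comp (Abelian.Ext.mk₀ (ModuleCat.ofHom ψ))
      (show 1 + 0 = 1 by omega) := rfl

lemma bdry_surjective : Function.Surjective (bdry K p hp) := by
  haveI : Module.Projective R (Fin r → R) := Module.Projective.of_free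
  have hF1 := Abelian.Ext.subsingleton_of_projective (ModuleCat.of R (Fin r → R))
    (ModuleCat.of R K) 0
  intro x₃
  obtain ⟨x₁, hx₁⟩ := Abelian.Ext.contravariant_sequence_exact₃ (presSES p hp)
    (ModuleCat.of R K) x₃ (hF1.elim _ _) (show 1 + 0 = 1 by omega)
  refine ⟨ext0Equiv K (LinearMap.ker p) x₁, ?_⟩
  have h : (ext0Equiv K (LinearMap.ker p)).symm (ext0Equiv K (LinearMap.ker p) x₁) = x₁ :=
    LinearEquiv.symm_apply_apply _ _
  show (presSES p hp).extClass.comp
    ((ext0Equiv K (LinearMap.ker p)).symm (ext0Equiv K (LinearMap.ker p) x₁))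
    (show 1 + 0 = 1 by omega) = x₃
  rw [h]
  exact hx₁

lemma ker_bdry : LinearMap.ker (bdry K p hp) =
    LinearMap.range (LinearMap.lcomp R K (LinearMap.ker p).subtype) := by
  apply le_antisymm
  · intro ψ hψ
    rw [LinearMap.mem_ker, bdry_apply] at hψ
    obtain ⟨x₂, hx₂⟩ := Abelian.Ext.contravariant_sequence_exact₁ (presSES p hp)
      (ModuleCat.of R K) (Abelian.Ext.mk₀ (ModuleCat.ofHom ψ)) (show 1 + 0 = 1 by omega) hψ
    refine ⟨ext0Equiv K (Fin r → R) x₂, ?_⟩
    apply (ext0Equiv K (LinearMap.ker p)).symm.injective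
    rw [ext0Equiv_symm_apply, ext0Equiv_symm_apply, ← hx₂]
    have h3 : x₂ = Abelian.Ext.mk₀ (ModuleCat.ofHom (ext0Equiv K (Fin r → R) x₂)) := by
      rw [← ext0Equiv_symm_apply, LinearEquiv.symm_apply_apply]
    conv_rhs => rw [h3]
    rw [Abelian.Ext.mk₀_comp_mk₀]
    rfl
  · rintro ψ ⟨φ, rfl⟩
    rw [LinearMap.mem_ker, bdry_apply]
    have h1 : Abelian.Ext.mk₀ (ModuleCat.ofHom (LinearMap.lcomp R K (LinearMap.ker p).subtype φ)) =
        (Abelian.Ext.mk₀ (presSC p).f).comp
          (Abelian.Ext.mk₀ (ModuleCat.ofHom φ)) (zero_add 0) := by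
      rw [Abelian.Ext.mk₀_comp_mk₀]
      rfl
    rw [h1]
    exact (presSES p hp).extClass_comp_assoc _

/-- `Hom(Ext^1(M, K), E) ≃ ker (Hom(Hom(ker p, K), E) → Hom(Hom(R^r, K), E))` -/
noncomputable def dualBdry : DE (R := R) K E 1 M ≃ₗ[R]
    LinearMap.ker (LinearMap.lcomp R E (LinearMap.lcomp R K (LinearMap.ker p).subtype)) := by
  have hinj : Function.Injective (LinearMap.lcomp R E (bdry K p hp)) := by
    intro η η' h
    apply LinearMap.ext
    intro z
    obtain ⟨ψ, rfl⟩ := bdry_surjective K p hp z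
    exact LinearMap.congr_fun h ψ
  have hrange : LinearMap.range (LinearMap.lcomp R E (bdry K p hp)) =
      LinearMap.ker (LinearMap.lcomp R E (LinearMap.lcomp R K (LinearMap.ker p).subtype)) := by
    apply le_antisymm
    · rintro ξ ⟨η, rfl⟩
      rw [LinearMap.mem_ker]
      apply LinearMap.ext
      intro φ
      show η (bdry K p hp (LinearMap.lcomp R K (LinearMap.ker p).subtype φ)) = 0
      have : LinearMap.lcomp R K (LinearMap.ker p).subtype φ ∈ LinearMap.ker (bdry K p hp) := by
        rw [ker_bdry]; exact ⟨φ, rfl⟩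
      rw [LinearMap.mem_ker.mp this, map_zero]
    · intro ξ hξ
      rw [LinearMap.mem_ker] at hξ
      have hle : LinearMap.ker (bdry K p hp) ≤ LinearMap.ker ξ := by
        rw [ker_bdry]
        rintro ψ ⟨φ, rfl⟩
        exact LinearMap.congr_fun hξ φ
      refine ⟨((LinearMap.ker (bdry K p hp)).liftQ ξ hle) ∘ₗ
        (LinearMap.quotKerEquivOfSurjective (bdry K p hp)
          (bdry_surjective K p hp)).symm.toLinearMap, ?_⟩
      apply LinearMap.ext
      intro ψ
      show (LinearMap.ker (bdry K p hp)).liftQ ξ hle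
        ((LinearMap.quotKerEquivOfSurjective (bdry K p hp) (bdry_surjective K p hp)).symm
          (bdry K p hp ψ)) = ξ ψ
      have : (LinearMap.quotKerEquivOfSurjective (bdry K p hp) (bdry_surjective K p hp)).symm
          (bdry K p hp ψ) = Submodule.Quotient.mk ψ := by
        rw [LinearEquiv.symm_apply_eq]; rfl
      rw [this]; rfl
  exact (LinearEquiv.ofInjective (LinearMap.lcomp R E (bdry K p hp)) hinj).trans
    (LinearEquiv.ofEq _ _ hrange)

end Pres

include hv hlow eK in
/-- level one -/
theorem level1 (k : ℕ) (hk : k + 1 = n) (M : Type u) [AddCommGroup M] [Module R M]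
    [Module.Finite R M] :
    Nonempty (((localCohomology I k).obj (ModuleCat.of R M) : ModuleCat.{u} R) ≃ₗ[R]
      DE (R := R) K E 1 M) := by
  subst hk
  obtain ⟨r, p, hp⟩ := Module.Finite.exists_fin' R M
  set N := LinearMap.ker p with hN
  have hS := presSES p hp
  -- the connecting map
  have h2 : Subsingleton ((localCohomology I k).obj (ModuleCat.of R (Fin r → R)) :
      ModuleCat.{u} R) := T_free_vanish I (k + 1) hlow k (Nat.lt_succ_self k)
  have hδinj : Function.Injective (δH I k hS) := δH_injective I k hS h2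
  have hδrange : LinearMap.range (δH I k hS) =
      LinearMap.ker ((localCohomology I (k + 1)).map (ModuleCat.ofHom N.subtype)).hom := by
    apply le_antisymm
    · rintro x ⟨y, rfl⟩
      exact f_comp_δH I k hS y
    · intro x hx
      obtain ⟨y, hy⟩ := exact_at_X₁ I k hS x hx
      exact ⟨y, hy⟩
  let eT := (LinearEquiv.ofInjective (δH I k hS) hδinj).trans (LinearEquiv.ofEq _ _ hδrange)
  -- transport along θ
  let eN := LinearEquiv.ofBijective (θM I (k + 1) hv K E eK N) (θ_bijective I (k + 1) hv K E eK N)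
  have hFinj := (θ_bijective I (k + 1) hv K E eK (Fin r → R)).1
  have hiff : ∀ x, x ∈ LinearMap.ker ((localCohomology I (k + 1)).map
      (ModuleCat.ofHom N.subtype)).hom ↔
      eN x ∈ LinearMap.ker (LinearMap.lcomp R E (LinearMap.lcomp R K N.subtype)) := by
    intro x
    rw [LinearMap.mem_ker, LinearMap.mem_ker]
    constructor
    · intro hx
      apply LinearMap.ext
      intro φ'
      show θM I (k + 1) hv K E eK N x (φ' ∘ₗ N.subtype) = 0
      rw [← θM_nat, hx, map_zero, LinearMap.zero_apply]
    · intro hx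
      apply hFinj
      rw [map_zero]
      apply LinearMap.ext
      intro φ'
      rw [θM_nat]
      exact LinearMap.congr_fun hx φ'
  have hmap : (LinearMap.ker ((localCohomology I (k + 1)).map
      (ModuleCat.ofHom N.subtype)).hom).map eN.toLinearMap =
      LinearMap.ker (LinearMap.lcomp R E (LinearMap.lcomp R K N.subtype)) := by
    ext ξ
    constructor
    · rintro ⟨x, hx, rfl⟩
      exact (hiff x).mp hx
    · intro hξ
      refine ⟨eN.symm ξ, (hiff _).mpr ?_, eN.apply_symm_apply ξ⟩
      rw [eN.apply_symm_apply]; exact hξ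
  let eθ := (eN.submoduleMap (LinearMap.ker ((localCohomology I (k + 1)).map
      (ModuleCat.ofHom N.subtype)).hom)).trans (LinearEquiv.ofEq _ _ hmap)
  exact ⟨eT.trans (eθ.trans (dualBdry K E p hp).symm)⟩

include hv hlow eK in
/-- local duality by dimension shifting -/
theorem main (e : ℕ) : ∀ (j : ℕ), j + e = n → ∀ (M : Type u) [AddCommGroup M] [Module R M]
    [Module.Finite R M],
    Nonempty (((localCohomology I j).obj (ModuleCat.of R M) : ModuleCat.{u} R) ≃ₗ[R]
      DE (R := R) K E e M) := by
  induction e with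
  | zero =>
    intro j hj M _ _ _
    have : j = n := by omega
    subst this
    exact level0 I j hv K E eK M
  | succ e ih =>
    cases e with
    | zero =>
      intro j hj M _ _ _
      exact level1 I n hv hlow K E eK j hj M
    | succ e' =>
      intro j hj M _ _ _
      obtain ⟨r, p, hp⟩ := Module.Finite.exists_fin' R M
      have hS := presSES p hp
      have h2 : Subsingleton ((localCohomology I j).obj (ModuleCat.of R (Fin r → R)) :
          ModuleCat.{u} R) := T_free_vanish I n hlow j (by omega)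
      have h2' : Subsingleton ((localCohomology I (j + 1)).obj (ModuleCat.of R (Fin r → R)) :
          ModuleCat.{u} R) := T_free_vanish I n hlow (j + 1) (by omega)
      obtain ⟨e1⟩ := ih (j + 1) (by omega) (LinearMap.ker p)
      exact ⟨(shiftEquiv I j hS h2 h2').trans (e1.trans
        (LinearEquiv.congrLeft E R (extShift K p hp e')))⟩

end Groth.Agent.Lib.helper19.LocalDuality1
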