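import Mathlib
import Groth.Agent.Lib.Helper19.LocalDuality1
set_option autoImplicit false

/-! Dimension shifting for `Ext^e(-, Y)` along a short exact sequence `0 → K → F → N → 0` with
projective middle term (general form), and localization of `Hom` on finite modules over a
Noetherian ring.  Preparation for the localization of `Ext` (`ExtLoc2`). -/

universe u

namespace Groth.Agent.Lib.helper19.ExtLoc
open CategoryTheory

section Shift

variable {R : Type u} [CommRing R] {K F N : Type u} [AddCommGroup K] [Module R K]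
  [AddCommGroup F] [Module R F] [AddCommGroup N] [Module R N]
  (Y : Type u) [AddCommGroup Y] [Module R Y]
  (i : K →ₗ[R] F) (p : F →ₗ[R] N) (hi : Function.Injective i) (hp : Function.Surjective p)
  (hex : Function.Exact i p)

/-- `Ext^0(M, Y) ≃ Hom(M, Y)` -/
noncomputable def ext0Equiv (M : Type u) [AddCommGroup M] [Module R M] :
    Abelian.Ext.{u} (ModuleCat.of R M) (ModuleCat.of R Y) 0 ≃ₗ[R] (M →ₗ[R] Y) :=
  (Abelian.Ext.linearEquiv₀ (R := R)).trans ModuleCat.homLinearEquiv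

lemma ext0Equiv_symm_apply (M : Type u) [AddCommGroup M] [Module R M] (ψ : M →ₗ[R] Y) :
    (ext0Equiv Y M).symm ψ = Abelian.Ext.mk₀ (ModuleCat.ofHom ψ) := rfl

/-- the short complex `K → F → N` -/
noncomputable abbrev sc : ShortComplex (ModuleCat.{u} R) :=
  ShortComplex.mk (ModuleCat.ofHom i) (ModuleCat.ofHom p) (by
    apply ModuleCat.hom_ext
    apply LinearMap.ext
    intro x
    exact hex.apply_apply_eq_zero x)

include hi hp in
lemma sc_shortExact : (sc i p hex).ShortExact :=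
  ModuleCat.shortComplex_shortExact _ hex hi hp

/-- the connecting map on `Ext`, as an equivalence in degrees `≥ 1` -/
noncomputable def extShift [Module.Projective R F] (e : ℕ) :
    Abelian.Ext.{u} (ModuleCat.of R K) (ModuleCat.of R Y) (e + 1) ≃ₗ[R]
      Abelian.Ext.{u} (ModuleCat.of R N) (ModuleCat.of R Y) (e + 2) :=
  LinearEquiv.ofBijective
    (Abelian.Ext.precompOfLinear (sc_shortExact i p hi hp hex).extClass R (ModuleCat.of R Y)
      (show 1 + (e + 1) = e + 2 by omega)) (by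
    have hF1 := Abelian.Ext.subsingleton_of_projective (ModuleCat.of R F)
      (ModuleCat.of R Y) e
    have hF2 := Abelian.Ext.subsingleton_of_projective (ModuleCat.of R F)
      (ModuleCat.of R Y) (e + 1)
    constructor
    · rw [injective_iff_map_eq_zero]
      intro x₁ hx₁
      obtain ⟨x₂, hx₂⟩ := Abelian.Ext.contravariant_sequence_exact₁
        (sc_shortExact i p hi hp hex)
        (ModuleCat.of R Y) x₁ (show 1 + (e + 1) = e + 2 by omega) hx₁
      have hx0 : x₂ = 0 := hF1.elim _ _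
      rw [← hx₂, hx0, Abelian.Ext.comp_zero]
    · intro x₃
      obtain ⟨x₁, hx₁⟩ := Abelian.Ext.contravariant_sequence_exact₃
        (sc_shortExact i p hi hp hex)
        (ModuleCat.of R Y) x₃ (hF2.elim _ _) (show 1 + (e + 1) = e + 2 by omega)
      exact ⟨x₁, hx₁⟩)

/-- `∂ : Hom(K, Y) → Ext^1(N, Y)` -/
noncomputable def bdry : (K →ₗ[R] Y) →ₗ[R]
    Abelian.Ext.{u} (ModuleCat.of R N) (ModuleCat.of R Y) 1 :=
  (Abelian.Ext.precompOfLinear (sc_shortExact i p hi hp hex).extClass R (ModuleCat.of R Y)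
      (show 1 + 0 = 1 by omega)) ∘ₗ (ext0Equiv Y K).symm.toLinearMap

lemma bdry_apply (ψ : K →ₗ[R] Y) :
    bdry Y i p hi hp hex ψ = (sc_shortExact i p hi hp hex).extClass.comp
      (Abelian.Ext.mk₀ (ModuleCat.ofHom ψ)) (show 1 + 0 = 1 by omega) := rfl

lemma bdry_surjective [Module.Projective R F] : Function.Surjective (bdry Y i p hi hp hex) := by
  have hF1 := Abelian.Ext.subsingleton_of_projective (ModuleCat.of R F)
    (ModuleCat.of R Y) 0
  intro x₃
  obtain ⟨x₁, hx₁⟩ := Abelian.Ext.contravariant_sequence_exact₃ (sc_shortExact i p hi hp hex)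
    (ModuleCat.of R Y) x₃ (hF1.elim _ _) (show 1 + 0 = 1 by omega)
  refine ⟨ext0Equiv Y K x₁, ?_⟩
  have h : (ext0Equiv Y K).symm (ext0Equiv Y K x₁) = x₁ :=
    LinearEquiv.symm_apply_apply _ _
  show (sc_shortExact i p hi hp hex).extClass.comp
    ((ext0Equiv Y K).symm (ext0Equiv Y K x₁))
    (show 1 + 0 = 1 by omega) = x₃
  rw [h]
  exact hx₁

lemma bdry_eq_zero_iff (ψ : K →ₗ[R] Y) :
    bdry Y i p hi hp hex ψ = 0 ↔ ∃ φ : F →ₗ[R] Y, φ ∘ₗ i = ψ := by
  constructor
  · intro hψ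
    rw [bdry_apply] at hψ
    obtain ⟨x₂, hx₂⟩ := Abelian.Ext.contravariant_sequence_exact₁ (sc_shortExact i p hi hp hex)
      (ModuleCat.of R Y) (Abelian.Ext.mk₀ (ModuleCat.ofHom ψ)) (show 1 + 0 = 1 by omega) hψ
    refine ⟨ext0Equiv Y F x₂, ?_⟩
    apply (ext0Equiv Y K).symm.injective
    rw [ext0Equiv_symm_apply, ext0Equiv_symm_apply, ← hx₂]
    have h3 : x₂ = Abelian.Ext.mk₀ (ModuleCat.ofHom (ext0Equiv Y F x₂)) := by
      rw [← ext0Equiv_symm_apply, LinearEquiv.symm_apply_apply]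
    conv_rhs => rw [h3]
    rw [Abelian.Ext.mk₀_comp_mk₀]
    rfl
  · rintro ⟨φ, rfl⟩
    rw [bdry_apply]
    have h1 : Abelian.Ext.mk₀ (ModuleCat.ofHom (φ ∘ₗ i)) =
        (Abelian.Ext.mk₀ (sc i p hex).f).comp (Abelian.Ext.mk₀ (ModuleCat.ofHom φ))
          (zero_add 0) := by
      rw [Abelian.Ext.mk₀_comp_mk₀]
      rfl
    rw [h1]
    exact (sc_shortExact i p hi hp hex).extClass_comp_assoc _

include hi hp hex in
lemma ext1_subsingleton_iff [Module.Projective R F] :
    Subsingleton (Abelian.Ext.{u} (ModuleCat.of R N) (ModuleCat.of R Y) 1) ↔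
      ∀ ψ : K →ₗ[R] Y, ∃ φ : F →ₗ[R] Y, φ ∘ₗ i = ψ := by
  constructor
  · intro h ψ
    exact (bdry_eq_zero_iff Y i p hi hp hex ψ).1 (h.elim _ _)
  · intro h
    refine ⟨fun x y => ?_⟩
    obtain ⟨ψ, rfl⟩ := bdry_surjective Y i p hi hp hex x
    obtain ⟨ψ₂, rfl⟩ := bdry_surjective Y i p hi hp hex y
    rw [(bdry_eq_zero_iff Y i p hi hp hex ψ).2 (h ψ), (bdry_eq_zero_iff Y i p hi hp hex ψ₂).2 (h ψ₂)]

end Shift

section Loc

variable {S : Type u} [CommRing S] (T : Submonoid S)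

/-- `T`-torsion modules -/
def TTors (X : Type*) [AddCommGroup X] [Module S X] : Prop := ∀ x : X, ∃ t ∈ T, t • x = 0

lemma TTors.of_linearEquiv {X X' : Type*} [AddCommGroup X] [Module S X] [AddCommGroup X']
    [Module S X'] (e : X ≃ₗ[S] X') (h : TTors T X) : TTors T X' := by
  intro x'
  obtain ⟨t, ht, h0⟩ := h (e.symm x')
  refine ⟨t, ht, ?_⟩
  have := congrArg e h0
  rwa [map_smul, LinearEquiv.apply_symm_apply, map_zero] at this

lemma ttors_congr {X X' : Type*} [AddCommGroup X] [Module S X] [AddCommGroup X']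
    [Module S X'] (e : X ≃ₗ[S] X') : TTors T X ↔ TTors T X' :=
  ⟨TTors.of_linearEquiv T e, TTors.of_linearEquiv T e.symm⟩

lemma ttors_of_subsingleton (X : Type*) [AddCommGroup X] [Module S X] [Subsingleton X] :
    TTors T X := fun x => ⟨1, T.one_mem, Subsingleton.elim _ _⟩

variable (S' : Type u) [CommRing S'] [Algebra S S'] [IsLocalization T S']
variable {Y Y' : Type u} [AddCommGroup Y] [Module S Y] [AddCommGroup Y'] [Module S Y']
  [Module S' Y'] [IsScalarTower S S' Y'] (gY : Y →ₗ[S] Y') [IsLocalizedModule T gY]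

section Hom
variable {N N' : Type u} [AddCommGroup N] [Module S N] [AddCommGroup N'] [Module S N']
  [Module S' N'] [IsScalarTower S S' N'] (f : N →ₗ[S] N') [IsLocalizedModule T f]

/-- every `S'`-linear map between the localizations comes from an `S`-linear map up to a
denominator -/
lemma hom_surj [Module.FinitePresentation S N] (ψ' : N' →ₗ[S'] Y') :
    ∃ (ψ : N →ₗ[S] Y) (t : S), t ∈ T ∧ ∀ x : N, gY (ψ x) = t • ψ' (f x) := by
  obtain ⟨⟨ψ, t⟩, h⟩ := IsLocalizedModule.surj T (IsLocalizedModule.map T f gY)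
    (ψ'.restrictScalars S)
  refine ⟨ψ, t.1, t.2, fun x => ?_⟩
  have := LinearMap.congr_fun h (f x)
  rw [IsLocalizedModule.map_apply] at this
  exact this.symm

/-- two `S`-linear maps which agree after localization agree up to a denominator -/
lemma hom_inj [Module.Finite S N] (ψ₁ ψ₂ : N →ₗ[S] Y) (h : ∀ x : N, gY (ψ₁ x) = gY (ψ₂ x)) :
    ∃ t ∈ T, t • ψ₁ = t • ψ₂ := by
  obtain ⟨t, ht⟩ := Module.Finite.exists_smul_of_comp_eq_of_isLocalizedModule T gY ψ₁ ψ₂
    (LinearMap.ext h)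
  exact ⟨t.1, t.2, ht⟩

include f gY in
lemma hom0 [Module.FinitePresentation S N] :
    Subsingleton (N' →ₗ[S'] Y') ↔ TTors T (N →ₗ[S] Y) := by
  rw [← (LinearMap.extendScalarsOfIsLocalizationEquiv T S' (M := N') (N := Y')).toEquiv.subsingleton_congr]
  exact IsLocalizedModule.subsingleton_iff T (IsLocalizedModule.map T f gY)

end Hom

section Ses

variable {K F N : Type u} [AddCommGroup K] [Module S K] [AddCommGroup F] [Module S F]
  [AddCommGroup N] [Module S N]
  (i : K →ₗ[S] F) (p : F →ₗ[S] N) (hi : Function.Injective i) (hp : Function.Surjective p)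
  (hex : Function.Exact i p)
  {K' F' N' : Type u} [AddCommGroup K'] [Module S K'] [Module S' K'] [IsScalarTower S S' K']
  [AddCommGroup F'] [Module S F'] [Module S' F'] [IsScalarTower S S' F']
  [AddCommGroup N'] [Module S' N']
  (i' : K' →ₗ[S'] F') (p' : F' →ₗ[S'] N') (hi' : Function.Injective i')
  (hp' : Function.Surjective p') (hex' : Function.Exact i' p')
  (κ : K →ₗ[S] K') [IsLocalizedModule T κ] (ιF : F →ₗ[S] F') [IsLocalizedModule T ιF]
  (hcomp : ∀ k, i' (κ k) = ιF (i k))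

include hi hp hex in
lemma ext1_ttors_iff [Module.Projective S F] :
    TTors T (Abelian.Ext.{u} (ModuleCat.of S N) (ModuleCat.of S Y) 1) ↔
      ∀ ψ : K →ₗ[S] Y, ∃ t ∈ T, ∃ φ : F →ₗ[S] Y, φ ∘ₗ i = t • ψ := by
  constructor
  · intro h ψ
    obtain ⟨t, ht, h0⟩ := h (bdry Y i p hi hp hex ψ)
    rw [← map_smul] at h0
    exact ⟨t, ht, (bdry_eq_zero_iff Y i p hi hp hex _).1 h0⟩
  · intro h x
    obtain ⟨ψ, rfl⟩ := bdry_surjective Y i p hi hp hex x
    obtain ⟨t, ht, hφ⟩ := h ψ
    refine ⟨t, ht, ?_⟩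
    rw [← map_smul]
    exact (bdry_eq_zero_iff Y i p hi hp hex _).2 hφ

include hi' hp' hex' hi hp hex hcomp gY in
/-- localization of `Ext^1` (vanishing form) -/
theorem ext1_iff [Module.Projective S F] [Module.Projective S' F']
    [Module.FinitePresentation S K] [Module.FinitePresentation S F] :
    Subsingleton (Abelian.Ext.{u} (ModuleCat.of S' N') (ModuleCat.of S' Y') 1) ↔
      TTors T (Abelian.Ext.{u} (ModuleCat.of S N) (ModuleCat.of S Y) 1) := by
  rw [ext1_subsingleton_iff Y' i' p' hi' hp' hex', ext1_ttors_iff T i p hi hp hex]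
  constructor
  · intro h ψ
    let ψ' : K' →ₗ[S'] Y' :=
      (IsLocalizedModule.map T κ gY ψ).extendScalarsOfIsLocalization T S'
    have hψ' : ∀ k, ψ' (κ k) = gY (ψ k) := fun k => IsLocalizedModule.map_apply T κ gY ψ k
    obtain ⟨φ', hφ'⟩ := h ψ'
    obtain ⟨φ, t, ht, hφ⟩ := hom_surj T S' gY ιF φ'
    have hagree : ∀ k : K, gY ((φ ∘ₗ i) k) = gY ((t • ψ) k) := by
      intro k
      rw [LinearMap.comp_apply, hφ, ← hcomp, LinearMap.smul_apply, map_smul, ← hψ', ← hφ']
      rfl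
    obtain ⟨t', ht', heq⟩ := hom_inj T gY (φ ∘ₗ i) (t • ψ) hagree
    refine ⟨t' * t, T.mul_mem ht' ht, t' • φ, ?_⟩
    rw [LinearMap.smul_comp, heq, mul_smul]
  · intro h ψ'
    obtain ⟨ψ, t, ht, hψ⟩ := hom_surj T S' gY κ ψ'
    obtain ⟨t₂, ht₂, φ, hφ⟩ := h ψ
    let φ'₁ : F' →ₗ[S'] Y' :=
      (IsLocalizedModule.map T ιF gY φ).extendScalarsOfIsLocalization T S'
    have hφ'₁ : ∀ x, φ'₁ (ιF x) = gY (φ x) := fun x => IsLocalizedModule.map_apply T ιF gY φ x
    let u : S' := IsLocalization.mk' S' (1 : S) (⟨t₂ * t, T.mul_mem ht₂ ht⟩ : T)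
    have hu : u * algebraMap S S' (t₂ * t) = 1 := by
      have := IsLocalization.mk'_spec S' (1 : S) (⟨t₂ * t, T.mul_mem ht₂ ht⟩ : T)
      rw [map_one] at this
      exact this
    refine ⟨u • φ'₁, ?_⟩
    have hrs : ((u • φ'₁) ∘ₗ i').restrictScalars S = ψ'.restrictScalars S := by
      apply IsLocalizedModule.ext T κ (IsLocalizedModule.map_units gY)
      apply LinearMap.ext
      intro k
      show u • φ'₁ (i' (κ k)) = ψ' (κ k)
      have e1 : φ (i k) = t₂ • ψ k := LinearMap.congr_fun hφ k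
      have e2 : φ'₁ (i' (κ k)) = (t₂ * t) • ψ' (κ k) := by
        rw [hcomp, hφ'₁, e1, map_smul, hψ, mul_smul]
      rw [e2, ← algebraMap_smul S' (t₂ * t) (ψ' (κ k)), ← mul_smul, hu, one_smul]
    apply LinearMap.ext
    intro x
    exact LinearMap.congr_fun hrs x

end Ses

end Loc

end Groth.Agent.Lib.helper19.ExtLoc
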