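import Mathlib
import Groth.Agent.Lib.Helper19.ExtLoc1
set_option autoImplicit false

/-! Localization of `Ext` on finite modules over a Noetherian ring, vanishing form:
`Ext^n_{S'}(N', Y') = 0` iff `Ext^n_S(N, Y)` is `T`-torsion, where `S' = T⁻¹S`, `N' = T⁻¹N`,
`Y' = T⁻¹Y`. -/

universe u

namespace Groth.Agent.Lib.helper19.ExtLoc
open CategoryTheory

variable {S : Type u} [CommRing S] (T : Submonoid S)
variable (S' : Type u) [CommRing S'] [Algebra S S'] [IsLocalization T S']

section Pres

variable {N N' : Type u} [AddCommGroup N] [Module S N] [AddCommGroup N'] [Module S N']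
  [Module S' N'] [IsScalarTower S S' N'] (f : N →ₗ[S] N') [IsLocalizedModule T f]
variable {r : ℕ} (p : (Fin r → S) →ₗ[S] N)

/-- coordinatewise localization `S^r → S'^r` -/
noncomputable def ιF (r : ℕ) : (Fin r → S) →ₗ[S] (Fin r → S') :=
  LinearMap.pi fun j => (Algebra.linearMap S S') ∘ₗ LinearMap.proj j

instance (r : ℕ) : IsLocalizedModule T (ιF (S := S) S' r) :=
  IsLocalizedModule.pi T (fun _ : Fin r => Algebra.linearMap S S')

/-- the localized presentation -/
noncomputable def p' : (Fin r → S') →ₗ[S'] N' :=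
  (IsLocalizedModule.map T (ιF S' r) f p).extendScalarsOfIsLocalization T S'

lemma p'_ιF (x : Fin r → S) : p' T S' f p (ιF S' r x) = f (p x) :=
  IsLocalizedModule.map_apply T (ιF S' r) f p x

include T in
lemma p'_surjective (hp : Function.Surjective p) : Function.Surjective (p' T S' f p) := by
  intro y
  obtain ⟨⟨n, t⟩, h⟩ := IsLocalizedModule.surj T f y
  obtain ⟨x, rfl⟩ := hp n
  let u : S' := IsLocalization.mk' S' (1 : S) t
  have hu : u * algebraMap S S' t = 1 := by
    have := IsLocalization.mk'_spec S' (1 : S) t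
    rwa [map_one] at this
  refine ⟨u • ιF S' r x, ?_⟩
  rw [map_smul, p'_ιF, ← h, Submonoid.smul_def, ← algebraMap_smul S' (t : S) y, ← mul_smul, hu,
    one_smul]

/-- the localization map on kernels -/
noncomputable def κ : LinearMap.ker p →ₗ[S] LinearMap.ker (p' T S' f p) where
  toFun x := ⟨ιF S' r x.1, by
    rw [LinearMap.mem_ker, p'_ιF, LinearMap.mem_ker.1 x.2, map_zero]⟩
  map_add' x y := by
    apply Subtype.ext
    simp
  map_smul' a x := by
    apply Subtype.ext
    simp

lemma κ_coe (x : LinearMap.ker p) : ((κ T S' f p x : LinearMap.ker (p' T S' f p)) : Fin r → S') =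
    ιF S' r x.1 := rfl

instance : IsLocalizedModule T (κ T S' f p) where
  map_units t := (isLocalizedModule_id T (LinearMap.ker (p' T S' f p)) S').map_units t
  surj y := by
    obtain ⟨⟨x, t⟩, h⟩ := IsLocalizedModule.surj T (ιF (S := S) S' r) y.1
    have h0 : f (p x) = 0 := by
      rw [← p'_ιF T S' f p x, ← h, Submonoid.smul_def, ← algebraMap_smul S' (t : S) y.1, map_smul,
        LinearMap.mem_ker.1 y.2, smul_zero]
    obtain ⟨t', ht'⟩ := (IsLocalizedModule.eq_zero_iff T f).1 h0
    have hmem : (t' : S) • x ∈ LinearMap.ker p := by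
      rw [LinearMap.mem_ker, map_smul]
      exact ht'
    refine ⟨⟨⟨(t' : S) • x, hmem⟩, t' * t⟩, ?_⟩
    apply Subtype.ext
    show ((t' * t : T) : S) • y.1 = ιF S' r ((t' : S) • x)
    rw [map_smul, ← h, Submonoid.coe_mul, mul_smul, Submonoid.smul_def]
  exists_of_eq := by
    intro x₁ x₂ h
    have h' : ιF (S := S) S' r x₁.1 = ιF S' r x₂.1 := congrArg Subtype.val h
    obtain ⟨c, hc⟩ := IsLocalizedModule.exists_of_eq (S := T) h'
    exact ⟨c, Subtype.ext hc⟩

end Pres

section Main

variable {Y Y' : Type u} [AddCommGroup Y] [Module S Y] [AddCommGroup Y'] [Module S Y']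
  [Module S' Y'] [IsScalarTower S S' Y'] (gY : Y →ₗ[S] Y') [IsLocalizedModule T gY]

include gY in
/-- **localization of `Ext`**, vanishing form -/
theorem ext_iff [IsNoetherianRing S] (n : ℕ) : ∀ (N : Type u) [AddCommGroup N] [Module S N]
    [Module.Finite S N] (N' : Type u) [AddCommGroup N'] [Module S N'] [Module S' N']
    [IsScalarTower S S' N'] (f : N →ₗ[S] N') [IsLocalizedModule T f],
    Subsingleton (Abelian.Ext.{u} (ModuleCat.of S' N') (ModuleCat.of S' Y') n) ↔
      TTors T (Abelian.Ext.{u} (ModuleCat.of S N) (ModuleCat.of S Y) n) := by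
  induction n with
  | zero =>
    intro N _ _ _ N' _ _ _ _ f _
    rw [(ext0Equiv Y' N').toEquiv.subsingleton_congr, ttors_congr T (ext0Equiv Y N)]
    haveI := Module.finitePresentation_of_finite S N
    exact hom0 T S' gY f
  | succ n ih =>
    intro N _ _ _ N' _ _ _ _ f _
    obtain ⟨r, p, hp⟩ := Module.Finite.exists_fin' S N
    have hp' := p'_surjective T S' f p hp
    have hcomp : ∀ k : LinearMap.ker p,
        (LinearMap.ker (p' T S' f p)).subtype (κ T S' f p k) =
          ιF S' r ((LinearMap.ker p).subtype k) := fun k => rfl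
    haveI := Module.finitePresentation_of_finite S (LinearMap.ker p)
    cases n with
    | zero =>
      exact ext1_iff T S' gY (LinearMap.ker p).subtype p (Submodule.injective_subtype _) hp
        (LinearMap.exact_subtype_ker_map p) (LinearMap.ker (p' T S' f p)).subtype (p' T S' f p)
        (Submodule.injective_subtype _) hp' (LinearMap.exact_subtype_ker_map _)
        (κ T S' f p) (ιF S' r) hcomp
    | succ n =>
      have e1 := extShift Y (LinearMap.ker p).subtype p (Submodule.injective_subtype _) hp
        (LinearMap.exact_subtype_ker_map p) n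
      have e2 := extShift Y' (LinearMap.ker (p' T S' f p)).subtype (p' T S' f p)
        (Submodule.injective_subtype _) hp' (LinearMap.exact_subtype_ker_map _) n
      rw [← e2.toEquiv.subsingleton_congr, ← ttors_congr T e1]
      exact ih (LinearMap.ker p) (LinearMap.ker (p' T S' f p)) (κ T S' f p)

end Main

end Groth.Agent.Lib.helper19.ExtLoc
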