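import Mathlib
import Groth.Prelude.Def_Wider
import Groth.Agent.S2943
import Groth.Agent.S5160
import Groth.Agent.Lib.Helper19.LCBridge
import Groth.Agent.Lib.Helper19.LCGroth
set_option autoImplicit false

/-! Local duality over a regular local ring, vanishing form: for a finite module `M` over a regular
local ring `A` of dimension `d` and `j + e = d`, `H^j_m(M) = 0` iff `Ext^e_A(M, A) = 0`; and
`H^j_m(M) = 0` for `j > d`. -/

universe u

namespace Groth.Agent.Lib.helper19.RegDual
open CategoryTheory IsLocalRing

/-- Matlis faithfulness: over a local ring, a module all of whose maps to an injective module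
containing the residue field vanish is zero. -/
theorem subsingleton_of_hom_subsingleton (A : Type u) [CommRing A] [IsLocalRing A]
    (E : Type u) [AddCommGroup E] [Module A E] [Module.Injective A E]
    (f : ResidueField A →ₗ[A] E) (hf : Function.Injective f)
    (X : Type u) [AddCommGroup X] [Module A X] (h : Subsingleton (X →ₗ[A] E)) :
    Subsingleton X := by
  by_contra hX
  rw [not_subsingleton_iff_nontrivial] at hX
  obtain ⟨x, hx⟩ := exists_ne (0 : X)
  let τ : A →ₗ[A] X := LinearMap.toSpanSingleton A X x
  have hker : LinearMap.ker τ ≤ maximalIdeal A := by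
    apply IsLocalRing.le_maximalIdeal
    intro htop
    have h1 : (1 : A) ∈ LinearMap.ker τ := htop ▸ Submodule.mem_top
    rw [LinearMap.mem_ker, LinearMap.toSpanSingleton_apply, one_smul] at h1
    exact hx h1
  -- the map `A∙x ≅ A / ann x → κ → E`
  let g₀ : (A ⧸ LinearMap.ker τ) →ₗ[A] ResidueField A :=
    Submodule.mapQ (LinearMap.ker τ) (maximalIdeal A) LinearMap.id (by simpa using hker)
  let e := LinearMap.quotKerEquivRange τ
  let g : LinearMap.range τ →ₗ[A] E := f ∘ₗ g₀ ∘ₗ e.symm.toLinearMap
  obtain ⟨η, hη⟩ := Module.Injective.out (LinearMap.range τ).subtype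
    (Submodule.injective_subtype _) g
  have hη0 : η = 0 := h.elim _ _
  have hx' : (⟨x, ⟨1, by simp [τ]⟩⟩ : LinearMap.range τ) = e (Submodule.Quotient.mk 1) := by
    apply Subtype.ext
    show x = ((LinearMap.quotKerEquivRange τ (Submodule.Quotient.mk 1) : LinearMap.range τ) : X)
    rw [LinearMap.quotKerEquivRange_apply_mk]
    simp [τ]
  have := hη ⟨x, ⟨1, by simp [τ]⟩⟩
  rw [hη0, LinearMap.zero_apply] at this
  have h2 : g ⟨x, ⟨1, by simp [τ]⟩⟩ = f 1 := by
    show f (g₀ (e.symm _)) = f 1
    rw [hx', LinearEquiv.symm_apply_apply]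
    rfl
  rw [h2] at this
  have h3 : (1 : ResidueField A) = 0 := hf (by rw [← this, map_zero])
  exact one_ne_zero h3

/-- local duality over a regular local ring, vanishing form -/
theorem H_subsingleton_iff (A : Type u) [CommRing A] [IsRegularLocalRing A] (d : ℕ)
    (hd : ringKrullDim A = d) (M : Type u) [AddCommGroup M] [Module A M] [Module.Finite A M]
    (j e : ℕ) (hje : j + e = d) :
    Subsingleton (LocCoh.H (maximalIdeal A) j M) ↔
      Subsingleton (Abelian.Ext.{u} (ModuleCat.of A M) (ModuleCat.of A A) e) := by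
  obtain ⟨f, hf⟩ := Groth.Agent.S5160.result A d hd
  obtain ⟨ε⟩ := Groth.Agent.S2943.result A d hd _ f hf M j (by omega)
  obtain rfl : d - j = e := by omega
  have o := Groth.Agent.Lib.helper19.LCBridge.oldExtEquiv (R := A) (ModuleCat.of A M)
    (ModuleCat.of A A) (d - j)
  haveI : Module.Injective A (LocCoh.H (maximalIdeal A) d A) := hf.isInjective
  constructor
  · intro h
    have h1 : Subsingleton ((((Ext A (ModuleCat.{u} A) (d - j)).obj
        (Opposite.op (ModuleCat.of A M))).obj (ModuleCat.of A A)) →ₗ[A]
        LocCoh.H (maximalIdeal A) d A) := ε.symm.toEquiv.subsingleton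
    have h2 := subsingleton_of_hom_subsingleton A _ f hf.injective _ h1
    exact o.symm.toEquiv.subsingleton
  · intro h
    have h2 : Subsingleton (((Ext A (ModuleCat.{u} A) (d - j)).obj
        (Opposite.op (ModuleCat.of A M))).obj (ModuleCat.of A A)) := o.toEquiv.subsingleton
    have h1 : Subsingleton ((((Ext A (ModuleCat.{u} A) (d - j)).obj
        (Opposite.op (ModuleCat.of A M))).obj (ModuleCat.of A A)) →ₗ[A]
        LocCoh.H (maximalIdeal A) d A) :=
      ⟨fun a b => LinearMap.ext fun x => by rw [Subsingleton.elim x 0, map_zero, map_zero]⟩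
    exact ε.toEquiv.subsingleton

/-- Grothendieck vanishing above the dimension -/
theorem H_subsingleton_of_gt (A : Type u) [CommRing A] [IsLocalRing A] [IsNoetherianRing A] (d : ℕ)
    (hd : ringKrullDim A = d) (M : Type u) [AddCommGroup M] [Module A M]
    (j : ℕ) (hj : d < j) : Subsingleton (LocCoh.H (maximalIdeal A) j M) := by
  apply Groth.Agent.Lib.helper19.LCGroth.vanish
  refine lt_of_le_of_lt (Module.supportDim_le_ringKrullDim A M) ?_
  rw [hd]
  exact_mod_cast hj

end Groth.Agent.Lib.helper19.RegDual
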