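import Mathlib
import Groth.Agent.Lib.Helper19.ExtLoc2
import Groth.Agent.Lib.Helper19.RegDual
import Groth.Agent.Lib.Helper19.MatlisLen
import Groth.Agent.Lib.Helper19.ExtLen
import Groth.Agent.Lib.Helper26.ProjDimRegular
import Groth.Agent.Lib.Helper8.StalkLenAlg
set_option autoImplicit false

/-! Finite length of `H^i_m(M)` over a regular local ring `R`: it is equivalent to the vanishing of
the localizations of `Ext^{d-i}_R(M, R)` at all non-maximal primes. -/

universe u

namespace Groth.Agent.Lib.helper19.FinLen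
open CategoryTheory CategoryTheory.Limits IsLocalRing Groth.Agent.Lib.helper19.ExtLoc
  Groth.Agent.Lib.helper19.RegDual

/-- `Ext` out of a zero module vanishes -/
theorem ext_subsingleton_of_subsingleton {S : Type u} [CommRing S] (N Y : Type u) [AddCommGroup N]
    [Module S N] [AddCommGroup Y] [Module S Y] [Subsingleton N] (n : ℕ) :
    Subsingleton (Abelian.Ext.{u} (ModuleCat.of S N) (ModuleCat.of S Y) n) := by
  have hz : IsZero (ModuleCat.of S N) := ModuleCat.isZero_of_subsingleton _
  refine ⟨fun x y => ?_⟩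
  have h0 : ∀ z : Abelian.Ext.{u} (ModuleCat.of S N) (ModuleCat.of S Y) n, z = 0 := by
    intro z
    have h1 : (Abelian.Ext.mk₀ (𝟙 (ModuleCat.of S N))).comp z (zero_add n) = z :=
      Abelian.Ext.mk₀_id_comp z
    rw [← h1, hz.eq_of_src (𝟙 _) 0, Abelian.Ext.mk₀_zero, Abelian.Ext.zero_comp]
  rw [h0 x, h0 y]

/-- over a regular local ring `Ext^n(N, -)` vanishes for `n > dim`. -/
theorem ext_subsingleton_of_gt (S : Type u) [CommRing S] [IsRegularLocalRing S] (d : ℕ)
    (hd : ringKrullDim S = d) (N Y : Type u) [AddCommGroup N] [Module S N] [Module.Finite S N]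
    [AddCommGroup Y] [Module S Y] (n : ℕ) (hn : d < n) :
    Subsingleton (Abelian.Ext.{u} (ModuleCat.of S N) (ModuleCat.of S Y) n) := by
  have hsp : (maximalIdeal S).spanFinrank = d := by
    have h1 : ((maximalIdeal S).spanFinrank : WithBot ℕ∞) = ringKrullDim S :=
      IsRegularLocalRing.spanFinrank_maximalIdeal
    rw [hd] at h1
    exact_mod_cast h1
  haveI := Groth.Agent.Lib.helper26.PDReg.hasProjectiveDimensionLE_of_isRegularLocalRing d S hsp N
  exact HasProjectiveDimensionLT.subsingleton (ModuleCat.of S N) (d + 1) n (by omega) _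

/-- Matlis faithfulness, element form -/
theorem exists_hom_ne_zero (A : Type u) [CommRing A] [IsLocalRing A]
    (E : Type u) [AddCommGroup E] [Module A E] [Module.Injective A E]
    (f : ResidueField A →ₗ[A] E) (hf : Function.Injective f)
    (X : Type u) [AddCommGroup X] [Module A X] (x : X) (hx : x ≠ 0) :
    ∃ ψ : X →ₗ[A] E, ψ x ≠ 0 := by
  by_contra hcon
  push Not at hcon
  have hsub : Subsingleton (Submodule.span A {x} →ₗ[A] E) := by
    refine ⟨fun a b => ?_⟩
    have h0 : ∀ c : Submodule.span A {x} →ₗ[A] E, c = 0 := by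
      intro c
      obtain ⟨η, hη⟩ := Module.Injective.out (Submodule.span A {x}).subtype
        (Submodule.injective_subtype _) c
      have hcx : c ⟨x, Submodule.mem_span_singleton_self x⟩ = 0 := by
        rw [← hη]
        exact hcon η
      apply LinearMap.ext
      intro y
      obtain ⟨a, ha⟩ := Submodule.mem_span_singleton.1 y.2
      have : y = a • (⟨x, Submodule.mem_span_singleton_self x⟩ : Submodule.span A {x}) :=
        Subtype.ext ha.symm
      rw [this, map_smul, hcx, smul_zero, LinearMap.zero_apply]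
    rw [h0 a, h0 b]
  have := subsingleton_of_hom_subsingleton A E f hf (Submodule.span A {x}) hsub
  have h1 : (⟨x, Submodule.mem_span_singleton_self x⟩ : Submodule.span A {x}) = 0 :=
    Subsingleton.elim _ _
  exact hx (congrArg Subtype.val h1)

lemma isFiniteLength_congr {R : Type*} [Ring R] {M N : Type*} [AddCommGroup M] [Module R M]
    [AddCommGroup N] [Module R N] (e : M ≃ₗ[R] N) : IsFiniteLength R M ↔ IsFiniteLength R N :=
  ⟨fun h => h.of_injective (f := e.symm.toLinearMap) e.symm.injective,
    fun h => h.of_injective (f := e.toLinearMap) e.injective⟩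

/-- finite length of `H^i_m(M)` over a regular local ring in terms of `Ext^{d-i}(M, R)`. -/
theorem finLen_H_iff (R : Type u) [CommRing R] [IsRegularLocalRing R] (d : ℕ)
    (hd : ringKrullDim R = d) (M : Type u) [AddCommGroup M] [Module R M] [Module.Finite R M]
    (i n : ℕ) (hin : i + n = d) :
    IsFiniteLength R (LocCoh.H (maximalIdeal R) i M) ↔
      ∀ (P : Ideal R) [P.IsPrime], P ≠ maximalIdeal R →
        TTors P.primeCompl (Abelian.Ext.{u} (ModuleCat.of R M) (ModuleCat.of R R) n) := by
  obtain ⟨f, hf⟩ := Groth.Agent.S5160.result R d hd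
  obtain ⟨ε⟩ := Groth.Agent.S2943.result R d hd _ f hf M i (by omega)
  obtain rfl : d - i = n := by omega
  have o := Groth.Agent.Lib.helper19.LCBridge.oldExtEquiv (R := R) (ModuleCat.of R M)
    (ModuleCat.of R R) (d - i)
  haveI : Module.Injective R (LocCoh.H (maximalIdeal R) d R) := hf.isInjective
  have e1 := ε.trans (LinearEquiv.congrLeft (LocCoh.H (maximalIdeal R) d R) R o)
  rw [isFiniteLength_congr e1]
  constructor
  · intro hD P hP hne x
    obtain ⟨k, hk⟩ := Groth.Agent.Lib.helper19.ExtLen.exists_kill_of_isFiniteLength _ hD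
    have hkill : ∀ a ∈ maximalIdeal R ^ k, ∀ y : Abelian.Ext.{u} (ModuleCat.of R M)
        (ModuleCat.of R R) (d - i), a • y = 0 := by
      intro a ha y
      by_contra hne0
      obtain ⟨ψ, hψ⟩ := exists_hom_ne_zero R _ f hf.injective _ (a • y) hne0
      have h0 := hk a ha ψ
      apply hψ
      rw [map_smul, ← LinearMap.smul_apply, h0, LinearMap.zero_apply]
    have hPle : P ≤ maximalIdeal R := IsLocalRing.le_maximalIdeal hP.ne_top
    obtain ⟨a, ham, haP⟩ : ∃ a ∈ maximalIdeal R, a ∉ P := by
      by_contra hcon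
      push Not at hcon
      exact hne (le_antisymm hPle hcon)
    refine ⟨a ^ k, ?_, hkill _ (Ideal.pow_mem_pow ham k) x⟩
    show a ^ k ∉ P
    intro hmem
    exact haP (hP.mem_of_pow_mem k hmem)
  · intro hT
    have hsupp : ∀ Q ∈ Module.support R (Abelian.Ext.{u} (ModuleCat.of R M)
        (ModuleCat.of R R) (d - i)), Q.asIdeal.IsMaximal := by
      intro Q hQ
      by_contra hmax
      have hne : Q.asIdeal ≠ maximalIdeal R := fun h => hmax (h ▸ IsLocalRing.maximalIdeal.isMaximal R)
      have h1 := hT Q.asIdeal hne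
      have h2 : Subsingleton (LocalizedModule Q.asIdeal.primeCompl (Abelian.Ext.{u}
          (ModuleCat.of R M) (ModuleCat.of R R) (d - i))) :=
        LocalizedModule.subsingleton_iff.2 h1
      exact (Module.notMem_support_iff.2 h2) hQ
    have hX := Groth.Agent.Lib.helper8.StalkLen.isFiniteLength_of_support_isMaximal hsupp
    rw [← Module.length_ne_top_iff,
      Groth.Agent.Lib.helper19.MatlisLen.length_hom_eq f hf _ hX, Module.length_ne_top_iff]
    exact hX

end Groth.Agent.Lib.helper19.FinLen
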