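import Mathlib
import Groth.Prelude.Def_Wider
import Groth.Agent.Lib.Helper19.LocalDuality1
set_option autoImplicit false

/-! Local duality, continued: vanishing of `Ext^e(M, K)` for `e > n` (finite injective dimension of a
canonical module), by dimension shifting along syzygies. -/

universe u

namespace Groth.Agent.Lib.helper19.LocalDuality2
open CategoryTheory Groth.Agent.Lib.helper19.LocalDuality0 Groth.Agent.Lib.helper19.LocalDuality1
  Groth.Agent.Lib.helper19.LCBridge Groth.Agent.Lib.helper19.LCLes
  Groth.Agent.Lib.helper19.LCLes2 Groth.Agent.Lib.helper19.LCFactor Groth.Agent.S5162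

variable {R : Type u} [CommRing R] [IsNoetherianRing R] (I : Ideal R) (n : ℕ)
variable (hv : ∀ M : ModuleCat.{u} R, Subsingleton ((localCohomology I (n + 1)).obj M))
variable (hlow : ∀ j : ℕ, j < n →
  Subsingleton ((localCohomology I j).obj (ModuleCat.of R R) : ModuleCat.{u} R))
variable (K E : Type u) [AddCommGroup K] [Module R K] [Module.Finite R K]
  [AddCommGroup E] [Module R E] [Module.Injective R E] (eK : (K →ₗ[R] E) ≃ₗ[R] X I n)

section Pres
variable {M : Type u} [AddCommGroup M] [Module R M] {r : ℕ} (p : (Fin r → R) →ₗ[R] M)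
  (hp : Function.Surjective p)

include hv eK hp in
/-- `ker (H^n(ker p) → H^n(R^r)) ≃ Hom(Ext^1(M, K), E)` -/
theorem kerEquiv [Module.Finite R M] :
    Nonempty (LinearMap.ker ((localCohomology I n).map
      (ModuleCat.ofHom (LinearMap.ker p).subtype)).hom ≃ₗ[R] DE (R := R) K E 1 M) := by
  set N := LinearMap.ker p with hN
  let eN := LinearEquiv.ofBijective (θM I n hv K E eK N) (θ_bijective I n hv K E eK N)
  have hFinj := (θ_bijective I n hv K E eK (Fin r → R)).1
  have hiff : ∀ x, x ∈ LinearMap.ker ((localCohomology I n).map
      (ModuleCat.ofHom N.subtype)).hom ↔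
      eN x ∈ LinearMap.ker (LinearMap.lcomp R E (LinearMap.lcomp R K N.subtype)) := by
    intro x
    rw [LinearMap.mem_ker, LinearMap.mem_ker]
    constructor
    · intro hx
      apply LinearMap.ext
      intro φ'
      show θM I n hv K E eK N x (φ' ∘ₗ N.subtype) = 0
      rw [← θM_nat, hx, map_zero, LinearMap.zero_apply]
    · intro hx
      apply hFinj
      rw [map_zero]
      apply LinearMap.ext
      intro φ'
      rw [θM_nat]
      exact LinearMap.congr_fun hx φ'
  have hmap : (LinearMap.ker ((localCohomology I n).map
      (ModuleCat.ofHom N.subtype)).hom).map eN.toLinearMap =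
      LinearMap.ker (LinearMap.lcomp R E (LinearMap.lcomp R K N.subtype)) := by
    ext ξ
    constructor
    · rintro ⟨x, hx, rfl⟩
      exact (hiff x).mp hx
    · intro hξ
      refine ⟨eN.symm ξ, (hiff _).mpr ?_, eN.apply_symm_apply ξ⟩
      rw [eN.apply_symm_apply]; exact hξ
  let eθ := (eN.submoduleMap (LinearMap.ker ((localCohomology I n).map
      (ModuleCat.ofHom N.subtype)).hom)).trans (LinearEquiv.ofEq _ _ hmap)
  exact ⟨eθ.trans (dualBdry K E p hp).symm⟩

/-- `M` has no local cohomology in degrees `< min k n` -/
def Deep (k : ℕ) (M : Type u) [AddCommGroup M] [Module R M] : Prop :=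
  ∀ j : ℕ, j < k → j < n →
    Subsingleton ((localCohomology I j).obj (ModuleCat.of R M) : ModuleCat.{u} R)

include hlow hp in
lemma deep_syz (k : ℕ) (hM : Deep I n k M) : Deep I n (k + 1) (LinearMap.ker p) := by
  intro j hjk hjn
  have hS := presSES p hp
  have hF : Subsingleton ((localCohomology I j).obj (ModuleCat.of R (Fin r → R)) :
      ModuleCat.{u} R) := T_free_vanish I n hlow j hjn
  have hinj : Function.Injective ((localCohomology I j).map (presSC p).f) := by
    cases j with
    | zero => exact H_zero_injective I hS
    | succ j' =>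
      exact H_f_injective_of_vanish I j' hS (hM j' (by omega) (by omega))
  exact hinj.subsingleton

end Pres

variable (hcog : ∀ (Y : Type u) [AddCommGroup Y] [Module R Y], Subsingleton (Y →ₗ[R] E) →
  Subsingleton Y)

include hv hlow eK hcog in
/-- `Ext^{e+1}(M, K) = 0` when `M` is `k`-deep with `e + 1 + k > n`. -/
theorem ext_vanish (e : ℕ) : ∀ (k : ℕ), n < e + 1 + k → ∀ (M : Type u) [AddCommGroup M]
    [Module R M] [Module.Finite R M], Deep I n k M →
    Subsingleton (Abelian.Ext.{u} (ModuleCat.of R M) (ModuleCat.of R K) (e + 1)) := by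
  induction e with
  | zero =>
    intro k hk M _ _ _ hM
    obtain ⟨r, p, hp⟩ := Module.Finite.exists_fin' R M
    obtain ⟨e1⟩ := kerEquiv I n hv K E eK p hp
    have hS := presSES p hp
    have hinj : Function.Injective ((localCohomology I n).map (presSC p).f) := by
      cases n with
      | zero => exact H_zero_injective I hS
      | succ n' =>
        exact H_f_injective_of_vanish I n' hS (hM n' (by omega) (by omega))
    have hker : Subsingleton (LinearMap.ker ((localCohomology I n).map
        (ModuleCat.ofHom (LinearMap.ker p).subtype)).hom) := by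
      refine ⟨fun a b => ?_⟩
      apply Subtype.ext
      apply hinj
      exact (LinearMap.mem_ker.mp a.2).trans (LinearMap.mem_ker.mp b.2).symm
    have hD : Subsingleton (DE (R := R) K E 1 M) := e1.symm.injective.subsingleton
    exact hcog _ hD
  | succ e ih =>
    intro k hk M _ _ _ hM
    obtain ⟨r, p, hp⟩ := Module.Finite.exists_fin' R M
    have hN := deep_syz I n hlow p hp k hM
    have := ih (k + 1) (by omega) (LinearMap.ker p) hN
    exact (extShift K p hp e).symm.injective.subsingleton

include hv hlow eK hcog in
/-- `Ext^{n+1}(M, K) = 0` for all finite `M`. -/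
theorem ext_top_vanish (M : Type u) [AddCommGroup M] [Module R M] [Module.Finite R M] :
    Subsingleton (Abelian.Ext.{u} (ModuleCat.of R M) (ModuleCat.of R K) (n + 1)) :=
  ext_vanish I n hv hlow K E eK hcog n 0 (by omega) M (fun j hj _ => absurd hj (Nat.not_lt_zero j))

end Groth.Agent.Lib.helper19.LocalDuality2
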