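import Mathlib
import Groth.Prelude.Def_Wider
import Groth.Agent.S7699
import Groth.Agent.S7700
import Groth.Agent.S11665
import Groth.Agent.S0302
import Groth.Agent.S0341
import Groth.Agent.Lib.Helper19.LCBridge
import Groth.Agent.Lib.Helper19.LCGroth
import Groth.Agent.Lib.Helper19.FinLen1
import Groth.Agent.Lib.Helper24.CatEquidim
import Groth.Agent.Lib.Helper26.CMCat2
set_option autoImplicit false

/-! Gorenstein local rings: localization, the dimension formula `ht P + dim R/P = dim R` (for
Cohen–Macaulay local rings), local duality `H^i_m(M) ≅ Hom(Ext^{d-i}(M, R), E)` and its vanishing /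
finite length / annihilator forms. -/

universe u

namespace Groth.Agent.Lib.helper19.Gor
open CategoryTheory IsLocalRing Groth.Agent.Lib.helper19.ExtLoc Groth.Agent.Lib.helper19.RegDual
  Groth.Agent.Lib.helper19.FinLen

/-- the localization of a Gorenstein local ring at a prime is a Gorenstein local ring -/
theorem gor_localization (A : Type u) [CommRing A] [LocCoh.IsGorensteinLocalRing A] (P : Ideal A)
    [P.IsPrime] : LocCoh.IsGorensteinLocalRing (Localization.AtPrime P) := by
  obtain ⟨n, hn⟩ := LocCoh.IsGorensteinLocalRing.exists_hasInjectiveDimensionLT (A := A)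
  have : HasInjectiveDimensionLE (ModuleCat.of A A) n :=
    hasInjectiveDimensionLT_of_ge (ModuleCat.of A A) n (n + 1) (by omega)
  have h1 := ModuleCat.localizedModule_hasInjectiveDimensionLE n P.primeCompl (ModuleCat.of A A)
  haveI := ModuleCat.localizedModule_isLocalizedModule (ModuleCat.of A A) P.primeCompl
  let e0 : ((ModuleCat.of A A).localizedModule P.primeCompl) ≃ₗ[A] Localization P.primeCompl :=
    IsLocalizedModule.linearEquiv P.primeCompl
      ((ModuleCat.of A A).localizedModuleMkLinearMap P.primeCompl)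
      (Algebra.linearMap A (Localization P.primeCompl))
  let e1 : ((ModuleCat.of A A).localizedModule P.primeCompl) ≃ₗ[Localization P.primeCompl]
      (ModuleCat.of (Localization P.primeCompl) (Localization P.primeCompl)) :=
    LinearEquiv.extendScalarsOfIsLocalization P.primeCompl (Localization P.primeCompl) e0
  have h2 := (ModuleCat.hasInjectiveDimensionLE_iff_of_linearEquiv e1 n).1 h1
  exact { exists_hasInjectiveDimensionLT := ⟨n + 1, h2⟩ }

section CM

variable (R : Type u) [CommRing R] [IsNoetherianRing R] [IsLocalRing R]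

/-- in a Cohen–Macaulay local ring, `ht P + coheight P = ht m`. -/
theorem cm_height_add_coheight (hR : LocCoh.IsCohenMacaulayModule R R) (P : PrimeSpectrum R) :
    P.asIdeal.height + Order.coheight P = (maximalIdeal R).height := by
  obtain ⟨m, hm⟩ := ENat.ne_top_iff_exists.mp (Order.coheight_lt_top P).ne
  obtain ⟨f, hf0, hfl, hfs⟩ := Groth.Agent.Lib.Helper24.CatEquidim.exists_sat_chain m P hm.symm
  have key : ∀ (i : ℕ) (hi : i < m + 1), (f ⟨i, hi⟩).asIdeal.height = P.asIdeal.height + i := by
    intro i
    induction i with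
    | zero =>
      intro hi
      have : (⟨0, hi⟩ : Fin (m + 1)) = 0 := rfl
      rw [this, hf0]; simp
    | succ i ih =>
      intro hi
      have h1 := Groth.Agent.Lib.helper26.CMCat.height_covBy hR _ _ (hfs ⟨i, by omega⟩)
      have e1 : (Fin.succ ⟨i, by omega⟩ : Fin (m + 1)) = ⟨i + 1, hi⟩ := rfl
      have e2 : (Fin.castSucc ⟨i, by omega⟩ : Fin (m + 1)) = ⟨i, by omega⟩ := rfl
      rw [e1, e2, ih (by omega)] at h1
      rw [h1]; push_cast; ring
  have h2 := key m (by omega)
  have e3 : (⟨m, by omega⟩ : Fin (m + 1)) = Fin.last m := rfl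
  rw [e3, hfl] at h2
  rw [← hm, ← h2]
  rfl

/-- **dimension formula** `ht P + dim R/P = dim R` in a Cohen–Macaulay local ring -/
theorem cm_height_add (hR : LocCoh.IsCohenMacaulayModule R R) (d : ℕ) (hd : ringKrullDim R = d)
    (P : Ideal R) [hP : P.IsPrime] (e : ℕ) (he : ringKrullDim (R ⧸ P) = e) : P.height + e = d := by
  have h1 := cm_height_add_coheight R hR ⟨P, hP⟩
  have h2 := Groth.Agent.Lib.Helper24.CatEquidim.coheight_eq_ringKrullDim_quotient
    (⟨P, hP⟩ : PrimeSpectrum R)
  rw [he] at h2
  have h2' : Order.coheight (⟨P, hP⟩ : PrimeSpectrum R) = e := by exact_mod_cast h2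
  have h3 : ((maximalIdeal R).height : WithBot ℕ∞) = (d : ℕ∞) := by
    rw [IsLocalRing.maximalIdeal_height_eq_ringKrullDim, hd]; rfl
  have h3' : (maximalIdeal R).height = d := by exact_mod_cast h3
  rw [h2', h3'] at h1
  exact h1

end CM

section Dual

variable (A : Type u) [CommRing A] [LocCoh.IsGorensteinLocalRing A] (d : ℕ)
  (hd : ringKrullDim A = d)

include hd in
/-- local duality over a Gorenstein local ring -/
theorem gor_dual (E : Type u) [AddCommGroup E] [Module A E]
    (f : ResidueField A →ₗ[A] E) (hf : InjHull.IsInjectiveHull f) (M : Type u) [AddCommGroup M]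
    [Module A M] [Module.Finite A M] (i : ℕ) (hi : i ≤ d) :
    Nonempty (LocCoh.H (maximalIdeal A) i M ≃ₗ[A]
      ((((Ext A (ModuleCat.{u} A) (d - i)).obj (Opposite.op (ModuleCat.of A M))).obj
        (ModuleCat.of A A)) →ₗ[A] E)) := by
  haveI hCM : LocCoh.IsCohenMacaulayLocalRing A := Groth.Agent.S0341.result A
  obtain ⟨g, hg⟩ := Groth.Agent.S11665.result A d hd
  obtain ⟨e, he⟩ := Groth.Agent.S0302.result A _ E _ f hf g hg
  let eK : (A →ₗ[A] E) ≃ₗ[A] LocCoh.H (maximalIdeal A) d A :=
    (LinearMap.ringLmapEquivSelf A A E).trans e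
  have h := Groth.Agent.S7699.result A d hd E f hf A eK M (d - i) (by omega)
  rwa [show d - (d - i) = i by omega] at h

include hd in
/-- injective dimension of a Gorenstein local ring -/
theorem gor_injDim : HasInjectiveDimensionLT (ModuleCat.of A A) (d + 1) := by
  haveI hCM : LocCoh.IsCohenMacaulayLocalRing A := Groth.Agent.S0341.result A
  obtain ⟨g, hg⟩ := Groth.Agent.S11665.result A d hd
  let eK : (A →ₗ[A] LocCoh.H (maximalIdeal A) d A) ≃ₗ[A] LocCoh.H (maximalIdeal A) d A :=
    LinearMap.ringLmapEquivSelf A A _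
  exact (Groth.Agent.S7700.result A d hd _ g hg A eK).1

include hd in
/-- over a Gorenstein local ring `Ext^n(N, A)` vanishes for `n > dim A`. -/
theorem ext_subsingleton_of_gt (N : Type u) [AddCommGroup N] [Module A N] (n : ℕ) (hn : d < n) :
    Subsingleton (Abelian.Ext.{u} (ModuleCat.of A N) (ModuleCat.of A A) n) := by
  haveI := gor_injDim A d hd
  exact HasInjectiveDimensionLT.subsingleton (ModuleCat.of A A) (d + 1) n (by omega) _

include hd in
/-- the dual data: an injective hull `E` of the residue field and `H^i_m(M) ≅ Hom(Ext^n(M,A), E)`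
with the new `Ext`. -/
theorem exists_dual (M : Type u) [AddCommGroup M] [Module A M] [Module.Finite A M] (i n : ℕ)
    (hin : i + n = d) :
    ∃ (f : ResidueField A →ₗ[A] LocCoh.H (maximalIdeal A) d A), InjHull.IsInjectiveHull f ∧
      Nonempty (LocCoh.H (maximalIdeal A) i M ≃ₗ[A]
        (Abelian.Ext.{u} (ModuleCat.of A M) (ModuleCat.of A A) n →ₗ[A]
          LocCoh.H (maximalIdeal A) d A)) := by
  obtain ⟨f, hf⟩ := Groth.Agent.S11665.result A d hd
  obtain ⟨ε⟩ := gor_dual A d hd _ f hf M i (by omega)
  obtain rfl : d - i = n := by omega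
  have o := Groth.Agent.Lib.helper19.LCBridge.oldExtEquiv (R := A) (ModuleCat.of A M)
    (ModuleCat.of A A) (d - i)
  exact ⟨f, hf, ⟨ε.trans (LinearEquiv.congrLeft (LocCoh.H (maximalIdeal A) d A) A o)⟩⟩

include hd in
/-- local duality over a Gorenstein local ring, vanishing form -/
theorem H_subsingleton_iff (M : Type u) [AddCommGroup M] [Module A M] [Module.Finite A M]
    (j e : ℕ) (hje : j + e = d) :
    Subsingleton (LocCoh.H (maximalIdeal A) j M) ↔
      Subsingleton (Abelian.Ext.{u} (ModuleCat.of A M) (ModuleCat.of A A) e) := by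
  obtain ⟨f, hf, ⟨ε⟩⟩ := exists_dual A d hd M j e hje
  haveI : Module.Injective A (LocCoh.H (maximalIdeal A) d A) := hf.isInjective
  constructor
  · intro h
    have h1 : Subsingleton (Abelian.Ext.{u} (ModuleCat.of A M) (ModuleCat.of A A) e →ₗ[A]
        LocCoh.H (maximalIdeal A) d A) := ε.symm.toEquiv.subsingleton
    exact subsingleton_of_hom_subsingleton A _ f hf.injective _ h1
  · intro h
    have h1 : Subsingleton (Abelian.Ext.{u} (ModuleCat.of A M) (ModuleCat.of A A) e →ₗ[A]
        LocCoh.H (maximalIdeal A) d A) :=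
      ⟨fun a b => LinearMap.ext fun x => by rw [Subsingleton.elim x 0, map_zero, map_zero]⟩
    exact ε.toEquiv.subsingleton

include hd in
/-- finite length of `H^i_m(M)` over a Gorenstein local ring in terms of `Ext^{d-i}(M, A)`. -/
theorem finLen_H_iff (M : Type u) [AddCommGroup M] [Module A M] [Module.Finite A M]
    (i n : ℕ) (hin : i + n = d) :
    IsFiniteLength A (LocCoh.H (maximalIdeal A) i M) ↔
      ∀ (P : Ideal A) [P.IsPrime], P ≠ maximalIdeal A →
        TTors P.primeCompl (Abelian.Ext.{u} (ModuleCat.of A M) (ModuleCat.of A A) n) := by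
  obtain ⟨f, hf, ⟨e1⟩⟩ := exists_dual A d hd M i n hin
  haveI : Module.Injective A (LocCoh.H (maximalIdeal A) d A) := hf.isInjective
  rw [isFiniteLength_congr e1]
  constructor
  · intro hD P hP hne x
    obtain ⟨k, hk⟩ := Groth.Agent.Lib.helper19.ExtLen.exists_kill_of_isFiniteLength _ hD
    have hkill : ∀ a ∈ maximalIdeal A ^ k, ∀ y : Abelian.Ext.{u} (ModuleCat.of A M)
        (ModuleCat.of A A) n, a • y = 0 := by
      intro a ha y
      by_contra hne0
      obtain ⟨ψ, hψ⟩ := exists_hom_ne_zero A _ f hf.injective _ (a • y) hne0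
      have h0 := hk a ha ψ
      apply hψ
      rw [map_smul, ← LinearMap.smul_apply, h0, LinearMap.zero_apply]
    have hPle : P ≤ maximalIdeal A := IsLocalRing.le_maximalIdeal hP.ne_top
    obtain ⟨a, ham, haP⟩ : ∃ a ∈ maximalIdeal A, a ∉ P := by
      by_contra hcon
      push Not at hcon
      exact hne (le_antisymm hPle hcon)
    refine ⟨a ^ k, ?_, hkill _ (Ideal.pow_mem_pow ham k) x⟩
    show a ^ k ∉ P
    intro hmem
    exact haP (hP.mem_of_pow_mem k hmem)
  · intro hT
    have hsupp : ∀ Q ∈ Module.support A (Abelian.Ext.{u} (ModuleCat.of A M)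
        (ModuleCat.of A A) n), Q.asIdeal.IsMaximal := by
      intro Q hQ
      by_contra hmax
      have hne : Q.asIdeal ≠ maximalIdeal A := fun h => hmax (h ▸ IsLocalRing.maximalIdeal.isMaximal A)
      have h1 := hT Q.asIdeal hne
      have h2 : Subsingleton (LocalizedModule Q.asIdeal.primeCompl (Abelian.Ext.{u}
          (ModuleCat.of A M) (ModuleCat.of A A) n)) :=
        LocalizedModule.subsingleton_iff.2 h1
      exact (Module.notMem_support_iff.2 h2) hQ
    have hX := Groth.Agent.Lib.helper8.StalkLen.isFiniteLength_of_support_isMaximal hsupp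
    rw [← Module.length_ne_top_iff,
      Groth.Agent.Lib.helper19.MatlisLen.length_hom_eq f hf _ hX, Module.length_ne_top_iff]
    exact hX

include hd in
/-- the annihilator of `H^i_m(M)` over a Gorenstein local ring in terms of `Ext^{d-i}(M, A)`:
an ideal `J` lies in the radical of the annihilator of `H^i_m(M)` iff the localizations of
`Ext^{d-i}(M, A)` at the primes not containing `J` vanish. -/
theorem ann_H_iff (M : Type u) [AddCommGroup M] [Module A M] [Module.Finite A M]
    (i n : ℕ) (hin : i + n = d) (J : Ideal A) :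
    (∀ a ∈ J, ∃ k : ℕ, ∀ x : LocCoh.H (maximalIdeal A) i M, a ^ k • x = 0) ↔
      ∀ (P : Ideal A) [P.IsPrime], ¬ J ≤ P →
        TTors P.primeCompl (Abelian.Ext.{u} (ModuleCat.of A M) (ModuleCat.of A A) n) := by
  obtain ⟨f, hf, ⟨e1⟩⟩ := exists_dual A d hd M i n hin
  haveI : Module.Injective A (LocCoh.H (maximalIdeal A) d A) := hf.isInjective
  have hkill_iff : ∀ b : A, (∀ x : LocCoh.H (maximalIdeal A) i M, b • x = 0) ↔
      ∀ y : Abelian.Ext.{u} (ModuleCat.of A M) (ModuleCat.of A A) n, b • y = 0 := by
    intro b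
    constructor
    · intro h y
      by_contra hne0
      obtain ⟨ψ, hψ⟩ := exists_hom_ne_zero A _ f hf.injective _ (b • y) hne0
      apply hψ
      have h0 := h (e1.symm ψ)
      rw [← map_smul] at h0
      have h0' : b • ψ = 0 := by
        have := congrArg e1 h0
        rwa [LinearEquiv.apply_symm_apply, map_zero] at this
      rw [map_smul, ← LinearMap.smul_apply, h0', LinearMap.zero_apply]
    · intro h x
      apply e1.injective
      rw [map_smul, map_zero]
      apply LinearMap.ext
      intro y
      rw [LinearMap.smul_apply, ← map_smul, h y, map_zero, LinearMap.zero_apply]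
  constructor
  · intro hJ P hP hJP x
    obtain ⟨a, haJ, haP⟩ := Set.not_subset.1 hJP
    obtain ⟨k, hk⟩ := hJ a haJ
    refine ⟨a ^ k, ?_, (hkill_iff _).1 hk x⟩
    show a ^ k ∉ P
    intro hmem
    exact haP (hP.mem_of_pow_mem k hmem)
  · intro hT a haJ
    set K := Abelian.Ext.{u} (ModuleCat.of A M) (ModuleCat.of A A) n with hK
    haveI : Module.Finite A K := ModuleCat.finite_ext A (ModuleCat.of A M) (ModuleCat.of A A) n
    have hle : J ≤ (Module.annihilator A K).radical := by
      rw [Ideal.radical_eq_sInf]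
      apply le_sInf
      rintro Q ⟨hQann, hQ⟩
      by_contra hJQ
      have h1 := hT Q hJQ
      have h2 : Subsingleton (LocalizedModule Q.primeCompl K) :=
        LocalizedModule.subsingleton_iff.2 h1
      have h3 : (⟨Q, hQ⟩ : PrimeSpectrum A) ∈ Module.support A K := by
        rw [Module.support_eq_zeroLocus]
        exact hQann
      exact (Module.notMem_support_iff.2 h2) h3
    obtain ⟨k, hk⟩ := hle haJ
    refine ⟨k, (hkill_iff _).2 fun y => ?_⟩
    exact Module.mem_annihilator.1 hk y

end Dual

end Groth.Agent.Lib.helper19.Gor
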