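import Mathlib

/-!
# Heights of primes in quotient rings via chains of primes (helper19)

For primes `p ≤ q` of `R`, the height of `q/p` in `R/p` is the supremum of the lengths of chains of
primes between `p` and `q`.  Consequences: additivity inequality `ht(s/p) + ht(q/s) ≤ ht(q/p)`,
`ht(q/p) = 1` iff there is no prime strictly between (for `p < q`), existence of a minimal prime
of `a + p` realising `ht((a+p)/p)`.
-/

set_option autoImplicit false
universe u

namespace Groth.Agent.Lib.helper19.QuotHeight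

variable {R : Type u} [CommRing R]

lemma enat_add_le {a b c : ℕ∞}
    (h : ∀ n m : ℕ, (n : ℕ∞) ≤ a → (m : ℕ∞) ≤ b → ((n + m : ℕ) : ℕ∞) ≤ c) : a + b ≤ c := by
  by_cases hc : c = ⊤
  · rw [hc]; exact le_top
  have ha : a ≠ ⊤ := by
    intro ha
    apply hc
    rw [ENat.eq_top_iff_forall_ge]
    intro n
    have := h n 0 (by rw [ha]; exact le_top) (by simp)
    simpa using this
  have hb : b ≠ ⊤ := by
    intro hb
    apply hc
    rw [ENat.eq_top_iff_forall_ge]
    intro n
    have := h 0 n (by simp) (by rw [hb]; exact le_top)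
    simpa using this
  obtain ⟨n, rfl⟩ := ENat.ne_top_iff_exists.1 ha
  obtain ⟨m, rfl⟩ := ENat.ne_top_iff_exists.1 hb
  have := h n m le_rfl le_rfl
  exact_mod_cast this

theorem map_mk_isPrime (p q : Ideal R) [p.IsPrime] [hq : q.IsPrime] (hpq : p ≤ q) :
    (q.map (Ideal.Quotient.mk p)).IsPrime :=
  Ideal.map_isPrime_of_surjective Ideal.Quotient.mk_surjective (by rwa [Ideal.mk_ker])

/-- the point of `Spec (R/p)` corresponding to `q ⊇ p` -/
noncomputable def quotPt (p q : Ideal R) [p.IsPrime] [q.IsPrime] (hpq : p ≤ q) :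
    PrimeSpectrum (R ⧸ p) :=
  ⟨q.map (Ideal.Quotient.mk p), map_mk_isPrime p q hpq⟩

lemma height_quot_eq (p q : Ideal R) [p.IsPrime] [hq : q.IsPrime] (hpq : p ≤ q) :
    (q.map (Ideal.Quotient.mk p)).height =
      Order.height (⟨⟨q, hq⟩, hpq⟩ : PrimeSpectrum.zeroLocus (R := R) (p : Set R)) := by
  have h1 := PrimeSpectrum.height_eq_orderHeight (quotPt p q hpq)
  have h2 := Order.height_orderIso (Ideal.primeSpectrumQuotientOrderIsoZeroLocus p).symm
    (⟨⟨q, hq⟩, hpq⟩ : PrimeSpectrum.zeroLocus (R := R) (p : Set R))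
  rw [← h2]
  exact h1

/-- a chain of primes from (above) `p` to (below) `q` bounds the height of `q/p` from below -/
theorem le_height_quot_of_series (p q : Ideal R) [p.IsPrime] [hq : q.IsPrime] (hpq : p ≤ q)
    (l : LTSeries (PrimeSpectrum R)) (hh : p ≤ l.head.asIdeal) (hl : l.last.asIdeal ≤ q) :
    (l.length : ℕ∞) ≤ (q.map (Ideal.Quotient.mk p)).height := by
  rw [height_quot_eq p q hpq]
  have hmem : ∀ i, l i ∈ PrimeSpectrum.zeroLocus (R := R) (p : Set R) := by
    intro i
    exact hh.trans (l.head_le i)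
  let l' : LTSeries (PrimeSpectrum.zeroLocus (R := R) (p : Set R)) :=
    { length := l.length
      toFun := fun i => ⟨l i, hmem i⟩
      step := fun i => l.step i }
  have : l'.last ≤ (⟨⟨q, hq⟩, hpq⟩ : PrimeSpectrum.zeroLocus (R := R) (p : Set R)) := hl
  exact Order.length_le_height this

/-- conversely every natural number below the height of `q/p` is realised by a chain -/
theorem exists_series_of_le_height_quot (p q : Ideal R) [p.IsPrime] [hq : q.IsPrime] (hpq : p ≤ q)
    (n : ℕ) (hn : (n : ℕ∞) ≤ (q.map (Ideal.Quotient.mk p)).height) :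
    ∃ l : LTSeries (PrimeSpectrum R), l.length = n ∧ p ≤ l.head.asIdeal ∧
      l.last = ⟨q, hq⟩ := by
  rw [height_quot_eq p q hpq] at hn
  obtain ⟨l', hlast, hlen⟩ := Order.exists_series_of_le_height _ hn
  refine ⟨l'.map Subtype.val (Subtype.strictMono_coe _), hlen, ?_, ?_⟩
  · rw [LTSeries.head_map]
    exact l'.head.2
  · rw [LTSeries.last_map, hlast]

/-- `ht(s/p) + ht(q/s) ≤ ht(q/p)` -/
theorem height_quot_add_le (p s q : Ideal R) [p.IsPrime] [hs : s.IsPrime] [hq : q.IsPrime]
    (hps : p ≤ s) (hsq : s ≤ q) :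
    (s.map (Ideal.Quotient.mk p)).height + (q.map (Ideal.Quotient.mk s)).height ≤
      (q.map (Ideal.Quotient.mk p)).height := by
  apply enat_add_le
  intro n m hn hm
  obtain ⟨l1, hl1, hh1, hlast1⟩ := exists_series_of_le_height_quot p s hps n hn
  obtain ⟨l2, hl2, hh2, hlast2⟩ := exists_series_of_le_height_quot s q hsq m hm
  have hle : l1.last ≤ l2.head := by
    rw [hlast1]
    exact hh2
  rcases hle.eq_or_lt with heq | hlt
  · have := le_height_quot_of_series p q (hps.trans hsq) (l1.smash l2 heq)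
      (by rw [RelSeries.head_smash]; exact hh1) (by rw [RelSeries.last_smash, hlast2])
    rw [RelSeries.smash_length, hl1, hl2] at this
    exact this
  · have := le_height_quot_of_series p q (hps.trans hsq) (l1.append l2 hlt)
      (by rw [RelSeries.head_append]; exact hh1) (by rw [RelSeries.last_append, hlast2])
    rw [RelSeries.append_length, hl1, hl2] at this
    refine le_trans ?_ this
    exact_mod_cast Nat.le_succ _

/-- `p < s` gives `1 ≤ ht(s/p)` -/
theorem one_le_height_quot (p s : Ideal R) [hp : p.IsPrime] [hs : s.IsPrime] (hps : p < s) :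
    1 ≤ (s.map (Ideal.Quotient.mk p)).height := by
  let l0 : LTSeries (PrimeSpectrum R) := RelSeries.singleton _ (⟨s, hs⟩ : PrimeSpectrum R)
  have hrel : (⟨p, hp⟩ : PrimeSpectrum R) < l0.head := hps
  have := le_height_quot_of_series p s hps.le (l0.cons ⟨p, hp⟩ hrel)
    (by rw [RelSeries.head_cons]) (by rw [RelSeries.last_cons]; exact le_rfl)
  have hlen : (l0.cons ⟨p, hp⟩ hrel).length = 1 := by
    rfl
  rw [hlen] at this
  exact_mod_cast this

/-- if there is no prime strictly between `p` and `q` then `ht(q/p) ≤ 1` -/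
theorem height_quot_le_one (p q : Ideal R) [hp : p.IsPrime] [hq : q.IsPrime] (hpq : p ≤ q)
    (hno : ∀ P : Ideal R, P.IsPrime → p ≤ P → P ≤ q → P = p ∨ P = q) :
    (q.map (Ideal.Quotient.mk p)).height ≤ 1 := by
  by_contra hcon
  rw [not_le] at hcon
  have h2 : ((2 : ℕ) : ℕ∞) ≤ (q.map (Ideal.Quotient.mk p)).height := by
    have := Order.add_one_le_of_lt hcon
    exact_mod_cast this
  obtain ⟨l, hlen, hh, hlast⟩ := exists_series_of_le_height_quot p q hpq 2 h2
  have h01 : l ⟨0, by lia⟩ < l ⟨1, by lia⟩ := l.strictMono (by simp [Fin.lt_def])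
  have h12 : l ⟨1, by lia⟩ < l ⟨2, by lia⟩ := l.strictMono (by simp [Fin.lt_def])
  have hl2 : l ⟨2, by lia⟩ = l.last := by
    unfold RelSeries.last
    congr 1
    ext
    simp [hlen]
  have hl0 : l ⟨0, by lia⟩ = l.head := rfl
  rw [hl2, hlast] at h12
  rw [hl0] at h01
  have hp1 : p ≤ (l ⟨1, by lia⟩).asIdeal := hh.trans h01.le
  rcases hno (l ⟨1, by lia⟩).asIdeal (l ⟨1, by lia⟩).2 hp1 h12.le with h | h
  · have : l ⟨1, by lia⟩ ≤ l.head := h.le.trans hh
    exact lt_irrefl _ (lt_of_lt_of_le h01 this)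
  · have : (⟨q, hq⟩ : PrimeSpectrum R) ≤ l ⟨1, by lia⟩ := h.ge
    exact lt_irrefl _ (lt_of_lt_of_le h12 this)

/-- if `ht(q/p) ≤ 1` there is no prime strictly between `p` and `q` -/
theorem eq_or_eq_of_height_quot_le_one (p q : Ideal R) [hp : p.IsPrime] [hq : q.IsPrime]
    (hpq : p ≤ q) (h1 : (q.map (Ideal.Quotient.mk p)).height ≤ 1)
    (P : Ideal R) [hP : P.IsPrime] (hpP : p ≤ P) (hPq : P ≤ q) : P = p ∨ P = q := by
  by_contra hcon
  rw [not_or] at hcon
  have h1' : p < P := lt_of_le_of_ne hpP (Ne.symm hcon.1)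
  have h2' : P < q := lt_of_le_of_ne hPq hcon.2
  have := height_quot_add_le p P q hpP hPq
  have ha := one_le_height_quot p P h1'
  have hb := one_le_height_quot P q h2'
  have h2 : (2 : ℕ∞) ≤ (q.map (Ideal.Quotient.mk p)).height := by
    calc (2 : ℕ∞) = 1 + 1 := by norm_num
      _ ≤ _ := add_le_add ha hb
      _ ≤ _ := this
  have : (2 : ℕ∞) ≤ 1 := h2.trans h1
  exact absurd this (by norm_num)

/-- the height of `(a+p)/p` is realised by a minimal prime of `a + p` -/
theorem exists_minimalPrimes_height_quot_eq (a p : Ideal R) [hp : p.IsPrime]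
    (hne : a ⊔ p ≠ ⊤) :
    ∃ q ∈ (a ⊔ p).minimalPrimes, (q.map (Ideal.Quotient.mk p)).height =
      ((a ⊔ p).map (Ideal.Quotient.mk p)).height := by
  set I' := (a ⊔ p).map (Ideal.Quotient.mk p) with hI'
  have hcomap : I'.comap (Ideal.Quotient.mk p) = a ⊔ p := by
    rw [hI', Ideal.comap_map_of_surjective _ Ideal.Quotient.mk_surjective]
    rw [← RingHom.ker_eq_comap_bot, Ideal.mk_ker]
    exact sup_eq_left.2 le_sup_right
  have hI'ne : I' ≠ ⊤ := by
    intro h
    apply hne
    rw [← hcomap, h, Ideal.comap_top]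
  have hnonempty : (I'.minimalPrimes).Nonempty :=
    Set.nonempty_coe_sort.1 (Ideal.nonempty_minimalPrimes hI'ne)
  obtain ⟨x, ⟨Q, hQ, rfl⟩, hmin⟩ := WellFounded.has_min (wellFounded_lt (α := ℕ∞))
    ((fun Q : Ideal (R ⧸ p) => Q.height) '' I'.minimalPrimes) (hnonempty.image _)
  have hQh : I'.height = Q.height := by
    rw [Ideal.height_eq_inf_minimalPrimes]
    exact le_antisymm (iInf₂_le Q hQ)
      (le_iInf₂ fun Q' hQ' => not_lt.1 (hmin _ ⟨Q', hQ', rfl⟩))
  refine ⟨Q.comap (Ideal.Quotient.mk p), ?_, ?_⟩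
  · rw [← hcomap]
    exact Ideal.minimalPrimes_comap_of_surjective Ideal.Quotient.mk_surjective hQ
  · rw [Ideal.map_comap_of_surjective _ Ideal.Quotient.mk_surjective, hQh]

end Groth.Agent.Lib.helper19.QuotHeight
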