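import Mathlib
import Groth.Agent.Lib.Helper19.QuotHeight
import Groth.Agent.Lib.Helper24.CplCatenary
import Groth.Agent.Lib.Helper26.DimFormulaLoc1
import Groth.Agent.Lib.Helper15.Regular
set_option autoImplicit false

/-! The dimension formula `ht P' = ht P + ht(P'/P)` for primes `P ≤ P'` of a ring whose localization
at `P'` is a regular local ring, and transport of `ht(p'/p)` along a surjection. -/

universe u

namespace Groth.Agent.Lib.helper19.DimF
open IsLocalRing Groth.Agent.Lib.helper19.QuotHeight

variable {R : Type u} [CommRing R]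

/-- the image of the complement of a prime `P'` in `R/P` is the complement of `P'/P` -/
lemma algebraMapSubmonoid_primeCompl (P P' : Ideal R) [P.IsPrime] [P'.IsPrime] (hle : P ≤ P') :
    haveI := map_mk_isPrime P P' hle
    Algebra.algebraMapSubmonoid (R ⧸ P) P'.primeCompl =
      (P'.map (Ideal.Quotient.mk P)).primeCompl := by
  haveI := map_mk_isPrime P P' hle
  ext x
  obtain ⟨r, rfl⟩ := Ideal.Quotient.mk_surjective x
  have hmem : Ideal.Quotient.mk P r ∈ P'.map (Ideal.Quotient.mk P) ↔ r ∈ P' := by
    rw [Ideal.mem_map_iff_of_surjective _ Ideal.Quotient.mk_surjective]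
    constructor
    · rintro ⟨r', hr', h⟩
      rw [Ideal.Quotient.eq] at h
      have : r = r' - (r' - r) := by ring
      rw [this]
      exact P'.sub_mem hr' (hle h)
    · intro hr
      exact ⟨r, hr, rfl⟩
  constructor
  · rintro ⟨r', hr', h⟩
    show _ ∉ _
    have h' : Ideal.Quotient.mk P r' = Ideal.Quotient.mk P r := h
    rw [← h', ]
    intro hcon
    have hmem' : Ideal.Quotient.mk P r' ∈ P'.map (Ideal.Quotient.mk P) ↔ r' ∈ P' := by
      rw [Ideal.mem_map_iff_of_surjective _ Ideal.Quotient.mk_surjective]
      constructor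
      · rintro ⟨r'', hr'', h⟩
        rw [Ideal.Quotient.eq] at h
        have : r' = r'' - (r'' - r') := by ring
        rw [this]
        exact P'.sub_mem hr'' (hle h)
      · intro hr
        exact ⟨r', hr, rfl⟩
    exact hr' (hmem'.1 hcon)
  · intro hx
    have hx' : Ideal.Quotient.mk P r ∉ P'.map (Ideal.Quotient.mk P) := hx
    rw [hmem] at hx'
    exact ⟨r, hx', rfl⟩

/-- **dimension formula** for primes `P ≤ P'` with `R_{P'}` regular -/
theorem height_eq_add (P P' : Ideal R) [P.IsPrime] [P'.IsPrime] (hle : P ≤ P')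
    [IsRegularLocalRing (Localization.AtPrime P')] :
    P'.height = P.height + (P'.map (Ideal.Quotient.mk P)).height := by
  haveI := map_mk_isPrime P P' hle
  let B := Localization.AtPrime P'
  haveI : IsDomain B := Groth.Agent.Lib.helper15.isDomain_of_isRegularLocalRing B
  have hdisj : Disjoint (P'.primeCompl : Set R) (P : Set R) := by
    rw [Set.disjoint_left]
    intro x hx hxP
    exact hx (hle hxP)
  let Q : Ideal B := P.map (algebraMap R B)
  haveI hQ : Q.IsPrime := IsLocalization.isPrime_of_isPrime_disjoint P'.primeCompl B P inferInstance hdisj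
  let φ : B →+* B ⧸ Q := Ideal.Quotient.mk Q
  have hφ : Function.Surjective φ := Ideal.Quotient.mk_surjective
  haveI : IsLocalRing (B ⧸ Q) := IsLocalRing.of_surjective' φ hφ
  haveI : IsLocalHom φ := IsLocalHom.of_surjective φ hφ
  have hcat := Groth.Agent.Lib.Helper24.CplCatenary.isCatenary_of_isRegularLocalRing B
  have key := Groth.Agent.Lib.helper26.DimFormula.height_add_height_ker_eq' φ hφ
    (maximalIdeal (B ⧸ Q))
    (fun z _ => Groth.Agent.Lib.helper26.DimFormula.catBelow_of_isCatenary hcat z)
  have h1 : (maximalIdeal (B ⧸ Q)).comap φ = maximalIdeal B :=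
    ((IsLocalRing.local_hom_TFAE φ).out 0 4 rfl rfl).mp inferInstance
  have h2 : RingHom.ker φ = Q := Ideal.mk_ker
  rw [h1, h2] at key
  have h3 : Q.height = P.height := IsLocalization.height_map_of_disjoint P'.primeCompl P hdisj
  have h4 : ((maximalIdeal B).height : WithBot ℕ∞) = P'.height := by
    rw [IsLocalRing.maximalIdeal_height_eq_ringKrullDim]
    exact IsLocalization.AtPrime.ringKrullDim_eq_height P' B
  have h4' : (maximalIdeal B).height = P'.height := by exact_mod_cast h4
  haveI : IsLocalization.AtPrime (B ⧸ Q) (P'.map (Ideal.Quotient.mk P)) := by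
    show IsLocalization (P'.map (Ideal.Quotient.mk P)).primeCompl (B ⧸ Q)
    rw [← algebraMapSubmonoid_primeCompl P P' hle]
    infer_instance
  have h5 : ((maximalIdeal (B ⧸ Q)).height : WithBot ℕ∞) = (P'.map (Ideal.Quotient.mk P)).height := by
    rw [IsLocalRing.maximalIdeal_height_eq_ringKrullDim]
    exact IsLocalization.AtPrime.ringKrullDim_eq_height (P'.map (Ideal.Quotient.mk P)) (B ⧸ Q)
  have h5' : (maximalIdeal (B ⧸ Q)).height = (P'.map (Ideal.Quotient.mk P)).height := by
    exact_mod_cast h5
  rw [← h4', ← key, h3, h5', add_comm]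

/-- transport of `ht(p'/p)` along a surjection -/
theorem height_quot_comap {A : Type u} [CommRing A] (π : R →+* A) (hπ : Function.Surjective π)
    (p p' : Ideal A) [p.IsPrime] [p'.IsPrime] :
    ((p'.comap π).map (Ideal.Quotient.mk (p.comap π))).height =
      (p'.map (Ideal.Quotient.mk p)).height := by
  let e : R ⧸ p.comap π ≃+* A ⧸ p :=
    RingEquiv.ofBijective (Ideal.quotientMap p π le_rfl)
      ⟨Ideal.quotientMap_injective, Ideal.quotientMap_surjective hπ⟩
  rw [← RingEquiv.height_map e]
  congr 1
  show Ideal.map (e : (R ⧸ p.comap π) →+* (A ⧸ p)) _ = _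
  rw [Ideal.map_map]
  have hcomp : (e : (R ⧸ p.comap π) →+* (A ⧸ p)).comp (Ideal.Quotient.mk (p.comap π)) =
      (Ideal.Quotient.mk p).comp π := by
    ext x
    rfl
  rw [hcomp, ← Ideal.map_map, Ideal.map_comap_of_surjective π hπ]

end Groth.Agent.Lib.helper19.DimF
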