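import Mathlib
import Groth.Agent.Lib.Helper19.ExtLoc2
import Groth.Agent.Lib.Helper19.RegDual
set_option autoImplicit false

/-! The key lemma on local cohomology under generization, over a ring with regular localizations:
for primes `P ≤ P'` of `R` with `R_P`, `R_{P'}` regular and `ht P' = ht P + h`, and a finite
`R`-module `M`: `H^{j+h}_{P'R_{P'}}(M_{P'}) = 0` implies `H^j_{PR_P}(M_P) = 0`.
Abstract form: the localizations are given by the predicates `IsLocalization.AtPrime`,
`IsLocalizedModule`. -/

universe u

namespace Groth.Agent.Lib.helper19.KLoc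
open CategoryTheory IsLocalRing Groth.Agent.Lib.helper19.ExtLoc Groth.Agent.Lib.helper19.RegDual

variable {R : Type u} [CommRing R] [IsNoetherianRing R] (P P' : Ideal R) [P.IsPrime] [P'.IsPrime]
  (hle : P ≤ P')
  (S : Type u) [CommRing S] [Algebra R S] [IsLocalization.AtPrime S P'] [IsRegularLocalRing S]
  (S' : Type u) [CommRing S'] [Algebra R S'] [IsLocalization.AtPrime S' P] [IsRegularLocalRing S']
  {M : Type u} [AddCommGroup M] [Module R M] [Module.Finite R M]
  {N : Type u} [AddCommGroup N] [Module R N] [Module S N] [IsScalarTower R S N]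
  (g : M →ₗ[R] N) [IsLocalizedModule P'.primeCompl g]
  {N' : Type u} [AddCommGroup N'] [Module R N'] [Module S' N'] [IsScalarTower R S' N']
  (g' : M →ₗ[R] N') [IsLocalizedModule P.primeCompl g']

include hle g g' in
theorem key (h : ℕ) (hdim : P'.height = P.height + h) (j : ℕ)
    (hv : Subsingleton (LocCoh.H (maximalIdeal S) (j + h) N)) :
    Subsingleton (LocCoh.H (maximalIdeal S') j N') := by
  have hcompl : P'.primeCompl ≤ P.primeCompl := fun x hx hxP => hx (hle hxP)
  -- dimensions
  obtain ⟨d', hd'⟩ : ∃ d' : ℕ, P.height = d' := ENat.ne_top_iff_exists.1 (Ideal.height_ne_top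
    (Ideal.IsPrime.ne_top inferInstance)) |>.imp fun _ h => h.symm
  have hS' : ringKrullDim S' = d' := by
    rw [IsLocalization.AtPrime.ringKrullDim_eq_height P S', hd']
    rfl
  have hS : ringKrullDim S = (d' + h : ℕ) := by
    rw [IsLocalization.AtPrime.ringKrullDim_eq_height P' S, hdim, hd']
    push_cast
    rfl
  haveI : Module.Finite S N := Module.Finite.of_isLocalizedModule P'.primeCompl g
  haveI : Module.Finite S' N' := Module.Finite.of_isLocalizedModule P.primeCompl g'
  by_cases hj : d' < j
  · exact H_subsingleton_of_gt S' d' hS' N' j hj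
  · obtain ⟨e, he⟩ : ∃ e, j + e = d' := ⟨d' - j, by omega⟩
    rw [H_subsingleton_iff S' d' hS' N' j e he]
    rw [H_subsingleton_iff S (d' + h) hS N (j + h) e (by omega)] at hv
    -- the algebra structure `S → S'`
    letI : Algebra S S' := IsLocalization.localizationAlgebraOfSubmonoidLe S S' P'.primeCompl
      P.primeCompl hcompl
    haveI : IsScalarTower R S S' := IsLocalization.localization_isScalarTower_of_submonoid_le S S'
      P'.primeCompl P.primeCompl hcompl
    haveI : IsLocalization (Algebra.algebraMapSubmonoid S P.primeCompl) S' :=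
      IsLocalization.isLocalization_of_submonoid_le S S' P'.primeCompl P.primeCompl hcompl
    letI : Module S N' := Module.compHom N' (algebraMap S S')
    haveI : IsScalarTower S S' N' := ⟨fun s s' n => by
      show (algebraMap S S' s * s') • n = algebraMap S S' s • s' • n
      rw [mul_smul]⟩
    haveI : IsScalarTower R S N' := ⟨fun r s n => by
      show algebraMap S S' (r • s) • n = r • algebraMap S S' s • n
      rw [Algebra.smul_def, map_mul, ← IsScalarTower.algebraMap_apply, mul_smul, algebraMap_smul]⟩
    let f : N →ₗ[S] N' := (IsLocalizedModule.liftOfLE P'.primeCompl P.primeCompl hcompl g g'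
      ).extendScalarsOfIsLocalization P'.primeCompl S
    haveI : IsLocalizedModule P.primeCompl (f.restrictScalars R) :=
      inferInstanceAs (IsLocalizedModule P.primeCompl
        (IsLocalizedModule.liftOfLE P'.primeCompl P.primeCompl hcompl g g'))
    haveI : IsLocalizedModule (Algebra.algebraMapSubmonoid S P.primeCompl) f :=
      IsLocalizedModule.of_restrictScalars P.primeCompl f
    exact (ext_iff (Algebra.algebraMapSubmonoid S P.primeCompl) S' (Algebra.linearMap S S') e
      N N' f).2 (ttors_of_subsingleton _ _)

end Groth.Agent.Lib.helper19.KLoc
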