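import Mathlib
import Groth.Agent.Lib.Helper19.KLoc1
import Groth.Agent.Lib.Helper19.DimF
import Groth.Agent.S11614
set_option autoImplicit false

/-! The key lemma on local cohomology under generization for a quotient `A` of a regular ring `R`:
for primes `p ≤ p'` of `A` with `ht(p'/p) = h` and a finite `A`-module `M`,
`H^{j+h}_{p'A_{p'}}(M_{p'}) = 0` implies `H^j_{pA_p}(M_p) = 0`. -/

universe u

namespace Groth.Agent.Lib.helper19.KLoc
open CategoryTheory IsLocalRing

section Setup

variable {R : Type u} [CommRing R] {A : Type u} [CommRing A] (π : R →+* A)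
  (M : Type u) [AddCommGroup M] [Module A M] (p : Ideal A) [p.IsPrime]

/-- `R_P → A_p` for `P = π⁻¹ p` -/
noncomputable abbrev locHom : Localization.AtPrime (p.comap π) →+* Localization.AtPrime p :=
  Localization.localRingHom (p.comap π) p π rfl

variable {π} in
lemma locHom_surjective (hπ : Function.Surjective π) : Function.Surjective (locHom π p) := by
  intro y
  obtain ⟨a, s, rfl⟩ := IsLocalization.exists_mk'_eq p.primeCompl y
  obtain ⟨r, rfl⟩ := hπ a
  obtain ⟨t, ht⟩ := hπ s.1
  have htmem : t ∈ (p.comap π).primeCompl := by
    show t ∉ p.comap π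
    rw [Ideal.mem_comap, ht]
    exact s.2
  refine ⟨IsLocalization.mk' _ r ⟨t, htmem⟩, ?_⟩
  rw [Localization.localRingHom_mk']
  congr 1
  exact Subtype.ext ht

/-- the algebra structure `R_P → A_p` -/
noncomputable abbrev algLoc :
    Algebra (Localization.AtPrime (p.comap π)) (Localization.AtPrime p) :=
  (locHom π p).toAlgebra

/-- `M_p` as a module over `R_P` -/
noncomputable abbrev modLoc :
    Module (Localization.AtPrime (p.comap π)) (LocalizedModule p.primeCompl M) :=
  Module.compHom _ (locHom π p)

variable {π} in
lemma map_maximalIdeal (hπ : Function.Surjective π) :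
    (maximalIdeal (Localization.AtPrime (p.comap π))).map (locHom π p) =
      maximalIdeal (Localization.AtPrime p) := by
  have hle : (maximalIdeal (Localization.AtPrime (p.comap π))).map (locHom π p) ≤
      maximalIdeal (Localization.AtPrime p) :=
    ((IsLocalRing.local_hom_TFAE (locHom π p)).out 0 2 rfl rfl).mp inferInstance
  rcases Ideal.map_eq_top_or_isMaximal_of_surjective (locHom π p) (locHom_surjective p hπ)
    (IsLocalRing.maximalIdeal.isMaximal _) with h | h
  · exact absurd (top_le_iff.1 (h ▸ hle)) (IsLocalRing.maximalIdeal.isMaximal _).ne_top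
  · exact IsLocalRing.eq_maximalIdeal h

variable {π} in
/-- **independence of the base** for the local cohomology of `M_p` -/
theorem base_indep [IsNoetherianRing R] [IsNoetherianRing A] (hπ : Function.Surjective π) (j : ℕ) :
    letI := algLoc π p
    letI := modLoc π M p
    Subsingleton (LocCoh.H (maximalIdeal (Localization.AtPrime p)) j
      (LocalizedModule p.primeCompl M)) ↔
    Subsingleton (LocCoh.H (maximalIdeal (Localization.AtPrime (p.comap π))) j
      (LocalizedModule p.primeCompl M)) := by
  letI := algLoc π p
  letI := modLoc π M p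
  haveI : IsScalarTower (Localization.AtPrime (p.comap π)) (Localization.AtPrime p)
      (LocalizedModule p.primeCompl M) := IsScalarTower.of_algebraMap_smul fun _ _ => rfl
  obtain ⟨φ, -⟩ := Groth.Agent.S11614.result (Localization.AtPrime (p.comap π))
    (Localization.AtPrime p) (maximalIdeal (Localization.AtPrime (p.comap π)))
    (LocalizedModule p.primeCompl M) j
  have hmap : Ideal.map (algebraMap (Localization.AtPrime (p.comap π)) (Localization.AtPrime p))
      (maximalIdeal (Localization.AtPrime (p.comap π))) = maximalIdeal (Localization.AtPrime p) :=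
    map_maximalIdeal p hπ
  rw [hmap] at φ
  exact φ.toEquiv.subsingleton_congr

end Setup

section Key

variable {R : Type u} [CommRing R] [IsRegularRing R] {A : Type u} [CommRing A] [IsNoetherianRing A]
  (π : R →+* A) (hπ : Function.Surjective π)
  (M : Type u) [AddCommGroup M] [Module A M] [Module.Finite A M]

omit [IsRegularRing R] [IsNoetherianRing A] in
include hπ in
lemma algebraMapSubmonoid_comap (p : Ideal A) [p.IsPrime] :
    letI : Algebra R A := π.toAlgebra
    Algebra.algebraMapSubmonoid A (p.comap π).primeCompl = p.primeCompl := by
  letI : Algebra R A := π.toAlgebra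
  ext a
  constructor
  · rintro ⟨r, hr, rfl⟩
    exact hr
  · intro ha
    obtain ⟨r, rfl⟩ := hπ a
    exact ⟨r, ha, rfl⟩

include hπ in
/-- the key lemma -/
theorem keyA (p p' : Ideal A) [p.IsPrime] [p'.IsPrime] (hle : p ≤ p') (h : ℕ)
    (hh : (p'.map (Ideal.Quotient.mk p)).height = h) (j : ℕ)
    (hv : Subsingleton (LocCoh.H (maximalIdeal (Localization.AtPrime p')) (j + h)
      (LocalizedModule p'.primeCompl M))) :
    Subsingleton (LocCoh.H (maximalIdeal (Localization.AtPrime p)) j
      (LocalizedModule p.primeCompl M)) := by
  have hle' : p.comap π ≤ p'.comap π := Ideal.comap_mono hle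
  have hdim : (p'.comap π).height = (p.comap π).height + h := by
    rw [Groth.Agent.Lib.helper19.DimF.height_eq_add (p.comap π) (p'.comap π) hle',
      Groth.Agent.Lib.helper19.DimF.height_quot_comap π hπ p p', hh]
  letI : Algebra R A := π.toAlgebra
  letI : Module R M := Module.compHom M π
  haveI : IsScalarTower R A M := IsScalarTower.of_algebraMap_smul fun _ _ => rfl
  haveI : Module.Finite R A := Module.Finite.of_surjective (Algebra.linearMap R A) hπ
  haveI : Module.Finite R M := Module.Finite.trans A M
  -- the module `N = M_{p'}`
  letI := algLoc π p'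
  letI := modLoc π M p'
  haveI : IsScalarTower R (Localization.AtPrime (p'.comap π)) (LocalizedModule p'.primeCompl M) :=
    ⟨fun r s n => by
      show locHom π p' (r • s) • n = r • locHom π p' s • n
      rw [Algebra.smul_def, map_mul, mul_smul, Localization.localRingHom_to_map, algebraMap_smul,
        ← algebraMap_smul A r (locHom π p' s • n)]
      rfl⟩
  let g : M →ₗ[R] LocalizedModule p'.primeCompl M :=
    (LocalizedModule.mkLinearMap p'.primeCompl M).restrictScalars R
  haveI : IsLocalizedModule (Algebra.algebraMapSubmonoid A (p'.comap π).primeCompl)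
      (LocalizedModule.mkLinearMap p'.primeCompl M) := by
    rw [algebraMapSubmonoid_comap π hπ p']
    infer_instance
  haveI : IsLocalizedModule (p'.comap π).primeCompl g :=
    IsLocalizedModule.restrictScalars (p'.comap π).primeCompl
      (LocalizedModule.mkLinearMap p'.primeCompl M)
  -- the module `N' = M_p`
  letI := algLoc π p
  letI := modLoc π M p
  haveI : IsScalarTower R (Localization.AtPrime (p.comap π)) (LocalizedModule p.primeCompl M) :=
    ⟨fun r s n => by
      show locHom π p (r • s) • n = r • locHom π p s • n
      rw [Algebra.smul_def, map_mul, mul_smul, Localization.localRingHom_to_map, algebraMap_smul,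
        ← algebraMap_smul A r (locHom π p s • n)]
      rfl⟩
  let g' : M →ₗ[R] LocalizedModule p.primeCompl M :=
    (LocalizedModule.mkLinearMap p.primeCompl M).restrictScalars R
  haveI : IsLocalizedModule (Algebra.algebraMapSubmonoid A (p.comap π).primeCompl)
      (LocalizedModule.mkLinearMap p.primeCompl M) := by
    rw [algebraMapSubmonoid_comap π hπ p]
    infer_instance
  haveI : IsLocalizedModule (p.comap π).primeCompl g' :=
    IsLocalizedModule.restrictScalars (p.comap π).primeCompl
      (LocalizedModule.mkLinearMap p.primeCompl M)
  rw [base_indep M p hπ j]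
  rw [base_indep M p' hπ (j + h)] at hv
  exact key (p.comap π) (p'.comap π) hle' (Localization.AtPrime (p'.comap π))
    (Localization.AtPrime (p.comap π)) g g' h hdim j hv

end Key

end Groth.Agent.Lib.helper19.KLoc
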