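import Mathlib
import Groth.Agent.Lib.Helper19.FinLen1
import Groth.Agent.Lib.Helper19.KLoc2
import Groth.Agent.Lib.Helper24.SmoothRegularIff
set_option autoImplicit false

/-! Finite length of `H^i_m(M)` for a finite module over a quotient `A` of a regular local ring `R`:
equivalent to the vanishing of `H^{i-e}_{pA_p}(M_p)`, `e = dim A/p`, at all non-maximal primes. -/

universe u

namespace Groth.Agent.Lib.helper19.FinLen
open CategoryTheory IsLocalRing Groth.Agent.Lib.helper19.ExtLoc Groth.Agent.Lib.helper19.RegDual
  Groth.Agent.Lib.helper19.KLoc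

/-- finite length along a semilinear isomorphism over a surjection -/
lemma finLen_semilinear {R A : Type*} [CommRing R] [CommRing A] [Algebra R A]
    (hπ : Function.Surjective (algebraMap R A))
    (X : Type*) [AddCommGroup X] [Module A X] (X' : Type*) [AddCommGroup X'] [Module R X']
    (φ : X ≃+ X') (hφ : ∀ (r : R) (x : X), φ (algebraMap R A r • x) = r • φ x) :
    IsFiniteLength A X ↔ IsFiniteLength R X' := by
  letI : Module R X := Module.compHom X (algebraMap R A)
  haveI : IsScalarTower R A X := IsScalarTower.of_algebraMap_smul fun _ _ => rfl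
  let e : X ≃ₗ[R] X' := { φ with map_smul' := fun r x => hφ r x }
  rw [← Module.length_ne_top_iff, ← Module.length_ne_top_iff,
    ← Module.length_eq_of_surjective (S := R) (R := A) (M := X) hπ, e.length_eq]

section

variable {R : Type u} [CommRing R] [IsRegularLocalRing R] {A : Type u} [CommRing A] [IsLocalRing A]
  (π : R →+* A) (hπ : Function.Surjective π)

include hπ in
omit [IsRegularLocalRing R] in
lemma comap_maximalIdeal [IsLocalRing R] : (maximalIdeal A).comap π = maximalIdeal R := by
  haveI : IsLocalHom π := IsLocalHom.of_surjective π hπ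
  exact ((IsLocalRing.local_hom_TFAE π).out 0 4 rfl rfl).mp inferInstance

include hπ in
/-- `ht P + dim A/p = dim R` for `P = π⁻¹ p` -/
lemma height_comap_add (d : ℕ) (hd : ringKrullDim R = d) (p : Ideal A) [p.IsPrime] (e : ℕ)
    (he : ringKrullDim (A ⧸ p) = e) : (p.comap π).height + e = d := by
  haveI : IsRegularRing R :=
    Groth.Agent.Lib.Helper24.SmoothRegularIff.isRegularRing_of_isRegularLocalRing R
  have hle : p.comap π ≤ maximalIdeal R := IsLocalRing.le_maximalIdeal (Ideal.IsPrime.ne_top inferInstance)
  have h1 := Groth.Agent.Lib.helper19.DimF.height_eq_add (p.comap π) (maximalIdeal R) hle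
  have h0 : (maximalIdeal R).height = d := by
    have : ((maximalIdeal R).height : WithBot ℕ∞) = (d : ℕ∞) := by
      rw [IsLocalRing.maximalIdeal_height_eq_ringKrullDim, hd]; rfl
    exact_mod_cast this
  have h2 := Groth.Agent.Lib.helper19.DimF.height_quot_comap π hπ p (maximalIdeal A)
  rw [comap_maximalIdeal π hπ] at h2
  have hne : p ≠ ⊤ := Ideal.IsPrime.ne_top inferInstance
  haveI : Nontrivial (A ⧸ p) := Ideal.Quotient.nontrivial_iff.mpr hne
  haveI : IsLocalRing (A ⧸ p) :=
    IsLocalRing.of_surjective' (Ideal.Quotient.mk p) Ideal.Quotient.mk_surjective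
  have hmax : maximalIdeal (A ⧸ p) = (maximalIdeal A).map (Ideal.Quotient.mk p) := by
    symm
    apply IsLocalRing.eq_maximalIdeal
    exact Ideal.IsMaximal.map_of_surjective_of_ker_le Ideal.Quotient.mk_surjective
      (by simpa using IsLocalRing.le_maximalIdeal hne)
  have h3 : ((maximalIdeal A).map (Ideal.Quotient.mk p)).height = e := by
    have : (((maximalIdeal A).map (Ideal.Quotient.mk p)).height : WithBot ℕ∞) = (e : ℕ∞) := by
      rw [← hmax, IsLocalRing.maximalIdeal_height_eq_ringKrullDim, he]; rfl
    exact_mod_cast this
  rw [← h0, h1, h2, h3]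

end

section Pure

variable {R : Type u} [CommRing R] [IsRegularRing R]
  (M : Type u) [AddCommGroup M] [Module R M] [Module.Finite R M]

/-- above the height of `P`, the localization of `Ext^n_R(M, R)` at `P` vanishes -/
lemma ttors_of_height_lt (P : Ideal R) [P.IsPrime] (n : ℕ) (hn : P.height < n) :
    TTors P.primeCompl (Abelian.Ext.{u} (ModuleCat.of R M) (ModuleCat.of R R) n) := by
  obtain ⟨d', hd'⟩ : ∃ d' : ℕ, P.height = d' := ENat.ne_top_iff_exists.1 (Ideal.height_ne_top
    (Ideal.IsPrime.ne_top inferInstance)) |>.imp fun _ h => h.symm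
  have hdim : ringKrullDim (Localization.AtPrime P) = d' := by
    rw [IsLocalization.AtPrime.ringKrullDim_eq_height P, hd']; rfl
  have hlt : d' < n := by rw [hd'] at hn; exact_mod_cast hn
  have h1 := ext_subsingleton_of_gt (Localization.AtPrime P) d' hdim
    (LocalizedModule P.primeCompl M) (Localization.AtPrime P) n hlt
  exact (ext_iff P.primeCompl (Localization.AtPrime P)
    (Algebra.linearMap R (Localization.AtPrime P)) n M
    (LocalizedModule P.primeCompl M) (LocalizedModule.mkLinearMap P.primeCompl M)).1 h1

/-- if `M_P = 0` the localization of `Ext^n_R(M, R)` at `P` vanishes -/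
lemma ttors_of_localization_subsingleton (P : Ideal R) [P.IsPrime] (n : ℕ)
    (h : Subsingleton (LocalizedModule P.primeCompl M)) :
    TTors P.primeCompl (Abelian.Ext.{u} (ModuleCat.of R M) (ModuleCat.of R R) n) := by
  have h1 := ext_subsingleton_of_subsingleton (S := Localization.AtPrime P)
    (LocalizedModule P.primeCompl M) (Localization.AtPrime P) n
  exact (ext_iff P.primeCompl (Localization.AtPrime P)
    (Algebra.linearMap R (Localization.AtPrime P)) n M
    (LocalizedModule P.primeCompl M) (LocalizedModule.mkLinearMap P.primeCompl M)).1 h1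

end Pure

section Main

variable {R : Type u} [CommRing R] [IsRegularLocalRing R] {A : Type u} [CommRing A] [IsLocalRing A]
  [IsNoetherianRing A] [Algebra R A] (hπ : Function.Surjective (algebraMap R A))
  (M : Type u) [AddCommGroup M] [Module A M] [Module.Finite A M] [Module R M] [IsScalarTower R A M]

include hπ in
/-- at a prime `p` of `A` with `dim A/p = e` and `j + n + e = dim R`: the localization of
`Ext^n_R(M, R)` at `P = π⁻¹ p` vanishes iff `H^j_{pA_p}(M_p) = 0`. -/
lemma ttors_iff_H (d : ℕ) (hd : ringKrullDim R = d) (p : Ideal A) [p.IsPrime] (e : ℕ)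
    (he : ringKrullDim (A ⧸ p) = e) (j n : ℕ) (hjn : j + n + e = d) :
    TTors (p.comap (algebraMap R A)).primeCompl
      (Abelian.Ext.{u} (ModuleCat.of R M) (ModuleCat.of R R) n) ↔
    Subsingleton (LocCoh.H (maximalIdeal (Localization.AtPrime p)) j
      (LocalizedModule p.primeCompl M)) := by
  haveI : IsRegularRing R :=
    Groth.Agent.Lib.Helper24.SmoothRegularIff.isRegularRing_of_isRegularLocalRing R
  haveI : Module.Finite R A := Module.Finite.of_surjective (Algebra.linearMap R A) hπ
  haveI : Module.Finite R M := Module.Finite.trans A M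
  letI := algLoc (algebraMap R A) p
  letI := modLoc (algebraMap R A) M p
  haveI : IsScalarTower R (Localization.AtPrime (p.comap (algebraMap R A)))
      (LocalizedModule p.primeCompl M) :=
    ⟨fun r s n => by
      show locHom (algebraMap R A) p (r • s) • n = r • locHom (algebraMap R A) p s • n
      rw [Algebra.smul_def, map_mul, mul_smul, Localization.localRingHom_to_map, algebraMap_smul,
        algebraMap_smul]⟩
  let g' : M →ₗ[R] LocalizedModule p.primeCompl M :=
    (LocalizedModule.mkLinearMap p.primeCompl M).restrictScalars R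
  haveI : IsLocalizedModule (Algebra.algebraMapSubmonoid A (p.comap (algebraMap R A)).primeCompl)
      (LocalizedModule.mkLinearMap p.primeCompl M) := by
    have := algebraMapSubmonoid_comap (algebraMap R A) hπ p
    rw [show Algebra.algebraMapSubmonoid A (p.comap (algebraMap R A)).primeCompl = p.primeCompl
      from by
        ext a
        constructor
        · rintro ⟨r, hr, rfl⟩
          exact hr
        · intro ha
          obtain ⟨r, rfl⟩ := hπ a
          exact ⟨r, ha, rfl⟩]
    infer_instance
  haveI : IsLocalizedModule (p.comap (algebraMap R A)).primeCompl g' :=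
    IsLocalizedModule.restrictScalars (p.comap (algebraMap R A)).primeCompl
      (LocalizedModule.mkLinearMap p.primeCompl M)
  haveI : Module.Finite (Localization.AtPrime (p.comap (algebraMap R A)))
      (LocalizedModule p.primeCompl M) :=
    Module.Finite.of_isLocalizedModule (p.comap (algebraMap R A)).primeCompl g'
  have hP := height_comap_add (algebraMap R A) hπ d hd p e he
  have hdim : ringKrullDim (Localization.AtPrime (p.comap (algebraMap R A))) = (j + n : ℕ) := by
    rw [IsLocalization.AtPrime.ringKrullDim_eq_height (p.comap (algebraMap R A))]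
    have h1 : (p.comap (algebraMap R A)).height + (e : ℕ∞) = ((j + n : ℕ) : ℕ∞) + e := by
      rw [hP, ← hjn]; push_cast; rfl
    have h2 := (ENat.add_left_injective_of_ne_top (ENat.natCast_ne_top e)) h1
    rw [h2]; rfl
  rw [base_indep M p hπ j, H_subsingleton_iff _ (j + n) hdim _ j n rfl]
  exact (ext_iff (p.comap (algebraMap R A)).primeCompl
    (Localization.AtPrime (p.comap (algebraMap R A)))
    (Algebra.linearMap R (Localization.AtPrime (p.comap (algebraMap R A)))) n M
    (LocalizedModule p.primeCompl M) g').symm

include hπ in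
omit [Module.Finite A M] [Module R M] [IsScalarTower R A M] in
lemma H_vanish_of_gt (d : ℕ) (hd : ringKrullDim R = d) (p : Ideal A) [p.IsPrime] (e : ℕ)
    (he : ringKrullDim (A ⧸ p) = e) (j : ℕ) (hj : d < j + e) :
    Subsingleton (LocCoh.H (maximalIdeal (Localization.AtPrime p)) j
      (LocalizedModule p.primeCompl M)) := by
  letI := algLoc (algebraMap R A) p
  letI := modLoc (algebraMap R A) M p
  rw [base_indep M p hπ j]
  have hP := height_comap_add (algebraMap R A) hπ d hd p e he
  obtain ⟨d', hd'⟩ : ∃ d' : ℕ, (p.comap (algebraMap R A)).height = d' :=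
    ENat.ne_top_iff_exists.1 (Ideal.height_ne_top
      (Ideal.IsPrime.ne_top inferInstance)) |>.imp fun _ h => h.symm
  have hdim : ringKrullDim (Localization.AtPrime (p.comap (algebraMap R A))) = d' := by
    rw [IsLocalization.AtPrime.ringKrullDim_eq_height (p.comap (algebraMap R A)), hd']; rfl
  have hlt : d' < j := by
    rw [hd'] at hP
    have : d' + e = d := by exact_mod_cast hP
    omega
  exact H_subsingleton_of_gt _ d' hdim _ j hlt

include hπ in
/-- **finite length criterion** for `H^i_m(M)` over a quotient of a regular local ring -/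
theorem finLenA (i : ℕ) :
    IsFiniteLength A (LocCoh.H (maximalIdeal A) i M) ↔
      ∀ (p : Ideal A) [p.IsPrime], p ≠ maximalIdeal A → ∀ (e j : ℕ),
        ringKrullDim (A ⧸ p) = e → j + e = i →
        Subsingleton (LocCoh.H (maximalIdeal (Localization.AtPrime p)) j
          (LocalizedModule p.primeCompl M)) := by
  haveI : IsRegularRing R :=
    Groth.Agent.Lib.Helper24.SmoothRegularIff.isRegularRing_of_isRegularLocalRing R
  haveI : Module.Finite R A := Module.Finite.of_surjective (Algebra.linearMap R A) hπ
  haveI : Module.Finite R M := Module.Finite.trans A M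
  obtain ⟨d, hd⟩ : ∃ d : ℕ, ringKrullDim R = d := by
    have h1 : ringKrullDim R ≠ ⊤ := ringKrullDim_ne_top
    have h2 : ringKrullDim R ≠ ⊥ := ringKrullDim_ne_bot
    obtain ⟨x, hx⟩ := WithBot.ne_bot_iff_exists.1 h2
    have hx' : x ≠ ⊤ := by
      intro h
      apply h1
      rw [← hx, h]
      rfl
    obtain ⟨d, rfl⟩ := ENat.ne_top_iff_exists.1 hx'
    exact ⟨d, hx.symm⟩
  have hmapm : (maximalIdeal R).map (algebraMap R A) = maximalIdeal A := by
    rw [← comap_maximalIdeal (algebraMap R A) hπ, Ideal.map_comap_of_surjective _ hπ]
  have F1 : IsFiniteLength A (LocCoh.H (maximalIdeal A) i M) ↔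
      IsFiniteLength R (LocCoh.H (maximalIdeal R) i M) := by
    obtain ⟨φ, hφ⟩ := Groth.Agent.S11614.result R A (maximalIdeal R) M i
    revert φ
    rw [hmapm]
    intro φ hφ
    exact finLen_semilinear hπ _ _ φ hφ
  rw [F1]
  have hne_of : ∀ (p : Ideal A) [p.IsPrime], p ≠ maximalIdeal A →
      p.comap (algebraMap R A) ≠ maximalIdeal R := by
    intro p _ hp h
    apply hp
    have := congrArg (Ideal.map (algebraMap R A)) h
    rwa [Ideal.map_comap_of_surjective _ hπ, hmapm] at this
  by_cases hid : i ≤ d
  · obtain ⟨n, hn⟩ : ∃ n, i + n = d := ⟨d - i, by omega⟩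
    rw [finLen_H_iff R d hd M i n hn]
    constructor
    · intro hT p _ hp e j he hj
      exact (ttors_iff_H hπ M d hd p e he j n (by omega)).1 (hT _ (hne_of p hp))
    · intro hH P _ hP
      by_cases hker : RingHom.ker (algebraMap R A) ≤ P
      · haveI hpprime : (P.map (algebraMap R A)).IsPrime :=
          Ideal.map_isPrime_of_surjective hπ hker
        have hcomap : (P.map (algebraMap R A)).comap (algebraMap R A) = P := by
          rw [Ideal.comap_map_of_surjective _ hπ]
          exact sup_eq_left.2 hker
        have hpne : P.map (algebraMap R A) ≠ maximalIdeal A := by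
          intro h
          apply hP
          rw [← hcomap, h, comap_maximalIdeal _ hπ]
        have hP' : ∀ e : ℕ, ringKrullDim (A ⧸ P.map (algebraMap R A)) = e →
            P.height + e = d := by
          intro e he
          have := height_comap_add (algebraMap R A) hπ d hd (P.map (algebraMap R A)) e he
          rwa [hcomap] at this
        obtain ⟨e, he⟩ : ∃ e : ℕ, ringKrullDim (A ⧸ P.map (algebraMap R A)) = e := by
          have hne : P.map (algebraMap R A) ≠ ⊤ := Ideal.IsPrime.ne_top inferInstance
          haveI : Nontrivial (A ⧸ P.map (algebraMap R A)) := Ideal.Quotient.nontrivial_iff.mpr hne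
          haveI : IsLocalRing (A ⧸ P.map (algebraMap R A)) :=
            IsLocalRing.of_surjective' (Ideal.Quotient.mk _) Ideal.Quotient.mk_surjective
          have h1 : ringKrullDim (A ⧸ P.map (algebraMap R A)) ≠ ⊤ := ringKrullDim_ne_top
          have h2 : ringKrullDim (A ⧸ P.map (algebraMap R A)) ≠ ⊥ := ringKrullDim_ne_bot
          obtain ⟨x, hx⟩ := WithBot.ne_bot_iff_exists.1 h2
          have hx' : x ≠ ⊤ := by
            intro h
            apply h1
            rw [← hx, h]
            rfl
          obtain ⟨e, rfl⟩ := ENat.ne_top_iff_exists.1 hx'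
          exact ⟨e, hx.symm⟩
        by_cases hei : e ≤ i
        · have := (ttors_iff_H hπ M d hd (P.map (algebraMap R A)) e he (i - e) n
            (by omega)).2 (hH _ hpne e (i - e) he (by omega))
          have hgen : ∀ (Q : Ideal R) [Q.IsPrime], Q = P →
              TTors Q.primeCompl (Abelian.Ext.{u} (ModuleCat.of R M) (ModuleCat.of R R) n) →
              TTors P.primeCompl (Abelian.Ext.{u} (ModuleCat.of R M) (ModuleCat.of R R) n) := by
            rintro Q _ rfl h
            exact h
          exact hgen _ hcomap this
        · apply ttors_of_height_lt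
          have h3 := hP' e he
          obtain ⟨d', hd'⟩ : ∃ d' : ℕ, P.height = d' :=
            ENat.ne_top_iff_exists.1 (Ideal.height_ne_top
              (Ideal.IsPrime.ne_top inferInstance)) |>.imp fun _ h => h.symm
          rw [hd'] at h3 ⊢
          have : d' + e = d := by exact_mod_cast h3
          have : d' < n := by omega
          exact_mod_cast this
      · apply ttors_of_localization_subsingleton
        obtain ⟨r, hr, hrP⟩ := Set.not_subset.1 hker
        rw [LocalizedModule.subsingleton_iff]
        intro m
        refine ⟨r, hrP, ?_⟩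
        rw [← algebraMap_smul A r m, (RingHom.mem_ker).1 hr, zero_smul]
  · push Not at hid
    have hsub := H_subsingleton_of_gt R d hd M i hid
    constructor
    · intro _ p _ hp e j he hj
      exact H_vanish_of_gt hπ M d hd p e he j (by omega)
    · intro _
      exact IsFiniteLength.of_subsingleton

end Main

end Groth.Agent.Lib.helper19.FinLen
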