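import Mathlib
import Groth.Agent.Lib.Helper19.Gor1
import Groth.Agent.Lib.Helper19.FinLen2
set_option autoImplicit false

/-! Finite length and annihilators of `H^i_m(M)` for a finite module over a quotient `A` of a
Gorenstein local ring `R`, in terms of the vanishing of `H^{i-e}_{pA_p}(M_p)`, `e = dim A/p`. -/

universe u

namespace Groth.Agent.Lib.helper19.Gor
open CategoryTheory IsLocalRing Groth.Agent.Lib.helper19.ExtLoc Groth.Agent.Lib.helper19.KLoc
  Groth.Agent.Lib.helper19.FinLen

section Pure

variable {R : Type u} [CommRing R] [IsNoetherianRing R]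
  (M : Type u) [AddCommGroup M] [Module R M] [Module.Finite R M]

/-- if `M_P = 0` the localization of `Ext^n_R(M, R)` at `P` vanishes -/
lemma ttors_of_localization_subsingleton (P : Ideal R) [P.IsPrime] (n : ℕ)
    (h : Subsingleton (LocalizedModule P.primeCompl M)) :
    TTors P.primeCompl (Abelian.Ext.{u} (ModuleCat.of R M) (ModuleCat.of R R) n) := by
  have h1 := ext_subsingleton_of_subsingleton (S := Localization.AtPrime P)
    (LocalizedModule P.primeCompl M) (Localization.AtPrime P) n
  exact (ext_iff P.primeCompl (Localization.AtPrime P)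
    (Algebra.linearMap R (Localization.AtPrime P)) n M
    (LocalizedModule P.primeCompl M) (LocalizedModule.mkLinearMap P.primeCompl M)).1 h1

/-- above the height of `P`, the localization of `Ext^n_R(M, R)` at `P` vanishes -/
lemma ttors_of_height_lt [LocCoh.IsGorensteinLocalRing R] (P : Ideal R) [P.IsPrime] (n : ℕ)
    (hn : P.height < n) :
    TTors P.primeCompl (Abelian.Ext.{u} (ModuleCat.of R M) (ModuleCat.of R R) n) := by
  obtain ⟨d', hd'⟩ : ∃ d' : ℕ, P.height = d' := ENat.ne_top_iff_exists.1 (Ideal.height_ne_top
    (Ideal.IsPrime.ne_top inferInstance)) |>.imp fun _ h => h.symm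
  have hdim : ringKrullDim (Localization.AtPrime P) = d' := by
    rw [IsLocalization.AtPrime.ringKrullDim_eq_height P, hd']; rfl
  have hlt : d' < n := by rw [hd'] at hn; exact_mod_cast hn
  haveI := gor_localization R P
  have h1 := ext_subsingleton_of_gt (Localization.AtPrime P) d' hdim
    (LocalizedModule P.primeCompl M) n hlt
  exact (ext_iff P.primeCompl (Localization.AtPrime P)
    (Algebra.linearMap R (Localization.AtPrime P)) n M
    (LocalizedModule P.primeCompl M) (LocalizedModule.mkLinearMap P.primeCompl M)).1 h1

end Pure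

/-- existence of a natural number dimension for a local Noetherian ring -/
lemma exists_dim (B : Type u) [CommRing B] [IsLocalRing B] [IsNoetherianRing B] :
    ∃ d : ℕ, ringKrullDim B = d := by
  have h1 : ringKrullDim B ≠ ⊤ := ringKrullDim_ne_top
  have h2 : ringKrullDim B ≠ ⊥ := ringKrullDim_ne_bot
  obtain ⟨x, hx⟩ := WithBot.ne_bot_iff_exists.1 h2
  have hx' : x ≠ ⊤ := by
    intro h
    apply h1
    rw [← hx, h]
    rfl
  obtain ⟨d, rfl⟩ := ENat.ne_top_iff_exists.1 hx'
  exact ⟨d, hx.symm⟩

/-- existence of a natural number dimension for a quotient of a local Noetherian ring by a prime -/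
lemma exists_dim_quot (B : Type u) [CommRing B] [IsLocalRing B] [IsNoetherianRing B] (p : Ideal B)
    [p.IsPrime] : ∃ e : ℕ, ringKrullDim (B ⧸ p) = e := by
  have hne : p ≠ ⊤ := Ideal.IsPrime.ne_top inferInstance
  haveI : Nontrivial (B ⧸ p) := Ideal.Quotient.nontrivial_iff.mpr hne
  haveI : IsLocalRing (B ⧸ p) :=
    IsLocalRing.of_surjective' (Ideal.Quotient.mk _) Ideal.Quotient.mk_surjective
  exact exists_dim (B ⧸ p)

section Main

variable {R : Type u} [CommRing R] [LocCoh.IsGorensteinLocalRing R] {A : Type u} [CommRing A]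
  [IsLocalRing A] [IsNoetherianRing A] [Algebra R A] (hπ : Function.Surjective (algebraMap R A))
  (M : Type u) [AddCommGroup M] [Module A M] [Module.Finite A M] [Module R M] [IsScalarTower R A M]

include hπ in
omit [IsLocalRing A] [IsNoetherianRing A] in
/-- `ht P + dim A/p = dim R` for `P = π⁻¹ p` -/
lemma height_comap_add (d : ℕ) (hd : ringKrullDim R = d) (p : Ideal A) [p.IsPrime] (e : ℕ)
    (he : ringKrullDim (A ⧸ p) = e) : (p.comap (algebraMap R A)).height + e = d := by
  haveI hCM : LocCoh.IsCohenMacaulayLocalRing R := Groth.Agent.S0341.result R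
  let ε : R ⧸ p.comap (algebraMap R A) ≃+* A ⧸ p :=
    RingEquiv.ofBijective (Ideal.quotientMap p (algebraMap R A) le_rfl)
      ⟨Ideal.quotientMap_injective, Ideal.quotientMap_surjective hπ⟩
  have he' : ringKrullDim (R ⧸ p.comap (algebraMap R A)) = e := by
    rw [ringKrullDim_eq_of_ringEquiv ε, he]
  exact cm_height_add R hCM.supportDim_eq_depth d hd (p.comap (algebraMap R A)) e he'

include hπ in
/-- at a prime `p` of `A` with `dim A/p = e` and `j + n + e = dim R`: the localization of
`Ext^n_R(M, R)` at `P = π⁻¹ p` vanishes iff `H^j_{pA_p}(M_p) = 0`. -/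
lemma ttors_iff_H (d : ℕ) (hd : ringKrullDim R = d) (p : Ideal A) [p.IsPrime] (e : ℕ)
    (he : ringKrullDim (A ⧸ p) = e) (j n : ℕ) (hjn : j + n + e = d) :
    TTors (p.comap (algebraMap R A)).primeCompl
      (Abelian.Ext.{u} (ModuleCat.of R M) (ModuleCat.of R R) n) ↔
    Subsingleton (LocCoh.H (maximalIdeal (Localization.AtPrime p)) j
      (LocalizedModule p.primeCompl M)) := by
  haveI : Module.Finite R A := Module.Finite.of_surjective (Algebra.linearMap R A) hπ
  haveI : Module.Finite R M := Module.Finite.trans A M
  letI := algLoc (algebraMap R A) p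
  letI := modLoc (algebraMap R A) M p
  haveI : IsScalarTower R (Localization.AtPrime (p.comap (algebraMap R A)))
      (LocalizedModule p.primeCompl M) :=
    ⟨fun r s n => by
      show locHom (algebraMap R A) p (r • s) • n = r • locHom (algebraMap R A) p s • n
      rw [Algebra.smul_def, map_mul, mul_smul, Localization.localRingHom_to_map, algebraMap_smul,
        algebraMap_smul]⟩
  let g' : M →ₗ[R] LocalizedModule p.primeCompl M :=
    (LocalizedModule.mkLinearMap p.primeCompl M).restrictScalars R
  haveI : IsLocalizedModule (Algebra.algebraMapSubmonoid A (p.comap (algebraMap R A)).primeCompl)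
      (LocalizedModule.mkLinearMap p.primeCompl M) := by
    rw [show Algebra.algebraMapSubmonoid A (p.comap (algebraMap R A)).primeCompl = p.primeCompl
      from by
        ext a
        constructor
        · rintro ⟨r, hr, rfl⟩
          exact hr
        · intro ha
          obtain ⟨r, rfl⟩ := hπ a
          exact ⟨r, ha, rfl⟩]
    infer_instance
  haveI : IsLocalizedModule (p.comap (algebraMap R A)).primeCompl g' :=
    IsLocalizedModule.restrictScalars (p.comap (algebraMap R A)).primeCompl
      (LocalizedModule.mkLinearMap p.primeCompl M)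
  haveI : Module.Finite (Localization.AtPrime (p.comap (algebraMap R A)))
      (LocalizedModule p.primeCompl M) :=
    Module.Finite.of_isLocalizedModule (p.comap (algebraMap R A)).primeCompl g'
  have hP := height_comap_add hπ d hd p e he
  have hdim : ringKrullDim (Localization.AtPrime (p.comap (algebraMap R A))) = (j + n : ℕ) := by
    rw [IsLocalization.AtPrime.ringKrullDim_eq_height (p.comap (algebraMap R A))]
    have h1 : (p.comap (algebraMap R A)).height + (e : ℕ∞) = ((j + n : ℕ) : ℕ∞) + e := by
      rw [hP, ← hjn]; push_cast; rfl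
    have h2 := (ENat.add_left_injective_of_ne_top (ENat.natCast_ne_top e)) h1
    rw [h2]; rfl
  haveI := gor_localization R (p.comap (algebraMap R A))
  rw [base_indep M p hπ j, H_subsingleton_iff _ (j + n) hdim _ j n rfl]
  exact (ext_iff (p.comap (algebraMap R A)).primeCompl
    (Localization.AtPrime (p.comap (algebraMap R A)))
    (Algebra.linearMap R (Localization.AtPrime (p.comap (algebraMap R A)))) n M
    (LocalizedModule p.primeCompl M) g').symm

include hπ in
omit [Module.Finite A M] [Module R M] [IsScalarTower R A M] in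
lemma H_vanish_of_gt (d : ℕ) (hd : ringKrullDim R = d) (p : Ideal A) [p.IsPrime] (e : ℕ)
    (he : ringKrullDim (A ⧸ p) = e) (j : ℕ) (hj : d < j + e) :
    Subsingleton (LocCoh.H (maximalIdeal (Localization.AtPrime p)) j
      (LocalizedModule p.primeCompl M)) := by
  letI := algLoc (algebraMap R A) p
  letI := modLoc (algebraMap R A) M p
  rw [base_indep M p hπ j]
  have hP := height_comap_add hπ d hd p e he
  obtain ⟨d', hd'⟩ : ∃ d' : ℕ, (p.comap (algebraMap R A)).height = d' :=
    ENat.ne_top_iff_exists.1 (Ideal.height_ne_top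
      (Ideal.IsPrime.ne_top inferInstance)) |>.imp fun _ h => h.symm
  have hdim : ringKrullDim (Localization.AtPrime (p.comap (algebraMap R A))) = d' := by
    rw [IsLocalization.AtPrime.ringKrullDim_eq_height (p.comap (algebraMap R A)), hd']; rfl
  have hlt : d' < j := by
    rw [hd'] at hP
    have : d' + e = d := by exact_mod_cast hP
    omega
  exact Groth.Agent.Lib.helper19.RegDual.H_subsingleton_of_gt _ d' hdim _ j hlt

include hπ in
/-- translation of the vanishing of the localizations of `Ext^n_R(M, R)` at the primes not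
containing `π⁻¹ J` into the vanishing of local cohomology of the localizations of `M`. -/
theorem ttors_all_iff (d : ℕ) (hd : ringKrullDim R = d) (i n : ℕ) (hin : i + n = d)
    (J : Ideal A) :
    (∀ (P : Ideal R) [P.IsPrime], ¬ J.comap (algebraMap R A) ≤ P →
      TTors P.primeCompl (Abelian.Ext.{u} (ModuleCat.of R M) (ModuleCat.of R R) n)) ↔
    ∀ (p : Ideal A) [p.IsPrime], ¬ J ≤ p → ∀ (e j : ℕ),
      ringKrullDim (A ⧸ p) = e → j + e = i →
      Subsingleton (LocCoh.H (maximalIdeal (Localization.AtPrime p)) j
        (LocalizedModule p.primeCompl M)) := by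
  haveI : Module.Finite R A := Module.Finite.of_surjective (Algebra.linearMap R A) hπ
  haveI : Module.Finite R M := Module.Finite.trans A M
  have hnle_of : ∀ (p : Ideal A) [p.IsPrime], ¬ J ≤ p →
      ¬ J.comap (algebraMap R A) ≤ p.comap (algebraMap R A) := by
    intro p _ hp h
    apply hp
    have := Ideal.map_mono (f := algebraMap R A) h
    rwa [Ideal.map_comap_of_surjective _ hπ, Ideal.map_comap_of_surjective _ hπ] at this
  constructor
  · intro hT p _ hp e j he hj
    exact (ttors_iff_H hπ M d hd p e he j n (by omega)).1 (hT _ (hnle_of p hp))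
  · intro hH P _ hP
    by_cases hker : RingHom.ker (algebraMap R A) ≤ P
    · haveI hpprime : (P.map (algebraMap R A)).IsPrime :=
        Ideal.map_isPrime_of_surjective hπ hker
      have hcomap : (P.map (algebraMap R A)).comap (algebraMap R A) = P := by
        rw [Ideal.comap_map_of_surjective _ hπ]
        exact sup_eq_left.2 hker
      have hpne : ¬ J ≤ P.map (algebraMap R A) := by
        intro h
        apply hP
        rw [← hcomap]
        exact Ideal.comap_mono h
      obtain ⟨e, he⟩ := exists_dim_quot A (P.map (algebraMap R A))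
      have hP' : P.height + e = d := by
        have := height_comap_add hπ d hd (P.map (algebraMap R A)) e he
        rwa [hcomap] at this
      by_cases hei : e ≤ i
      · have := (ttors_iff_H hπ M d hd (P.map (algebraMap R A)) e he (i - e) n
          (by omega)).2 (hH _ hpne e (i - e) he (by omega))
        have hgen : ∀ (Q : Ideal R) [Q.IsPrime], Q = P →
            TTors Q.primeCompl (Abelian.Ext.{u} (ModuleCat.of R M) (ModuleCat.of R R) n) →
            TTors P.primeCompl (Abelian.Ext.{u} (ModuleCat.of R M) (ModuleCat.of R R) n) := by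
          rintro Q _ rfl h
          exact h
        exact hgen _ hcomap this
      · apply ttors_of_height_lt
        obtain ⟨d', hd'⟩ : ∃ d' : ℕ, P.height = d' :=
          ENat.ne_top_iff_exists.1 (Ideal.height_ne_top
            (Ideal.IsPrime.ne_top inferInstance)) |>.imp fun _ h => h.symm
        rw [hd'] at hP' ⊢
        have : d' + e = d := by exact_mod_cast hP'
        have : d' < n := by omega
        exact_mod_cast this
    · apply ttors_of_localization_subsingleton
      obtain ⟨r, hr, hrP⟩ := Set.not_subset.1 hker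
      rw [LocalizedModule.subsingleton_iff]
      intro m
      refine ⟨r, hrP, ?_⟩
      rw [← algebraMap_smul A r m, (RingHom.mem_ker).1 hr, zero_smul]

include hπ in
omit [LocCoh.IsGorensteinLocalRing R] [IsNoetherianRing A] in
lemma map_maximalIdeal' [IsLocalRing R] :
    (maximalIdeal R).map (algebraMap R A) = maximalIdeal A := by
  rw [← comap_maximalIdeal (algebraMap R A) hπ, Ideal.map_comap_of_surjective _ hπ]

include hπ in
/-- **finite length criterion** for `H^i_m(M)` over a quotient of a Gorenstein local ring -/
theorem finLenA (i : ℕ) :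
    IsFiniteLength A (LocCoh.H (maximalIdeal A) i M) ↔
      ∀ (p : Ideal A) [p.IsPrime], p ≠ maximalIdeal A → ∀ (e j : ℕ),
        ringKrullDim (A ⧸ p) = e → j + e = i →
        Subsingleton (LocCoh.H (maximalIdeal (Localization.AtPrime p)) j
          (LocalizedModule p.primeCompl M)) := by
  haveI : Module.Finite R A := Module.Finite.of_surjective (Algebra.linearMap R A) hπ
  haveI : Module.Finite R M := Module.Finite.trans A M
  obtain ⟨d, hd⟩ := exists_dim R
  have hmapm := map_maximalIdeal' (R := R) (A := A) hπ
  have F1 : IsFiniteLength A (LocCoh.H (maximalIdeal A) i M) ↔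
      IsFiniteLength R (LocCoh.H (maximalIdeal R) i M) := by
    obtain ⟨φ, hφ⟩ := Groth.Agent.S11614.result R A (maximalIdeal R) M i
    revert φ
    rw [hmapm]
    intro φ hφ
    exact finLen_semilinear hπ _ _ φ hφ
  rw [F1]
  have hne_iff : ∀ (p : Ideal A) [p.IsPrime], p ≠ maximalIdeal A ↔ ¬ maximalIdeal A ≤ p := by
    intro p _
    constructor
    · intro hne hle
      exact hne (le_antisymm (IsLocalRing.le_maximalIdeal (Ideal.IsPrime.ne_top inferInstance)) hle)
    · intro h heq
      exact h heq.ge
  have hne_iff' : ∀ (P : Ideal R) [P.IsPrime], P ≠ maximalIdeal R ↔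
      ¬ (maximalIdeal A).comap (algebraMap R A) ≤ P := by
    intro P _
    rw [comap_maximalIdeal (algebraMap R A) hπ]
    constructor
    · intro hne hle
      exact hne (le_antisymm (IsLocalRing.le_maximalIdeal (Ideal.IsPrime.ne_top inferInstance)) hle)
    · intro h heq
      exact h heq.ge
  by_cases hid : i ≤ d
  · obtain ⟨n, hn⟩ : ∃ n, i + n = d := ⟨d - i, by omega⟩
    rw [finLen_H_iff R d hd M i n hn]
    have key := ttors_all_iff hπ M d hd i n hn (maximalIdeal A)
    constructor
    · intro hT p _ hp e j he hj
      exact key.1 (fun P _ hP => hT P ((hne_iff' P).2 hP)) p ((hne_iff p).1 hp) e j he hj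
    · intro hH P _ hP
      exact key.2 (fun p _ hp => hH p ((hne_iff p).2 hp)) P ((hne_iff' P).1 hP)
  · push Not at hid
    have hsub := Groth.Agent.Lib.helper19.RegDual.H_subsingleton_of_gt R d hd M i hid
    constructor
    · intro _ p _ hp e j he hj
      exact H_vanish_of_gt hπ M d hd p e he j (by omega)
    · intro _
      exact IsFiniteLength.of_subsingleton

include hπ in
/-- **annihilator criterion** for `H^i_m(M)` over a quotient of a Gorenstein local ring -/
theorem annA (i : ℕ) (J : Ideal A) :
    J ≤ (Module.annihilator A (LocCoh.H (maximalIdeal A) i M)).radical ↔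
      ∀ (p : Ideal A) [p.IsPrime], ¬ J ≤ p → ∀ (e j : ℕ),
        ringKrullDim (A ⧸ p) = e → j + e = i →
        Subsingleton (LocCoh.H (maximalIdeal (Localization.AtPrime p)) j
          (LocalizedModule p.primeCompl M)) := by
  haveI : Module.Finite R A := Module.Finite.of_surjective (Algebra.linearMap R A) hπ
  haveI : Module.Finite R M := Module.Finite.trans A M
  obtain ⟨d, hd⟩ := exists_dim R
  have hmapm := map_maximalIdeal' (R := R) (A := A) hπ
  -- step 1: elementwise form
  have S1 : J ≤ (Module.annihilator A (LocCoh.H (maximalIdeal A) i M)).radical ↔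
      ∀ a ∈ J, ∃ k : ℕ, ∀ x : LocCoh.H (maximalIdeal A) i M, a ^ k • x = 0 := by
    constructor
    · intro h a ha
      obtain ⟨k, hk⟩ := h ha
      exact ⟨k, fun x => Module.mem_annihilator.1 hk x⟩
    · intro h a ha
      obtain ⟨k, hk⟩ := h a ha
      exact ⟨k, Module.mem_annihilator.2 hk⟩
  -- step 2: transfer to `R`
  have S2 : (∀ a ∈ J, ∃ k : ℕ, ∀ x : LocCoh.H (maximalIdeal A) i M, a ^ k • x = 0) ↔
      ∀ r ∈ J.comap (algebraMap R A), ∃ k : ℕ, ∀ x : LocCoh.H (maximalIdeal R) i M,
        r ^ k • x = 0 := by
    obtain ⟨φ, hφ⟩ := Groth.Agent.S11614.result R A (maximalIdeal R) M i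
    revert φ
    rw [hmapm]
    intro φ hφ
    constructor
    · intro h r hr
      obtain ⟨k, hk⟩ := h (algebraMap R A r) hr
      refine ⟨k, fun x => ?_⟩
      obtain ⟨y, rfl⟩ := φ.surjective x
      rw [← hφ, map_pow, hk y, map_zero]
    · intro h a ha
      obtain ⟨r, rfl⟩ := hπ a
      obtain ⟨k, hk⟩ := h r ha
      refine ⟨k, fun x => ?_⟩
      apply φ.injective
      rw [← map_pow, hφ, hk, map_zero]
  rw [S1, S2]
  by_cases hid : i ≤ d
  · obtain ⟨n, hn⟩ : ∃ n, i + n = d := ⟨d - i, by omega⟩
    rw [ann_H_iff R d hd M i n hn (J.comap (algebraMap R A))]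
    exact ttors_all_iff hπ M d hd i n hn J
  · push Not at hid
    have hsub := Groth.Agent.Lib.helper19.RegDual.H_subsingleton_of_gt R d hd M i hid
    constructor
    · intro _ p _ hp e j he hj
      exact H_vanish_of_gt hπ M d hd p e he j (by omega)
    · intro _ r _
      exact ⟨0, fun x => by rw [Subsingleton.elim x 0, smul_zero]⟩

end Main

end Groth.Agent.Lib.helper19.Gor
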