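import Mathlib
import Groth.Prelude.Def_Wider
import Groth.Agent.Lib.Helper19.Gor1
import Groth.Agent.Lib.Helper19.Gor2
import Groth.Agent.Lib.Helper19.ExtLoc1
set_option autoImplicit false

/-! # Reflexive modules over Gorenstein rings of dimension `≤ 1` (helper19), part 1

* `hasInjectiveDimensionLE_of_gorenstein` : a Gorenstein ring of Krull dimension `≤ d` has injective
  dimension `≤ d` over itself.
* `ext_one_dual_subsingleton` : if `injdim S ≤ 1` then `Ext^1(N^*, S) = 0` for finite `N`.
* `eval_surjective` : if `injdim S ≤ 1` then `M → M^{**}` is surjective for finite `M`.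
-/

universe u

namespace Groth.Agent.Lib.helper19.Refl
open CategoryTheory Groth.Agent.Lib.helper19.ExtLoc

section injdim
variable (S : Type u) [CommRing S] [LocCoh.IsGorensteinRing S]

/-- a Gorenstein ring of dimension `≤ d` has injective dimension `≤ d` -/
theorem hasInjectiveDimensionLE_of_gorenstein (d : ℕ) (hdim : ringKrullDim S ≤ d) :
    HasInjectiveDimensionLE (ModuleCat.of S S) d := by
  rw [ModuleCat.hasInjectiveDimensionLE_iff_forall_primeSpectrum]
  intro p
  haveI := p.isPrime
  haveI hG : LocCoh.IsGorensteinLocalRing (Localization.AtPrime p.asIdeal) :=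
    LocCoh.IsGorensteinRing.isGorensteinLocalRing_localization p.asIdeal
  obtain ⟨e, he⟩ := Groth.Agent.Lib.helper19.Gor.exists_dim (Localization.AtPrime p.asIdeal)
  have hed : e ≤ d := by
    have h1 : ringKrullDim (Localization.AtPrime p.asIdeal) = p.asIdeal.height :=
      IsLocalization.AtPrime.ringKrullDim_eq_height p.asIdeal _
    have h2 : (p.asIdeal.height : WithBot ℕ∞) ≤ ringKrullDim S :=
      Ideal.height_le_ringKrullDim_of_isPrime
    have h3 : ((e : ℕ) : WithBot ℕ∞) ≤ (d : WithBot ℕ∞) := by
      rw [← he, h1]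
      exact h2.trans hdim
    exact_mod_cast h3
  have h2 := Groth.Agent.Lib.helper19.Gor.gor_injDim (Localization.AtPrime p.asIdeal) e he
  have h3 : HasInjectiveDimensionLE (ModuleCat.of (Localization.AtPrime p.asIdeal)
      (Localization.AtPrime p.asIdeal)) d :=
    hasInjectiveDimensionLT_of_ge _ (e + 1) (d + 1) (by omega)
  haveI := ModuleCat.localizedModule_isLocalizedModule (ModuleCat.of S S) p.asIdeal.primeCompl
  let e0 : ((ModuleCat.of S S).localizedModule p.asIdeal.primeCompl) ≃ₗ[S]
      Localization p.asIdeal.primeCompl :=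
    IsLocalizedModule.linearEquiv p.asIdeal.primeCompl
      ((ModuleCat.of S S).localizedModuleMkLinearMap p.asIdeal.primeCompl)
      (Algebra.linearMap S (Localization p.asIdeal.primeCompl))
  let e1 : ((ModuleCat.of S S).localizedModule p.asIdeal.primeCompl) ≃ₗ[Localization p.asIdeal.primeCompl]
      (ModuleCat.of (Localization p.asIdeal.primeCompl) (Localization p.asIdeal.primeCompl)) :=
    LinearEquiv.extendScalarsOfIsLocalization p.asIdeal.primeCompl
      (Localization p.asIdeal.primeCompl) e0
  exact (ModuleCat.hasInjectiveDimensionLE_iff_of_linearEquiv e1 d).2 h3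

end injdim

section dualses
variable {S : Type u} [CommRing S]
  {F N : Type u} [AddCommGroup F] [Module S F] [AddCommGroup N] [Module S N]
  (p : F →ₗ[S] N) (hp : Function.Surjective p)

/-- the image of the restriction `F^* → (ker p)^*` -/
abbrev Z : Submodule S (Module.Dual S (LinearMap.ker p)) :=
  LinearMap.range (LinearMap.ker p).subtype.dualMap

/-- `F^* → Z` -/
noncomputable abbrev toZ : Module.Dual S F →ₗ[S] Z p :=
  (LinearMap.ker p).subtype.dualMap.rangeRestrict

lemma toZ_surjective : Function.Surjective (toZ p) :=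
  LinearMap.surjective_rangeRestrict _

include hp in
lemma dualMap_injective : Function.Injective p.dualMap :=
  LinearMap.dualMap_injective_of_surjective hp

include hp in
lemma exact_dual : Function.Exact p.dualMap (toZ p) := by
  intro φ
  constructor
  · intro h
    have h0 : ∀ k : LinearMap.ker p, φ k.1 = 0 := by
      intro k
      have := congrArg (fun z : Z p => z.1 k) h
      simpa using this
    refine ⟨((LinearMap.ker p).liftQ φ (fun k hk => h0 ⟨k, hk⟩)) ∘ₗ
      (p.quotKerEquivOfSurjective hp).symm.toLinearMap, ?_⟩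
    apply LinearMap.ext
    intro v
    rw [LinearMap.dualMap_apply, LinearMap.comp_apply, LinearEquiv.coe_coe]
    have : (p.quotKerEquivOfSurjective hp).symm (p v) = (LinearMap.ker p).mkQ v := by
      rw [LinearEquiv.symm_apply_eq]
      rfl
    rw [this]
    rfl
  · rintro ⟨ψ, rfl⟩
    apply Subtype.ext
    apply LinearMap.ext
    intro k
    show (p.dualMap ψ) k.1 = 0
    rw [LinearMap.dualMap_apply, LinearMap.mem_ker.1 k.2, map_zero]

end dualses

section ext
variable {S : Type u} [CommRing S]

/-- `Ext^1(A, Y) = 0` from `0 → A → B → C → 0` with `B` projective and `Ext^2(C, Y) = 0` -/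
theorem ext_one_subsingleton_of_ses {A B C : Type u} [AddCommGroup A] [Module S A]
    [AddCommGroup B] [Module S B] [AddCommGroup C] [Module S C] (Y : Type u) [AddCommGroup Y]
    [Module S Y] (i : A →ₗ[S] B) (p : B →ₗ[S] C) (hi : Function.Injective i)
    (hp : Function.Surjective p) (hex : Function.Exact i p) [Module.Projective S B]
    (h2 : Subsingleton (Abelian.Ext.{u} (ModuleCat.of S C) (ModuleCat.of S Y) 2)) :
    Subsingleton (Abelian.Ext.{u} (ModuleCat.of S A) (ModuleCat.of S Y) 1) := by
  have hS := sc_shortExact i p hi hp hex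
  have hF : Subsingleton (Abelian.Ext.{u} (ModuleCat.of S B) (ModuleCat.of S Y) 1) :=
    Abelian.Ext.subsingleton_of_projective _ _ 0
  refine ⟨fun a b => ?_⟩
  have key : ∀ x₁ : Abelian.Ext.{u} (ModuleCat.of S A) (ModuleCat.of S Y) 1, x₁ = 0 := by
    intro x₁
    obtain ⟨x₂, hx₂⟩ := Abelian.Ext.contravariant_sequence_exact₁ hS (ModuleCat.of S Y) x₁
      (show 1 + 1 = 2 by omega) (h2.elim _ _)
    have hx0 : x₂ = 0 := hF.elim _ _
    rw [← hx₂, hx0, Abelian.Ext.comp_zero]
  rw [key a, key b]

/-- extension of functionals along `0 → A → B → C → 0` when `Ext^1(C, Y) = 0` -/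
theorem exists_extend_of_ses {A B C : Type u} [AddCommGroup A] [Module S A]
    [AddCommGroup B] [Module S B] [AddCommGroup C] [Module S C] (Y : Type u) [AddCommGroup Y]
    [Module S Y] (i : A →ₗ[S] B) (p : B →ₗ[S] C) (hi : Function.Injective i)
    (hp : Function.Surjective p) (hex : Function.Exact i p)
    (h1 : Subsingleton (Abelian.Ext.{u} (ModuleCat.of S C) (ModuleCat.of S Y) 1))
    (ψ : A →ₗ[S] Y) : ∃ φ : B →ₗ[S] Y, φ ∘ₗ i = ψ :=
  (bdry_eq_zero_iff Y i p hi hp hex ψ).1 (h1.elim _ _)

variable (hinj : HasInjectiveDimensionLE (ModuleCat.of S S) 1)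

include hinj in
lemma ext_two_subsingleton (C : Type u) [AddCommGroup C] [Module S C] :
    Subsingleton (Abelian.Ext.{u} (ModuleCat.of S C) (ModuleCat.of S S) 2) := by
  haveI : HasInjectiveDimensionLT (ModuleCat.of S S) 2 := hinj
  exact HasInjectiveDimensionLT.subsingleton (ModuleCat.of S S) 2 2 le_rfl _

include hinj in
/-- `Ext^1(A, S) = 0` for a submodule of a projective module -/
theorem ext_one_subsingleton_of_injective {A B : Type u} [AddCommGroup A] [Module S A]
    [AddCommGroup B] [Module S B] [Module.Projective S B] (j : A →ₗ[S] B)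
    (hj : Function.Injective j) :
    Subsingleton (Abelian.Ext.{u} (ModuleCat.of S A) (ModuleCat.of S S) 1) :=
  ext_one_subsingleton_of_ses S j (LinearMap.range j).mkQ hj (Submodule.mkQ_surjective _)
    (LinearMap.exact_map_mkQ_range j) (ext_two_subsingleton hinj _)

include hinj in
/-- `Ext^1(Z, S) = 0` for a submodule `Z ⊆ K^*` of the dual of a finite module -/
theorem ext_one_submodule_dual_subsingleton (K : Type u) [AddCommGroup K] [Module S K]
    [Module.Finite S K] (Z' : Submodule S (Module.Dual S K)) :
    Subsingleton (Abelian.Ext.{u} (ModuleCat.of S Z') (ModuleCat.of S S) 1) := by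
  obtain ⟨r, q, hq⟩ := Module.Finite.exists_fin' S K
  exact ext_one_subsingleton_of_injective hinj (A := Z') (B := Module.Dual S (Fin r → S))
    (q.dualMap ∘ₗ Z'.subtype)
    ((LinearMap.dualMap_injective_of_surjective hq).comp Z'.subtype_injective)

include hinj in
/-- `Ext^1(N^*, S) = 0` for finite `N` when `injdim S ≤ 1` -/
theorem ext_one_dual_subsingleton (N : Type u) [AddCommGroup N] [Module S N] [Module.Finite S N] :
    Subsingleton (Abelian.Ext.{u} (ModuleCat.of S (Module.Dual S N)) (ModuleCat.of S S) 1) := by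
  obtain ⟨r, p, hp⟩ := Module.Finite.exists_fin' S N
  exact ext_one_subsingleton_of_ses (A := Module.Dual S N) (B := Module.Dual S (Fin r → S))
    (C := Z p) S p.dualMap (toZ p) (dualMap_injective p hp)
    (toZ_surjective p) (exact_dual p hp) (ext_two_subsingleton hinj _)

include hinj in
/-- `Ext^1` vanishes on modules isomorphic to a dual -/
theorem ext_one_subsingleton_of_equiv_dual (M N : Type u) [AddCommGroup M] [Module S M]
    [AddCommGroup N] [Module S N] [Module.Finite S N] (e : M ≃ₗ[S] Module.Dual S N) :
    Subsingleton (Abelian.Ext.{u} (ModuleCat.of S M) (ModuleCat.of S S) 1) := by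
  haveI := ext_one_dual_subsingleton hinj N
  refine ⟨fun a b => ?_⟩
  have key : ∀ x : Abelian.Ext.{u} (ModuleCat.of S M) (ModuleCat.of S S) 1, x = 0 := by
    intro x
    have h1 : (Abelian.Ext.mk₀ e.toModuleIso.hom).comp
        ((Abelian.Ext.mk₀ e.toModuleIso.inv).comp x (zero_add 1)) (zero_add 1) = x := by
      rw [← Abelian.Ext.comp_assoc_of_second_deg_zero, Abelian.Ext.mk₀_comp_mk₀,
        Iso.hom_inv_id, Abelian.Ext.mk₀_id_comp]
    rw [← h1, Subsingleton.elim ((Abelian.Ext.mk₀ e.toModuleIso.inv).comp x (zero_add 1)) 0,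
      Abelian.Ext.comp_zero]
  rw [key a, key b]

end ext

section eval
variable {S : Type u} [CommRing S] [IsNoetherianRing S]
  (hinj : HasInjectiveDimensionLE (ModuleCat.of S S) 1)

include hinj in
/-- over a Noetherian ring of injective dimension `≤ 1`, `M → M^{**}` is onto for finite `M` -/
theorem eval_surjective (M : Type u) [AddCommGroup M] [Module S M] [Module.Finite S M] :
    Function.Surjective (Module.Dual.eval S M) := by
  obtain ⟨r, p, hp⟩ := Module.Finite.exists_fin' S M
  have h1 := ext_one_submodule_dual_subsingleton hinj (LinearMap.ker p) (Z p)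
  intro ψ
  obtain ⟨φ, hφ⟩ := exists_extend_of_ses (A := Module.Dual S M) (B := Module.Dual S (Fin r → S))
    (C := Z p) S p.dualMap (toZ p) (dualMap_injective p hp)
    (toZ_surjective p) (exact_dual p hp) h1 ψ
  obtain ⟨v, hv⟩ := (Module.bijective_dual_eval S (Fin r → S)).2 φ
  refine ⟨p v, ?_⟩
  apply LinearMap.ext
  intro f
  rw [Module.Dual.eval_apply, ← hφ, LinearMap.comp_apply, ← hv, Module.Dual.eval_apply,
    LinearMap.dualMap_apply]

include hinj in
/-- torsionless finite modules are reflexive when `injdim S ≤ 1` -/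
theorem isReflexive_of_eval_injective (M : Type u) [AddCommGroup M] [Module S M]
    [Module.Finite S M] (h : Function.Injective (Module.Dual.eval S M)) :
    Module.IsReflexive S M :=
  ⟨⟨h, eval_surjective hinj M⟩⟩

end eval

end Groth.Agent.Lib.helper19.Refl
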