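import Mathlib

/-!
# Flatness over rings whose (finitely generated) ideals are principal with principal annihilators

* `exists_eq_smul_of_flat`: if `C →b C →a C` is exact and `M` is flat, then `a • m = 0 → m ∈ b M`.
* `rTensor_span_singleton_injective`: if `b * a = 0` and `a • m = 0 → m ∈ b M`, then
  `(a) ⊗ M → C ⊗ M` is injective.
* `flat_of_forall_fg_principal`: the resulting flatness criterion.
-/

set_option autoImplicit false
universe u v

namespace Groth.Agent.Lib.Helper19.PrincFlat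

open TensorProduct

variable {C : Type u} [CommRing C]

theorem exists_eq_smul_of_flat (a b : C) (hab : ∀ c : C, a * c = 0 → ∃ d, c = b * d)
    (hba : a * b = 0)
    (M : Type v) [AddCommGroup M] [Module C M] [Module.Flat C M] (m : M) (hm : a • m = 0) :
    ∃ m' : M, m = b • m' := by
  have hex : Function.Exact (LinearMap.lsmul C C b) (LinearMap.lsmul C C a) := by
    intro x
    constructor
    · intro hx
      obtain ⟨d, rfl⟩ := hab x hx
      exact ⟨d, rfl⟩
    · rintro ⟨y, rfl⟩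
      simp only [LinearMap.lsmul_apply, smul_eq_mul]
      rw [← mul_assoc, hba, zero_mul]
  have h := Module.Flat.lTensor_exact M hex
  have h1 : (LinearMap.lsmul C C a).lTensor M (m ⊗ₜ 1) = 0 := by
    rw [LinearMap.lTensor_tmul, LinearMap.lsmul_apply, smul_eq_mul, mul_one]
    have : m ⊗ₜ[C] a = (a • m) ⊗ₜ[C] (1 : C) := by
      rw [TensorProduct.smul_tmul, smul_eq_mul, mul_one]
    rw [this, hm, TensorProduct.zero_tmul]
  obtain ⟨t, ht⟩ := (h _).mp h1
  refine ⟨TensorProduct.rid C M t, ?_⟩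
  have h2 : ∀ t : M ⊗[C] C,
      TensorProduct.rid C M ((LinearMap.lsmul C C b).lTensor M t) = b • TensorProduct.rid C M t := by
    intro t
    induction t using TensorProduct.induction_on with
    | zero => simp
    | tmul x y =>
      rw [LinearMap.lTensor_tmul, TensorProduct.rid_tmul, TensorProduct.rid_tmul,
        LinearMap.lsmul_apply, smul_eq_mul, mul_smul]
    | add x y hx hy => rw [map_add, map_add, map_add, smul_add, hx, hy]
  rw [← h2, ht, TensorProduct.rid_tmul, one_smul]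

theorem exists_eq_tmul (a : C) (M : Type v) [AddCommGroup M] [Module C M]
    (t : ↥(Ideal.span {a}) ⊗[C] M) :
    ∃ m : M, t = (⟨a, Ideal.mem_span_singleton_self _⟩ : ↥(Ideal.span {a})) ⊗ₜ m := by
  induction t using TensorProduct.induction_on with
  | zero => exact ⟨0, by simp⟩
  | tmul j l =>
    obtain ⟨j, hj⟩ := j
    obtain ⟨c, rfl⟩ := Ideal.mem_span_singleton'.mp hj
    refine ⟨c • l, ?_⟩
    rw [← TensorProduct.smul_tmul]
    rfl
  | add x y hx hy =>
    obtain ⟨l₁, rfl⟩ := hx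
    obtain ⟨l₂, rfl⟩ := hy
    exact ⟨l₁ + l₂, by rw [TensorProduct.tmul_add]⟩

theorem rTensor_span_singleton_injective (a b : C) (hba : b * a = 0)
    (M : Type v) [AddCommGroup M] [Module C M]
    (h : ∀ m : M, a • m = 0 → ∃ m' : M, m = b • m') :
    Function.Injective ((Ideal.span {a}).subtype.rTensor M) := by
  rw [injective_iff_map_eq_zero]
  intro t ht
  obtain ⟨m, rfl⟩ := exists_eq_tmul a M t
  rw [LinearMap.rTensor_tmul] at ht
  have h2 := congrArg (TensorProduct.lid C M) ht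
  rw [TensorProduct.lid_tmul, map_zero] at h2
  obtain ⟨m', rfl⟩ := h m h2
  rw [← TensorProduct.smul_tmul]
  have h4 : b • (⟨a, Ideal.mem_span_singleton_self _⟩ : ↥(Ideal.span {a})) = 0 := by
    apply Subtype.ext
    show b • a = 0
    rw [smul_eq_mul, hba]
  rw [h4, TensorProduct.zero_tmul]

theorem flat_of_forall_fg_principal (M : Type v) [AddCommGroup M] [Module C M]
    (h : ∀ I : Ideal C, I.FG → ∃ a b : C, I = Ideal.span {a} ∧ b * a = 0 ∧
      ∀ m : M, a • m = 0 → ∃ m' : M, m = b • m') : Module.Flat C M := by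
  rw [Module.Flat.iff_rTensor_injective]
  intro I hI
  obtain ⟨a, b, rfl, hba, hm⟩ := h I hI
  exact rTensor_span_singleton_injective a b hba M hm

section Z
variable (p n : ℕ) [hp : Fact p.Prime]

theorem p_pow_n : (p : ZMod (p ^ n)) ^ n = 0 := by
  rw [← Nat.cast_pow]; exact ZMod.natCast_self _

theorem exists_eq_mul_of_pow_mul_eq_zero (i : ℕ) (hi : i ≤ n) (c : ZMod (p ^ n))
    (hc : (p : ZMod (p ^ n)) ^ i * c = 0) : ∃ d, c = (p : ZMod (p ^ n)) ^ (n - i) * d := by
  haveI : NeZero (p ^ n) := ⟨pow_ne_zero _ hp.out.ne_zero⟩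
  have h1 : ((p ^ i * c.val : ℕ) : ZMod (p ^ n)) = 0 := by
    rw [Nat.cast_mul, Nat.cast_pow, ZMod.natCast_zmod_val]
    exact hc
  rw [ZMod.natCast_eq_zero_iff] at h1
  have h2 : p ^ n = p ^ i * p ^ (n - i) := by
    rw [← pow_add]; congr 1; omega
  have h1' : p ^ i * p ^ (n - i) ∣ p ^ i * c.val := h2 ▸ h1
  have h3 : p ^ (n - i) ∣ c.val := Nat.dvd_of_mul_dvd_mul_left (pow_pos hp.out.pos i) h1'
  obtain ⟨d, hd⟩ := h3
  refine ⟨(d : ZMod (p ^ n)), ?_⟩
  rw [← ZMod.natCast_zmod_val c, hd, Nat.cast_mul, Nat.cast_pow]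

theorem exists_unit_mul_pow (c : ZMod (p ^ n)) (hc : c ≠ 0) :
    ∃ v, v ≤ n ∧ ∃ u : ZMod (p ^ n), IsUnit u ∧ c = u * (p : ZMod (p ^ n)) ^ v := by
  haveI : NeZero (p ^ n) := ⟨pow_ne_zero _ hp.out.ne_zero⟩
  have hv : c.val ≠ 0 := by
    intro h
    apply hc
    rw [← ZMod.natCast_zmod_val c, h, Nat.cast_zero]
  obtain ⟨e, m, hpm, hm⟩ := Nat.exists_eq_pow_mul_and_not_dvd hv p hp.out.ne_one
  have hcm : c = (m : ZMod (p ^ n)) * (p : ZMod (p ^ n)) ^ e := by
    rw [← ZMod.natCast_zmod_val c, hm, Nat.cast_mul, Nat.cast_pow, mul_comm]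
  have hu : IsUnit (m : ZMod (p ^ n)) := by
    rw [ZMod.isUnit_iff_coprime]
    exact Nat.Coprime.pow_right _ ((Nat.Prime.coprime_iff_not_dvd hp.out).mpr hpm).symm
  refine ⟨e, ?_, m, hu, hcm⟩
  by_contra hlt
  rw [not_le] at hlt
  apply hc
  rw [hcm]
  have : (p : ZMod (p ^ n)) ^ e = (p : ZMod (p ^ n)) ^ n * (p : ZMod (p ^ n)) ^ (e - n) := by
    rw [← pow_add]; congr 1; omega
  rw [this, p_pow_n, zero_mul, mul_zero]

end Z

end Groth.Agent.Lib.Helper19.PrincFlat
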