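import Mathlib

/-!
# The adjugate trick over an arbitrary base ring (helper19; requested by helper18, note 3751)

`A` a commutative ring with a ring map to a field `κ` (no Noetherian or local hypothesis), `P`, `Q`
finite free `A`-modules, `d : P → Q` linear.

* `exists_adjugate`: a map `G : F → P` of finite free modules with `κ ⊗ G` bijective has an inverse
  up to a scalar `c` with `c ≠ 0` in `κ` (`G G' = c`, `G' G = c`).
* `exists_fintype_basis_of_span`, `range_baseChange`, `range_baseChange_linearCombination`,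
  `bijective_baseChange_of_surjective`: auxiliary.
* `exists_left_inverse`: a finite family in `Q` which is linearly independent in `κ ⊗ Q` has a left
  inverse up to a scalar which is nonzero in `κ`.
* `core`: the common construction.
* `exists_gsplit_of_span` (REQ-A): if `ker (κ ⊗ d)` is spanned by the image of `ker d`, there are
  `a` (nonzero in `κ`) and `t : Q → P` with `d t d = a d`.
* `exists_smul_ker_le_range` (REQ-B): if `d f = 0` and `ker (κ ⊗ d) ≤ range (κ ⊗ f)`, some `a`
  (nonzero in `κ`) multiplies `ker d` into `range f`.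
-/

set_option autoImplicit false
universe u
open TensorProduct

namespace Groth.Agent.Lib.helper19.AdjSplit


/-- adjugate lemma -/
theorem exists_adjugate {A κ : Type u} [CommRing A] [Field κ] [Algebra A κ]
    {F P : Type u} [AddCommGroup F] [Module A F] [Module.Finite A F] [Module.Free A F]
    [AddCommGroup P] [Module A P] [Module.Finite A P] [Module.Free A P]
    (G : F →ₗ[A] P) (hG : Function.Bijective (G.baseChange κ)) :
    ∃ (G' : P →ₗ[A] F) (c : A), algebraMap A κ c ≠ 0 ∧
      G ∘ₗ G' = c • LinearMap.id ∧ G' ∘ₗ G = c • LinearMap.id := by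
  classical
  haveI : Nontrivial A := (algebraMap A κ).domain_nontrivial
  have hrk : Module.finrank A P = Module.finrank A F := by
    rw [← Module.finrank_baseChange (R := κ) (S := A) (M' := P),
      ← Module.finrank_baseChange (R := κ) (S := A) (M' := F)]
    exact (LinearEquiv.ofBijective (G.baseChange κ) hG).finrank_eq.symm
  let n := Module.finrank A F
  let bF : Module.Basis (Fin n) A F := Module.finBasisOfFinrankEq A F rfl
  let bP : Module.Basis (Fin n) A P := Module.finBasisOfFinrankEq A P hrk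
  let M := LinearMap.toMatrix bF bP G
  refine ⟨Matrix.toLin bP bF M.adjugate, M.det, ?_, ?_, ?_⟩
  · have h1 : algebraMap A κ M.det = (M.map (algebraMap A κ)).det := RingHom.map_det _ _
    rw [h1, ← LinearMap.toMatrix_baseChange]
    exact (LinearEquiv.isUnit_det (LinearEquiv.ofBijective (G.baseChange κ) hG) _ _).ne_zero
  · have : G = Matrix.toLin bF bP M := (Matrix.toLin_toMatrix bF bP G).symm
    rw [this, ← Matrix.toLin_mul, Matrix.mul_adjugate]
    rw [map_smul, Matrix.toLin_one]
  · have : G = Matrix.toLin bF bP M := (Matrix.toLin_toMatrix bF bP G).symm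
    rw [this, ← Matrix.toLin_mul, Matrix.adjugate_mul]
    rw [map_smul, Matrix.toLin_one]



/-- choose a finite independent subfamily of a family of vectors with the same span -/
theorem exists_fintype_basis_of_span {κ : Type u} [Field κ] {N V : Type u}
    [AddCommGroup V] [Module κ V] [Module.Finite κ V] (φ : N → V) :
    ∃ (J : Type u) (_ : Fintype J) (x : J → N), LinearIndependent κ (fun j => φ (x j)) ∧
      Submodule.span κ (Set.range fun j => φ (x j)) = Submodule.span κ (Set.range φ) := by
  obtain ⟨J, a, -, hsp, hli⟩ := exists_linearIndependent' κ φ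
  haveI : Finite J := hli.finite
  exact ⟨J, Fintype.ofFinite J, a, hli, hsp⟩



variable {A κ : Type u} [CommRing A] [Field κ] [Algebra A κ]

/-- the range of a base change is spanned by the pure tensors `1 ⊗ f p` -/
theorem range_baseChange {P Q : Type u} [AddCommGroup P] [Module A P] [AddCommGroup Q] [Module A Q]
    (f : P →ₗ[A] Q) :
    (LinearMap.range (f.baseChange κ) : Submodule κ (κ ⊗[A] Q)) =
      Submodule.span κ (Set.range fun p => (1 : κ) ⊗ₜ[A] f p) := by
  apply le_antisymm
  · rintro _ ⟨x, rfl⟩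
    induction x using TensorProduct.induction_on with
    | zero => simp
    | tmul c p =>
      rw [LinearMap.baseChange_tmul]
      have : c ⊗ₜ[A] f p = c • ((1 : κ) ⊗ₜ[A] f p) := by
        rw [TensorProduct.smul_tmul', smul_eq_mul, mul_one]
      rw [this]
      exact Submodule.smul_mem _ _ (Submodule.subset_span ⟨p, rfl⟩)
    | add x y hx hy =>
      rw [map_add]
      exact Submodule.add_mem _ hx hy
  · rw [Submodule.span_le]
    rintro _ ⟨p, rfl⟩
    exact ⟨(1 : κ) ⊗ₜ[A] p, by simp⟩

theorem one_tmul_sum_smul {Q : Type u} [AddCommGroup Q] [Module A Q] {J : Type u} [Fintype J]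
    (y : J → Q) (v : J → A) :
    (1 : κ) ⊗ₜ[A] (∑ k, v k • y k) = ∑ k, algebraMap A κ (v k) • ((1 : κ) ⊗ₜ[A] y k) := by
  rw [TensorProduct.tmul_sum]
  refine Finset.sum_congr rfl fun k _ => ?_
  rw [TensorProduct.tmul_smul, algebraMap_smul]

/-- the range of the base change of a linear combination map -/
theorem range_baseChange_linearCombination {Q : Type u} [AddCommGroup Q] [Module A Q]
    {J : Type u} [Fintype J] (y : J → Q) :
    (LinearMap.range ((Fintype.linearCombination A y).baseChange κ) : Submodule κ (κ ⊗[A] Q)) =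
      Submodule.span κ (Set.range fun k => (1 : κ) ⊗ₜ[A] y k) := by
  classical
  rw [range_baseChange]
  apply le_antisymm
  · rw [Submodule.span_le]
    rintro _ ⟨v, rfl⟩
    show (1 : κ) ⊗ₜ[A] (Fintype.linearCombination A y v) ∈ _
    rw [Fintype.linearCombination_apply, one_tmul_sum_smul]
    exact Submodule.sum_mem _ fun k _ => Submodule.smul_mem _ _ (Submodule.subset_span ⟨k, rfl⟩)
  · rw [Submodule.span_le]
    rintro _ ⟨k, rfl⟩
    refine Submodule.subset_span ⟨Pi.single k 1, ?_⟩
    show (1 : κ) ⊗ₜ[A] (Fintype.linearCombination A y (Pi.single k 1)) = _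
    rw [Fintype.linearCombination_apply_single, one_smul]

/-- bijectivity from surjectivity and a dimension count -/
theorem bijective_baseChange_of_surjective {F P : Type u} [AddCommGroup F] [Module A F]
    [Module.Finite A F] [Module.Free A F] [AddCommGroup P] [Module A P] [Module.Finite A P]
    [Module.Free A P] (G : F →ₗ[A] P) (hs : Function.Surjective (G.baseChange κ))
    (hd : Module.finrank A F = Module.finrank κ (κ ⊗[A] P)) :
    Function.Bijective (G.baseChange κ) := by
  haveI : Nontrivial A := (algebraMap A κ).domain_nontrivial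
  have h1 : Module.finrank κ (κ ⊗[A] F) = Module.finrank κ (κ ⊗[A] P) := by
    rw [Module.finrank_baseChange, hd]
  exact ⟨(LinearMap.injective_iff_surjective_of_finrank_eq_finrank h1).2 hs, hs⟩



/-- a family of vectors of a finite free module which is independent modulo `κ` has a left inverse
up to a scalar which is nonzero in `κ` -/
theorem exists_left_inverse {Q : Type u} [AddCommGroup Q] [Module A Q] [Module.Finite A Q]
    [Module.Free A Q] {JY : Type u} [Fintype JY] (y' : JY → Q)
    (hli : LinearIndependent κ (fun k => (1 : κ) ⊗ₜ[A] y' k)) :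
    ∃ (E'' : Q →ₗ[A] (JY → A)) (b : A), algebraMap A κ b ≠ 0 ∧
      ∀ v : JY → A, E'' (∑ k, v k • y' k) = b • v := by
  classical
  haveI : Nontrivial A := (algebraMap A κ).domain_nontrivial
  let E : (JY → A) →ₗ[A] Q := Fintype.linearCombination A y'
  let R : Submodule κ (κ ⊗[A] Q) := LinearMap.range (E.baseChange κ)
  have hR : R = Submodule.span κ (Set.range fun k => (1 : κ) ⊗ₜ[A] y' k) :=
    range_baseChange_linearCombination y'
  obtain ⟨JW, _, w, hWli, hWsp⟩ := exists_fintype_basis_of_span (κ := κ)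
    (fun q : Q => (Submodule.Quotient.mk ((1 : κ) ⊗ₜ[A] q) : (κ ⊗[A] Q) ⧸ R))
  have hWtop : Submodule.span κ (Set.range fun q : Q =>
      (Submodule.Quotient.mk ((1 : κ) ⊗ₜ[A] q) : (κ ⊗[A] Q) ⧸ R)) = ⊤ := by
    rw [eq_top_iff]
    rintro x -
    obtain ⟨x, rfl⟩ := Submodule.Quotient.mk_surjective _ x
    induction x using TensorProduct.induction_on with
    | zero => simp
    | tmul c q =>
      have : c ⊗ₜ[A] q = c • ((1 : κ) ⊗ₜ[A] q) := by
        rw [TensorProduct.smul_tmul', smul_eq_mul, mul_one]
      rw [this, Submodule.Quotient.mk_smul]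
      exact Submodule.smul_mem _ _ (Submodule.subset_span ⟨q, rfl⟩)
    | add x y hx hy =>
      rw [Submodule.Quotient.mk_add]
      exact Submodule.add_mem _ hx hy
  let Ehat : ((JY → A) × (JW → A)) →ₗ[A] Q := E.coprod (Fintype.linearCombination A w)
  let R' : Submodule κ (κ ⊗[A] Q) := LinearMap.range (Ehat.baseChange κ)
  have hRR' : R ≤ R' := by
    have h0 : E = Ehat ∘ₗ LinearMap.inl A (JY → A) (JW → A) := by
      ext v
      simp [Ehat]
    show LinearMap.range (E.baseChange κ) ≤ LinearMap.range (Ehat.baseChange κ)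
    rw [h0, LinearMap.baseChange_comp]
    exact LinearMap.range_comp_le_range _ _
  have hw : ∀ l, (1 : κ) ⊗ₜ[A] w l ∈ R' := by
    intro l
    refine ⟨(1 : κ) ⊗ₜ[A] ((0 : JY → A), (Pi.single l 1 : JW → A)), ?_⟩
    rw [LinearMap.baseChange_tmul]
    congr 1
    simp [Ehat]
  have hsurj : Function.Surjective (Ehat.baseChange κ) := by
    intro x
    have hx : (Submodule.Quotient.mk x : (κ ⊗[A] Q) ⧸ R) ∈
        Submodule.span κ (Set.range fun l => (Submodule.Quotient.mk ((1 : κ) ⊗ₜ[A] w l) :
          (κ ⊗[A] Q) ⧸ R)) := by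
      rw [hWsp, hWtop]
      trivial
    obtain ⟨c, hc⟩ := (Submodule.mem_span_range_iff_exists_fun κ).1 hx
    have h1 : x - ∑ l, c l • ((1 : κ) ⊗ₜ[A] w l) ∈ R := by
      rw [← Submodule.Quotient.mk_eq_zero]
      show Submodule.mkQ R (x - ∑ l, c l • ((1 : κ) ⊗ₜ[A] w l)) = 0
      rw [map_sub, map_sum]
      have hc' : ∑ l, c l • Submodule.mkQ R ((1 : κ) ⊗ₜ[A] w l) = Submodule.mkQ R x := hc
      simp only [map_smul]
      rw [hc', sub_self]
    have h2 : x ∈ R' := by
      have : x = (x - ∑ l, c l • ((1 : κ) ⊗ₜ[A] w l)) + ∑ l, c l • ((1 : κ) ⊗ₜ[A] w l) := by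
        abel
      rw [this]
      exact Submodule.add_mem _ (hRR' h1)
        (Submodule.sum_mem _ fun l _ => Submodule.smul_mem _ _ (hw l))
    exact h2
  have hdim : Module.finrank A ((JY → A) × (JW → A)) = Module.finrank κ (κ ⊗[A] Q) := by
    rw [Module.finrank_prod, Module.finrank_fintype_fun_eq_card, Module.finrank_fintype_fun_eq_card,
      ← Submodule.finrank_quotient_add_finrank R]
    have h1 : Module.finrank κ R = Fintype.card JY := by
      rw [hR]
      exact finrank_span_eq_card hli
    have h2 : Module.finrank κ ((κ ⊗[A] Q) ⧸ R) = Fintype.card JW := by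
      have := finrank_span_eq_card hWli
      rw [hWsp, hWtop, finrank_top] at this
      exact this
    rw [h1, h2, add_comm]
  obtain ⟨Ehat', b, hb, h1, h2⟩ := exists_adjugate (κ := κ) Ehat
    (bijective_baseChange_of_surjective Ehat hsurj hdim)
  refine ⟨LinearMap.fst A (JY → A) (JW → A) ∘ₗ Ehat', b, hb, fun v => ?_⟩
  have h3 : ∑ k, v k • y' k = Ehat (v, 0) := by
    simp [Ehat, E, Fintype.linearCombination_apply]
  have h4 : Ehat' (Ehat (v, 0)) = b • (v, (0 : JW → A)) := by
    have := LinearMap.congr_fun h2 (v, (0 : JW → A))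
    simpa using this
  rw [h3]
  show (Ehat' (Ehat (v, 0))).1 = b • v
  rw [h4]
  rfl


/-- the common construction: complete a family `z` in `ker d` whose image is a basis of
`ker (κ ⊗ d)` by a family `y`; then `P` is, up to a scalar `c`, generated by `z` and `y`, and
`d ∘ y` has a left inverse up to a scalar `b`. -/
theorem core {P Q : Type u} [AddCommGroup P] [Module A P] [Module.Finite A P] [Module.Free A P]
    [AddCommGroup Q] [Module A Q] [Module.Finite A Q] [Module.Free A Q]
    (d : P →ₗ[A] Q) {JZ : Type u} [Fintype JZ] (z : JZ → P) (hz : ∀ j, d (z j) = 0)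
    (hli : LinearIndependent κ (fun j => (1 : κ) ⊗ₜ[A] z j))
    (hsp : LinearMap.ker (d.baseChange κ) ≤
      Submodule.span κ (Set.range fun j => (1 : κ) ⊗ₜ[A] z j)) :
    ∃ (JY : Type u) (_ : Fintype JY) (y : JY → P) (c b : A) (U : P →ₗ[A] (JZ → A))
      (W : P →ₗ[A] (JY → A)) (E'' : Q →ₗ[A] (JY → A)),
      algebraMap A κ c ≠ 0 ∧ algebraMap A κ b ≠ 0 ∧
      (∀ x, c • x = ∑ j, U x j • z j + ∑ k, W x k • y k) ∧
      (∀ v : JY → A, E'' (d (∑ k, v k • y k)) = b • v) := by
  classical
  haveI : Nontrivial A := (algebraMap A κ).domain_nontrivial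
  obtain ⟨JY, _, y, hYli, hYsp⟩ := exists_fintype_basis_of_span (κ := κ)
    (fun p : P => (1 : κ) ⊗ₜ[A] d p)
  have hrange : (LinearMap.range (d.baseChange κ) : Submodule κ (κ ⊗[A] Q)) =
      Submodule.span κ (Set.range fun k => (1 : κ) ⊗ₜ[A] d (y k)) :=
    (range_baseChange d).trans hYsp.symm
  let G : ((JZ → A) × (JY → A)) →ₗ[A] P :=
    (Fintype.linearCombination A z).coprod (Fintype.linearCombination A y)
  let R : Submodule κ (κ ⊗[A] P) := LinearMap.range (G.baseChange κ)
  have hzR : ∀ j, (1 : κ) ⊗ₜ[A] z j ∈ R := by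
    intro j
    refine ⟨(1 : κ) ⊗ₜ[A] ((Pi.single j 1 : JZ → A), (0 : JY → A)), ?_⟩
    rw [LinearMap.baseChange_tmul]
    congr 1
    simp [G]
  have hyR : ∀ k, (1 : κ) ⊗ₜ[A] y k ∈ R := by
    intro k
    refine ⟨(1 : κ) ⊗ₜ[A] ((0 : JZ → A), (Pi.single k 1 : JY → A)), ?_⟩
    rw [LinearMap.baseChange_tmul]
    congr 1
    simp [G]
  have hK : LinearMap.ker (d.baseChange κ) ≤ R := by
    refine hsp.trans (Submodule.span_le.2 ?_)
    rintro _ ⟨j, rfl⟩
    exact hzR j
  have hsurj : Function.Surjective (G.baseChange κ) := by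
    intro x
    have hx : d.baseChange κ x ∈ Submodule.span κ (Set.range fun k => (1 : κ) ⊗ₜ[A] d (y k)) := by
      rw [← hrange]
      exact ⟨x, rfl⟩
    obtain ⟨c, hc⟩ := (Submodule.mem_span_range_iff_exists_fun κ).1 hx
    have h1 : x - ∑ k, c k • ((1 : κ) ⊗ₜ[A] y k) ∈ LinearMap.ker (d.baseChange κ) := by
      rw [LinearMap.mem_ker, map_sub, map_sum, ← hc, sub_eq_zero]
      refine Finset.sum_congr rfl fun k _ => ?_
      rw [map_smul, LinearMap.baseChange_tmul]
    have h2 : x ∈ R := by
      have : x = (x - ∑ k, c k • ((1 : κ) ⊗ₜ[A] y k)) + ∑ k, c k • ((1 : κ) ⊗ₜ[A] y k) := by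
        abel
      rw [this]
      exact Submodule.add_mem _ (hK h1)
        (Submodule.sum_mem _ fun k _ => Submodule.smul_mem _ _ (hyR k))
    exact h2
  have hker : LinearMap.ker (d.baseChange κ) =
      Submodule.span κ (Set.range fun j => (1 : κ) ⊗ₜ[A] z j) := by
    refine le_antisymm hsp (Submodule.span_le.2 ?_)
    rintro _ ⟨j, rfl⟩
    show d.baseChange κ ((1 : κ) ⊗ₜ[A] z j) = 0
    rw [LinearMap.baseChange_tmul, hz j, TensorProduct.tmul_zero]
  have hdim : Module.finrank A ((JZ → A) × (JY → A)) = Module.finrank κ (κ ⊗[A] P) := by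
    rw [Module.finrank_prod, Module.finrank_fintype_fun_eq_card, Module.finrank_fintype_fun_eq_card,
      ← LinearMap.finrank_range_add_finrank_ker (d.baseChange κ)]
    have h1 : Module.finrank κ (LinearMap.range (d.baseChange κ)) = Fintype.card JY := by
      rw [hrange]
      exact finrank_span_eq_card hYli
    have h2 : Module.finrank κ (LinearMap.ker (d.baseChange κ)) = Fintype.card JZ := by
      rw [hker]
      exact finrank_span_eq_card hli
    rw [h1, h2, add_comm]
  obtain ⟨G', c, hc, h1, h2⟩ := exists_adjugate (κ := κ) G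
    (bijective_baseChange_of_surjective G hsurj hdim)
  obtain ⟨E'', b, hb, hE⟩ := exists_left_inverse (κ := κ) (fun k => d (y k)) hYli
  refine ⟨JY, inferInstance, y, c, b, LinearMap.fst A (JZ → A) (JY → A) ∘ₗ G',
    LinearMap.snd A (JZ → A) (JY → A) ∘ₗ G', E'', hc, hb, fun x => ?_, fun v => ?_⟩
  · have h3 := LinearMap.congr_fun h1 x
    have h4 : G (G' x) = c • x := by simpa using h3
    rw [← h4]
    simp [G, Fintype.linearCombination_apply]
  · rw [map_sum]
    simp only [map_smul]
    exact hE v


/-- **(REQ-A) adjugate trick.** -/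
theorem exists_gsplit_of_span {A κ : Type u} [CommRing A] [Field κ] [Algebra A κ]
    {P Q : Type u} [AddCommGroup P] [Module A P] [Module.Finite A P] [Module.Free A P]
    [AddCommGroup Q] [Module A Q] [Module.Finite A Q] [Module.Free A Q]
    (d : P →ₗ[A] Q)
    (h : LinearMap.ker (d.baseChange κ) ≤
      Submodule.span κ ((TensorProduct.mk A κ P 1) '' (LinearMap.ker d : Set P))) :
    ∃ (a : A) (t : Q →ₗ[A] P), algebraMap A κ a ≠ 0 ∧ d ∘ₗ t ∘ₗ d = a • d := by
  classical
  obtain ⟨JZ, _, x, hli, hsp⟩ := exists_fintype_basis_of_span (κ := κ)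
    (fun z : LinearMap.ker d => (1 : κ) ⊗ₜ[A] (z : P))
  have hrange : (Set.range fun z : LinearMap.ker d => (1 : κ) ⊗ₜ[A] (z : P)) =
      (TensorProduct.mk A κ P 1) '' (LinearMap.ker d : Set P) := by
    ext w
    constructor
    · rintro ⟨z, rfl⟩
      exact ⟨z.1, z.2, rfl⟩
    · rintro ⟨z, hz, rfl⟩
      exact ⟨⟨z, hz⟩, rfl⟩
  obtain ⟨JY, _, y, c, b, U, W, E'', hc, hb, hx, hE⟩ := core (κ := κ) d (fun j => (x j : P))
    (fun j => (x j).2) hli (by rw [hsp, hrange]; exact h)
  refine ⟨b * c, c • (Fintype.linearCombination A y ∘ₗ E''), ?_, ?_⟩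
  · rw [map_mul]
    exact mul_ne_zero hb hc
  · ext p
    have h1 : c • d p = d (∑ k, W p k • y k) := by
      rw [← map_smul, hx p, map_add, map_sum]
      have : ∑ j, d (U p j • (x j : P)) = 0 := by
        refine Finset.sum_eq_zero fun j _ => ?_
        rw [map_smul, (x j).2, smul_zero]
      rw [this, zero_add]
    have h2 : c • E'' (d p) = b • W p := by
      rw [← map_smul, h1, hE]
    show d ((c • (Fintype.linearCombination A y ∘ₗ E'')) (d p)) = (b * c) • d p
    rw [LinearMap.smul_apply, LinearMap.comp_apply, ← map_smul, h2, Fintype.linearCombination_apply]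
    have h3 : ∑ k, (b • W p) k • y k = b • ∑ k, W p k • y k := by
      rw [Finset.smul_sum]
      refine Finset.sum_congr rfl fun k _ => ?_
      rw [Pi.smul_apply, smul_eq_mul, mul_smul]
    rw [h3, map_smul, ← h1, smul_smul]

/-- **(REQ-B)** -/
theorem exists_smul_ker_le_range {A κ : Type u} [CommRing A] [Field κ] [Algebra A κ]
    {M P Q : Type u} [AddCommGroup M] [Module A M]
    [AddCommGroup P] [Module A P] [Module.Finite A P] [Module.Free A P]
    [AddCommGroup Q] [Module A Q] [Module.Finite A Q] [Module.Free A Q]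
    (f : M →ₗ[A] P) (d : P →ₗ[A] Q) (hdf : d ∘ₗ f = 0)
    (h : LinearMap.ker (d.baseChange κ) ≤ LinearMap.range (f.baseChange κ)) :
    ∃ a : A, algebraMap A κ a ≠ 0 ∧ ∀ z ∈ LinearMap.ker d, a • z ∈ LinearMap.range f := by
  classical
  obtain ⟨JZ, _, x, hli, hsp⟩ := exists_fintype_basis_of_span (κ := κ)
    (fun m : M => (1 : κ) ⊗ₜ[A] f m)
  have hdf' : ∀ m, d (f m) = 0 := fun m => LinearMap.congr_fun hdf m
  obtain ⟨JY, _, y, c, b, U, W, E'', hc, hb, hx, hE⟩ := core (κ := κ) d (fun j => f (x j))
    (fun j => hdf' (x j)) hli (by rw [hsp, ← range_baseChange]; exact h)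
  refine ⟨b * c, ?_, fun z hz => ?_⟩
  · rw [map_mul]
    exact mul_ne_zero hb hc
  · have hz' : d z = 0 := hz
    have h1 : d (∑ k, W z k • y k) = 0 := by
      have h0 : d (c • z) = 0 := by rw [map_smul, hz', smul_zero]
      rw [hx z, map_add, map_sum] at h0
      have : ∑ j, d (U z j • f (x j)) = 0 := by
        refine Finset.sum_eq_zero fun j _ => ?_
        rw [map_smul, hdf', smul_zero]
      rw [this, zero_add] at h0
      exact h0
    have h2 : b • W z = 0 := by
      rw [← hE, h1, map_zero]
    refine ⟨∑ j, (b * U z j) • x j, ?_⟩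
    rw [map_sum, mul_smul, hx z, smul_add, Finset.smul_sum, Finset.smul_sum]
    have h3 : ∑ k, b • W z k • y k = 0 := by
      refine Finset.sum_eq_zero fun k _ => ?_
      rw [← mul_smul]
      have := congrFun h2 k
      rw [Pi.smul_apply, smul_eq_mul, Pi.zero_apply] at this
      rw [this, zero_smul]
    rw [h3, add_zero]
    refine Finset.sum_congr rfl fun j _ => ?_
    rw [map_smul, mul_smul]

end Groth.Agent.Lib.helper19.AdjSplit
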