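import Mathlib
import Groth.Agent.Lib.Helper8.LocalFlat

/-! Universe-general versions (`C : Type u`, modules in `Type v`) of the first sections of `DefCI`. -/

set_option autoImplicit false
universe u v
open TensorProduct Function Pointwise

namespace Groth.Agent.Lib.Helper19.DefCIv

section Inf
variable {C : Type u} {A : Type v} [CommRing C] [CommRing A] [Algebra C A]

/-- If `A/I` is flat over `C`, then `I ∩ 𝔞A = 𝔞 I`. -/
theorem inf_map_le_mul (I : Ideal A) [Module.Flat C (A ⧸ I)] (𝔞 : Ideal C) :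
    I ⊓ 𝔞.map (algebraMap C A) ≤ 𝔞.map (algebraMap C A) * I := by
  rintro x ⟨hxI, hxa⟩
  -- multiplication map 𝔞 ⊗ A → A
  let μ : ↥𝔞 ⊗[C] A →ₗ[C] A := TensorProduct.lift
    ((LinearMap.lsmul C A).comp 𝔞.subtype)
  have hμ : ∀ (a : ↥𝔞) (y : A), μ (a ⊗ₜ y) = (a : C) • y := fun a y => by simp [μ]
  have hmul : ∀ (b : A) (t : ↥𝔞 ⊗[C] A),
      μ ((LinearMap.lTensor ↥𝔞 (LinearMap.mulLeft C b)) t) = b • μ t := by
    intro b t
    induction t using TensorProduct.induction_on with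
    | zero => simp
    | tmul a y => simp [hμ]
    | add t₁ t₂ h₁ h₂ => simp only [map_add, h₁, h₂, smul_add]
  -- x is in the range of μ
  have hx : ∃ t, μ t = x := by
    have : ∀ z ∈ 𝔞.map (algebraMap C A), ∃ t, μ t = z := by
      intro z hz
      refine Submodule.span_induction ?_ ?_ ?_ ?_ hz
      · rintro _ ⟨c, hc, rfl⟩
        exact ⟨(⟨c, hc⟩ : ↥𝔞) ⊗ₜ 1, by rw [hμ, Algebra.smul_def, mul_one]⟩
      · exact ⟨0, map_zero _⟩
      · rintro _ _ _ _ ⟨t₁, rfl⟩ ⟨t₂, rfl⟩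
        exact ⟨t₁ + t₂, map_add _ _ _⟩
      · rintro b _ _ ⟨t, rfl⟩
        exact ⟨(LinearMap.lTensor ↥𝔞 (LinearMap.mulLeft C b)) t, hmul b t⟩
    exact this x hxa
  obtain ⟨t, rfl⟩ := hx
  let π : A →ₗ[C] A ⧸ I := (Submodule.mkQ I).restrictScalars C
  let ι : ↥I →ₗ[C] A := (Submodule.subtype I).restrictScalars C
  have hex : Function.Exact ι π := by
    intro y
    constructor
    · intro hy
      exact ⟨⟨y, (Submodule.Quotient.mk_eq_zero I).mp hy⟩, rfl⟩
    · rintro ⟨z, rfl⟩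
      exact (Submodule.Quotient.mk_eq_zero I).mpr z.2
  have hπ : Function.Surjective π := Submodule.mkQ_surjective I
  have hex2 := lTensor_exact ↥𝔞 hex hπ
  -- (id ⊗ π) t = 0 by flatness
  have hinj : Function.Injective (LinearMap.rTensor (A ⧸ I) (Submodule.subtype 𝔞)) :=
    Module.Flat.rTensor_preserves_injective_linearMap _ Subtype.val_injective
  have h0 : LinearMap.lTensor ↥𝔞 π t = 0 := by
    apply hinj
    rw [map_zero]
    apply (TensorProduct.lid C (A ⧸ I)).injective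
    rw [map_zero]
    have key : ∀ t : ↥𝔞 ⊗[C] A, (TensorProduct.lid C (A ⧸ I))
        (LinearMap.rTensor (A ⧸ I) (Submodule.subtype 𝔞) (LinearMap.lTensor ↥𝔞 π t)) = π (μ t) := by
      intro t
      induction t using TensorProduct.induction_on with
      | zero => simp
      | tmul a y => simp [hμ, π]
      | add t₁ t₂ h₁ h₂ => simp only [map_add, h₁, h₂]
    rw [key]
    exact (Submodule.Quotient.mk_eq_zero I).mpr hxI
  obtain ⟨s, rfl⟩ := (hex2 t).mp h0
  clear h0 hxa hxI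
  induction s using TensorProduct.induction_on with
  | zero => simp
  | tmul a i =>
    simp only [LinearMap.lTensor_tmul, hμ, ι]
    rw [Algebra.smul_def]
    exact Ideal.mul_mem_mul (Ideal.mem_map_of_mem _ a.2) i.2
  | add s₁ s₂ h₁ h₂ =>
    simp only [map_add]
    exact Ideal.add_mem _ h₁ h₂

end Inf

section B1
variable {C : Type u} [CommRing C] (𝔞 : Ideal C)

/-- the multiplication map `𝔟 ⊗ M → M` -/
noncomputable def mu (𝔟 : Ideal C) (M : Type v) [AddCommGroup M] [Module C M] : ↥𝔟 ⊗[C] M →ₗ[C] M :=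
  (TensorProduct.lid C M).toLinearMap ∘ₗ (LinearMap.rTensor M (Submodule.subtype 𝔟))

@[simp] theorem mu_tmul (𝔟 : Ideal C) (M : Type v) [AddCommGroup M] [Module C M] (a : ↥𝔟) (m : M) :
    mu 𝔟 M (a ⊗ₜ m) = (a : C) • m := by
  simp [mu]

theorem mu_mem (𝔟 : Ideal C) (M : Type v) [AddCommGroup M] [Module C M] (K : Submodule C M)
    (t : ↥𝔟 ⊗[C] ↥K) : mu 𝔟 M (LinearMap.lTensor ↥𝔟 K.subtype t) ∈ 𝔟 • K := by
  induction t using TensorProduct.induction_on with
  | zero => simp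
  | tmul a m => simpa using Submodule.smul_mem_smul a.2 m.2
  | add t₁ t₂ h₁ h₂ => simpa using Submodule.add_mem _ h₁ h₂

theorem mu_mem_top (𝔟 : Ideal C) (M : Type v) [AddCommGroup M] [Module C M]
    (t : ↥𝔟 ⊗[C] M) : mu 𝔟 M t ∈ 𝔟 • (⊤ : Submodule C M) := by
  induction t using TensorProduct.induction_on with
  | zero => simp
  | tmul a m => simpa using Submodule.smul_mem_smul a.2 (Submodule.mem_top (x := m))
  | add t₁ t₂ h₁ h₂ => simpa using Submodule.add_mem _ h₁ h₂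

theorem exists_mu_eq (𝔟 : Ideal C) (M : Type v) [AddCommGroup M] [Module C M] (x : M)
    (hx : x ∈ 𝔟 • (⊤ : Submodule C M)) : ∃ t, mu 𝔟 M t = x := by
  refine Submodule.smul_induction_on hx ?_ ?_
  · intro a ha m _
    exact ⟨(⟨a, ha⟩ : ↥𝔟) ⊗ₜ m, by simp⟩
  · rintro _ _ ⟨t₁, rfl⟩ ⟨t₂, rfl⟩
    exact ⟨t₁ + t₂, map_add _ _ _⟩

theorem mu_naturality (𝔟 : Ideal C) {M N : Type v} [AddCommGroup M] [Module C M] [AddCommGroup N]
    [Module C N] (u : M →ₗ[C] N) (t : ↥𝔟 ⊗[C] M) :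
    mu 𝔟 N (LinearMap.lTensor ↥𝔟 u t) = u (mu 𝔟 M t) := by
  induction t using TensorProduct.induction_on with
  | zero => simp
  | tmul a m => simp
  | add t₁ t₂ h₁ h₂ => simp only [map_add, h₁, h₂]

theorem mu_injective (𝔟 : Ideal C) (M : Type v) [AddCommGroup M] [Module C M] [Module.Flat C M] :
    Function.Injective (mu 𝔟 M) := by
  unfold mu
  rw [LinearMap.coe_comp]
  exact (TensorProduct.lid C M).injective.comp
    (Module.Flat.rTensor_preserves_injective_linearMap _ Subtype.val_injective)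

variable {M N : Type v} [AddCommGroup M] [Module C M] [AddCommGroup N] [Module C N]

theorem flat_coker (u : M →ₗ[C] N) [Module.Flat C N] (h𝔞 : IsNilpotent 𝔞)
    (h1 : ∀ x : M, u x ∈ 𝔞 • (⊤ : Submodule C N) → x ∈ 𝔞 • (⊤ : Submodule C M))
    [Module.Flat (C ⧸ 𝔞) ((C ⧸ 𝔞) ⊗[C] (N ⧸ LinearMap.range u))] :
    Module.Flat C (N ⧸ LinearMap.range u) := by
  refine Groth.Agent.Lib.helper8.LocalFlat.flat_of_isNilpotent 𝔞 _ ?_ h𝔞
  set Q := N ⧸ LinearMap.range u
  let π : N →ₗ[C] Q := (LinearMap.range u).mkQ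
  have hπ : Function.Surjective π := Submodule.mkQ_surjective _
  have hinj : Function.Injective (mu 𝔞 Q) ↔
      Function.Injective (LinearMap.rTensor Q (Submodule.subtype 𝔞)) := by
    unfold mu
    rw [LinearMap.coe_comp]
    exact (TensorProduct.lid C Q).injective.of_comp_iff _
  rw [← hinj, injective_iff_map_eq_zero]
  intro x hx
  obtain ⟨y, rfl⟩ := LinearMap.lTensor_surjective ↥𝔞 hπ x
  rw [mu_naturality] at hx
  have hy : mu 𝔞 N y ∈ LinearMap.range u := by
    rwa [← Submodule.Quotient.mk_eq_zero]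
  obtain ⟨z, hz⟩ := hy
  have hz' : z ∈ 𝔞 • (⊤ : Submodule C M) := by
    apply h1
    rw [hz]
    exact mu_mem_top 𝔞 N y
  obtain ⟨w, rfl⟩ := exists_mu_eq 𝔞 M z hz'
  have : LinearMap.lTensor ↥𝔞 u w = y := by
    apply mu_injective 𝔞 N
    rw [mu_naturality, hz]
  rw [← this, ← LinearMap.comp_apply, ← LinearMap.lTensor_comp]
  have hcomp : π ∘ₗ u = 0 := by
    ext m
    simp only [LinearMap.comp_apply, LinearMap.zero_apply, π, Submodule.mkQ_apply]
    exact (Submodule.Quotient.mk_eq_zero _).mpr ⟨m, rfl⟩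
  rw [hcomp, LinearMap.lTensor_zero, LinearMap.zero_apply]

theorem ker_inf_smul_le (u : M →ₗ[C] N) [Module.Flat C N]
    [Module.Flat C (N ⧸ LinearMap.range u)] (𝔟 : Ideal C) :
    LinearMap.ker u ⊓ 𝔟 • (⊤ : Submodule C M) ≤ 𝔟 • LinearMap.ker u := by
  rintro x ⟨hxK, hxb⟩
  obtain ⟨w, rfl⟩ := exists_mu_eq 𝔟 M x hxb
  have hι : Function.Injective (LinearMap.lTensor ↥𝔟 (LinearMap.range u).subtype) :=
    LinearMap.lTensor_injective_of_exact_of_flat (LinearMap.range u).mkQ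
      (Submodule.mkQ_surjective _) (LinearMap.range u).subtype (Submodule.subtype_injective _)
      (LinearMap.exact_subtype_mkQ _) ↥𝔟
  have h0 : LinearMap.lTensor ↥𝔟 u.rangeRestrict w = 0 := by
    apply hι
    apply mu_injective 𝔟 N
    have e : LinearMap.lTensor ↥𝔟 (LinearMap.range u).subtype
        (LinearMap.lTensor ↥𝔟 u.rangeRestrict w) = LinearMap.lTensor ↥𝔟 u w := by
      rw [← LinearMap.comp_apply, ← LinearMap.lTensor_comp]
      rfl
    rw [e, map_zero, map_zero, mu_naturality]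
    exact hxK
  have hex := lTensor_exact ↥𝔟 (LinearMap.exact_subtype_ker_map u.rangeRestrict)
    (LinearMap.surjective_rangeRestrict u)
  obtain ⟨s, rfl⟩ := (hex w).mp h0
  have hker : LinearMap.ker u.rangeRestrict = LinearMap.ker u := LinearMap.ker_rangeRestrict u
  exact Submodule.smul_mono le_rfl hker.le (mu_mem 𝔟 M (LinearMap.ker u.rangeRestrict) s)

theorem injective_of_flat_coker (u : M →ₗ[C] N) [Module.Flat C N] (h𝔞 : IsNilpotent 𝔞)
    (h1 : ∀ x : M, u x ∈ 𝔞 • (⊤ : Submodule C N) → x ∈ 𝔞 • (⊤ : Submodule C M))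
    [Module.Flat C (N ⧸ LinearMap.range u)] : Function.Injective u := by
  rw [← LinearMap.ker_eq_bot]
  have hB : LinearMap.ker u ≤ 𝔞 • (⊤ : Submodule C M) := by
    intro x hx
    apply h1
    rw [LinearMap.mem_ker.mp hx]
    exact Submodule.zero_mem _
  have hC : ∀ n : ℕ, LinearMap.ker u ≤ 𝔞 ^ n • (⊤ : Submodule C M) := by
    intro n
    induction n with
    | zero => simp
    | succ n ih =>
      calc LinearMap.ker u ≤ LinearMap.ker u ⊓ 𝔞 ^ n • (⊤ : Submodule C M) := le_inf le_rfl ih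
        _ ≤ 𝔞 ^ n • LinearMap.ker u := ker_inf_smul_le u _
        _ ≤ 𝔞 ^ n • (𝔞 • (⊤ : Submodule C M)) := Submodule.smul_mono le_rfl hB
        _ = 𝔞 ^ (n + 1) • (⊤ : Submodule C M) := by rw [← Submodule.mul_smul, ← pow_succ]
  obtain ⟨n, hn⟩ := h𝔞
  have := hC n
  rwa [hn, Ideal.zero_eq_bot, Submodule.bot_smul, le_bot_iff] at this

theorem injective_and_flat_coker (u : M →ₗ[C] N) [Module.Flat C N] (h𝔞 : IsNilpotent 𝔞)
    (h1 : ∀ x : M, u x ∈ 𝔞 • (⊤ : Submodule C N) → x ∈ 𝔞 • (⊤ : Submodule C M))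
    [Module.Flat (C ⧸ 𝔞) ((C ⧸ 𝔞) ⊗[C] (N ⧸ LinearMap.range u))] :
    Function.Injective u ∧ Module.Flat C (N ⧸ LinearMap.range u) := by
  have := flat_coker 𝔞 u h𝔞 h1
  exact ⟨injective_of_flat_coker 𝔞 u h𝔞 h1, this⟩

end B1

end Groth.Agent.Lib.Helper19.DefCIv
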