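import Mathlib
import Groth.Agent.Lib.Helper19.DefCIv

/-!
# Flat modules over Artinian local rings: regular sequences modulo a proper ideal

`A'` Artinian local, `I` a proper ideal.  For a linear map `u : M → N` of flat `A'`-modules which is
injective modulo `I`, `u` is injective with flat cokernel (`injective_and_flat_coker_of_artinian`);
regular sequences lift from `M/IM` to `M` (`stepB'`) and descend (`stepC`).
-/

set_option autoImplicit false
universe u v
open TensorProduct Function Pointwise

namespace Groth.Agent.Lib.Helper19.ArtFlat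

open Groth.Agent.Lib.Helper19.DefCIv

section Gen
variable {R : Type u} [CommRing R] {M : Type v} [AddCommGroup M] [Module R M]

theorem one_tmul_eq_zero_iff (I : Ideal R) (x : M) :
    ((1 : R ⧸ I) ⊗ₜ[R] x = 0) ↔ x ∈ (I • ⊤ : Submodule R M) := by
  rw [← (TensorProduct.quotTensorEquivQuotSMul M I).map_eq_zero_iff,
    TensorProduct.quotTensorEquivQuotSMul_mk_one_tmul, Submodule.Quotient.mk_eq_zero]

/-- nilpotent Nakayama -/
theorem eq_top_of_sup_smul_eq_top (I : Ideal R) (hI : IsNilpotent I) (N : Submodule R M)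
    (h : N ⊔ I • ⊤ = ⊤) : N = ⊤ := by
  obtain ⟨k, hk⟩ := hI
  have key : ∀ j : ℕ, N ⊔ I ^ j • (⊤ : Submodule R M) = ⊤ := by
    intro j
    induction j with
    | zero => simp
    | succ j ih =>
      rw [eq_top_iff]
      calc (⊤ : Submodule R M) = N ⊔ I ^ j • (⊤ : Submodule R M) := ih.symm
        _ = N ⊔ I ^ j • (N ⊔ I • (⊤ : Submodule R M)) := by rw [h]
        _ ≤ N ⊔ I ^ (j + 1) • (⊤ : Submodule R M) := by
          rw [Submodule.smul_sup, ← Submodule.mul_smul, ← pow_succ]
          refine sup_le le_sup_left (sup_le ?_ le_sup_right)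
          exact le_trans Submodule.smul_le_right le_sup_left
  have := key k
  rwa [hk, Ideal.zero_eq_bot, Submodule.bot_smul, sup_bot_eq] at this


end Gen

section Colon
variable {C : Type u} [CommRing C]

/-- the colon ideal `(I : t)` as the kernel of `c ↦ [t c]`. -/
noncomputable def colonMap (I : Ideal C) (t : C) : C →ₗ[C] C ⧸ I := I.mkQ ∘ₗ LinearMap.lsmul C C t

theorem mem_colon_smul_top (I : Ideal C) (t : C) (M : Type v) [AddCommGroup M] [Module C M]
    [Module.Flat C M] (x : M) (hx : t • x ∈ I • (⊤ : Submodule C M)) :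
    x ∈ (LinearMap.ker (colonMap I t) : Ideal C) • (⊤ : Submodule C M) := by
  have hex := Module.Flat.rTensor_exact M (LinearMap.exact_subtype_ker_map (colonMap I t))
  have h1 : (colonMap I t).rTensor M ((1 : C) ⊗ₜ x) = 0 := by
    rw [LinearMap.rTensor_tmul]
    have h2 : colonMap I t 1 = t • (1 : C ⧸ I) := by
      simp only [colonMap, LinearMap.comp_apply, LinearMap.lsmul_apply, smul_eq_mul, mul_one]
      rw [Algebra.smul_def, mul_one]
      rfl
    rw [h2, TensorProduct.smul_tmul, one_tmul_eq_zero_iff]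
    exact hx
  obtain ⟨w, hw⟩ := (hex _).mp h1
  have h3 : x = mu (LinearMap.ker (colonMap I t) : Ideal C) M w := by
    unfold mu
    rw [LinearMap.comp_apply, hw]
    simp
  rw [h3]
  exact mu_mem_top _ M w

end Colon

section Art
variable {A' : Type u} [CommRing A'] [IsArtinianRing A'] [IsLocalRing A']

theorem isNilpotent_maximalIdeal : IsNilpotent (IsLocalRing.maximalIdeal A') := by
  have := IsArtinianRing.isNilpotent_jacobson_bot (R := A')
  rwa [IsLocalRing.jacobson_eq_maximalIdeal ⊥ bot_ne_top] at this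

theorem exists_socle_rel (I : Ideal A') (hI : I ≠ ⊤) :
    ∃ t : A', t ∉ I ∧ ∀ a ∈ IsLocalRing.maximalIdeal A', a * t ∈ I := by
  classical
  obtain ⟨k0, hk0⟩ := isNilpotent_maximalIdeal (A' := A')
  have hex : ∃ k, IsLocalRing.maximalIdeal A' ^ k ≤ I := ⟨k0, by rw [hk0]; exact bot_le⟩
  have hmin : ∀ m, m < Nat.find hex → ¬ IsLocalRing.maximalIdeal A' ^ m ≤ I :=
    fun m hm => Nat.find_min hex hm
  have hk := Nat.find_spec hex
  generalize Nat.find hex = k at hmin hk
  have hk1 : k ≠ 0 := by
    intro h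
    rw [h, pow_zero, Ideal.one_eq_top, top_le_iff] at hk
    exact hI hk
  obtain ⟨j, hj⟩ : ∃ j, k = j + 1 := ⟨k - 1, by omega⟩
  have hnot : ¬ IsLocalRing.maximalIdeal A' ^ j ≤ I := hmin j (by omega)
  obtain ⟨t, ht, htI⟩ := SetLike.not_le_iff_exists.mp hnot
  refine ⟨t, htI, fun a ha => hk ?_⟩
  rw [hj, pow_succ']
  exact Ideal.mul_mem_mul ha ht

theorem le_of_injective_mod (I : Ideal A') (hI : I ≠ ⊤) : I ≤ IsLocalRing.maximalIdeal A' :=
  IsLocalRing.le_maximalIdeal hI

variable {M N : Type v} [AddCommGroup M] [Module A' M] [AddCommGroup N] [Module A' N]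

/-- socle trick: injectivity modulo `I` implies injectivity modulo the maximal ideal. -/
theorem mem_max_smul_top_of_map_mem [Module.Flat A' M] (I : Ideal A') (hI : I ≠ ⊤)
    (u : M →ₗ[A'] N)
    (hu : ∀ x : M, u x ∈ I • (⊤ : Submodule A' N) → x ∈ I • (⊤ : Submodule A' M))
    (x : M) (hx : u x ∈ IsLocalRing.maximalIdeal A' • (⊤ : Submodule A' N)) :
    x ∈ IsLocalRing.maximalIdeal A' • (⊤ : Submodule A' M) := by
  obtain ⟨t, htI, ht⟩ := exists_socle_rel I hI
  have h1 : ∀ y ∈ IsLocalRing.maximalIdeal A' • (⊤ : Submodule A' N),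
      t • y ∈ I • (⊤ : Submodule A' N) := by
    intro y hy
    refine Submodule.smul_induction_on hy ?_ ?_
    · intro a ha n _
      rw [smul_smul, mul_comm]
      exact Submodule.smul_mem_smul (ht a ha) Submodule.mem_top
    · intro y z hy hz
      rw [smul_add]
      exact Submodule.add_mem _ hy hz
  have h2 : u (t • x) ∈ I • (⊤ : Submodule A' N) := by
    rw [map_smul]
    exact h1 _ hx
  have h3 := mem_colon_smul_top I t M x (hu _ h2)
  have h4 : (LinearMap.ker (colonMap I t) : Ideal A') ≤ IsLocalRing.maximalIdeal A' := by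
    apply IsLocalRing.le_maximalIdeal
    intro h
    have h5 : (1 : A') ∈ (LinearMap.ker (colonMap I t) : Ideal A') := by rw [h]; trivial
    rw [LinearMap.mem_ker] at h5
    simp only [colonMap, LinearMap.comp_apply, LinearMap.lsmul_apply, smul_eq_mul, mul_one,
      Submodule.mkQ_apply] at h5
    exact htI ((Submodule.Quotient.mk_eq_zero I).mp h5)
  exact Submodule.smul_mono_left h4 h3

theorem injective_and_flat_coker_of_artinian [Module.Flat A' M] [Module.Flat A' N]
    (I : Ideal A') (hI : I ≠ ⊤) (u : M →ₗ[A'] N)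
    (hu : ∀ x : M, u x ∈ I • (⊤ : Submodule A' N) → x ∈ I • (⊤ : Submodule A' M)) :
    Function.Injective u ∧ Module.Flat A' (N ⧸ LinearMap.range u) := by
  letI : Field (A' ⧸ IsLocalRing.maximalIdeal A') := Ideal.Quotient.field _
  exact injective_and_flat_coker (IsLocalRing.maximalIdeal A') u isNilpotent_maximalIdeal
    (mem_max_smul_top_of_map_mem I hI u hu)

end Art

section StepAux
open RingTheory.Sequence
variable {C : Type u} {A : Type v} [CommRing C] [CommRing A] [Algebra C A] (𝔞 : Ideal C)

theorem mem_smul_top_iff (M : Type v) [AddCommGroup M] [Module A M] [Module C M]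
    [IsScalarTower C A M] (x : M) :
    x ∈ 𝔞 • (⊤ : Submodule C M) ↔ x ∈ (𝔞.map (algebraMap C A)) • (⊤ : Submodule A M) := by
  have := Ideal.smul_restrictScalars (R := C) (S := A) 𝔞 (⊤ : Submodule A M)
  rw [Submodule.restrictScalars_top] at this
  rw [← this, Submodule.restrictScalars_mem]

/-- C-linear equivalence between quotient by an `A`-submodule and by a `C`-submodule with the
same carrier. -/
noncomputable def quotEquivOfCarrier (M : Type v) [AddCommGroup M] [Module A M] [Module C M]
    [IsScalarTower C A M] (P : Submodule A M) (P' : Submodule C M) (h : P.restrictScalars C = P') :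
    (M ⧸ P) ≃ₗ[C] (M ⧸ P') :=
  (Submodule.Quotient.restrictScalarsEquiv C P).symm ≪≫ₗ Submodule.quotEquivOfEq _ _ h

theorem ker_map_quotSMulTop (r : A) {M M₀ : Type v} [AddCommGroup M] [Module A M]
    [AddCommGroup M₀] [Module A M₀] (p : M →ₗ[A] M₀) (hp : Function.Surjective p) (I : Ideal A)
    (hker : LinearMap.ker p = I • (⊤ : Submodule A M)) :
    LinearMap.ker (QuotSMulTop.map r p) = I • (⊤ : Submodule A (QuotSMulTop r M)) := by
  apply le_antisymm
  · intro x hx
    obtain ⟨m, rfl⟩ := Submodule.mkQ_surjective _ x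
    rw [LinearMap.mem_ker, Submodule.mkQ_apply, QuotSMulTop.map_apply_mk,
      Submodule.Quotient.mk_eq_zero, Submodule.mem_smul_pointwise_iff_exists] at hx
    obtain ⟨m₀, -, hm₀⟩ := hx
    obtain ⟨m', rfl⟩ := hp m₀
    have h1 : m - r • m' ∈ I • (⊤ : Submodule A M) := by
      rw [← hker, LinearMap.mem_ker, map_sub, map_smul, ← hm₀, sub_self]
    have h2 : (r • (⊤ : Submodule A M)).mkQ m = (r • (⊤ : Submodule A M)).mkQ (m - r • m') := by
      rw [map_sub, sub_eq_self.mpr]
      rw [Submodule.mkQ_apply, Submodule.Quotient.mk_eq_zero]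
      exact Submodule.smul_mem_pointwise_smul _ _ _ Submodule.mem_top
    rw [h2]
    have h3 := Submodule.mem_map_of_mem (f := (r • (⊤ : Submodule A M)).mkQ) h1
    rw [Submodule.map_smul''] at h3
    exact Submodule.smul_mono le_rfl le_top h3
  · intro x hx
    refine Submodule.smul_induction_on hx ?_ ?_
    · intro a ha y _
      obtain ⟨m, rfl⟩ := Submodule.mkQ_surjective _ y
      rw [LinearMap.mem_ker, map_smul, Submodule.mkQ_apply, QuotSMulTop.map_apply_mk,
        ← Submodule.Quotient.mk_smul, ← map_smul]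
      have : a • m ∈ LinearMap.ker p := by
        rw [hker]
        exact Submodule.smul_mem_smul ha Submodule.mem_top
      rw [LinearMap.mem_ker.mp this, Submodule.Quotient.mk_zero]
    · intro x y hx hy
      exact Submodule.add_mem _ hx hy

theorem flat_quot_nil (M : Type v) [AddCommGroup M] [Module A M] [Module C M]
    [IsScalarTower C A M] [Module.Flat C M] :
    Module.Flat C (M ⧸ (Ideal.ofList ([] : List A) • ⊤ : Submodule A M)) := by
  have h0 : (Ideal.ofList ([] : List A) • ⊤ : Submodule A M) = ⊥ := by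
    rw [Ideal.ofList_nil, Submodule.bot_smul]
  exact Module.Flat.of_linearEquiv ((Submodule.quotEquivOfEqBot _ h0).restrictScalars C)


end StepAux

section Steps
open RingTheory.Sequence
variable {A' : Type u} [CommRing A'] [IsArtinianRing A'] [IsLocalRing A'] {A : Type v} [CommRing A]
  [Algebra A' A]

theorem range_inf_smul_le {M : Type v} [AddCommGroup M] [Module A' M] [Module.Flat A' M]
    (u : M →ₗ[A'] M) [Module.Flat A' (M ⧸ LinearMap.range u)] (𝔟 : Ideal A') :
    LinearMap.range u ⊓ 𝔟 • (⊤ : Submodule A' M) ≤ Submodule.map u (𝔟 • (⊤ : Submodule A' M)) := by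
  have hπ : LinearMap.range (LinearMap.range u).mkQ = ⊤ := Submodule.range_mkQ _
  haveI : Subsingleton ((M ⧸ LinearMap.range u) ⧸ LinearMap.range (LinearMap.range u).mkQ) := by
    exact Submodule.Quotient.subsingleton_iff.mpr hπ
  have := ker_inf_smul_le (LinearMap.range u).mkQ 𝔟
  rw [Submodule.ker_mkQ] at this
  rw [Submodule.map_smul'', Submodule.map_top]
  exact this

theorem stepB' (I : Ideal A') (hI : I ≠ ⊤) (rs : List A) :
    ∀ (M M₀ : Type v) [AddCommGroup M] [Module A M] [Module A' M] [IsScalarTower A' A M]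
      [Module.Flat A' M] [AddCommGroup M₀] [Module A M₀] (p : M →ₗ[A] M₀),
      Function.Surjective p →
      LinearMap.ker p = (I.map (algebraMap A' A)) • (⊤ : Submodule A M) →
      IsWeaklyRegular M₀ rs →
      IsWeaklyRegular M rs ∧
        ∀ i, Module.Flat A' (M ⧸ (Ideal.ofList (rs.take i) • ⊤ : Submodule A M)) := by
  induction rs with
  | nil =>
    intro M M₀ _ _ _ _ _ _ _ p hp hker hreg
    refine ⟨IsWeaklyRegular.nil A M, fun i => ?_⟩
    rw [List.take_nil]
    exact flat_quot_nil M
  | cons r rs ih =>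
    intro M M₀ _ _ _ _ _ _ _ p hp hker hreg
    obtain ⟨hr0, hrs0⟩ := (isWeaklyRegular_cons_iff M₀ r rs).mp hreg
    let uM : M →ₗ[A'] M := (LinearMap.lsmul A M r).restrictScalars A'
    have huM : ∀ x, uM x = r • x := fun x => rfl
    have hrange : (r • (⊤ : Submodule A M)).restrictScalars A' = LinearMap.range uM := by
      ext x
      rw [Submodule.restrictScalars_mem, Submodule.mem_smul_pointwise_iff_exists]
      constructor
      · rintro ⟨y, -, rfl⟩
        exact ⟨y, rfl⟩
      · rintro ⟨y, rfl⟩
        exact ⟨y, Submodule.mem_top, rfl⟩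
    have h1 : ∀ x : M, uM x ∈ I • (⊤ : Submodule A' M) → x ∈ I • (⊤ : Submodule A' M) := by
      intro x hx
      rw [mem_smul_top_iff (A := A), ← hker, LinearMap.mem_ker] at hx ⊢
      rw [huM, map_smul] at hx
      apply hr0
      show r • p x = r • 0
      rw [hx, smul_zero]
    obtain ⟨hinj, hfl⟩ := injective_and_flat_coker_of_artinian I hI uM h1
    have hrM : IsSMulRegular M r := hinj
    haveI : Module.Flat A' (QuotSMulTop r M) :=
      Module.Flat.of_linearEquiv (quotEquivOfCarrier M _ _ hrange)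
    have hker1 := ker_map_quotSMulTop r p hp _ hker
    obtain ⟨hreg1, hfl1⟩ := ih (QuotSMulTop r M) (QuotSMulTop r M₀) (QuotSMulTop.map r p)
      (QuotSMulTop.map_surjective r hp) hker1 hrs0
    refine ⟨(isWeaklyRegular_cons_iff M r rs).mpr ⟨hrM, hreg1⟩, fun i => ?_⟩
    cases i with
    | zero =>
      rw [List.take_zero]
      exact flat_quot_nil M
    | succ i =>
      rw [List.take_succ_cons]
      haveI := hfl1 i
      exact Module.Flat.of_linearEquiv
        ((Submodule.quotOfListConsSMulTopEquivQuotSMulTopInner M r (rs.take i)).restrictScalars A')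

theorem stepC (I : Ideal A') (rs : List A) :
    ∀ (M M₀ : Type v) [AddCommGroup M] [Module A M] [Module A' M] [IsScalarTower A' A M]
      [Module.Flat A' M] [AddCommGroup M₀] [Module A M₀] (p : M →ₗ[A] M₀),
      Function.Surjective p →
      LinearMap.ker p = (I.map (algebraMap A' A)) • (⊤ : Submodule A M) →
      IsWeaklyRegular M rs → IsWeaklyRegular M₀ rs := by
  induction rs with
  | nil =>
    intro M M₀ _ _ _ _ _ _ _ p hp hker hreg
    exact IsWeaklyRegular.nil A M₀
  | cons r rs ih =>
    intro M M₀ _ _ _ _ _ _ _ p hp hker hreg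
    obtain ⟨hr, hrs⟩ := (isWeaklyRegular_cons_iff M r rs).mp hreg
    let uM : M →ₗ[A'] M := (LinearMap.lsmul A M r).restrictScalars A'
    have huM : ∀ x, uM x = r • x := fun x => rfl
    have hrange : (r • (⊤ : Submodule A M)).restrictScalars A' = LinearMap.range uM := by
      ext x
      rw [Submodule.restrictScalars_mem, Submodule.mem_smul_pointwise_iff_exists]
      constructor
      · rintro ⟨y, -, rfl⟩
        exact ⟨y, rfl⟩
      · rintro ⟨y, rfl⟩
        exact ⟨y, Submodule.mem_top, rfl⟩
    have hinj : Function.Injective uM := hr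
    have h0 : ∀ x : M, uM x ∈ (⊥ : Ideal A') • (⊤ : Submodule A' M) →
        x ∈ (⊥ : Ideal A') • (⊤ : Submodule A' M) := by
      intro x hx
      rw [Submodule.bot_smul, Submodule.mem_bot] at hx ⊢
      exact hinj (by rw [hx, map_zero])
    obtain ⟨-, hfl⟩ := injective_and_flat_coker_of_artinian (⊥ : Ideal A') bot_ne_top uM h0
    haveI := hfl
    haveI : Module.Flat A' (QuotSMulTop r M) :=
      Module.Flat.of_linearEquiv (quotEquivOfCarrier M _ _ hrange)
    have hr0 : IsSMulRegular M₀ r := by
      rw [isSMulRegular_iff_right_eq_zero_of_smul]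
      intro x₀ hx₀
      obtain ⟨x, rfl⟩ := hp x₀
      have h2 : r • x ∈ LinearMap.ker p := by rw [LinearMap.mem_ker, map_smul, hx₀]
      rw [hker, ← mem_smul_top_iff (A := A)] at h2
      have h3 : uM x ∈ LinearMap.range uM ⊓ I • (⊤ : Submodule A' M) := ⟨⟨x, rfl⟩, h2⟩
      obtain ⟨y, hy, hyx⟩ := range_inf_smul_le uM I h3
      have h4 : y = x := hinj hyx
      rw [← LinearMap.mem_ker, hker, ← mem_smul_top_iff (A := A), ← h4]
      exact hy
    have hker1 := ker_map_quotSMulTop r p hp _ hker
    have hreg1 := ih (QuotSMulTop r M) (QuotSMulTop r M₀) (QuotSMulTop.map r p)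
      (QuotSMulTop.map_surjective r hp) hker1 hrs
    exact (isWeaklyRegular_cons_iff M₀ r rs).mpr ⟨hr0, hreg1⟩

end Steps

end Groth.Agent.Lib.Helper19.ArtFlat
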