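import Mathlib
import Groth.Agent.Lib.Helper19.ExtLoc1
import Groth.Agent.Lib.Helper15.Regular
set_option autoImplicit false
universe u
/-!
# Bass numbers along a regular closed fibre, part 1 (helper19)

For a short exact sequence `0 → F₁ → F₁ → F₂ → 0` (multiplication by a regular element `y`) and a
module `X` such that `Ext^j(F₁, X) = 0` for `j < c` and `Ext^{c+j}(F₁, X) ≅ F₁^{(I j)}`, the same holds
for `F₂` with `c + 1` (`Q.step`); by induction, if `B ⧸ J` is a regular local ring of dimension `e`,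
`Q X I (B ⧸ J) c → Q X I (B ⧸ 𝔪) (c + e)` (`Q_residue_of_regular`).
-/

namespace Groth.Agent.Lib.helper19.BassFlat
open CategoryTheory IsLocalRing
open Groth.Agent.Lib.helper19.ExtLoc
open scoped Pointwise

section Step
variable {B : Type u} [CommRing B]
  {F₁ F₂ : Type u} [AddCommGroup F₁] [Module B F₁] [AddCommGroup F₂] [Module B F₂]
  (X : ModuleCat.{u} B) (y : B) (p : F₁ →ₗ[B] F₂)
  (hy : IsSMulRegular F₁ y) (hp : Function.Surjective p)
  (hex : Function.Exact (LinearMap.lsmul B F₁ y) p)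

/-- precomposition with multiplication by `y` is multiplication by `y` on `Ext` -/
lemma mk₀_lsmul_comp {n : ℕ} (x : Abelian.Ext.{u} (ModuleCat.of B F₁) X n) :
    (Abelian.Ext.mk₀ (ModuleCat.ofHom (LinearMap.lsmul B F₁ y))).comp x (zero_add n) = y • x := by
  have h1 : ModuleCat.ofHom (LinearMap.lsmul B F₁ y) = y • 𝟙 (ModuleCat.of B F₁) := by
    ext z
    rfl
  rw [h1, Abelian.Ext.mk₀_smul, Abelian.Ext.smul_comp, Abelian.Ext.mk₀_id_comp]

/-- if `y` is injective on `Ext^n(F₁, X)`, the pullback `Ext^n(F₂, X) → Ext^n(F₁, X)` vanishes -/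
lemma mk₀_g_comp_eq_zero {n : ℕ}
    (hn : ∀ x : Abelian.Ext.{u} (ModuleCat.of B F₁) X n, y • x = 0 → x = 0)
    (x₃ : Abelian.Ext.{u} (ModuleCat.of B F₂) X n) :
    (Abelian.Ext.mk₀ (sc (LinearMap.lsmul B F₁ y) p hex).g).comp x₃ (zero_add n) = 0 := by
  apply hn
  rw [← mk₀_lsmul_comp]
  have h1 := Abelian.Ext.mk₀_comp_mk₀_assoc (sc (LinearMap.lsmul B F₁ y) p hex).f
    (sc (LinearMap.lsmul B F₁ y) p hex).g x₃
  have h2 : (sc (LinearMap.lsmul B F₁ y) p hex).f ≫ (sc (LinearMap.lsmul B F₁ y) p hex).g = 0 :=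
    (sc (LinearMap.lsmul B F₁ y) p hex).zero
  rw [h2, Abelian.Ext.mk₀_zero, Abelian.Ext.zero_comp] at h1
  exact h1

include hy hp hex in
/-- `Ext^0(F₂, X) = 0` if `y` is injective on `Ext^0(F₁, X)` -/
lemma ext_zero_subsingleton
    (h0 : ∀ x : Abelian.Ext.{u} (ModuleCat.of B F₁) X 0, y • x = 0 → x = 0) :
    Subsingleton (Abelian.Ext.{u} (ModuleCat.of B F₂) X 0) := by
  have hS := sc_shortExact (LinearMap.lsmul B F₁ y) p hy hp hex
  haveI : Epi (sc (LinearMap.lsmul B F₁ y) p hex).g := hS.epi_g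
  have hinj := Abelian.Ext.precomp_mk₀_injective_of_epi X (sc (LinearMap.lsmul B F₁ y) p hex).g
  refine ⟨fun a b => ?_⟩
  apply hinj
  show (Abelian.Ext.mk₀ _).comp a (zero_add 0) = (Abelian.Ext.mk₀ _).comp b (zero_add 0)
  rw [mk₀_g_comp_eq_zero X y p hex h0 a, mk₀_g_comp_eq_zero X y p hex h0 b]

/-- the connecting map `Ext^n(F₁, X) → Ext^{n+1}(F₂, X)` -/
noncomputable def conn (n : ℕ) : Abelian.Ext.{u} (ModuleCat.of B F₁) X n →ₗ[B]
    Abelian.Ext.{u} (ModuleCat.of B F₂) X (n + 1) :=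
  Abelian.Ext.precompOfLinear
    (sc_shortExact (LinearMap.lsmul B F₁ y) p hy hp hex).extClass B X
    (show 1 + n = n + 1 by omega)

lemma conn_surjective (n : ℕ)
    (hn : ∀ x : Abelian.Ext.{u} (ModuleCat.of B F₁) X (n + 1), y • x = 0 → x = 0) :
    Function.Surjective (conn X y p hy hp hex n) := by
  intro x₃
  have h0 := mk₀_g_comp_eq_zero X y p hex hn x₃
  obtain ⟨x₁, hx₁⟩ := Abelian.Ext.contravariant_sequence_exact₃
    (sc_shortExact (LinearMap.lsmul B F₁ y) p hy hp hex) X x₃ h0 (show 1 + n = n + 1 by omega)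
  exact ⟨x₁, hx₁⟩

lemma ker_conn (n : ℕ) :
    LinearMap.ker (conn X y p hy hp hex n) =
      y • (⊤ : Submodule B (Abelian.Ext.{u} (ModuleCat.of B F₁) X n)) := by
  ext x
  rw [LinearMap.mem_ker, Submodule.mem_smul_pointwise_iff_exists]
  constructor
  · intro hx
    obtain ⟨x₂, hx₂⟩ := Abelian.Ext.contravariant_sequence_exact₁
      (sc_shortExact (LinearMap.lsmul B F₁ y) p hy hp hex) X x (show 1 + n = n + 1 by omega) hx
    refine ⟨x₂, Submodule.mem_top, ?_⟩
    rw [← hx₂]
    exact (mk₀_lsmul_comp X y x₂).symm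
  · rintro ⟨x₂, -, rfl⟩
    rw [← mk₀_lsmul_comp]
    exact (sc_shortExact (LinearMap.lsmul B F₁ y) p hy hp hex).extClass_comp_assoc x₂
      (h := show 1 + n = n + 1 by omega)

/-- `Ext^{n+1}(F₂, X) ≅ Ext^n(F₁, X) / y` when `y` is injective on `Ext^{n+1}(F₁, X)` -/
noncomputable def extQuotEquiv (n : ℕ)
    (hn : ∀ x : Abelian.Ext.{u} (ModuleCat.of B F₁) X (n + 1), y • x = 0 → x = 0) :
    (QuotSMulTop y (Abelian.Ext.{u} (ModuleCat.of B F₁) X n)) ≃ₗ[B]
      Abelian.Ext.{u} (ModuleCat.of B F₂) X (n + 1) :=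
  (Submodule.quotEquivOfEq _ _ (ker_conn X y p hy hp hex n).symm).trans
    ((conn X y p hy hp hex n).quotKerEquivOfSurjective (conn_surjective X y p hy hp hex n hn))

end Step

end Groth.Agent.Lib.helper19.BassFlat

namespace Groth.Agent.Lib.helper19.BassFlat
open CategoryTheory IsLocalRing
open Groth.Agent.Lib.helper19.ExtLoc
open scoped Pointwise

section FinsuppQuot
variable {B : Type u} [CommRing B]
  {F₁ F₂ : Type u} [AddCommGroup F₁] [Module B F₁] [AddCommGroup F₂] [Module B F₂]
  (y : B) (p : F₁ →ₗ[B] F₂)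
  (hy : IsSMulRegular F₁ y) (hp : Function.Surjective p)
  (hex : Function.Exact (LinearMap.lsmul B F₁ y) p) (I : Type u)

include hy in
lemma isSMulRegular_finsupp : IsSMulRegular (I →₀ F₁) y := by
  intro a b h
  ext i
  apply hy
  have := DFunLike.congr_fun h i
  simpa using this

include hp in
lemma mapRange_surjective : Function.Surjective (Finsupp.mapRange.linearMap (α := I) p) := by
  intro x
  obtain ⟨z, hz⟩ := Finsupp.mapRange_surjective p (map_zero p) hp x
  exact ⟨z, hz⟩

include hex in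
lemma ker_mapRange : LinearMap.ker (Finsupp.mapRange.linearMap (α := I) p) =
    y • (⊤ : Submodule B (I →₀ F₁)) := by
  classical
  ext x
  rw [LinearMap.mem_ker, Submodule.mem_smul_pointwise_iff_exists]
  constructor
  · intro hx
    have hx' : ∀ i, p (x i) = 0 := fun i => by
      have := DFunLike.congr_fun hx i
      simpa using this
    have hw : ∀ i, ∃ w : F₁, y • w = x i := fun i => by
      obtain ⟨w, hw⟩ := (hex (x i)).1 (hx' i)
      exact ⟨w, hw⟩
    choose w hw using hw
    refine ⟨Finsupp.onFinset x.support (fun i => if i ∈ x.support then w i else 0) ?_,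
      Submodule.mem_top, ?_⟩
    · intro i hi
      by_contra h
      rw [if_neg h] at hi
      exact hi rfl
    · ext i
      rw [Finsupp.smul_apply, Finsupp.onFinset_apply]
      by_cases h : i ∈ x.support
      · rw [if_pos h, hw]
      · rw [if_neg h, smul_zero]
        exact (Finsupp.notMem_support_iff.1 h).symm
  · rintro ⟨z, -, rfl⟩
    ext i
    have : p (y • z i) = 0 := (hex (y • z i)).2 ⟨z i, rfl⟩
    simpa using this

/-- `(F₁^{(I)}) / y ≅ F₂^{(I)}` -/
noncomputable def finsuppQuotEquiv : QuotSMulTop y (I →₀ F₁) ≃ₗ[B] (I →₀ F₂) :=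
  (Submodule.quotEquivOfEq _ _ (ker_mapRange y p hex I).symm).trans
    ((Finsupp.mapRange.linearMap (α := I) p).quotKerEquivOfSurjective (mapRange_surjective p hp I))

end FinsuppQuot

end Groth.Agent.Lib.helper19.BassFlat

namespace Groth.Agent.Lib.helper19.BassFlat
open CategoryTheory IsLocalRing
open Groth.Agent.Lib.helper19.ExtLoc
open scoped Pointwise

section QStep
variable {B : Type u} [CommRing B] (X : ModuleCat.{u} B) (I : ℕ → Type u)

/-- `Ext^j(F, X) = 0` for `j < c` and `Ext^{c+j}(F, X) ≅ F^{(I j)}` -/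
def Q (F : Type u) [AddCommGroup F] [Module B F] (c : ℕ) : Prop :=
  (∀ j < c, Subsingleton (Abelian.Ext.{u} (ModuleCat.of B F) X j)) ∧
    ∀ j, Nonempty (Abelian.Ext.{u} (ModuleCat.of B F) X (c + j) ≃ₗ[B] (I j →₀ F))

variable {F₁ F₂ : Type u} [AddCommGroup F₁] [Module B F₁] [AddCommGroup F₂] [Module B F₂]
  (y : B) (p : F₁ →ₗ[B] F₂)
  (hy : IsSMulRegular F₁ y) (hp : Function.Surjective p)
  (hex : Function.Exact (LinearMap.lsmul B F₁ y) p)

include hy in
/-- under `Q`, `y` is injective on all `Ext^n(F₁, X)` -/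
lemma Q.smul_injective {c : ℕ} (h : Q X I F₁ c) (n : ℕ)
    (x : Abelian.Ext.{u} (ModuleCat.of B F₁) X n) (hx : y • x = 0) : x = 0 := by
  by_cases hn : n < c
  · haveI := h.1 n hn
    exact Subsingleton.elim _ _
  · obtain ⟨j, rfl⟩ : ∃ j, n = c + j := ⟨n - c, by omega⟩
    obtain ⟨e⟩ := h.2 j
    apply e.injective
    rw [map_zero]
    apply isSMulRegular_finsupp y hy (I j)
    show y • e x = y • 0
    rw [← map_smul, hx, map_zero, smul_zero]

include hy hp hex in
theorem Q.step {c : ℕ} (h : Q X I F₁ c) : Q X I F₂ (c + 1) := by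
  constructor
  · intro j hj
    cases j with
    | zero => exact ext_zero_subsingleton X y p hy hp hex (h.smul_injective X I y hy 0)
    | succ n =>
      have hsurj := conn_surjective X y p hy hp hex n (h.smul_injective X I y hy (n + 1))
      haveI := h.1 n (by omega)
      exact ⟨fun a b => by
        obtain ⟨a', rfl⟩ := hsurj a
        obtain ⟨b', rfl⟩ := hsurj b
        rw [Subsingleton.elim a' b']⟩
  · intro j
    obtain ⟨e⟩ := h.2 j
    have e1 := extQuotEquiv X y p hy hp hex (c + j) (h.smul_injective X I y hy (c + j + 1))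
    have e2 : QuotSMulTop y (Abelian.Ext.{u} (ModuleCat.of B F₁) X (c + j)) ≃ₗ[B]
        QuotSMulTop y (I j →₀ F₁) := QuotSMulTop.congr y e
    have e3 := finsuppQuotEquiv y p hp hex (I j)
    have hidx : c + 1 + j = c + j + 1 := by omega
    rw [hidx]
    exact ⟨e1.symm.trans (e2.trans e3)⟩

end QStep

end Groth.Agent.Lib.helper19.BassFlat

namespace Groth.Agent.Lib.helper19.BassFlat
open CategoryTheory IsLocalRing
open Groth.Agent.Lib.helper19.ExtLoc
open scoped Pointwise

section Z
variable {B : Type u} [CommRing B]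

/-- the factor map `B ⧸ J → B ⧸ (J ⊔ (y))` -/
noncomputable def factorSup (J : Ideal B) (y : B) : (B ⧸ J) →ₗ[B] (B ⧸ (J ⊔ Ideal.span {y})) :=
  Submodule.mapQ J (J ⊔ Ideal.span {y}) LinearMap.id (by
    intro x hx
    exact Submodule.mem_comap.2 (Ideal.mem_sup_left hx))

lemma factorSup_mk (J : Ideal B) (y : B) (z : B) :
    factorSup J y (Ideal.Quotient.mk J z) = Ideal.Quotient.mk (J ⊔ Ideal.span {y}) z := rfl

lemma factorSup_surjective (J : Ideal B) (y : B) : Function.Surjective (factorSup J y) := by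
  intro x
  obtain ⟨z, rfl⟩ := Ideal.Quotient.mk_surjective x
  exact ⟨Ideal.Quotient.mk J z, rfl⟩

lemma factorSup_exact (J : Ideal B) (y : B) :
    Function.Exact (LinearMap.lsmul B (B ⧸ J) y) (factorSup J y) := by
  intro x
  obtain ⟨z, rfl⟩ := Ideal.Quotient.mk_surjective x
  rw [factorSup_mk, Ideal.Quotient.eq_zero_iff_mem, Submodule.mem_sup]
  constructor
  · rintro ⟨a, ha, b, hb, rfl⟩
    obtain ⟨t, rfl⟩ := Ideal.mem_span_singleton'.1 hb
    refine ⟨Ideal.Quotient.mk J t, ?_⟩
    show y • Ideal.Quotient.mk J t = _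
    rw [map_add, (Ideal.Quotient.eq_zero_iff_mem).2 ha, zero_add, Algebra.smul_def,
      Ideal.Quotient.algebraMap_eq, ← map_mul, mul_comm]
  · rintro ⟨w, hw⟩
    obtain ⟨t, rfl⟩ := Ideal.Quotient.mk_surjective w
    have h1 : y • Ideal.Quotient.mk J t = Ideal.Quotient.mk J (y * t) := by
      rw [Algebra.smul_def, Ideal.Quotient.algebraMap_eq, ← map_mul]
    have h2 : Ideal.Quotient.mk J (y * t) = Ideal.Quotient.mk J z := h1.symm.trans hw
    rw [Ideal.Quotient.eq] at h2
    refine ⟨z - y * t, ?_, y * t, Ideal.mem_span_singleton'.2 ⟨t, mul_comm _ _⟩, by ring⟩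
    have := J.neg_mem h2
    rwa [neg_sub] at this

variable [IsLocalRing B] [IsNoetherianRing B] (X : ModuleCat.{u} B) (I : ℕ → Type u)

theorem Q_residue_of_regular : ∀ (e : ℕ) (J : Ideal B) [IsRegularLocalRing (B ⧸ J)],
    (maximalIdeal (B ⧸ J)).spanFinrank = e → ∀ c, Q X I (B ⧸ J) c →
      Q X I (B ⧸ maximalIdeal B) (c + e) := by
  intro e
  induction e with
  | zero =>
    intro J _ he c hQ
    have hfg : (maximalIdeal (B ⧸ J)).FG := IsNoetherian.noetherian _
    have hbot : maximalIdeal (B ⧸ J) = ⊥ := (Submodule.spanFinrank_eq_zero_iff_eq_bot hfg).mp he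
    have hJtop : J ≠ ⊤ := Ideal.Quotient.nontrivial_iff.mp inferInstance
    have hJ : J = maximalIdeal B := by
      apply le_antisymm (le_maximalIdeal hJtop)
      intro x hx
      have h1 : Ideal.Quotient.mk J x ∈ maximalIdeal (B ⧸ J) := by
        rw [mem_maximalIdeal, mem_nonunits_iff]
        intro hu
        rw [mem_maximalIdeal, mem_nonunits_iff] at hx
        apply hx
        haveI : IsLocalHom (Ideal.Quotient.mk J) :=
          IsLocalHom.of_surjective _ Ideal.Quotient.mk_surjective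
        exact (isUnit_map_iff (Ideal.Quotient.mk J) x).1 hu
      rw [hbot, Ideal.mem_bot, Ideal.Quotient.eq_zero_iff_mem] at h1
      exact h1
    subst hJ
    exact hQ
  | succ e ih =>
    intro J _ he c hQ
    have hfg : (maximalIdeal (B ⧸ J)).FG := IsNoetherian.noetherian _
    -- an element of `m ∖ m²`
    obtain ⟨xb, hxb, hxb2⟩ : ∃ xb ∈ maximalIdeal (B ⧸ J), xb ∉ maximalIdeal (B ⧸ J) ^ 2 := by
      by_contra hcon
      push Not at hcon
      have hle : maximalIdeal (B ⧸ J) ≤ maximalIdeal (B ⧸ J) • maximalIdeal (B ⧸ J) := by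
        intro x hx
        have := hcon x hx
        rwa [sq] at this
      have hbot := Submodule.eq_bot_of_le_smul_of_le_jacobson_bot _ _ hfg hle
        (IsLocalRing.maximalIdeal_le_jacobson _)
      rw [hbot] at he
      simp at he
    obtain ⟨y, rfl⟩ := Ideal.Quotient.mk_surjective xb
    obtain ⟨hreg, hrank⟩ := Groth.Agent.Lib.helper15.isRegularLocalRing_quotient_singleton
      (Ideal.Quotient.mk J y) hxb hxb2
    -- transport to `B ⧸ (J ⊔ (y))`
    have hmap : (Ideal.span {y}).map (Ideal.Quotient.mk J) = Ideal.span {Ideal.Quotient.mk J y} := by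
      rw [Ideal.map_span, Set.image_singleton]
    let ε : ((B ⧸ J) ⧸ Ideal.span {Ideal.Quotient.mk J y}) ≃+* (B ⧸ (J ⊔ Ideal.span {y})) :=
      (Ideal.quotEquivOfEq hmap.symm).trans (DoubleQuot.quotQuotEquivQuotSup J (Ideal.span {y}))
    haveI hreg' : IsRegularLocalRing (B ⧸ (J ⊔ Ideal.span {y})) :=
      IsRegularLocalRing.of_ringEquiv ε
    have hrank' : (maximalIdeal (B ⧸ (J ⊔ Ideal.span {y}))).spanFinrank = e := by
      have h1 := IsRegularLocalRing.spanFinrank_maximalIdeal (R := B ⧸ (J ⊔ Ideal.span {y}))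
      have h2 := IsRegularLocalRing.spanFinrank_maximalIdeal
        (R := (B ⧸ J) ⧸ Ideal.span {Ideal.Quotient.mk J y})
      rw [← ringKrullDim_eq_of_ringEquiv ε, ← h2] at h1
      have h3 : (maximalIdeal (B ⧸ (J ⊔ Ideal.span {y}))).spanFinrank =
          (maximalIdeal ((B ⧸ J) ⧸ Ideal.span {Ideal.Quotient.mk J y})).spanFinrank := by
        exact_mod_cast h1
      omega
    -- regularity of `y` on the domain `B ⧸ J`
    haveI : IsDomain (B ⧸ J) := Groth.Agent.Lib.helper15.isDomain_of_isRegularLocalRing _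
    have hy0 : Ideal.Quotient.mk J y ≠ 0 := by
      intro h0
      apply hxb2
      rw [h0]
      exact zero_mem _
    have hy : IsSMulRegular (B ⧸ J) y := by
      intro a b hab
      have hab' : Ideal.Quotient.mk J y * a = Ideal.Quotient.mk J y * b := by
        have h1 : ∀ z : B ⧸ J, y • z = Ideal.Quotient.mk J y * z := fun z => by
          rw [Algebra.smul_def, Ideal.Quotient.algebraMap_eq]
        rw [← h1, ← h1]
        exact hab
      exact mul_left_cancel₀ hy0 hab'
    have hstep := Q.step X I y (factorSup J y) hy (factorSup_surjective J y) (factorSup_exact J y) hQ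
    have := ih (J ⊔ Ideal.span {y}) hrank' (c + 1) hstep
    have hidx : c + (e + 1) = c + 1 + e := by omega
    rw [hidx]
    exact this

end Z

end Groth.Agent.Lib.helper19.BassFlat
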