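import Mathlib
import Groth.Agent.Lib.Helper23.FBC9
set_option autoImplicit false
universe u
open CategoryTheory CategoryTheory.Limits DerivedCategory Pretriangulated TensorProduct
open Groth.Agent.Lib.helper23 Groth.Agent.Lib.helper23.FBC

attribute [local instance] HasDerivedCategory.standard
attribute [local instance] FlatBC.preservesFiniteLimits_extendScalars_algebraMap
attribute [local instance 50] Groth.Agent.Lib.helper23.FBC.homModuleA

/-!
# Flat base change for `Ext` of modules (helper19)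

`nonempty_extBaseChange A B M N i : Nonempty (B ⊗[A] Ext^i_A(M, N) ≃ₗ[B] Ext^i_B(B ⊗ M, B ⊗ N))` for `A`
Noetherian, `B` a flat `A`-algebra and `M` a finite `A`-module (from helper23's flat base change of
`Hom` in the derived category).
-/

namespace Groth.Agent.Lib.helper19.ExtBC

variable (A B : Type u) [CommRing A] [CommRing B] [Algebra A B] [Module.Flat A B]
  [IsNoetherianRing A]

/-- **flat base change for `Ext`**: `B ⊗_A Ext^i_A(M, N) ≅ Ext^i_B(B ⊗ M, B ⊗ N)` for `M` finite -/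
theorem nonempty_extBaseChange (M N : ModuleCat.{u} A) [Module.Finite A M] (i : ℕ) :
    Nonempty (B ⊗[A] (Abelian.Ext.{u} M N i) ≃ₗ[B]
      Abelian.Ext.{u} ((ModuleCat.extendScalars.{u, u, u} (algebraMap A B)).obj M)
        ((ModuleCat.extendScalars.{u, u, u} (algebraMap A B)).obj N) i) := by
  let e1 : Abelian.Ext.{u} M N i ≃ₗ[A] (sg M ⟶ (sg N)⟦(i : ℤ)⟧) :=
    Abelian.Ext.homLinearEquiv (R := A)
  have hBB : BB B (sg M) ((sg N)⟦(i : ℤ)⟧) := BB_single_finite' B (sg N) 0 (i : ℤ) M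
  let e2 : B ⊗[A] (sg M ⟶ (sg N)⟦(i : ℤ)⟧) ≃ₗ[B]
      ((EE A B).obj (sg M) ⟶ (EE A B).obj ((sg N)⟦(i : ℤ)⟧)) :=
    LinearEquiv.ofBijective ((ℓ (B := B) (sg M) ((sg N)⟦(i : ℤ)⟧)).liftBaseChange B) hBB
  let e3 : ((EE A B).obj (sg M) ⟶ (EE A B).obj ((sg N)⟦(i : ℤ)⟧)) ≃ₗ[B]
      ((singleFunctor (ModuleCat.{u} B) 0).obj
          ((ModuleCat.extendScalars.{u, u, u} (algebraMap A B)).obj M) ⟶
        ((singleFunctor (ModuleCat.{u} B) 0).obj
          ((ModuleCat.extendScalars.{u, u, u} (algebraMap A B)).obj N))⟦(i : ℤ)⟧) :=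
    Linear.homCongr B (EEsingleIso B M)
      (EEshiftIso B (sg N) (i : ℤ) ≪≫ (shiftFunctor _ (i : ℤ)).mapIso (EEsingleIso B N))
  let e4 : Abelian.Ext.{u} ((ModuleCat.extendScalars.{u, u, u} (algebraMap A B)).obj M)
        ((ModuleCat.extendScalars.{u, u, u} (algebraMap A B)).obj N) i ≃ₗ[B] _ :=
    Abelian.Ext.homLinearEquiv (R := B)
  exact ⟨(LinearEquiv.baseChange A B _ _ e1).trans (e2.trans (e3.trans e4.symm))⟩

end Groth.Agent.Lib.helper19.ExtBC
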