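import Mathlib
import Groth.Agent.Lib.Helper19.ExtBC1
import Groth.Agent.Lib.Helper19.BassFlat1
import Groth.Agent.Lib.Helper21.ExtCongr
import Groth.Agent.Lib.Helper26.Depth1
import Groth.Agent.Lib.Helper24.FlatDepth1
import Groth.Prelude.Def_GrLC2
set_option autoImplicit false
universe u
/-!
# Bass numbers along a flat local homomorphism with regular closed fibre (helper19)

* `exists_finsupp_of_killed`, `length_finsupp_quot`: modules killed by a maximal ideal.
* `extendScalarsEquiv A B N : (extendScalars (algebraMap A B)).obj N ≃ₗ[B] B ⊗[A] N`.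
* `Q_base`: `Ext^j_B(B ⧸ mB, B ⊗ N) ≅ (B ⧸ mB)^{(I j)}` when `Ext^j_A(A ⧸ m, N) ≅ (A ⧸ m)^{(I j)}`
  (`A` Noetherian, `B` flat).
* `bassNumLocal_eq_length`, `bassNumLocal_flat`: for `A → B` flat, both Noetherian local, closed
  fibre `B ⧸ m_A B` regular of dimension `e`, and ANY `A`-module `N`:
  `μ^i(B ⊗ N) = 0` for `i < e`, `μ^{e+j}(B ⊗ N) = μ^j(N)`.
-/

namespace Groth.Agent.Lib.helper19.BassFlat
open CategoryTheory IsLocalRing TensorProduct

section A
variable {A : Type u} [CommRing A] (m : Ideal A) [m.IsMaximal]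
  (V : Type u) [AddCommGroup V] [Module A V]

/-- a module killed by a maximal ideal `m` is a direct sum of copies of `A ⧸ m` -/
theorem exists_finsupp_of_killed (h : ∀ a ∈ m, ∀ v : V, a • v = 0) :
    ∃ I : Type u, Nonempty (V ≃ₗ[A] (I →₀ A ⧸ m)) := by
  have htors : Module.IsTorsionBySet A V (m : Set A) := by
    intro v a
    exact h a.1 a.2 v
  letI : Field (A ⧸ m) := Ideal.Quotient.field m
  letI : Module (A ⧸ m) V := htors.module
  haveI : IsScalarTower A (A ⧸ m) V := htors.isScalarTower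
  let b := Module.Basis.ofVectorSpace (A ⧸ m) V
  exact ⟨_, ⟨b.repr.restrictScalars A⟩⟩

/-- the length of a direct sum of copies of `A ⧸ m` -/
theorem length_finsupp_quot (I : Type u) : Module.length A (I →₀ A ⧸ m) = ENat.card I := by
  haveI : IsSimpleModule A (A ⧸ m) := by
    rw [isSimpleModule_iff_quot_maximal]
    exact ⟨m, inferInstance, ⟨LinearEquiv.refl _ _⟩⟩
  rw [Module.length_finsupp, Module.length_eq_one, mul_one]

end A

section ES
variable (A B : Type u) [CommRing A] [CommRing B] [Algebra A B]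

/-- `B` with the restricted `A`-module structure is `B` -/
noncomputable def idA :
    ((ModuleCat.restrictScalars.{u} (algebraMap A B)).obj (ModuleCat.of B B)) ≃ₗ[A] B where
  toFun := fun x => x
  invFun := fun x => x
  map_add' := fun _ _ => rfl
  map_smul' := fun a x => (Algebra.smul_def a (show B from x)).symm
  left_inv := fun _ => rfl
  right_inv := fun _ => rfl

set_option backward.isDefEq.respectTransparency false in
/-- the carrier of `extendScalars (algebraMap A B)` is `B ⊗[A] N` -/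
noncomputable def extendScalarsEquiv (N : ModuleCat.{u} A) :
    ((ModuleCat.extendScalars.{u, u, u} (algebraMap A B)).obj N) ≃ₗ[B] B ⊗[A] N :=
  { TensorProduct.congr (idA A B) (LinearEquiv.refl A N) with
    map_smul' := fun b x => by
      induction x using TensorProduct.induction_on with
      | zero => 
        rw [smul_zero]
        exact (map_zero (TensorProduct.congr (idA A B) (LinearEquiv.refl A N))).trans
          (smul_zero _).symm
      | tmul s n => rfl
      | add x y hx hy =>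
        rw [smul_add]
        refine (map_add (TensorProduct.congr (idA A B) (LinearEquiv.refl A N)) _ _).trans ?_
        refine Eq.trans ?_ (congrArg (fun z => (RingHom.id B) b • z)
          (map_add (TensorProduct.congr (idA A B) (LinearEquiv.refl A N)) _ _).symm)
        rw [smul_add]
        exact congrArg₂ (· + ·) hx hy }

theorem extendScalarsEquiv_tmul (N : ModuleCat.{u} A) (b : B) (n : N) :
    extendScalarsEquiv A B N (b ⊗ₜ[A] n) = b ⊗ₜ[A] n := rfl

end ES

section X
open Groth.Agent.Lib.helper19.BassFlat Groth.Agent.Lib.helper19.ExtBC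
variable (A B : Type u) [CommRing A] [CommRing B] [Algebra A B] [Module.Flat A B]
  [IsNoetherianRing A] (m : Ideal A) [m.IsMaximal]
  (N : Type u) [AddCommGroup N] [Module A N]

omit [Module.Flat A B] [IsNoetherianRing A] [m.IsMaximal] in
/-- `m` kills `Ext^j_A(A ⧸ m, N)` -/
theorem smul_ext_quot_eq_zero (a : A) (ha : a ∈ m) (j : ℕ)
    (x : Abelian.Ext.{u} (ModuleCat.of A (A ⧸ m)) (ModuleCat.of A N) j) : a • x = 0 := by
  apply Groth.Agent.Lib.helper26.Depth.smul_ext_eq_zero_of_mem_annihilator_left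
  show a ∈ Module.annihilator A (A ⧸ m)
  rw [Ideal.annihilator_quotient]
  exact ha

/-- `B ⊗ (A ⧸ m) ≅ B ⧸ mB` -/
noncomputable def tensorQuot : B ⊗[A] (A ⧸ m) ≃ₗ[B] B ⧸ m.map (algebraMap A B) :=
  (Groth.Agent.Lib.Helper24.FlatDepth.tensorQuotEquiv A B B m).trans
    (Submodule.quotEquivOfEq _ _ (by rw [smul_eq_mul, Ideal.mul_top]))

omit [m.IsMaximal] in
theorem Q_base (I : ℕ → Type u)
    (hI : ∀ j, Nonempty (Abelian.Ext.{u} (ModuleCat.of A (A ⧸ m)) (ModuleCat.of A N) j ≃ₗ[A]
      (I j →₀ A ⧸ m))) :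
    Q (ModuleCat.of B (B ⊗[A] N)) I (B ⧸ m.map (algebraMap A B)) 0 := by
  classical
  refine ⟨fun j hj => absurd hj (Nat.not_lt_zero _), fun j => ?_⟩
  rw [zero_add]
  obtain ⟨e0⟩ := hI j
  obtain ⟨e1⟩ := nonempty_extBaseChange A B (ModuleCat.of A (A ⧸ m)) (ModuleCat.of A N) j
  let isoN : (ModuleCat.extendScalars.{u, u, u} (algebraMap A B)).obj (ModuleCat.of A N) ≅
      ModuleCat.of B (B ⊗[A] N) := (extendScalarsEquiv A B (ModuleCat.of A N)).toModuleIso
  let isoM : (ModuleCat.extendScalars.{u, u, u} (algebraMap A B)).obj (ModuleCat.of A (A ⧸ m)) ≅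
      ModuleCat.of B (B ⧸ m.map (algebraMap A B)) :=
    ((extendScalarsEquiv A B (ModuleCat.of A (A ⧸ m))).trans (tensorQuot A B m)).toModuleIso
  let e2 := Groth.Agent.Lib.helper21.ExtCongr.left (R := B) isoM
    ((ModuleCat.extendScalars.{u, u, u} (algebraMap A B)).obj (ModuleCat.of A N)) j
  let e3 := Groth.Agent.Lib.helper21.ExtCongr.right (R := B)
    (ModuleCat.of B (B ⧸ m.map (algebraMap A B))) isoN j
  let e4 : B ⊗[A] (Abelian.Ext.{u} (ModuleCat.of A (A ⧸ m)) (ModuleCat.of A N) j) ≃ₗ[B]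
      B ⊗[A] (I j →₀ A ⧸ m) :=
    TensorProduct.AlgebraTensorModule.congr (LinearEquiv.refl B B) e0
  let e5 : B ⊗[A] (I j →₀ A ⧸ m) ≃ₗ[B] (I j →₀ B ⊗[A] (A ⧸ m)) :=
    TensorProduct.finsuppRight A B B (A ⧸ m) (I j)
  let e6 : (I j →₀ B ⊗[A] (A ⧸ m)) ≃ₗ[B] (I j →₀ B ⧸ m.map (algebraMap A B)) :=
    Finsupp.mapRange.linearEquiv (tensorQuot A B m)
  exact ⟨e3.symm.trans (e2.symm.trans (e1.symm.trans (e4.trans (e5.trans e6))))⟩

end X

section Y
open Groth.Agent.Lib.helper19.BassFlat Groth.Agent.Lib.helper19.ExtBC GrLC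

/-- the residue field as a quotient module -/
noncomputable def resIso (B : Type u) [CommRing B] [IsLocalRing B] :
    ModuleCat.of B (ResidueField B) ≅ ModuleCat.of B (B ⧸ maximalIdeal B) :=
  (LinearEquiv.refl B (B ⧸ maximalIdeal B)).toModuleIso

theorem bassNumLocal_eq_length (B : Type u) [CommRing B] [IsLocalRing B]
    (X : Type u) [AddCommGroup X] [Module B X] (i : ℕ) :
    bassNumLocal B X i = Module.length B
      (Abelian.Ext.{u} (ModuleCat.of B (B ⧸ maximalIdeal B)) (ModuleCat.of B X) i) :=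
  (Groth.Agent.Lib.helper21.ExtCongr.left (R := B) (resIso B) (ModuleCat.of B X) i).length_eq

variable (A B : Type u) [CommRing A] [CommRing B] [Algebra A B] [Module.Flat A B]
  [IsNoetherianRing A] [IsLocalRing A] [IsNoetherianRing B] [IsLocalRing B]
  (N : Type u) [AddCommGroup N] [Module A N]

/-- **Bass numbers along a flat local homomorphism with regular closed fibre** of dimension `e`:
`μ^i(B ⊗ N) = 0` for `i < e` and `μ^{e+j}(B ⊗ N) = μ^j(N)`. -/
theorem bassNumLocal_flat (J : Ideal B) (hJ : J = (maximalIdeal A).map (algebraMap A B))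
    [IsRegularLocalRing (B ⧸ J)] (e : ℕ) (he : (maximalIdeal (B ⧸ J)).spanFinrank = e) :
    (∀ i < e, bassNumLocal B (B ⊗[A] N) i = 0) ∧
      ∀ j, bassNumLocal B (B ⊗[A] N) (e + j) = bassNumLocal A N j := by
  subst hJ
  choose I hI using fun j : ℕ => exists_finsupp_of_killed (maximalIdeal A)
    (Abelian.Ext.{u} (ModuleCat.of A (A ⧸ maximalIdeal A)) (ModuleCat.of A N) j)
    (fun a ha x => smul_ext_quot_eq_zero A (maximalIdeal A) N a ha j x)
  have hQ := Q_base A B (maximalIdeal A) N I hI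
  have hQ' := Q_residue_of_regular (ModuleCat.of B (B ⊗[A] N)) I e _ he 0 hQ
  rw [zero_add] at hQ'
  constructor
  · intro i hi
    rw [bassNumLocal_eq_length, Module.length_eq_zero_iff]
    exact hQ'.1 i hi
  · intro j
    obtain ⟨e1⟩ := hQ'.2 j
    obtain ⟨e2⟩ := hI j
    rw [bassNumLocal_eq_length, bassNumLocal_eq_length, e1.length_eq, e2.length_eq,
      length_finsupp_quot, length_finsupp_quot]

end Y

end Groth.Agent.Lib.helper19.BassFlat
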