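import Mathlib
import Groth.Agent.Lib.Helper19.QuotHeight
set_option autoImplicit false
universe u
/-!
# The coaction `R → R[ι]` of a `ι`-graded ring and the twist automorphism of `R[ι]` (helper19)

`ι` an additive commutative group, `R` an `ι`-graded ring, `R[ι] = AddMonoidAlgebra R ι`.
* `coact 𝒜 c : R →+* R[ι]`, `x ↦ ∑ x_g t^{c g}`; `twist 𝒜 c : R[ι] →+* R[ι]`, `x_g t^h ↦ x_g t^{h + c g}`;
  `twist_comp`, `twist_zero`, `twistEquiv 𝒜` (the case `c = id`).
* ideals of `R[ι]`: `mem_map_iff`, `comap_map`, `map_eq_ker`, `map_isPrime`, `map_mem_minimalPrimes`.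
* `comap_coact`: the contraction of `P R[ι]` along the coaction is the homogeneous core `P*`;
  `comap_twist_map`: extensions of homogeneous ideals are twist-stable; `bigP 𝒜 p = Ψ⁻¹(p R[ι])`,
  `comap_bigP`, `bigP_isPrime`.
* for `ι` finitely generated free: `twoUniqueSums`, `isNoetherianRing_addMonoidAlgebra`,
  `homogeneousCore_isPrime`, `height_map_eq`, **`height_le_core_add`** : `ht p ≤ ht p* + ht(p/p*)`,
  and `height_add_height_quot_le` : `ht q + ht(p/q) ≤ ht p`.
-/

namespace Groth.Agent.Lib.helper19.GrTwist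
open DirectSum AddMonoidAlgebra

variable {ι : Type} [AddCommGroup ι] [DecidableEq ι]
variable {R : Type u} [CommRing R] (𝒜 : ι → AddSubgroup R) [GradedRing 𝒜]

/-- the additive maps `R_i → R[ι]`, `a ↦ a t^{c i}` -/
noncomputable def coactAdd (c : ι →+ ι) (i : ι) : 𝒜 i →+ AddMonoidAlgebra R ι where
  toFun a := AddMonoidAlgebra.single (c i) (a : R)
  map_zero' := by simp
  map_add' a b := by
    rw [AddSubgroup.coe_add, AddMonoidAlgebra.single_add]

/-- the coaction `R → R[ι]`, `x ↦ ∑ x_g t^{c g}` -/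
noncomputable def coact (c : ι →+ ι) : R →+* AddMonoidAlgebra R ι :=
  (DirectSum.toSemiring (coactAdd 𝒜 c)
    (by
      show AddMonoidAlgebra.single (c 0) (1 : R) = 1
      rw [map_zero]
      rfl)
    (by
      intro i j ai aj
      show AddMonoidAlgebra.single (c (i + j)) ((ai : R) * (aj : R)) =
        AddMonoidAlgebra.single (c i) (ai : R) * AddMonoidAlgebra.single (c j) (aj : R)
      rw [AddMonoidAlgebra.single_mul_single, map_add])).comp
    (DirectSum.decomposeRingEquiv 𝒜).toRingHom

theorem coact_of_mem (c : ι →+ ι) {i : ι} {a : R} (ha : a ∈ 𝒜 i) :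
    coact 𝒜 c a = AddMonoidAlgebra.single (c i) a := by
  unfold coact
  rw [RingHom.comp_apply]
  have h1 : (DirectSum.decomposeRingEquiv 𝒜).toRingHom a =
      DirectSum.of (fun i => 𝒜 i) i ⟨a, ha⟩ := DirectSum.decompose_of_mem 𝒜 ha
  rw [h1, DirectSum.toSemiring_of]
  rfl

/-- ring homomorphisms out of a graded ring agreeing on homogeneous elements agree -/
theorem ringHom_ext_of_homogeneous {X : Type*} [Semiring X] {f g : R →+* X}
    (h : ∀ i, ∀ a ∈ 𝒜 i, f a = g a) : f = g := by
  classical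
  ext x
  rw [← DirectSum.sum_support_decompose 𝒜 x, map_sum, map_sum]
  exact Finset.sum_congr rfl (fun i _ => h i _ (SetLike.coe_mem _))

/-- the twist `Ψ_c : R[ι] → R[ι]`, `x_g t^h ↦ x_g t^{h + c g}` -/
noncomputable def twist (c : ι →+ ι) : AddMonoidAlgebra R ι →+* AddMonoidAlgebra R ι :=
  AddMonoidAlgebra.liftNCRingHom (coact 𝒜 c) (AddMonoidAlgebra.of R ι) (fun _ _ => Commute.all _ _)

theorem twist_single_of_mem (c : ι →+ ι) {h i : ι} {a : R} (ha : a ∈ 𝒜 i) :
    twist 𝒜 c (AddMonoidAlgebra.single h a) = AddMonoidAlgebra.single (h + c i) a := by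
  unfold twist
  rw [AddMonoidAlgebra.liftNCRingHom_single, coact_of_mem 𝒜 c ha, AddMonoidAlgebra.of_apply,
    AddMonoidAlgebra.single_mul_single, mul_one, add_comm]
  rfl

theorem twist_single_zero (c : ι →+ ι) (a : R) :
    twist 𝒜 c (AddMonoidAlgebra.single 0 a) = coact 𝒜 c a := by
  unfold twist
  rw [AddMonoidAlgebra.liftNCRingHom_single]
  show _ * (1 : AddMonoidAlgebra R ι) = _
  rw [mul_one]

theorem twist_comp (c c' : ι →+ ι) : (twist 𝒜 c).comp (twist 𝒜 c') = twist 𝒜 (c + c') := by
  have h1 : (1 : R) ∈ 𝒜 0 := SetLike.GradedOne.one_mem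
  apply AddMonoidAlgebra.ringHom_ext
  · intro r
    have h2 : ((twist 𝒜 c).comp (twist 𝒜 c')).comp AddMonoidAlgebra.singleZeroRingHom =
        (twist 𝒜 (c + c')).comp AddMonoidAlgebra.singleZeroRingHom := by
      apply ringHom_ext_of_homogeneous 𝒜
      intro i a ha
      show twist 𝒜 c (twist 𝒜 c' (AddMonoidAlgebra.single 0 a)) =
        twist 𝒜 (c + c') (AddMonoidAlgebra.single 0 a)
      rw [twist_single_of_mem 𝒜 c' ha, twist_single_of_mem 𝒜 c ha,
        twist_single_of_mem 𝒜 (c + c') ha, AddMonoidHom.add_apply]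
      congr 1
      abel
    exact RingHom.congr_fun h2 r
  · intro h
    show twist 𝒜 c (twist 𝒜 c' (AddMonoidAlgebra.single h 1)) =
      twist 𝒜 (c + c') (AddMonoidAlgebra.single h 1)
    rw [twist_single_of_mem 𝒜 c' h1, twist_single_of_mem 𝒜 c h1, twist_single_of_mem 𝒜 (c + c') h1]
    simp

theorem twist_zero : twist 𝒜 (0 : ι →+ ι) = RingHom.id _ := by
  have h1 : (1 : R) ∈ 𝒜 0 := SetLike.GradedOne.one_mem
  apply AddMonoidAlgebra.ringHom_ext
  · intro r
    have h2 : (twist 𝒜 (0 : ι →+ ι)).comp AddMonoidAlgebra.singleZeroRingHom =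
        (RingHom.id _).comp AddMonoidAlgebra.singleZeroRingHom := by
      apply ringHom_ext_of_homogeneous 𝒜
      intro i a ha
      show twist 𝒜 0 (AddMonoidAlgebra.single 0 a) = AddMonoidAlgebra.single 0 a
      rw [twist_single_of_mem 𝒜 0 ha]
      simp
    exact RingHom.congr_fun h2 r
  · intro h
    show twist 𝒜 0 (AddMonoidAlgebra.single h 1) = AddMonoidAlgebra.single h 1
    rw [twist_single_of_mem 𝒜 0 h1]
    simp

/-- the twist automorphism `Ψ : R[ι] ≃ R[ι]`, `x_g t^h ↦ x_g t^{h + g}` -/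
noncomputable def twistEquiv : AddMonoidAlgebra R ι ≃+* AddMonoidAlgebra R ι :=
  RingEquiv.ofRingHom (twist 𝒜 (AddMonoidHom.id ι)) (twist 𝒜 (-AddMonoidHom.id ι))
    (by rw [twist_comp, add_neg_cancel, twist_zero])
    (by rw [twist_comp, neg_add_cancel, twist_zero])

theorem twistEquiv_apply (x : AddMonoidAlgebra R ι) :
    twistEquiv 𝒜 x = twist 𝒜 (AddMonoidHom.id ι) x := rfl

theorem twistEquiv_symm_apply (x : AddMonoidAlgebra R ι) :
    (twistEquiv 𝒜).symm x = twist 𝒜 (-AddMonoidHom.id ι) x := rfl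

section Ideals
variable {ι : Type} [AddCommGroup ι]
variable {R : Type u} [CommRing R]

theorem algebraMap_eq_single (x : R) :
    algebraMap R (AddMonoidAlgebra R ι) x = AddMonoidAlgebra.single 0 x := rfl

/-- the extension of an ideal `I` to `R[ι]` consists of the elements with coefficients in `I` -/
theorem mem_map_iff (I : Ideal R) (f : AddMonoidAlgebra R ι) :
    f ∈ I.map (algebraMap R (AddMonoidAlgebra R ι)) ↔ ∀ g, f.coeff g ∈ I := by
  classical
  constructor
  · intro hf
    have hle : I.map (algebraMap R (AddMonoidAlgebra R ι)) ≤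
        RingHom.ker (AddMonoidAlgebra.mapRingHom ι (Ideal.Quotient.mk I)) := by
      rw [Ideal.map_le_iff_le_comap]
      intro x hx
      rw [Ideal.mem_comap, RingHom.mem_ker, algebraMap_eq_single,
        AddMonoidAlgebra.mapRingHom_single, (Ideal.Quotient.eq_zero_iff_mem).2 hx,
        AddMonoidAlgebra.single_zero]
    intro g
    have h1 := hle hf
    rw [RingHom.mem_ker] at h1
    have h2 := congrArg (fun y => y.coeff g) h1
    simp only [AddMonoidAlgebra.coeff_mapRingHom] at h2
    exact (Ideal.Quotient.eq_zero_iff_mem).1 h2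
  · intro hf
    rw [← AddMonoidAlgebra.sum_coeff_single f]
    apply Ideal.sum_mem
    intro g _
    have h1 : AddMonoidAlgebra.single g (f.coeff g) =
        algebraMap R (AddMonoidAlgebra R ι) (f.coeff g) * AddMonoidAlgebra.single g 1 := by
      rw [algebraMap_eq_single, AddMonoidAlgebra.single_mul_single, zero_add, mul_one]
    rw [h1]
    exact Ideal.mul_mem_right _ _ (Ideal.mem_map_of_mem _ (hf g))

theorem comap_map (I : Ideal R) :
    (I.map (algebraMap R (AddMonoidAlgebra R ι))).comap (algebraMap R (AddMonoidAlgebra R ι)) =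
      I := by
  classical
  ext x
  rw [Ideal.mem_comap, mem_map_iff]
  constructor
  · intro h
    have := h 0
    rw [algebraMap_eq_single, AddMonoidAlgebra.coeff_single, Finsupp.single_eq_same] at this
    exact this
  · intro hx g
    rw [algebraMap_eq_single, AddMonoidAlgebra.coeff_single]
    by_cases hg : g = 0
    · rw [hg, Finsupp.single_eq_same]; exact hx
    · rw [Finsupp.single_eq_of_ne hg]; exact zero_mem _

theorem map_eq_ker (I : Ideal R) : I.map (algebraMap R (AddMonoidAlgebra R ι)) =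
    RingHom.ker (AddMonoidAlgebra.mapRingHom ι (Ideal.Quotient.mk I)) := by
  ext f
  rw [mem_map_iff, RingHom.mem_ker]
  constructor
  · intro h
    apply AddMonoidAlgebra.ext
    ext g
    rw [AddMonoidAlgebra.coeff_mapRingHom, (Ideal.Quotient.eq_zero_iff_mem).2 (h g)]
    rfl
  · intro h g
    have h2 := congrArg (fun y => y.coeff g) h
    simp only [AddMonoidAlgebra.coeff_mapRingHom] at h2
    exact (Ideal.Quotient.eq_zero_iff_mem).1 h2

theorem map_isPrime [UniqueSums ι] (p : Ideal R) [p.IsPrime] :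
    (p.map (algebraMap R (AddMonoidAlgebra R ι))).IsPrime := by
  rw [map_eq_ker]
  exact RingHom.ker_isPrime _

end Ideals

section Core
variable {ι : Type} [AddCommGroup ι] [DecidableEq ι]
variable {R : Type u} [CommRing R] (𝒜 : ι → AddSubgroup R) [GradedRing 𝒜]

open Classical in
theorem coact_eq_sum (c : ι →+ ι) (x : R) :
    coact 𝒜 c x = ∑ g ∈ (DirectSum.decompose 𝒜 x).support,
      AddMonoidAlgebra.single (c g) ((DirectSum.decompose 𝒜 x g : 𝒜 g) : R) := by
  conv_lhs => rw [← DirectSum.sum_support_decompose 𝒜 x, map_sum]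
  exact Finset.sum_congr rfl (fun g _ => coact_of_mem 𝒜 c (SetLike.coe_mem _))

theorem coeff_coact (c : ι →+ ι) (hc : Function.Injective c) (x : R) (g : ι) :
    (coact 𝒜 c x).coeff (c g) = ((DirectSum.decompose 𝒜 x g : 𝒜 g) : R) := by
  classical
  induction x using DirectSum.Decomposition.inductionOn 𝒜 with
  | zero => simp
  | @homogeneous i a =>
    rw [coact_of_mem 𝒜 c a.2, AddMonoidAlgebra.coeff_single]
    by_cases h : i = g
    · subst h
      rw [Finsupp.single_eq_same, DirectSum.decompose_of_mem_same 𝒜 a.2]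
    · rw [Finsupp.single_eq_of_ne (fun h' => h (hc h').symm),
        DirectSum.decompose_of_mem_ne 𝒜 a.2 h]
  | add a b ha hb =>
    rw [map_add, AddMonoidAlgebra.coeff_add, Finsupp.add_apply, ha, hb, DirectSum.decompose_add,
      DirectSum.add_apply, AddSubgroup.coe_add]

/-- the contraction of `P R[ι]` along the coaction is the homogeneous core of `P` -/
theorem comap_coact (c : ι →+ ι) (hc : Function.Bijective c) (P : Ideal R) :
    (P.map (algebraMap R (AddMonoidAlgebra R ι))).comap (coact 𝒜 c) =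
      (P.homogeneousCore 𝒜).toIdeal := by
  classical
  ext x
  rw [Ideal.mem_comap, mem_map_iff]
  constructor
  · intro h
    rw [← DirectSum.sum_support_decompose 𝒜 x]
    refine Ideal.sum_mem _ (fun i _ => ?_)
    have h1 := h (c i)
    rw [coeff_coact 𝒜 c hc.1] at h1
    exact Ideal.mem_homogeneousCore_of_homogeneous_of_mem ⟨i, SetLike.coe_mem _⟩ h1
  · intro h g
    obtain ⟨i, rfl⟩ := hc.2 g
    rw [coeff_coact 𝒜 c hc.1]
    exact Ideal.toIdeal_homogeneousCore_le 𝒜 P ((P.homogeneousCore 𝒜).isHomogeneous i h)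

theorem map_le_comap_twist (c : ι →+ ι) (I : Ideal R) (hI : I.IsHomogeneous 𝒜) :
    I.map (algebraMap R (AddMonoidAlgebra R ι)) ≤
      (I.map (algebraMap R (AddMonoidAlgebra R ι))).comap (twist 𝒜 c) := by
  classical
  rw [Ideal.map_le_iff_le_comap]
  intro x hx
  rw [Ideal.mem_comap, Ideal.mem_comap, algebraMap_eq_single, twist_single_zero, coact_eq_sum]
  apply Ideal.sum_mem
  intro g _
  rw [mem_map_iff]
  intro h
  rw [AddMonoidAlgebra.coeff_single]
  by_cases hh : c g = h
  · rw [hh, Finsupp.single_eq_same]; exact hI g hx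
  · rw [Finsupp.single_eq_of_ne (fun h' => hh h'.symm)]; exact zero_mem _

/-- the extension of a homogeneous ideal is stable under the twists -/
theorem comap_twist_map (c : ι →+ ι) (I : Ideal R) (hI : I.IsHomogeneous 𝒜) :
    (I.map (algebraMap R (AddMonoidAlgebra R ι))).comap (twist 𝒜 c) =
      I.map (algebraMap R (AddMonoidAlgebra R ι)) := by
  apply le_antisymm
  · intro f hf
    have h1 := map_le_comap_twist 𝒜 (-c) I hI hf
    rw [Ideal.mem_comap] at h1
    have h2 : twist 𝒜 (-c) (twist 𝒜 c f) = f := by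
      have := RingHom.congr_fun (twist_comp 𝒜 (-c) c) f
      rw [neg_add_cancel, twist_zero] at this
      exact this
    rwa [h2] at h1
  · exact map_le_comap_twist 𝒜 c I hI

/-- the prime `𝔓 = Ψ⁻¹(p R[ι])` of `R[ι]` -/
noncomputable def bigP (p : Ideal R) : Ideal (AddMonoidAlgebra R ι) :=
  (p.map (algebraMap R (AddMonoidAlgebra R ι))).comap (twist 𝒜 (AddMonoidHom.id ι))

theorem comap_bigP (p : Ideal R) :
    (bigP 𝒜 p).comap (algebraMap R (AddMonoidAlgebra R ι)) = (p.homogeneousCore 𝒜).toIdeal := by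
  rw [← comap_coact 𝒜 (AddMonoidHom.id ι) Function.bijective_id p]
  ext x
  rw [Ideal.mem_comap, Ideal.mem_comap, bigP, Ideal.mem_comap, algebraMap_eq_single,
    twist_single_zero]

theorem bigP_eq_comap_equiv (p : Ideal R) :
    bigP 𝒜 p = (p.map (algebraMap R (AddMonoidAlgebra R ι))).comap (twistEquiv 𝒜) := rfl

instance bigP_isPrime [UniqueSums ι] (p : Ideal R) [p.IsPrime] : (bigP 𝒜 p).IsPrime := by
  haveI := map_isPrime (ι := ι) p
  exact Ideal.comap_isPrime _ _

end Core

section Height
variable {ι : Type} [AddCommGroup ι] [DecidableEq ι] [Module.Free ℤ ι] [Module.Finite ℤ ι]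
variable {R : Type u} [CommRing R] (𝒜 : ι → AddSubgroup R) [GradedRing 𝒜]

omit [DecidableEq ι] [Module.Free ℤ ι] in
theorem addMonoid_fg : AddMonoid.FG ι := by
  rw [← AddGroup.fg_iff_addMonoid_fg]
  exact Module.Finite.iff_addGroup_fg.1 inferInstance

omit [DecidableEq ι] [Module.Finite ℤ ι] in
theorem isAddTorsionFree : IsAddTorsionFree ι := by
  have : Module.IsTorsionFree ℤ ι := inferInstance
  exact Module.isTorsionFree_int_iff_isAddTorsionFree.1 this

omit [DecidableEq ι] in
theorem twoUniqueSums : TwoUniqueSums ι := by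
  haveI := addMonoid_fg (ι := ι)
  haveI := isAddTorsionFree (ι := ι)
  infer_instance

omit [DecidableEq ι] [Module.Free ℤ ι] in
theorem isNoetherianRing_addMonoidAlgebra [IsNoetherianRing R] :
    IsNoetherianRing (AddMonoidAlgebra R ι) := by
  haveI := addMonoid_fg (ι := ι)
  exact Algebra.FiniteType.isNoetherianRing R _

/-- the homogeneous core of a prime is prime (grading by a finitely generated free group) -/
theorem homogeneousCore_isPrime (p : Ideal R) [p.IsPrime] :
    (p.homogeneousCore 𝒜).toIdeal.IsPrime := by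
  haveI := twoUniqueSums (ι := ι)
  rw [← comap_bigP 𝒜 p]
  exact Ideal.comap_isPrime _ _

omit [DecidableEq ι] [Module.Finite ℤ ι] [Module.Free ℤ ι] in
/-- extension to `R[ι]` preserves minimal primes over an ideal -/
theorem map_mem_minimalPrimes [UniqueSums ι] {J p : Ideal R} (hp : p ∈ J.minimalPrimes) :
    p.map (algebraMap R (AddMonoidAlgebra R ι)) ∈
      (J.map (algebraMap R (AddMonoidAlgebra R ι))).minimalPrimes := by
  haveI := hp.1.1
  refine ⟨⟨map_isPrime p, Ideal.map_mono hp.1.2⟩, ?_⟩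
  rintro Q ⟨hQ, hJQ⟩ hQp
  have h1 : J ≤ Q.comap (algebraMap R (AddMonoidAlgebra R ι)) := Ideal.map_le_iff_le_comap.1 hJQ
  have h2 : Q.comap (algebraMap R (AddMonoidAlgebra R ι)) ≤ p := by
    have := Ideal.comap_mono (f := algebraMap R (AddMonoidAlgebra R ι)) hQp
    rwa [comap_map] at this
  have h3 : p ≤ Q.comap (algebraMap R (AddMonoidAlgebra R ι)) :=
    hp.2 ⟨Ideal.comap_isPrime _ _, h1⟩ h2
  exact Ideal.map_le_iff_le_comap.2 h3

omit [DecidableEq ι] in
/-- `ht p = ht (p R[ι])` -/
theorem height_map_eq [IsNoetherianRing R] (p : Ideal R) [p.IsPrime] :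
    (p.map (algebraMap R (AddMonoidAlgebra R ι))).height = p.height := by
  haveI := twoUniqueSums (ι := ι)
  haveI := isNoetherianRing_addMonoidAlgebra (ι := ι) (R := R)
  haveI := map_isPrime (ι := ι) p
  haveI : (p.map (algebraMap R (AddMonoidAlgebra R ι))).LiesOver p := ⟨(comap_map p).symm⟩
  rw [Ideal.height_eq_height_add_of_liesOver_of_hasGoingDown p, Ideal.map_quotient_self,
    Ideal.height_bot, add_zero]

/-- **the height inequality**: `ht p ≤ ht p* + ht (p / p*)` -/
theorem height_le_core_add [IsNoetherianRing R] (p : Ideal R) [p.IsPrime] :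
    p.height ≤ (p.homogeneousCore 𝒜).toIdeal.height +
      (p.map (Ideal.Quotient.mk (p.homogeneousCore 𝒜).toIdeal)).height := by
  classical
  haveI := twoUniqueSums (ι := ι)
  haveI := isNoetherianRing_addMonoidAlgebra (ι := ι) (R := R)
  haveI hq := homogeneousCore_isPrime 𝒜 p
  set q := (p.homogeneousCore 𝒜).toIdeal with hqdef
  have hqp : q ≤ p := Ideal.toIdeal_homogeneousCore_le 𝒜 p
  haveI : (bigP 𝒜 p).LiesOver q := ⟨(comap_bigP 𝒜 p).symm⟩
  -- heights
  have h1 : (bigP 𝒜 p).height = p.height := by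
    rw [bigP_eq_comap_equiv, RingEquiv.height_comap, height_map_eq]
  have h2 := Ideal.height_le_height_add_of_liesOver q (bigP 𝒜 p)
  rw [h1] at h2
  refine h2.trans (add_le_add le_rfl ?_)
  -- Krull's height theorem
  let f := Ideal.Quotient.mk q
  have hf : Function.Surjective f := Ideal.Quotient.mk_surjective
  haveI : (p.map f).IsPrime :=
    Ideal.map_isPrime_of_surjective hf (by rw [Ideal.mk_ker]; exact hqp)
  obtain ⟨sb, hsb, hcard⟩ := (p.map f).exists_finset_card_eq_height_of_isNoetherianRing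
  obtain ⟨t, ht, htc⟩ : ∃ t : Finset R, t.image f = sb ∧ t.card ≤ sb.card := by
    refine ⟨sb.image (Function.surjInv hf), ?_, Finset.card_image_le⟩
    rw [Finset.image_image]
    conv_rhs => rw [← Finset.image_id (s := sb)]
    apply Finset.image_congr
    intro x _
    exact Function.surjInv_eq hf x
  have hJ : (Ideal.span (sb : Set (R ⧸ q))).comap f = Ideal.span (t : Set R) ⊔ q := by
    have h3 : (Ideal.span (t : Set R)).map f = Ideal.span (sb : Set (R ⧸ q)) := by
      rw [Ideal.map_span, ← ht, Finset.coe_image]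
    rw [← h3, Ideal.comap_map_of_surjective f hf, ← RingHom.ker_eq_comap_bot, Ideal.mk_ker]
  have hp1 : p ∈ (Ideal.span (t : Set R) ⊔ q).minimalPrimes := by
    have h3 := Ideal.minimalPrimes_comap_of_surjective hf hsb
    rw [hJ, Ideal.comap_map_of_surjective f hf, ← RingHom.ker_eq_comap_bot, Ideal.mk_ker,
      sup_eq_left.2 hqp] at h3
    exact h3
  have hp2 := map_mem_minimalPrimes (ι := ι) hp1
  have hp3 : bigP 𝒜 p ∈ (((Ideal.span (t : Set R) ⊔ q).map
      (algebraMap R (AddMonoidAlgebra R ι))).comap (twistEquiv 𝒜 : AddMonoidAlgebra R ι →+* _)).minimalPrimes :=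
    Ideal.minimalPrimes_comap_of_surjective (twistEquiv 𝒜).surjective hp2
  obtain ⟨U, hU, hUc⟩ : ∃ U : Finset (AddMonoidAlgebra R ι),
      (U : Set (AddMonoidAlgebra R ι)) =
        (fun x => (twistEquiv 𝒜).symm (algebraMap R (AddMonoidAlgebra R ι) x)) '' (t : Set R) ∧
        U.card ≤ t.card :=
    ⟨t.image _, Finset.coe_image, Finset.card_image_le⟩
  have hcomap : ((Ideal.span (t : Set R) ⊔ q).map
      (algebraMap R (AddMonoidAlgebra R ι))).comap (twistEquiv 𝒜 : AddMonoidAlgebra R ι →+* _) =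
      Ideal.span (U : Set (AddMonoidAlgebra R ι)) ⊔ q.map (algebraMap R (AddMonoidAlgebra R ι)) := by
    rw [Ideal.map_sup]
    have e1 : ∀ I : Ideal (AddMonoidAlgebra R ι),
        I.comap (twistEquiv 𝒜 : AddMonoidAlgebra R ι →+* _) = I.map ((twistEquiv 𝒜).symm : AddMonoidAlgebra R ι →+* _) :=
      fun I => (Ideal.map_symm (twistEquiv 𝒜)).symm
    rw [e1, Ideal.map_sup, ← e1 (q.map _)]
    congr 1
    · rw [Ideal.map_span, Ideal.map_span, hU, Set.image_image]
      rfl
    · exact comap_twist_map 𝒜 (AddMonoidHom.id ι) q (p.homogeneousCore 𝒜).isHomogeneous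
  rw [hcomap] at hp3
  let π := Ideal.Quotient.mk (q.map (algebraMap R (AddMonoidAlgebra R ι)))
  have hπ : Function.Surjective π := Ideal.Quotient.mk_surjective
  have hp4 : (bigP 𝒜 p).map π ∈ ((Ideal.span (U : Set (AddMonoidAlgebra R ι))).map π).minimalPrimes := by
    rw [Ideal.minimalPrimes_map_of_surjective hπ, Ideal.mk_ker]
    exact ⟨_, hp3, rfl⟩
  have h5 : (Ideal.span (U : Set (AddMonoidAlgebra R ι))).map π =
      Ideal.span ((U.image π : Finset _) : Set _) := by
    rw [Ideal.map_span, Finset.coe_image]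
  rw [h5] at hp4
  refine (Ideal.height_le_card_of_mem_minimalPrimes_span_finset hp4).trans ?_
  rw [← hcard]
  exact_mod_cast (Finset.card_image_le.trans (hUc.trans htc))

end Height

section Chains
variable {R : Type u} [CommRing R]

/-- `ht q + ht(p/q) ≤ ht p` for primes `q ≤ p` -/
theorem height_add_height_quot_le (q p : Ideal R) [hq : q.IsPrime] [hp : p.IsPrime] (hqp : q ≤ p) :
    q.height + (p.map (Ideal.Quotient.mk q)).height ≤ p.height := by
  apply Groth.Agent.Lib.helper19.QuotHeight.enat_add_le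
  intro n m hn hm
  have hn' : (n : ℕ∞) ≤ Order.height (⟨q, hq⟩ : PrimeSpectrum R) := by
    rw [← PrimeSpectrum.height_eq_orderHeight]; exact hn
  obtain ⟨l1, hlast1, hl1⟩ := Order.exists_series_of_le_height (⟨q, hq⟩ : PrimeSpectrum R) hn'
  obtain ⟨l2, hl2, hh2, hlast2⟩ :=
    Groth.Agent.Lib.helper19.QuotHeight.exists_series_of_le_height_quot q p hqp m hm
  have hle : l1.last ≤ l2.head := by
    rw [hlast1]
    exact hh2
  have key : ∀ l : LTSeries (PrimeSpectrum R), l.last = ⟨p, hp⟩ → (l.length : ℕ∞) ≤ p.height := by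
    intro l hl
    have h1 : p.height = Order.height (⟨p, hp⟩ : PrimeSpectrum R) :=
      PrimeSpectrum.height_eq_orderHeight ⟨p, hp⟩
    rw [h1]
    exact Order.length_le_height (le_of_eq hl)
  rcases hle.eq_or_lt with heq | hlt
  · have := key (l1.smash l2 heq) (by rw [RelSeries.last_smash, hlast2])
    rw [RelSeries.smash_length, hl1, hl2] at this
    exact this
  · have := key (l1.append l2 hlt) (by rw [RelSeries.last_append, hlast2])
    rw [RelSeries.append_length, hl1, hl2] at this
    refine le_trans ?_ this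
    exact_mod_cast Nat.le_succ _

end Chains

end Groth.Agent.Lib.helper19.GrTwist
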