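import Mathlib
import Groth.Agent.Lib.Helper24.FlatDepth5
import Groth.Agent.Lib.Helper24.FibLoc
import Groth.Agent.Lib.Helper26.DepthLoc3
import Groth.Agent.Lib.Helper19.GrTwist1
set_option autoImplicit false
universe u
/-!
# Depth of a graded module at a prime and at its homogeneous core (helper19)

`ι` a finitely generated free abelian group, `R` a Noetherian `ι`-graded ring, `T = R[ι]`.
* `isRegularRing_addMonoidAlgebra` : `K[ι]` is a regular ring for `K` regular.
* `depth_localization_tensor` : for `R → A` flat, `𝔔` over `𝔭`, `M` finite: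
  `depth (A ⊗ M)_𝔔 = depth M_𝔭 + depth (A_𝔔 / 𝔭 A_𝔔)`.
* `depth_localization_transport` : transport of the depth of a localization along a ring isomorphism
  and a semilinear isomorphism of modules.
* `mcoact`, `mtwist`, `mtwistEquiv` : the semilinear automorphism `s ⊗ m_g ↦ Ψ(s) t^g ⊗ m_g` of
  `R[ι] ⊗ M` over the twist `Ψ` of `R[ι]`; `mtwistEquiv_smul`.
* `depth_fibLoc_of_eq_map` : the fibre local ring at an extended prime has depth `0`.
* `bigP_liesOver`, `height_bigP`, `depth_fibLoc_bigP` : the fibre local ring of `R → R[ι]` at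
  `𝔓 = Ψ⁻¹(p R[ι])` over `p*` is regular of dimension `ht(p/p*)`.
-/

namespace Groth.Agent.Lib.helper19.GrDepth
open TensorProduct IsLocalRing LocCoh DirectSum Polynomial
open Groth.Agent.Lib.helper26.Depth Groth.Agent.Lib.Helper24.FlatDepth
open Groth.Agent.Lib.helper19.GrTwist


/-- Laurent polynomial rings in `n` variables over a regular ring are regular -/
theorem isRegularRing_addMonoidAlgebra_pi (n : ℕ) : ∀ (K : Type u) [CommRing K] [IsRegularRing K],
    IsRegularRing (AddMonoidAlgebra K (Fin n → ℤ)) := by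
  induction n with
  | zero =>
    intro K _ _
    exact IsRegularRing.of_ringEquiv (AddMonoidAlgebra.uniqueRingEquiv (R := K) (Fin 0 → ℤ)).symm
  | succ n ih =>
    intro K _ _
    haveI h1 : IsRegularRing (AddMonoidAlgebra K (Fin n → ℤ)) := ih K
    haveI h2 : IsRegularRing (Polynomial (AddMonoidAlgebra K (Fin n → ℤ))) := inferInstance
    have h3 : IsRegularRing (LaurentPolynomial (AddMonoidAlgebra K (Fin n → ℤ))) :=
      Groth.Agent.Lib.Helper24.FibLoc.locStable_isRegularRing.loc
        (Polynomial (AddMonoidAlgebra K (Fin n → ℤ)))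
        (LaurentPolynomial (AddMonoidAlgebra K (Fin n → ℤ)))
        (Submonoid.powers (X : Polynomial (AddMonoidAlgebra K (Fin n → ℤ)))) h2
    haveI h4 : IsRegularRing (AddMonoidAlgebra K (ℤ × (Fin n → ℤ))) :=
      IsRegularRing.of_ringEquiv
        (AddMonoidAlgebra.curryRingEquiv (R := K) (M := ℤ) (N := Fin n → ℤ)).symm
    exact IsRegularRing.of_ringEquiv (AddMonoidAlgebra.mapDomainRingEquiv K
      (Fin.consEquivL ℤ (fun _ : Fin (n + 1) => ℤ)).toLinearEquiv.toAddEquiv)

/-- the group algebra of a finitely generated free abelian group over a regular ring is regular -/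
theorem isRegularRing_addMonoidAlgebra {ι : Type} [AddCommGroup ι] [Module.Free ℤ ι]
    [Module.Finite ℤ ι] (K : Type u) [CommRing K] [IsRegularRing K] :
    IsRegularRing (AddMonoidAlgebra K ι) := by
  haveI := isRegularRing_addMonoidAlgebra_pi (Module.finrank ℤ ι) K
  exact IsRegularRing.of_ringEquiv (AddMonoidAlgebra.mapDomainRingEquiv K
    (Module.finBasis ℤ ι).equivFun.symm.toAddEquiv)


section G
variable (R A : Type u) [CommRing R] [CommRing A] [Algebra R A] [IsNoetherianRing R]
  [IsNoetherianRing A] [Module.Flat R A]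
  (𝔭 : Ideal R) [𝔭.IsPrime] (𝔔 : Ideal A) [𝔔.IsPrime] [𝔔.LiesOver 𝔭]
  (M : Type u) [AddCommGroup M] [Module R M] [Module.Finite R M]

/-- depth of a flat base change, localized at a prime `𝔔` over `𝔭` -/
theorem depth_localization_tensor :
    depth (Localization.AtPrime 𝔔) (LocalizedModule 𝔔.primeCompl (A ⊗[R] M)) =
      depth (Localization.AtPrime 𝔭) (LocalizedModule 𝔭.primeCompl M) +
        depth (FibLoc R A 𝔭 𝔔) (FibLoc R A 𝔭 𝔔) := by
  letI := Localization.AtPrime.algebraOfLiesOver 𝔭 𝔔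
  haveI hloc : IsLocalHom (algebraMap (Localization.AtPrime 𝔭) (Localization.AtPrime 𝔔)) :=
    Localization.isLocalHom_localRingHom _ 𝔔 (algebraMap R A) Ideal.LiesOver.over
  haveI hflat : Module.Flat (Localization.AtPrime 𝔭) (Localization.AtPrime 𝔔) := inferInstance
  have h := depth_tensor' (Localization.AtPrime 𝔭) (Localization.AtPrime 𝔔) (Localization.AtPrime 𝔔)
    (LocalizedModule 𝔭.primeCompl M)
  let e1 : Localization.AtPrime 𝔭 ⊗[R] M ≃ₗ[Localization.AtPrime 𝔭] LocalizedModule 𝔭.primeCompl M :=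
    (IsLocalizedModule.isBaseChange 𝔭.primeCompl (Localization.AtPrime 𝔭)
      (LocalizedModule.mkLinearMap 𝔭.primeCompl M)).equiv
  let e2 : Localization.AtPrime 𝔔 ⊗[Localization.AtPrime 𝔭] LocalizedModule 𝔭.primeCompl M
      ≃ₗ[Localization.AtPrime 𝔔]
      Localization.AtPrime 𝔔 ⊗[Localization.AtPrime 𝔭] (Localization.AtPrime 𝔭 ⊗[R] M) :=
    TensorProduct.AlgebraTensorModule.congr
      (LinearEquiv.refl (Localization.AtPrime 𝔔) (Localization.AtPrime 𝔔)) e1.symm
  let e3 : Localization.AtPrime 𝔔 ⊗[Localization.AtPrime 𝔭] (Localization.AtPrime 𝔭 ⊗[R] M)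
      ≃ₗ[Localization.AtPrime 𝔔] Localization.AtPrime 𝔔 ⊗[R] M :=
    TensorProduct.AlgebraTensorModule.cancelBaseChange R (Localization.AtPrime 𝔭)
      (Localization.AtPrime 𝔔) (Localization.AtPrime 𝔔) M
  let e4 : Localization.AtPrime 𝔔 ⊗[A] (A ⊗[R] M)
      ≃ₗ[Localization.AtPrime 𝔔] Localization.AtPrime 𝔔 ⊗[R] M :=
    TensorProduct.AlgebraTensorModule.cancelBaseChange R A
      (Localization.AtPrime 𝔔) (Localization.AtPrime 𝔔) M
  let e5 : Localization.AtPrime 𝔔 ⊗[A] (A ⊗[R] M) ≃ₗ[Localization.AtPrime 𝔔]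
      LocalizedModule 𝔔.primeCompl (A ⊗[R] M) :=
    (IsLocalizedModule.isBaseChange 𝔔.primeCompl (Localization.AtPrime 𝔔)
      (LocalizedModule.mkLinearMap 𝔔.primeCompl (A ⊗[R] M))).equiv
  have hE2 := idealDepth_congr (I := maximalIdeal (Localization.AtPrime 𝔔)) e2
  have hE3 := idealDepth_congr (I := maximalIdeal (Localization.AtPrime 𝔔)) e3
  have hE4 := idealDepth_congr (I := maximalIdeal (Localization.AtPrime 𝔔)) e4
  have hE5 := idealDepth_congr (I := maximalIdeal (Localization.AtPrime 𝔔))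
    (M := Localization.AtPrime 𝔔 ⊗[A] (A ⊗[R] M))
    (N := LocalizedModule 𝔔.primeCompl (A ⊗[R] M)) e5
  have hE := ((hE2.trans hE3).trans hE4.symm).trans hE5
  have hI : (maximalIdeal (Localization.AtPrime 𝔭)).map
      (algebraMap (Localization.AtPrime 𝔭) (Localization.AtPrime 𝔔)) =
      (𝔭.map (algebraMap R A)).map (algebraMap A (Localization.AtPrime 𝔔)) := by
    rw [← Localization.AtPrime.map_eq_maximalIdeal, Ideal.map_map, Ideal.map_map,
      ← IsScalarTower.algebraMap_eq, ← IsScalarTower.algebraMap_eq]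
  have hI2 : (maximalIdeal (Localization.AtPrime 𝔭)).map
      (algebraMap (Localization.AtPrime 𝔭) (Localization.AtPrime 𝔔)) •
        (⊤ : Submodule (Localization.AtPrime 𝔔) (Localization.AtPrime 𝔔)) =
      (𝔭.map (algebraMap R A)).map (algebraMap A (Localization.AtPrime 𝔔)) := by
    rw [smul_eq_mul, Ideal.mul_top, hI]
  have hF := idealDepth_congr (I := maximalIdeal (Localization.AtPrime 𝔔))
    (Submodule.quotEquivOfEq _ _ hI2)
  have hQ := idealDepth_quotient_eq (Localization.AtPrime 𝔔)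
    ((𝔭.map (algebraMap R A)).map (algebraMap A (Localization.AtPrime 𝔔)))
  change idealDepth (maximalIdeal (Localization.AtPrime 𝔔)) _ = _
  rw [← hE]
  change depth (Localization.AtPrime 𝔔) _ = _
  rw [h]
  congr 1
  change idealDepth (maximalIdeal (Localization.AtPrime 𝔔)) _ = _
  rw [hF, hQ]

end G


section H
variable {A B : Type u} [CommRing A] [CommRing B] [IsNoetherianRing A] (σ : A ≃+* B)
  (𝔓 : Ideal A) [𝔓.IsPrime] (Q : Ideal B) [Q.IsPrime]
  (X : Type u) [AddCommGroup X] [Module A X] [Module.Finite A X]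
  (Y : Type u) [AddCommGroup Y] [Module B Y]

/-- transport of the depth of a localization along a ring isomorphism and a semilinear
isomorphism of modules -/
theorem depth_localization_transport (hPQ : 𝔓 = Q.comap (σ : A →+* B))
    (Θ : X ≃+ Y) (hΘ : ∀ (a : A) (x : X), Θ (a • x) = σ a • Θ x) :
    depth (Localization.AtPrime Q) (LocalizedModule Q.primeCompl Y) =
      depth (Localization.AtPrime 𝔓) (LocalizedModule 𝔓.primeCompl X) := by
  letI algA : Algebra A (Localization.AtPrime Q) :=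
    ((algebraMap B (Localization.AtPrime Q)).comp (σ : A →+* B)).toAlgebra
  letI modA : Module A (LocalizedModule Q.primeCompl Y) :=
    Module.compHom _ ((algebraMap B (Localization.AtPrime Q)).comp (σ : A →+* B))
  haveI hst : IsScalarTower A (Localization.AtPrime Q) (LocalizedModule Q.primeCompl Y) :=
    IsScalarTower.of_algebraMap_smul fun a y => rfl
  have hmem : ∀ b : B, b ∈ Q.primeCompl → σ.symm b ∈ 𝔓.primeCompl := by
    intro b hb ha
    apply hb
    rw [hPQ] at ha
    have h1 : σ (σ.symm b) ∈ Q := ha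
    simpa using h1
  have hM : 𝔓.primeCompl.map σ = Q.primeCompl := by
    ext b
    constructor
    · rintro ⟨a, ha, rfl⟩
      intro hb
      apply ha
      rw [hPQ]
      exact hb
    · intro hb
      exact ⟨σ.symm b, hmem b hb, by simp⟩
  haveI hloc : IsLocalization.AtPrime (Localization.AtPrime Q) 𝔓 :=
    IsLocalization.of_ringEquiv_left σ hM (fun x => rfl)
  have hsm : ∀ (a : A) (y : LocalizedModule Q.primeCompl Y), a • y = σ a • y := by
    intro a y
    change algebraMap B (Localization.AtPrime Q) (σ a) • y = σ a • y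
    rw [algebraMap_smul]
  let f : X →ₗ[A] LocalizedModule Q.primeCompl Y :=
    { toFun := fun x => LocalizedModule.mkLinearMap Q.primeCompl Y (Θ x)
      map_add' := fun x y => by rw [map_add, map_add]
      map_smul' := fun a x => by
        rw [hΘ, map_smul, RingHom.id_apply, hsm] }
  haveI hlm : IsLocalizedModule 𝔓.primeCompl f := by
    have hB : IsLocalizedModule Q.primeCompl (LocalizedModule.mkLinearMap Q.primeCompl Y) :=
      inferInstance
    constructor
    · intro a
      have h1 := hB.map_units ⟨σ a, by rw [← hM]; exact ⟨a, a.2, rfl⟩⟩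
      rw [Module.End.isUnit_iff] at h1 ⊢
      convert h1 using 1
      ext y
      exact hsm a y
    · intro y
      obtain ⟨⟨y0, s⟩, hs⟩ := hB.surj y
      have hs' : σ.symm s ∈ 𝔓.primeCompl := hmem _ s.2
      refine ⟨⟨Θ.symm y0, ⟨σ.symm s, hs'⟩⟩, ?_⟩
      show σ.symm (s : B) • y = LocalizedModule.mkLinearMap Q.primeCompl Y (Θ (Θ.symm y0))
      rw [hsm, AddEquiv.apply_symm_apply, RingEquiv.apply_symm_apply]
      exact hs
    · intro x1 x2 h
      have h' : LocalizedModule.mkLinearMap Q.primeCompl Y (Θ x1) =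
          LocalizedModule.mkLinearMap Q.primeCompl Y (Θ x2) := h
      obtain ⟨c, hc⟩ := hB.exists_of_eq h'
      have hc' : σ.symm c ∈ 𝔓.primeCompl := hmem _ c.2
      refine ⟨⟨σ.symm c, hc'⟩, ?_⟩
      apply Θ.injective
      show Θ (σ.symm (c : B) • x1) = Θ (σ.symm (c : B) • x2)
      rw [hΘ, hΘ, RingEquiv.apply_symm_apply]
      exact hc
  exact depth_eq_of_isLocalizedModule 𝔓 X (Localization.AtPrime Q)
    (LocalizedModule Q.primeCompl Y) f

end H


section Theta
variable {ι : Type} [AddCommGroup ι] [DecidableEq ι]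
variable {R : Type u} [CommRing R] (𝒜 : ι → AddSubgroup R) [GradedRing 𝒜]
variable {M : Type u} [AddCommGroup M] [Module R M] (ℳ : ι → AddSubgroup M)
  [DirectSum.Decomposition ℳ] [SetLike.GradedSMul 𝒜 ℳ]

variable (R) in
/-- the additive maps `M_i → R[ι] ⊗ M`, `m ↦ t^{c i} ⊗ m` -/
noncomputable def mcoactAdd (c : ι →+ ι) (i : ι) : ℳ i →+ AddMonoidAlgebra R ι ⊗[R] M where
  toFun a := AddMonoidAlgebra.single (c i) (1 : R) ⊗ₜ[R] (a : M)
  map_zero' := by simp
  map_add' a b := by rw [AddSubgroup.coe_add, TensorProduct.tmul_add]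

variable (R) in
/-- the module coaction `M → R[ι] ⊗ M`, `m ↦ ∑ t^{c g} ⊗ m_g` -/
noncomputable def mcoact (c : ι →+ ι) : M →+ AddMonoidAlgebra R ι ⊗[R] M :=
  (DirectSum.toAddMonoid (mcoactAdd R ℳ c)).comp (DirectSum.decomposeAddEquiv ℳ).toAddMonoidHom

omit [GradedRing 𝒜] [SetLike.GradedSMul 𝒜 ℳ] in
theorem mcoact_of_mem (c : ι →+ ι) {i : ι} {m : M} (hm : m ∈ ℳ i) :
    mcoact R ℳ c m = AddMonoidAlgebra.single (c i) (1 : R) ⊗ₜ[R] m := by
  unfold mcoact
  rw [AddMonoidHom.comp_apply]
  have h1 : (DirectSum.decomposeAddEquiv ℳ).toAddMonoidHom m =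
      DirectSum.of (fun i => ℳ i) i ⟨m, hm⟩ := DirectSum.decompose_of_mem ℳ hm
  rw [h1, DirectSum.toAddMonoid_of]
  rfl

theorem mcoact_smul (c : ι →+ ι) (r : R) (m : M) :
    mcoact R ℳ c (r • m) = coact 𝒜 c r • mcoact R ℳ c m := by
  classical
  induction r using DirectSum.Decomposition.inductionOn 𝒜 with
  | zero => simp
  | @homogeneous i a =>
    induction m using DirectSum.Decomposition.inductionOn ℳ with
    | zero => simp
    | @homogeneous j b =>
      have hab : (a : R) • (b : M) ∈ ℳ (i + j) := SetLike.GradedSMul.smul_mem a.2 b.2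
      rw [mcoact_of_mem (R := R) ℳ c hab, mcoact_of_mem (R := R) ℳ c b.2, coact_of_mem 𝒜 c a.2,
        TensorProduct.smul_tmul', smul_eq_mul, AddMonoidAlgebra.single_mul_single, mul_one,
        TensorProduct.tmul_smul, TensorProduct.smul_tmul', map_add]
      congr 1
      rw [AddMonoidAlgebra.smul_single, smul_eq_mul, mul_one]
    | add x y hx hy => rw [smul_add, map_add, map_add, hx, hy, smul_add]
  | add x y hx hy => rw [add_smul, map_add, map_add, hx, hy, add_smul]

theorem twist_smul (c : ι →+ ι) (r : R) (s : AddMonoidAlgebra R ι) :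
    twist 𝒜 c (r • s) = coact 𝒜 c r * twist 𝒜 c s := by
  rw [Algebra.smul_def, map_mul, algebraMap_eq_single, twist_single_zero]

/-- the twist of `R[ι] ⊗ M` : `s ⊗ m_g ↦ Ψ_c(s) t^{c g} ⊗ m_g` -/
noncomputable def mtwist (c : ι →+ ι) :
    AddMonoidAlgebra R ι ⊗[R] M →+ AddMonoidAlgebra R ι ⊗[R] M :=
  TensorProduct.liftAddHom
    { toFun := fun s =>
        { toFun := fun m => twist 𝒜 c s • mcoact R ℳ c m
          map_zero' := by rw [map_zero, smul_zero]
          map_add' := fun m m' => by rw [map_add, smul_add] }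
      map_zero' := by
        ext m
        show twist 𝒜 c 0 • mcoact R ℳ c m = 0
        rw [map_zero, zero_smul]
      map_add' := fun s s' => by
        ext m
        simp only [AddMonoidHom.coe_mk, ZeroHom.coe_mk, AddMonoidHom.add_apply]
        rw [map_add, add_smul] }
    (by
      intro r s m
      show twist 𝒜 c (r • s) • mcoact R ℳ c m = twist 𝒜 c s • mcoact R ℳ c (r • m)
      rw [twist_smul, mcoact_smul 𝒜, mul_comm, mul_smul])

theorem mtwist_tmul (c : ι →+ ι) (s : AddMonoidAlgebra R ι) (m : M) :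
    mtwist 𝒜 ℳ c (s ⊗ₜ[R] m) = twist 𝒜 c s • mcoact R ℳ c m := rfl

theorem mtwist_smul (c : ι →+ ι) (s : AddMonoidAlgebra R ι) (w : AddMonoidAlgebra R ι ⊗[R] M) :
    mtwist 𝒜 ℳ c (s • w) = twist 𝒜 c s • mtwist 𝒜 ℳ c w := by
  induction w using TensorProduct.induction_on with
  | zero => simp
  | tmul s' m =>
    rw [TensorProduct.smul_tmul', mtwist_tmul, mtwist_tmul, smul_eq_mul, map_mul, mul_smul]
  | add x y hx hy => rw [smul_add, map_add, map_add, hx, hy, smul_add]

theorem twist_single_one (c : ι →+ ι) (h : ι) :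
    twist 𝒜 c (AddMonoidAlgebra.single h (1 : R)) = AddMonoidAlgebra.single h (1 : R) := by
  rw [twist_single_of_mem 𝒜 c (SetLike.GradedOne.one_mem : (1 : R) ∈ 𝒜 0), map_zero, add_zero]

theorem mtwist_comp (c c' : ι →+ ι) (w : AddMonoidAlgebra R ι ⊗[R] M) :
    mtwist 𝒜 ℳ c (mtwist 𝒜 ℳ c' w) = mtwist 𝒜 ℳ (c + c') w := by
  classical
  induction w using TensorProduct.induction_on with
  | zero => simp
  | tmul s m =>
    induction m using DirectSum.Decomposition.inductionOn ℳ with
    | zero => simp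
    | @homogeneous j b =>
      rw [mtwist_tmul, mtwist_tmul, mcoact_of_mem (R := R) ℳ c' b.2, mcoact_of_mem (R := R) ℳ (c + c') b.2,
        mtwist_smul, mtwist_tmul, mcoact_of_mem (R := R) ℳ c b.2, twist_single_one,
        TensorProduct.smul_tmul', TensorProduct.smul_tmul', TensorProduct.smul_tmul',
        smul_eq_mul, smul_eq_mul, smul_eq_mul, AddMonoidAlgebra.single_mul_single, mul_one]
      have h1 := RingHom.congr_fun (twist_comp 𝒜 c c') s
      rw [RingHom.comp_apply] at h1
      rw [h1, AddMonoidHom.add_apply, add_comm (c j)]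
    | add x y hx hy => rw [TensorProduct.tmul_add, map_add, map_add, map_add, hx, hy]
  | add x y hx hy => rw [map_add, map_add, map_add, hx, hy]

theorem mtwist_zero (w : AddMonoidAlgebra R ι ⊗[R] M) :
    mtwist 𝒜 ℳ (0 : ι →+ ι) w = w := by
  classical
  induction w using TensorProduct.induction_on with
  | zero => simp
  | tmul s m =>
    induction m using DirectSum.Decomposition.inductionOn ℳ with
    | zero => simp
    | @homogeneous j b =>
      rw [mtwist_tmul, mcoact_of_mem (R := R) ℳ 0 b.2, twist_zero, RingHom.id_apply,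
        TensorProduct.smul_tmul', smul_eq_mul, AddMonoidHom.zero_apply]
      congr 1
      exact mul_one s
    | add x y hx hy => rw [TensorProduct.tmul_add, map_add, hx, hy]
  | add x y hx hy => rw [map_add, hx, hy]

/-- the semilinear automorphism `Θ` of `R[ι] ⊗ M` over the twist automorphism `Ψ` of `R[ι]` -/
noncomputable def mtwistEquiv : AddMonoidAlgebra R ι ⊗[R] M ≃+ AddMonoidAlgebra R ι ⊗[R] M where
  toFun := mtwist 𝒜 ℳ (AddMonoidHom.id ι)
  invFun := mtwist 𝒜 ℳ (-AddMonoidHom.id ι)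
  left_inv w := by rw [mtwist_comp, neg_add_cancel, mtwist_zero]
  right_inv w := by rw [mtwist_comp, add_neg_cancel, mtwist_zero]
  map_add' x y := map_add _ x y

theorem mtwistEquiv_smul (s : AddMonoidAlgebra R ι) (w : AddMonoidAlgebra R ι ⊗[R] M) :
    mtwistEquiv 𝒜 ℳ (s • w) = twistEquiv 𝒜 s • mtwistEquiv 𝒜 ℳ w :=
  mtwist_smul 𝒜 ℳ _ s w

end Theta



section F1
variable (R A : Type u) [CommRing R] [CommRing A] [Algebra R A] [IsNoetherianRing A]
  (𝔭 : Ideal R) [𝔭.IsPrime] (𝔔 : Ideal A) [𝔔.IsPrime] [𝔔.LiesOver 𝔭]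

omit [𝔭.IsPrime] in
/-- the fibre local ring at an extended prime `𝔔 = 𝔭 A` is a field, of depth zero -/
theorem depth_fibLoc_of_eq_map (h : 𝔔 = 𝔭.map (algebraMap R A)) :
    depth (FibLoc R A 𝔭 𝔔) (FibLoc R A 𝔭 𝔔) = 0 := by
  have hmax : (𝔭.map (algebraMap R A)).map (algebraMap A (Localization.AtPrime 𝔔)) =
      maximalIdeal (Localization.AtPrime 𝔔) := by
    rw [← h]
    exact Localization.AtPrime.map_eq_maximalIdeal
  have hfield : IsField (FibLoc R A 𝔭 𝔔) := by
    unfold FibLoc
    rw [hmax]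
    exact (Ideal.Quotient.maximal_ideal_iff_isField_quotient _).1 inferInstance
  have hdim : ringKrullDim (FibLoc R A 𝔭 𝔔) = 0 := ringKrullDim_eq_zero_of_isField hfield
  have hle := depth_self_le_ringKrullDim (FibLoc R A 𝔭 𝔔)
  rw [hdim] at hle
  have : depth (FibLoc R A 𝔭 𝔔) (FibLoc R A 𝔭 𝔔) ≤ 0 := by exact_mod_cast hle
  exact le_antisymm this zero_le

end F1


section F2
variable {ι : Type} [AddCommGroup ι] [DecidableEq ι] [Module.Free ℤ ι] [Module.Finite ℤ ι]
variable {R : Type u} [CommRing R] [IsNoetherianRing R] (𝒜 : ι → AddSubgroup R) [GradedRing 𝒜]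
  (p : Ideal R) [p.IsPrime] [hq : (Ideal.homogeneousCore 𝒜 p).toIdeal.IsPrime]
  [UniqueSums ι] [IsNoetherianRing (AddMonoidAlgebra R ι)]

omit [Module.Free ℤ ι] [Module.Finite ℤ ι] [IsNoetherianRing R] [p.IsPrime] hq [UniqueSums ι]
  [IsNoetherianRing (AddMonoidAlgebra R ι)] in
instance bigP_liesOver : (bigP 𝒜 p).LiesOver (p.homogeneousCore 𝒜).toIdeal :=
  ⟨(comap_bigP 𝒜 p).symm⟩

omit hq [IsNoetherianRing (AddMonoidAlgebra R ι)] [UniqueSums ι] in
theorem height_bigP : (bigP 𝒜 p).height = p.height := by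
  rw [bigP_eq_comap_equiv, RingEquiv.height_comap, height_map_eq]

theorem depth_fibLoc_bigP (d : ℕ)
    (hd : (p.map (Ideal.Quotient.mk (Ideal.homogeneousCore 𝒜 p).toIdeal)).height = d) :
    depth (FibLoc R (AddMonoidAlgebra R ι) (Ideal.homogeneousCore 𝒜 p).toIdeal (bigP 𝒜 p))
      (FibLoc R (AddMonoidAlgebra R ι) (Ideal.homogeneousCore 𝒜 p).toIdeal (bigP 𝒜 p)) = d := by
  set q := (Ideal.homogeneousCore 𝒜 p).toIdeal with hqdef
  have hqp : q ≤ p := Ideal.toIdeal_homogeneousCore_le 𝒜 p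
  -- the fibre local ring is regular
  obtain ⟨q', hq', ⟨e⟩⟩ := exists_fibre_prime_equiv R (AddMonoidAlgebra R ι) q (bigP 𝒜 p)
  haveI : IsRegularRing q.ResidueField := inferInstance
  haveI : IsRegularRing (AddMonoidAlgebra q.ResidueField ι) := isRegularRing_addMonoidAlgebra _
  haveI : IsRegularRing (q.Fiber (AddMonoidAlgebra R ι)) :=
    IsRegularRing.of_ringEquiv
      (AddMonoidAlgebra.scalarTensorEquiv R q.ResidueField (M := ι)).symm.toRingEquiv
  haveI : IsRegularLocalRing (Localization.AtPrime q') := inferInstance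
  haveI : IsRegularLocalRing (FibLoc R (AddMonoidAlgebra R ι) q (bigP 𝒜 p)) :=
    IsRegularLocalRing.of_ringEquiv (R := Localization.AtPrime q') e
  have h1 := depth_eq_ringKrullDim_of_isRegularLocalRing
    (FibLoc R (AddMonoidAlgebra R ι) q (bigP 𝒜 p))
  -- its dimension
  have h2 := (depth_dim_atPrime R (AddMonoidAlgebra R ι) q (bigP 𝒜 p)).2
  rw [IsLocalization.AtPrime.ringKrullDim_eq_height (bigP 𝒜 p),
    IsLocalization.AtPrime.ringKrullDim_eq_height q, height_bigP] at h2
  obtain ⟨n, hn⟩ := Groth.Agent.Lib.Helper24.CatEquidim.exists_nat_eq_ringKrullDim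
    (FibLoc R (AddMonoidAlgebra R ι) q (bigP 𝒜 p))
  have h3 : p.height = q.height + d := by
    apply le_antisymm
    · have := height_le_core_add 𝒜 p
      rwa [hd] at this
    · have := height_add_height_quot_le q p hqp
      rwa [hd] at this
  rw [hn, h3] at h2
  have h4 : q.height + (d : ℕ∞) = q.height + (n : ℕ∞) := by exact_mod_cast h2
  have h5 : q.height ≠ ⊤ := Ideal.height_ne_top (Ideal.IsPrime.ne_top inferInstance)
  have h6 : (d : ℕ∞) = n := (ENat.add_right_injective_of_ne_top h5) h4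
  rw [hn] at h1
  have h7 : depth (FibLoc R (AddMonoidAlgebra R ι) q (bigP 𝒜 p))
      (FibLoc R (AddMonoidAlgebra R ι) q (bigP 𝒜 p)) = (n : ℕ∞) := by exact_mod_cast h1
  rw [h7, h6]

end F2

end Groth.Agent.Lib.helper19.GrDepth
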