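import Mathlib
import Groth.Agent.Lib.Helper19.BassFlat2
import Groth.Agent.Lib.Helper19.GrDepth1
set_option autoImplicit false
universe u
/-!
# Bass numbers of a graded module at a prime and at its homogeneous core (helper19)

* `bassNumLocal_congr`, `bassNum_congr`: invariance under linear isomorphisms.
* `bassNum_localization_tensor R A 𝔭 𝔔 M e he`: `R → A` flat Noetherian, `𝔔` over `𝔭`, fibre local ring
  `A_𝔔 / 𝔭 A_𝔔` regular of dimension `e`, `M` ANY `R`-module:
  `μ^i(𝔔, A ⊗ M) = 0` for `i < e` and `μ^{e+j}(𝔔, A ⊗ M) = μ^j(𝔭, M)`.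
* `fibLoc_of_eq_map`, `bassNum_extend`: the case `𝔔 = 𝔭 A`.
* `nonempty_tensorEquiv`, `bassNum_transport_alg`, `bassNum_transport`: transport of Bass numbers along a
  ring isomorphism and a semilinear isomorphism of modules.
* `isRegularLocalRing_fibLoc_bigP`, `spanFinrank_fibLoc_bigP`.
* `bassNum_eq_bassNum_core_shift`: `μ^i(p, M) = 0` for `i < d`, `μ^{d+j}(p, M) = μ^j(p*, M)`,
  `d = ht(p/p*)`, for any graded module `M` over a Noetherian `ι`-graded ring (`ι` f.g. free).
-/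

namespace Groth.Agent.Lib.helper19.BassFlat3
open TensorProduct IsLocalRing LocCoh DirectSum Polynomial GrLC CategoryTheory
open Groth.Agent.Lib.helper26.Depth Groth.Agent.Lib.Helper24.FlatDepth
open Groth.Agent.Lib.helper19.GrTwist Groth.Agent.Lib.helper19.GrDepth
open Groth.Agent.Lib.helper19.BassFlat

section C
variable {B : Type u} [CommRing B] [IsLocalRing B]
  {X Y : Type u} [AddCommGroup X] [Module B X] [AddCommGroup Y] [Module B Y]

/-- Bass numbers are invariant under linear isomorphisms -/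
theorem bassNumLocal_congr (e : X ≃ₗ[B] Y) (i : ℕ) : bassNumLocal B X i = bassNumLocal B Y i :=
  (Groth.Agent.Lib.helper21.ExtCongr.right (R := B)
    (ModuleCat.of B (ResidueField B)) e.toModuleIso i).length_eq

end C

section G
variable (R A : Type u) [CommRing R] [CommRing A] [Algebra R A] [IsNoetherianRing R]
  [IsNoetherianRing A] [Module.Flat R A]
  (𝔭 : Ideal R) [𝔭.IsPrime] (𝔔 : Ideal A) [𝔔.IsPrime] [𝔔.LiesOver 𝔭]
  (M : Type u) [AddCommGroup M] [Module R M]

/-- Bass numbers of a flat base change, localized at a prime `𝔔` over `𝔭` with regular fibre local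
ring of dimension `e` -/
theorem bassNum_localization_tensor [IsRegularLocalRing (FibLoc R A 𝔭 𝔔)] (e : ℕ)
    (he : (maximalIdeal (FibLoc R A 𝔭 𝔔)).spanFinrank = e) :
    (∀ i < e, bassNum 𝔔 (A ⊗[R] M) i = 0) ∧
      ∀ j, bassNum 𝔔 (A ⊗[R] M) (e + j) = bassNum 𝔭 M j := by
  letI := Localization.AtPrime.algebraOfLiesOver 𝔭 𝔔
  haveI hflat : Module.Flat (Localization.AtPrime 𝔭) (Localization.AtPrime 𝔔) := inferInstance
  let e1 : Localization.AtPrime 𝔭 ⊗[R] M ≃ₗ[Localization.AtPrime 𝔭] LocalizedModule 𝔭.primeCompl M :=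
    (IsLocalizedModule.isBaseChange 𝔭.primeCompl (Localization.AtPrime 𝔭)
      (LocalizedModule.mkLinearMap 𝔭.primeCompl M)).equiv
  let e2 : Localization.AtPrime 𝔔 ⊗[Localization.AtPrime 𝔭] LocalizedModule 𝔭.primeCompl M
      ≃ₗ[Localization.AtPrime 𝔔]
      Localization.AtPrime 𝔔 ⊗[Localization.AtPrime 𝔭] (Localization.AtPrime 𝔭 ⊗[R] M) :=
    TensorProduct.AlgebraTensorModule.congr
      (LinearEquiv.refl (Localization.AtPrime 𝔔) (Localization.AtPrime 𝔔)) e1.symm
  let e3 : Localization.AtPrime 𝔔 ⊗[Localization.AtPrime 𝔭] (Localization.AtPrime 𝔭 ⊗[R] M)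
      ≃ₗ[Localization.AtPrime 𝔔] Localization.AtPrime 𝔔 ⊗[R] M :=
    TensorProduct.AlgebraTensorModule.cancelBaseChange R (Localization.AtPrime 𝔭)
      (Localization.AtPrime 𝔔) (Localization.AtPrime 𝔔) M
  let e4 : Localization.AtPrime 𝔔 ⊗[A] (A ⊗[R] M)
      ≃ₗ[Localization.AtPrime 𝔔] Localization.AtPrime 𝔔 ⊗[R] M :=
    TensorProduct.AlgebraTensorModule.cancelBaseChange R A
      (Localization.AtPrime 𝔔) (Localization.AtPrime 𝔔) M
  let e5 : Localization.AtPrime 𝔔 ⊗[A] (A ⊗[R] M) ≃ₗ[Localization.AtPrime 𝔔]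
      LocalizedModule 𝔔.primeCompl (A ⊗[R] M) :=
    (IsLocalizedModule.isBaseChange 𝔔.primeCompl (Localization.AtPrime 𝔔)
      (LocalizedModule.mkLinearMap 𝔔.primeCompl (A ⊗[R] M))).equiv
  have hI : (maximalIdeal (Localization.AtPrime 𝔭)).map
      (algebraMap (Localization.AtPrime 𝔭) (Localization.AtPrime 𝔔)) =
      (𝔭.map (algebraMap R A)).map (algebraMap A (Localization.AtPrime 𝔔)) := by
    rw [← Localization.AtPrime.map_eq_maximalIdeal, Ideal.map_map, Ideal.map_map,
      ← IsScalarTower.algebraMap_eq, ← IsScalarTower.algebraMap_eq]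
  have h := bassNumLocal_flat (Localization.AtPrime 𝔭) (Localization.AtPrime 𝔔)
    (LocalizedModule 𝔭.primeCompl M)
    ((𝔭.map (algebraMap R A)).map (algebraMap A (Localization.AtPrime 𝔔))) hI.symm e he
  have hc : ∀ i, bassNumLocal (Localization.AtPrime 𝔔)
      (Localization.AtPrime 𝔔 ⊗[Localization.AtPrime 𝔭] LocalizedModule 𝔭.primeCompl M) i =
      bassNumLocal (Localization.AtPrime 𝔔) (LocalizedModule 𝔔.primeCompl (A ⊗[R] M)) i :=
    fun i => bassNumLocal_congr (e2.trans (e3.trans (e4.symm.trans e5))) i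
  constructor
  · intro i hi
    show bassNumLocal _ _ i = 0
    rw [← hc, h.1 i hi]
  · intro j
    show bassNumLocal _ _ (e + j) = bassNumLocal _ _ j
    rw [← hc, h.2 j]

end G

section C2
variable {B : Type u} [CommRing B] (Q : Ideal B) [Q.IsPrime]
  {X Y : Type u} [AddCommGroup X] [Module B X] [AddCommGroup Y] [Module B Y]

/-- Bass numbers at a prime are invariant under linear isomorphisms -/
theorem bassNum_congr (e : X ≃ₗ[B] Y) (i : ℕ) : bassNum Q X i = bassNum Q Y i :=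
  bassNumLocal_congr (IsLocalizedModule.mapEquiv Q.primeCompl
    (LocalizedModule.mkLinearMap Q.primeCompl X) (LocalizedModule.mkLinearMap Q.primeCompl Y)
    (Localization.AtPrime Q) e) i

end C2

section F1
variable (R A : Type u) [CommRing R] [CommRing A] [Algebra R A] [IsNoetherianRing A]
  (𝔭 : Ideal R) [𝔭.IsPrime] (𝔔 : Ideal A) [𝔔.IsPrime] [𝔔.LiesOver 𝔭]

omit [𝔭.IsPrime] in
/-- the fibre local ring at an extended prime `𝔔 = 𝔭 A` is a field -/
theorem fibLoc_of_eq_map (h : 𝔔 = 𝔭.map (algebraMap R A)) :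
    IsRegularLocalRing (FibLoc R A 𝔭 𝔔) ∧ (maximalIdeal (FibLoc R A 𝔭 𝔔)).spanFinrank = 0 := by
  have hmax : (𝔭.map (algebraMap R A)).map (algebraMap A (Localization.AtPrime 𝔔)) =
      maximalIdeal (Localization.AtPrime 𝔔) := by
    rw [← h]
    exact Localization.AtPrime.map_eq_maximalIdeal
  have hfield : IsField (FibLoc R A 𝔭 𝔔) := by
    unfold FibLoc
    rw [hmax]
    exact (Ideal.Quotient.maximal_ideal_iff_isField_quotient _).1 inferInstance
  have hbot : maximalIdeal (FibLoc R A 𝔭 𝔔) = ⊥ := by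
    rw [← isField_iff_maximalIdeal_eq]
    exact hfield
  have hdim : ringKrullDim (FibLoc R A 𝔭 𝔔) = 0 := ringKrullDim_eq_zero_of_isField hfield
  have h0 : (maximalIdeal (FibLoc R A 𝔭 𝔔)).spanFinrank = 0 := by
    rw [hbot]
    exact Submodule.spanFinrank_bot
  refine ⟨?_, h0⟩
  rw [isRegularLocalRing_iff, h0, hdim]
  rfl

variable [IsNoetherianRing R] [Module.Flat R A] (M : Type u) [AddCommGroup M] [Module R M]

/-- Bass numbers of a flat base change at an extended prime -/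
theorem bassNum_extend (h : 𝔔 = 𝔭.map (algebraMap R A)) (j : ℕ) :
    bassNum 𝔔 (A ⊗[R] M) j = bassNum 𝔭 M j := by
  obtain ⟨hreg, h0⟩ := fibLoc_of_eq_map R A 𝔭 𝔔 h
  have := (bassNum_localization_tensor R A 𝔭 𝔔 M 0 h0).2 j
  rwa [zero_add] at this

end F1

section H
variable {A B : Type u} [CommRing A] [CommRing B] [Algebra A B] [IsNoetherianRing A]
  [IsNoetherianRing B]
  (𝔓 : Ideal A) [𝔓.IsPrime] (Q : Ideal B) [Q.IsPrime] [Q.LiesOver 𝔓]
  (X : Type u) [AddCommGroup X] [Module A X]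
  (Y : Type u) [AddCommGroup Y] [Module B Y]

omit [IsNoetherianRing A] [IsNoetherianRing B] in
/-- `b ⊗ x ↦ b • Θ x` is an isomorphism when `A → B` is bijective and `Θ` is a semilinear bijection -/
theorem nonempty_tensorEquiv (hbij : Function.Bijective (algebraMap A B))
    (Θ : X ≃+ Y) (hΘ : ∀ (a : A) (x : X), Θ (a • x) = algebraMap A B a • Θ x) :
    Nonempty (B ⊗[A] X ≃ₗ[B] Y) := by
  letI modA : Module A Y := Module.compHom Y (algebraMap A B)
  haveI hst : IsScalarTower A B Y := IsScalarTower.of_algebraMap_smul fun a y => rfl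
  let ΘA : X →ₗ[A] Y :=
    { toFun := Θ
      map_add' := map_add Θ
      map_smul' := fun a x => hΘ a x }
  let g : B ⊗[A] X →ₗ[B] Y := LinearMap.liftBaseChange B ΘA
  have hg : ∀ (b : B) (x : X), g (b ⊗ₜ[A] x) = b • Θ x := fun b x =>
    LinearMap.liftBaseChange_tmul _ _ _ _
  have hsurj1 : Function.Surjective (fun x : X => (1 : B) ⊗ₜ[A] x) := by
    intro w
    induction w using TensorProduct.induction_on with
    | zero => exact ⟨0, TensorProduct.tmul_zero _ _⟩
    | tmul b x =>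
      obtain ⟨a, rfl⟩ := hbij.2 b
      refine ⟨a • x, ?_⟩
      show (1 : B) ⊗ₜ[A] (a • x) = algebraMap A B a ⊗ₜ[A] x
      rw [TensorProduct.tmul_smul, TensorProduct.smul_tmul', Algebra.algebraMap_eq_smul_one]
    | add w1 w2 h1 h2 =>
      obtain ⟨x1, rfl⟩ := h1
      obtain ⟨x2, rfl⟩ := h2
      exact ⟨x1 + x2, TensorProduct.tmul_add _ _ _⟩
  have hinj : Function.Injective g := by
    intro w1 w2 h
    obtain ⟨x1, rfl⟩ := hsurj1 w1
    obtain ⟨x2, rfl⟩ := hsurj1 w2
    simp only [hg, one_smul] at h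
    rw [Θ.injective h]
  have hsurj : Function.Surjective g := by
    intro y
    refine ⟨(1 : B) ⊗ₜ[A] Θ.symm y, ?_⟩
    rw [hg, one_smul, AddEquiv.apply_symm_apply]
  exact ⟨LinearEquiv.ofBijective g ⟨hinj, hsurj⟩⟩

/-- transport of Bass numbers along a bijective ring homomorphism and a semilinear bijection -/
theorem bassNum_transport_alg (hbij : Function.Bijective (algebraMap A B))
    (Θ : X ≃+ Y) (hΘ : ∀ (a : A) (x : X), Θ (a • x) = algebraMap A B a • Θ x) (i : ℕ) :
    bassNum Q Y i = bassNum 𝔓 X i := by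
  have hQ : Q = 𝔓.map (algebraMap A B) := by
    have h1 : 𝔓 = Q.comap (algebraMap A B) := Ideal.LiesOver.over
    rw [h1, Ideal.map_comap_of_surjective _ hbij.2]
  haveI : Module.Flat A B :=
    Module.Flat.of_linearEquiv (LinearEquiv.ofBijective (Algebra.linearMap A B) hbij).symm
  obtain ⟨e⟩ := nonempty_tensorEquiv X Y hbij Θ hΘ
  rw [← bassNum_congr Q e i, bassNum_extend A B 𝔓 Q X hQ i]

end H

section H2
variable {A B : Type u} [CommRing A] [CommRing B] [IsNoetherianRing A] [IsNoetherianRing B]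
  (σ : A ≃+* B)
  (𝔓 : Ideal A) [𝔓.IsPrime] (Q : Ideal B) [Q.IsPrime]
  (X : Type u) [AddCommGroup X] [Module A X]
  (Y : Type u) [AddCommGroup Y] [Module B Y]

/-- transport of Bass numbers along a ring isomorphism and a semilinear isomorphism of modules -/
theorem bassNum_transport (hPQ : 𝔓 = Q.comap (σ : A →+* B))
    (Θ : X ≃+ Y) (hΘ : ∀ (a : A) (x : X), Θ (a • x) = σ a • Θ x) (i : ℕ) :
    bassNum Q Y i = bassNum 𝔓 X i := by
  letI : Algebra A B := (σ : A →+* B).toAlgebra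
  haveI : Q.LiesOver 𝔓 := ⟨hPQ⟩
  exact bassNum_transport_alg 𝔓 Q X Y σ.bijective Θ hΘ i

end H2

section F2
variable {ι : Type} [AddCommGroup ι] [DecidableEq ι] [Module.Free ℤ ι] [Module.Finite ℤ ι]
variable {R : Type u} [CommRing R] [IsNoetherianRing R] (𝒜 : ι → AddSubgroup R) [GradedRing 𝒜]
  (p : Ideal R) [p.IsPrime] [hq : (Ideal.homogeneousCore 𝒜 p).toIdeal.IsPrime]
  [UniqueSums ι] [IsNoetherianRing (AddMonoidAlgebra R ι)]

omit [IsNoetherianRing R] [IsNoetherianRing (AddMonoidAlgebra R ι)] in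
/-- the fibre local ring of `R → R[ι]` at `𝔓` over `p*` is regular -/
theorem isRegularLocalRing_fibLoc_bigP :
    IsRegularLocalRing
      (FibLoc R (AddMonoidAlgebra R ι) (Ideal.homogeneousCore 𝒜 p).toIdeal (bigP 𝒜 p)) := by
  set q := (Ideal.homogeneousCore 𝒜 p).toIdeal with hqdef
  obtain ⟨q', hq', ⟨e⟩⟩ := exists_fibre_prime_equiv R (AddMonoidAlgebra R ι) q (bigP 𝒜 p)
  haveI : IsRegularRing q.ResidueField := inferInstance
  haveI : IsRegularRing (AddMonoidAlgebra q.ResidueField ι) := isRegularRing_addMonoidAlgebra _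
  haveI : IsRegularRing (q.Fiber (AddMonoidAlgebra R ι)) :=
    IsRegularRing.of_ringEquiv
      (AddMonoidAlgebra.scalarTensorEquiv R q.ResidueField (M := ι)).symm.toRingEquiv
  haveI : IsRegularLocalRing (Localization.AtPrime q') := inferInstance
  exact IsRegularLocalRing.of_ringEquiv (R := Localization.AtPrime q') e

theorem spanFinrank_fibLoc_bigP (d : ℕ)
    (hd : (p.map (Ideal.Quotient.mk (Ideal.homogeneousCore 𝒜 p).toIdeal)).height = d) :
    (maximalIdeal (FibLoc R (AddMonoidAlgebra R ι) (Ideal.homogeneousCore 𝒜 p).toIdeal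
      (bigP 𝒜 p))).spanFinrank = d := by
  haveI := isRegularLocalRing_fibLoc_bigP 𝒜 p
  have h1 := depth_eq_ringKrullDim_of_isRegularLocalRing
    (FibLoc R (AddMonoidAlgebra R ι) (Ideal.homogeneousCore 𝒜 p).toIdeal (bigP 𝒜 p))
  have h2 := IsRegularLocalRing.spanFinrank_maximalIdeal
    (R := FibLoc R (AddMonoidAlgebra R ι) (Ideal.homogeneousCore 𝒜 p).toIdeal (bigP 𝒜 p))
  rw [depth_fibLoc_bigP 𝒜 p d hd] at h1
  rw [← h1] at h2
  exact_mod_cast h2

end F2

section Main
variable {ι : Type} [AddCommGroup ι] [DecidableEq ι] [Module.Free ℤ ι] [Module.Finite ℤ ι]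
variable {R : Type u} [CommRing R] [IsNoetherianRing R] (𝒜 : ι → AddSubgroup R) [GradedRing 𝒜]
  {M : Type u} [AddCommGroup M] [Module R M] (ℳ : ι → AddSubgroup M)
  [DirectSum.Decomposition ℳ] [SetLike.GradedSMul 𝒜 ℳ]
  (p : Ideal R) [p.IsPrime] [hq : (Ideal.homogeneousCore 𝒜 p).toIdeal.IsPrime]

include ℳ in
/-- **Bass numbers at a prime and at its homogeneous core** -/
theorem bassNum_eq_bassNum_core_shift (d : ℕ)
    (hd : (p.map (Ideal.Quotient.mk (Ideal.homogeneousCore 𝒜 p).toIdeal)).height = d) :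
    (∀ i : ℕ, i < d → bassNum p M i = 0) ∧
      (∀ j : ℕ, bassNum p M (d + j) = bassNum (Ideal.homogeneousCore 𝒜 p).toIdeal M j) := by
  classical
  haveI := twoUniqueSums (ι := ι)
  haveI := isNoetherianRing_addMonoidAlgebra (ι := ι) (R := R)
  haveI hQprime : (p.map (algebraMap R (AddMonoidAlgebra R ι))).IsPrime := map_isPrime p
  haveI hQover : (p.map (algebraMap R (AddMonoidAlgebra R ι))).LiesOver p :=
    ⟨(comap_map p).symm⟩
  have h1 : ∀ j, bassNum (p.map (algebraMap R (AddMonoidAlgebra R ι)))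
      (AddMonoidAlgebra R ι ⊗[R] M) j = bassNum p M j :=
    fun j => bassNum_extend R (AddMonoidAlgebra R ι) p
      (p.map (algebraMap R (AddMonoidAlgebra R ι))) M rfl j
  haveI := isRegularLocalRing_fibLoc_bigP 𝒜 p
  have h2 := bassNum_localization_tensor R (AddMonoidAlgebra R ι)
    (Ideal.homogeneousCore 𝒜 p).toIdeal (bigP 𝒜 p) M d (spanFinrank_fibLoc_bigP 𝒜 p d hd)
  have h3 : ∀ i, bassNum (p.map (algebraMap R (AddMonoidAlgebra R ι)))
      (AddMonoidAlgebra R ι ⊗[R] M) i = bassNum (bigP 𝒜 p) (AddMonoidAlgebra R ι ⊗[R] M) i :=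
    fun i => bassNum_transport (twistEquiv 𝒜) (bigP 𝒜 p)
      (p.map (algebraMap R (AddMonoidAlgebra R ι)))
      (AddMonoidAlgebra R ι ⊗[R] M) (AddMonoidAlgebra R ι ⊗[R] M)
      (bigP_eq_comap_equiv 𝒜 p) (mtwistEquiv 𝒜 ℳ) (mtwistEquiv_smul 𝒜 ℳ) i
  constructor
  · intro i hi
    rw [← h1, h3, h2.1 i hi]
  · intro j
    rw [← h1, h3, h2.2 j]

end Main

end Groth.Agent.Lib.helper19.BassFlat3
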