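import Mathlib
import Groth.Agent.Lib.Helper19.ExtLoc1
set_option autoImplicit false

/-! Covariant dimension shifting for `Ext^e(K, -)` along a short exact sequence `0 → A → B → C → 0`
with `Ext^{≥1}(K, B) = 0` and `Hom(K, A) → Hom(K, B)` onto. -/

universe u

namespace Groth.Agent.Lib.helper19.BassShift
open CategoryTheory Groth.Agent.Lib.helper19.ExtLoc

section CovShift

variable {R : Type u} [CommRing R] {A B C : Type u} [AddCommGroup A] [Module R A]
  [AddCommGroup B] [Module R B] [AddCommGroup C] [Module R C]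
  (K : Type u) [AddCommGroup K] [Module R K]
  (i : A →ₗ[R] B) (q : B →ₗ[R] C) (hi : Function.Injective i) (hq : Function.Surjective q)
  (hex : Function.Exact i q)

/-- the connecting map `Ext^e(K, C) → Ext^{e+1}(K, A)` is an equivalence when `Ext^{≥1}(K, B) = 0`
and every map `K → B` factors through `A` -/
noncomputable def covShift
    (hB : ∀ n : ℕ, Subsingleton (Abelian.Ext.{u} (ModuleCat.of R K) (ModuleCat.of R B) (n + 1)))
    (hsoc : ∀ φ : K →ₗ[R] B, ∃ φ' : K →ₗ[R] A, i ∘ₗ φ' = φ) (e : ℕ) :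
    Abelian.Ext.{u} (ModuleCat.of R K) (ModuleCat.of R C) e ≃ₗ[R]
      Abelian.Ext.{u} (ModuleCat.of R K) (ModuleCat.of R A) (e + 1) :=
  LinearEquiv.ofBijective
    (Abelian.Ext.postcompOfLinear (sc_shortExact i q hi hq hex).extClass R (ModuleCat.of R K)
      (show e + 1 = e + 1 from rfl)) (by
    constructor
    · rw [injective_iff_map_eq_zero]
      intro x₃ hx₃
      obtain ⟨x₂, hx₂⟩ := Abelian.Ext.covariant_sequence_exact₃ (ModuleCat.of R K)
        (sc_shortExact i q hi hq hex) x₃ (show e + 1 = e + 1 from rfl) hx₃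
      rw [← hx₂]
      cases e with
      | zero =>
        obtain ⟨φ', hφ'⟩ := hsoc (ext0Equiv B K x₂)
        have h3 : x₂ = Abelian.Ext.mk₀ (ModuleCat.ofHom (ext0Equiv B K x₂)) := by
          rw [← ext0Equiv_symm_apply, LinearEquiv.symm_apply_apply]
        have h4 : x₂ = (Abelian.Ext.mk₀ (ModuleCat.ofHom φ')).comp
            (Abelian.Ext.mk₀ (sc i q hex).f) (zero_add 0) := by
          rw [h3, Abelian.Ext.mk₀_comp_mk₀, ← hφ']
          rfl
        rw [h4, Abelian.Ext.comp_assoc_of_third_deg_zero, Abelian.Ext.mk₀_comp_mk₀,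
          (sc i q hex).zero, Abelian.Ext.mk₀_zero, Abelian.Ext.comp_zero]
      | succ n =>
        have hx0 : x₂ = 0 := (hB n).elim _ _
        rw [hx0, Abelian.Ext.zero_comp]
    · intro x₁
      obtain ⟨x₃, hx₃⟩ := Abelian.Ext.covariant_sequence_exact₁ (ModuleCat.of R K)
        (sc_shortExact i q hi hq hex) x₁ ((hB e).elim _ _) (show e + 1 = e + 1 from rfl)
      exact ⟨x₃, hx₃⟩)

end CovShift

end Groth.Agent.Lib.helper19.BassShift
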