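import Mathlib
import Groth.Prelude.Def_GrLC
import Groth.Agent.Lib.Helper19.GrMod

/-!
# Zeroth Bass numbers at graded primes via *injective envelopes (helper19), part 1: graded part

`E' = ⊕ J_α` a graded module, each `J_α` a *essential extension of a copy `f_α(R/P_α)` of a graded
prime cyclic module, `p` a graded prime, `u_α = f_α(1)`.
* `good_of_mem` : a `p`-torsion element of `J_α` is, up to a factor outside `p`, a multiple of `u_α`
  (if `P_α = p`) or zero (if `P_α ≠ p`).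
* `exists_smul_eq_sum` : a `p`-torsion element of `E'` is, up to a factor outside `p`, a combination of
  the `u_α` with `P_α = p`.
* `mem_of_sum_eq_zero` : if `Σ c_α u_α = 0` then `c_α ∈ P_α`.
* `exists_smul_mem_range` : if `e : M → E'` is *essential then `r u_α ∈ e(M)` for some `r ∉ P_α`.
-/

set_option autoImplicit false
set_option linter.style.haveILetI false

universe u

namespace Groth.Agent.Lib.helper19.BassZero

open GrLC DirectSum Groth.Agent.Lib.helper19.GrMod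

variable {ι : Type} [AddCommGroup ι] [DecidableEq ι]
variable {R : Type u} [CommRing R] (𝒜 : ι → AddSubgroup R) [GradedRing 𝒜]
variable {E' : Type u} [AddCommGroup E'] [Module R E'] (𝓔 : ι → AddSubgroup E')
  [DirectSum.Decomposition 𝓔] [SetLike.GradedSMul 𝒜 𝓔]
variable {Λ : Type u} (P : Λ → HomogeneousIdeal 𝒜) (hP : ∀ α, (P α).toIdeal.IsPrime) (g : Λ → ι)
  (J : Λ → Submodule R E') (hJ : ∀ α, (J α).IsHomogeneous 𝓔) (hind : iSupIndep J)
  (htop : iSup J = ⊤)
  (f : ∀ α, (R ⧸ (P α).toIdeal) →ₗ[R] E')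
  (hf : ∀ α, Function.Injective (f α) ∧ IsGrHomDeg (quotGr 𝒜 (P α)) 𝓔 (f α) (g α) ∧
    LinearMap.range (f α) ≤ J α ∧ ∀ Q : Submodule R E', Q.IsHomogeneous 𝓔 → Q ≤ J α → Q ≠ ⊥ →
      Q ⊓ LinearMap.range (f α) ≠ ⊥)
  (p : HomogeneousIdeal 𝒜) [hp : p.toIdeal.IsPrime]

/-- the generator `u_α = f_α(1)` -/
def gen (α : Λ) : E' := f α 1

theorem smul_gen (α : Λ) (b : R) : b • gen 𝒜 P f α = f α (Ideal.Quotient.mk _ b) := by
  unfold gen
  rw [← map_smul]
  congr 1
  rw [Algebra.smul_def, mul_one]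
  rfl

omit [SetLike.GradedSMul 𝒜 𝓔] in
include hf in
/-- `u_α` is homogeneous of degree `g α` -/
theorem gen_mem (α : Λ) : gen 𝒜 P f α ∈ 𝓔 (g α) := by
  have h1 : (1 : R ⧸ (P α).toIdeal) ∈ quotGr 𝒜 (P α) 0 :=
    ⟨1, (show (1 : R) ∈ 𝒜 0 from SetLike.GradedOne.one_mem), rfl⟩
  have := (hf α).2.1 0 1 h1
  rwa [zero_add] at this

omit [SetLike.GradedSMul 𝒜 𝓔] in
include hf hP in
theorem gen_ne_zero (α : Λ) : gen 𝒜 P f α ≠ 0 := by
  intro h
  have h1 : (1 : R ⧸ (P α).toIdeal) = 0 := (hf α).1 (by rw [map_zero]; exact h)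
  haveI := hP α
  haveI : Nontrivial (R ⧸ (P α).toIdeal) := Ideal.Quotient.nontrivial_iff.2 (hP α).ne_top
  exact one_ne_zero h1

include hind in
/-- independence, in the form used below -/
theorem indep_zero {κ : Type u} (i : κ → Λ) (hi : Function.Injective i) (s : Finset κ) (v : κ → E')
    (hv : ∀ k ∈ s, v k ∈ J (i k)) (hsum : ∑ k ∈ s, v k = 0) : ∀ k ∈ s, v k = 0 := by
  classical
  intro k hk
  have h1 : v k = -∑ k' ∈ s.erase k, v k' := by
    rw [← Finset.add_sum_erase s v hk] at hsum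
    exact eq_neg_of_add_eq_zero_left hsum
  have h2 : v k ∈ ⨆ j, ⨆ (_ : j ≠ i k), J j := by
    rw [h1]
    refine Submodule.neg_mem _ (Submodule.sum_mem _ (fun k' hk' => ?_))
    rw [Finset.mem_erase] at hk'
    exact Submodule.mem_iSup_of_mem (i k')
      (Submodule.mem_iSup_of_mem (fun h => hk'.1 (hi h)) (hv k' hk'.2))
  exact Submodule.disjoint_def.1 (hind (i k)) (v k) (hv k hk) h2

/-- the basic property: up to a factor outside `p`, a multiple of `u_α` or zero -/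
def Good (α : Λ) (y : E') : Prop :=
  ∃ r : R, r ∉ p.toIdeal ∧ (P α = p → ∃ b : R, r • y = b • gen 𝒜 P f α) ∧ (P α ≠ p → r • y = 0)

theorem good_zero (α : Λ) : Good 𝒜 P f p α 0 :=
  ⟨1, fun h => hp.ne_top ((Ideal.eq_top_iff_one _).2 h), fun _ => ⟨0, by simp⟩, fun _ => by simp⟩

theorem good_add (α : Λ) {y₁ y₂ : E'} (h₁ : Good 𝒜 P f p α y₁) (h₂ : Good 𝒜 P f p α y₂) :
    Good 𝒜 P f p α (y₁ + y₂) := by
  obtain ⟨r₁, hr₁, ha₁, hb₁⟩ := h₁
  obtain ⟨r₂, hr₂, ha₂, hb₂⟩ := h₂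
  refine ⟨r₁ * r₂, fun h => ?_, fun h => ?_, fun h => ?_⟩
  · rcases hp.mem_or_mem h with h | h
    · exact hr₁ h
    · exact hr₂ h
  · obtain ⟨b₁, hb₁'⟩ := ha₁ h
    obtain ⟨b₂, hb₂'⟩ := ha₂ h
    refine ⟨r₂ * b₁ + r₁ * b₂, ?_⟩
    rw [smul_add, mul_comm r₁ r₂, mul_smul, hb₁', mul_comm r₂ r₁, mul_smul, hb₂', add_smul,
      mul_smul, mul_smul]
  · rw [smul_add, mul_comm r₁ r₂, mul_smul, hb₁ h, mul_comm r₂ r₁, mul_smul, hb₂ h, smul_zero,
      smul_zero, add_zero]

include hP hf in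
/-- homogeneous `p`-torsion elements of `J_α` are good -/
theorem good_of_homogeneous (α : Λ) {d : ι} {z : E'} (hz : z ∈ 𝓔 d) (hzJ : z ∈ J α)
    (hpz : ∀ a ∈ p.toIdeal, a • z = 0) : Good 𝒜 P f p α z := by
  classical
  by_cases hz0 : z = 0
  · rw [hz0]; exact good_zero 𝒜 P f p α
  have hQh : (Submodule.span R {z}).IsHomogeneous 𝓔 := span_singleton_isHomogeneous 𝒜 𝓔 hz
  have hQJ : Submodule.span R {z} ≤ J α := by
    rw [Submodule.span_le]
    rintro x (rfl : x = z)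
    exact hzJ
  have hQne : Submodule.span R {z} ≠ ⊥ := by
    rw [Ne, Submodule.span_singleton_eq_bot]; exact hz0
  obtain ⟨w, hw, hw0⟩ := (Submodule.ne_bot_iff _).1 ((hf α).2.2.2 _ hQh hQJ hQne)
  obtain ⟨hw1, ⟨q, hq⟩⟩ := hw
  obtain ⟨r, rfl⟩ := Submodule.mem_span_singleton.1 hw1
  obtain ⟨b, rfl⟩ := Ideal.Quotient.mk_surjective q
  have hrp : r ∉ p.toIdeal := fun h => hw0 (hpz r h)
  have hle : p.toIdeal ≤ (P α).toIdeal := by
    intro a ha
    have h1 : f α (Ideal.Quotient.mk _ (a * b)) = 0 := by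
      have h0 : Ideal.Quotient.mk (P α).toIdeal (a * b) = a • Ideal.Quotient.mk (P α).toIdeal b := by
        rw [Algebra.smul_def, map_mul]; rfl
      rw [h0, map_smul, hq, smul_comm, hpz a ha, smul_zero]
    have h2 : Ideal.Quotient.mk (P α).toIdeal (a * b) = 0 := (hf α).1 (by rw [h1, map_zero])
    rw [Ideal.Quotient.eq_zero_iff_mem] at h2
    rcases (hP α).mem_or_mem h2 with h3 | h3
    · exact h3
    · exfalso
      apply hw0
      rw [← hq, (Ideal.Quotient.eq_zero_iff_mem).2 h3, map_zero]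
  by_cases hPp : P α = p
  · refine ⟨r, hrp, fun _ => ⟨b, ?_⟩, fun h => absurd hPp h⟩
    rw [← hq, smul_gen]
  · have hlt : ∃ s ∈ (P α).toIdeal, s ∉ p.toIdeal := by
      by_contra hcon
      push Not at hcon
      exact hPp (HomogeneousIdeal.toIdeal_injective (le_antisymm hcon hle))
    obtain ⟨s, hsP, hsp⟩ := hlt
    refine ⟨s * r, fun h => ?_, fun h => absurd h hPp, fun _ => ?_⟩
    · rcases hp.mem_or_mem h with h | h
      · exact hsp h
      · exact hrp h
    · rw [mul_smul, ← hq, ← map_smul]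
      have : s • (Ideal.Quotient.mk (P α).toIdeal b) = 0 := by
        rw [Algebra.smul_def]
        have : algebraMap R (R ⧸ (P α).toIdeal) s = 0 :=
          (Ideal.Quotient.eq_zero_iff_mem).2 hsP
        rw [this, zero_mul]
      rw [this, map_zero]

include hP hf hJ in
/-- `p`-torsion elements of `J_α` are good -/
theorem good_of_mem (α : Λ) {y : E'} (hyJ : y ∈ J α) (hpy : ∀ a ∈ p.toIdeal, a • y = 0) :
    Good 𝒜 P f p α y := by
  classical
  rw [← DirectSum.sum_support_decompose 𝓔 y]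
  apply Finset.sum_induction _ (Good 𝒜 P f p α) (fun _ _ => good_add 𝒜 P f p α)
    (good_zero 𝒜 P f p α)
  intro d _
  refine good_of_homogeneous 𝒜 𝓔 P hP g J f hf p α (SetLike.coe_mem _) (hJ α d hyJ) ?_
  intro a ha
  -- reduce to homogeneous `a`
  have key : ∀ i : ι, ((decompose 𝒜 a i : 𝒜 i) : R) • ((decompose 𝓔 y d : 𝓔 d) : E') = 0 := by
    intro i
    have hai : ((decompose 𝒜 a i : 𝒜 i) : R) ∈ p.toIdeal := p.isHomogeneous i ha
    have h1 := decompose_smul_apply 𝒜 𝓔 (SetLike.coe_mem (decompose 𝒜 a i)) y (i + d)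
    rw [hpy _ hai, decompose_zero, DirectSum.zero_apply, ZeroMemClass.coe_zero] at h1
    rw [h1]
    congr 1
    exact coe_decompose_congr 𝓔 y (by abel)
  rw [← DirectSum.sum_support_decompose 𝒜 a, Finset.sum_smul]
  exact Finset.sum_eq_zero (fun i _ => key i)

/-- combinations of the generators with `P_α = p` -/
noncomputable def lc : ({α : Λ // P α = p} →₀ R) →ₗ[R] E' :=
  Finsupp.linearCombination R (fun α : {α : Λ // P α = p} => gen 𝒜 P f α.1)

include hP hf hJ hind htop in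
/-- a `p`-torsion element of `E'` is, up to a factor outside `p`, a combination of the `u_α`
with `P_α = p` -/
theorem exists_smul_eq_lc {y : E'} (hpy : ∀ a ∈ p.toIdeal, a • y = 0) :
    ∃ r : R, r ∉ p.toIdeal ∧ ∃ c : {α : Λ // P α = p} →₀ R, r • y = lc 𝒜 P f p c := by
  classical
  have hy : y ∈ iSup J := by rw [htop]; trivial
  rw [Submodule.mem_iSup_iff_exists_finsupp] at hy
  obtain ⟨F, hF, hFy⟩ := hy
  -- the components are `p`-torsion
  have htor : ∀ α ∈ F.support, ∀ a ∈ p.toIdeal, a • F α = 0 := by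
    intro α hα a ha
    refine indep_zero J hind id Function.injective_id F.support (fun α => a • F α)
      (fun k _ => Submodule.smul_mem _ _ (hF k)) ?_ α hα
    rw [← Finset.smul_sum]
    have : ∑ k ∈ F.support, F k = y := hFy
    rw [this, hpy a ha]
  let Good2 : E' → Prop := fun y =>
    ∃ r : R, r ∉ p.toIdeal ∧ ∃ c : {α : Λ // P α = p} →₀ R, r • y = lc 𝒜 P f p c
  have hadd : ∀ y₁ y₂, Good2 y₁ → Good2 y₂ → Good2 (y₁ + y₂) := by
    rintro y₁ y₂ ⟨r₁, hr₁, c₁, h₁⟩ ⟨r₂, hr₂, c₂, h₂⟩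
    refine ⟨r₁ * r₂, fun h => ?_, r₂ • c₁ + r₁ • c₂, ?_⟩
    · rcases hp.mem_or_mem h with h | h
      · exact hr₁ h
      · exact hr₂ h
    · rw [map_add, map_smul, map_smul, ← h₁, ← h₂, smul_add, smul_smul, smul_smul, mul_comm r₂ r₁]
  have hzero : Good2 0 :=
    ⟨1, fun h => hp.ne_top ((Ideal.eq_top_iff_one _).2 h), 0, by simp⟩
  have hmain : Good2 (∑ α ∈ F.support, F α) := by
    apply Finset.sum_induction _ Good2 hadd hzero
    intro α hα
    obtain ⟨r, hr, ha, hb⟩ := good_of_mem 𝒜 𝓔 P hP g J hJ f hf p α (hF α) (htor α hα)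
    by_cases hPp : P α = p
    · obtain ⟨b, hb'⟩ := ha hPp
      refine ⟨r, hr, Finsupp.single ⟨α, hPp⟩ b, ?_⟩
      rw [hb']
      unfold lc
      rw [Finsupp.linearCombination_single]
    · exact ⟨r, hr, 0, by rw [hb hPp, map_zero]⟩
  have : ∑ α ∈ F.support, F α = y := hFy
  rw [this] at hmain
  exact hmain

omit [SetLike.GradedSMul 𝒜 𝓔] hp in
include hf hind in
/-- if a combination of the `u_α` vanishes, the coefficients lie in `p` -/
theorem mem_of_lc_eq_zero (c : {α : Λ // P α = p} →₀ R) (hc : lc 𝒜 P f p c = 0) :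
    ∀ α, c α ∈ p.toIdeal := by
  classical
  intro α
  by_cases hα : α ∈ c.support
  · have h1 := indep_zero J hind (fun α : {α : Λ // P α = p} => α.1) Subtype.val_injective
      c.support (fun α => c α • gen 𝒜 P f α.1)
      (fun k _ => by
        rw [smul_gen]
        exact (hf k.1).2.2.1 (LinearMap.mem_range_self _ _))
      (by
        have : lc 𝒜 P f p c = ∑ k ∈ c.support, c k • gen 𝒜 P f k.1 := by
          unfold lc
          rw [Finsupp.linearCombination_apply]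
          rfl
        rw [← this, hc]) α hα
    rw [smul_gen] at h1
    have h2 : Ideal.Quotient.mk (P α.1).toIdeal (c α) = 0 := (hf α.1).1 (by rw [h1, map_zero])
    rw [Ideal.Quotient.eq_zero_iff_mem] at h2
    have h3 : (P α.1).toIdeal = p.toIdeal := congrArg HomogeneousIdeal.toIdeal α.2
    rw [h3] at h2
    exact h2
  · rw [Finsupp.notMem_support_iff.1 hα]
    exact zero_mem _

include hf hP in
/-- a multiple of `u_α` outside `P_α` lies in a *essential submodule -/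
theorem exists_smul_mem_range {M : Type u} [AddCommGroup M] [Module R M] (e : M →ₗ[R] E')
    (hess : ∀ Q : Submodule R E', Q.IsHomogeneous 𝓔 → Q ≠ ⊥ → Q ⊓ LinearMap.range e ≠ ⊥) (α : Λ) :
    ∃ r : R, r ∉ (P α).toIdeal ∧ ∃ m : M, e m = r • gen 𝒜 P f α := by
  have hQh : (Submodule.span R {gen 𝒜 P f α}).IsHomogeneous 𝓔 :=
    span_singleton_isHomogeneous 𝒜 𝓔 (gen_mem 𝒜 𝓔 P g J f hf α)
  have hQne : Submodule.span R {gen 𝒜 P f α} ≠ ⊥ := by
    rw [Ne, Submodule.span_singleton_eq_bot]; exact gen_ne_zero 𝒜 𝓔 P hP g J f hf α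
  obtain ⟨w, hw, hw0⟩ := (Submodule.ne_bot_iff _).1 (hess _ hQh hQne)
  obtain ⟨hw1, ⟨m, hm⟩⟩ := hw
  obtain ⟨r, rfl⟩ := Submodule.mem_span_singleton.1 hw1
  refine ⟨r, fun h => hw0 ?_, m, hm⟩
  rw [smul_gen, (Ideal.Quotient.eq_zero_iff_mem).2 h, map_zero]

end Groth.Agent.Lib.helper19.BassZero
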