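import Mathlib
import Groth.Prelude.Def_GrLC
import Groth.Agent.Lib.Helper19.GrMod
import Groth.Agent.Lib.Helper19.BassZero1
import Groth.Agent.Lib.Helper19.HullTools

/-!
# Zeroth Bass numbers at graded primes via *injective envelopes (helper19), part 2: localization

With the notation of part 1 and `e : M → E'` an injective *essential map: the socle of `E'_p` is the
`k(p)`-vector space on the `u_α/1` with `P_α = p`, it lies in `M_p`, and
`length Hom_{R_p}(k(p), M_p) = #{α | P_α = p}` (`length_hom_eq_card`).
-/

set_option autoImplicit false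
set_option linter.style.haveILetI false

universe u

namespace Groth.Agent.Lib.helper19.BassZero

open GrLC DirectSum Groth.Agent.Lib.helper19.GrMod IsLocalRing

section Soc
variable {S : Type u} [CommRing S] [IsLocalRing S]

/-- the socle of a module over a local ring -/
def soc (X : Type u) [AddCommGroup X] [Module S X] : Submodule S X where
  carrier := {x | ∀ a ∈ maximalIdeal S, a • x = 0}
  add_mem' := fun {x y} hx hy a ha => by rw [smul_add, hx a ha, hy a ha, add_zero]
  zero_mem' := fun a _ => smul_zero a
  smul_mem' := fun c x hx a ha => by rw [smul_comm, hx a ha, smul_zero]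

/-- `Hom(k, X) ≃ soc X` -/
noncomputable def homEquivSoc (X : Type u) [AddCommGroup X] [Module S X] :
    (ResidueField S →ₗ[S] X) ≃ₗ[S] soc (S := S) X where
  toFun φ := ⟨φ 1, Groth.Agent.Lib.helper19.HullTools.smul_apply_one φ⟩
  invFun x := Groth.Agent.Lib.helper19.HullTools.ofSocle x.1 x.2
  map_add' a b := rfl
  map_smul' c a := rfl
  left_inv φ := Groth.Agent.Lib.helper19.HullTools.ext_one
    (Groth.Agent.Lib.helper19.HullTools.ofSocle_one _ _)
  right_inv x := Subtype.ext (Groth.Agent.Lib.helper19.HullTools.ofSocle_one _ _)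

end Soc

section LocLemmas
variable {R : Type u} [CommRing R] (T : Submonoid R) {X : Type u} [AddCommGroup X] [Module R X]

theorem mk_eq_zero_iff (m : X) (s : T) :
    LocalizedModule.mk m s = 0 ↔ ∃ u : T, (u : R) • m = 0 := by
  rw [← LocalizedModule.zero_mk (1 : T), LocalizedModule.mk_eq]
  constructor
  · rintro ⟨u, hu⟩
    refine ⟨u, ?_⟩
    rw [one_smul, smul_zero, smul_zero] at hu
    exact hu
  · rintro ⟨u, hu⟩
    refine ⟨u, ?_⟩
    rw [one_smul, smul_zero, smul_zero]
    exact hu

theorem mk_eq_smul_mkLinearMap (m : X) (s : T) :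
    LocalizedModule.mk m s = Localization.mk 1 s • LocalizedModule.mkLinearMap T X m := by
  rw [LocalizedModule.mkLinearMap_apply, LocalizedModule.mk_smul_mk, one_smul, mul_one]

end LocLemmas

section Main

variable {ι : Type} [AddCommGroup ι] [DecidableEq ι]
variable {R : Type u} [CommRing R] [IsNoetherianRing R] (𝒜 : ι → AddSubgroup R) [GradedRing 𝒜]
variable {E' : Type u} [AddCommGroup E'] [Module R E'] (𝓔 : ι → AddSubgroup E')
  [DirectSum.Decomposition 𝓔] [SetLike.GradedSMul 𝒜 𝓔]
variable {Λ : Type u} (P : Λ → HomogeneousIdeal 𝒜) (hP : ∀ α, (P α).toIdeal.IsPrime) (g : Λ → ι)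
  (J : Λ → Submodule R E') (hJ : ∀ α, (J α).IsHomogeneous 𝓔) (hind : iSupIndep J)
  (htop : iSup J = ⊤)
  (f : ∀ α, (R ⧸ (P α).toIdeal) →ₗ[R] E')
  (hf : ∀ α, Function.Injective (f α) ∧ IsGrHomDeg (quotGr 𝒜 (P α)) 𝓔 (f α) (g α) ∧
    LinearMap.range (f α) ≤ J α ∧ ∀ Q : Submodule R E', Q.IsHomogeneous 𝓔 → Q ≤ J α → Q ≠ ⊥ →
      Q ⊓ LinearMap.range (f α) ≠ ⊥)
  (p : HomogeneousIdeal 𝒜) [hp : p.toIdeal.IsPrime]

/-- the generators of the socle of `E'_p` -/
noncomputable def genL (α : {α : Λ // P α = p}) : LocalizedModule p.toIdeal.primeCompl E' :=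
  LocalizedModule.mk (gen 𝒜 P f α.1) 1

/-- the combination map into `E'_p` -/
noncomputable def ΨL : ({α : Λ // P α = p} →₀ Localization.AtPrime p.toIdeal) →ₗ[Localization.AtPrime p.toIdeal]
    LocalizedModule p.toIdeal.primeCompl E' :=
  Finsupp.linearCombination _ (genL 𝒜 P f p)

omit [IsNoetherianRing R] in
theorem genL_mem_soc (α : {α : Λ // P α = p}) :
    genL 𝒜 P f p α ∈ soc (S := Localization.AtPrime p.toIdeal)
      (LocalizedModule p.toIdeal.primeCompl E') := by
  intro a ha
  obtain ⟨b, q, rfl⟩ := IsLocalization.exists_mk'_eq p.toIdeal.primeCompl a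
  rw [IsLocalization.AtPrime.mk'_mem_maximal_iff (Localization.AtPrime p.toIdeal) p.toIdeal] at ha
  unfold genL
  rw [← Localization.mk_eq_mk', LocalizedModule.mk_smul_mk, smul_gen]
  have h1 : Ideal.Quotient.mk (P α.1).toIdeal b = 0 := by
    rw [Ideal.Quotient.eq_zero_iff_mem, α.2]
    exact ha
  rw [h1, map_zero, LocalizedModule.zero_mk]

omit [IsNoetherianRing R] in
theorem range_ΨL_le_soc :
    LinearMap.range (ΨL 𝒜 P f p) ≤ soc (S := Localization.AtPrime p.toIdeal)
      (LocalizedModule p.toIdeal.primeCompl E') := by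
  unfold ΨL
  rw [Finsupp.range_linearCombination, Submodule.span_le]
  rintro _ ⟨α, rfl⟩
  exact genL_mem_soc 𝒜 P f p α

omit [IsNoetherianRing R] in
/-- the image of a combination over `R` -/
theorem mkLinearMap_lc_eq (c : {α : Λ // P α = p} →₀ R) :
    LocalizedModule.mkLinearMap p.toIdeal.primeCompl E' (lc 𝒜 P f p c) =
      ΨL 𝒜 P f p (Finsupp.mapRange (algebraMap R (Localization.AtPrime p.toIdeal)) (map_zero _) c) := by
  induction c using Finsupp.induction_linear with
  | zero => simp
  | add c₁ c₂ h₁ h₂ =>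
    rw [map_add, map_add, h₁, h₂, Finsupp.mapRange_add (fun x y => map_add _ x y), map_add]
  | single α b =>
    unfold lc ΨL
    rw [Finsupp.linearCombination_single, Finsupp.mapRange_single, Finsupp.linearCombination_single,
      map_smul, algebraMap_smul]
    rfl

omit [IsNoetherianRing R] in
theorem mkLinearMap_lc (c : {α : Λ // P α = p} →₀ R) :
    LocalizedModule.mkLinearMap p.toIdeal.primeCompl E' (lc 𝒜 P f p c) ∈
      LinearMap.range (ΨL 𝒜 P f p) := by
  rw [mkLinearMap_lc_eq]
  exact LinearMap.mem_range_self _ _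

include hP hf hJ hind htop in
theorem soc_le_range_ΨL :
    soc (S := Localization.AtPrime p.toIdeal) (LocalizedModule p.toIdeal.primeCompl E') ≤
      LinearMap.range (ΨL 𝒜 P f p) := by
  classical
  intro x hx
  induction x using LocalizedModule.induction_on with
  | h y s =>
    obtain ⟨G, hG⟩ := (IsNoetherian.noetherian p.toIdeal : p.toIdeal.FG)
    -- each generator of `p` kills `y` up to a factor outside `p`
    have h1 : ∀ b ∈ G, ∃ t : p.toIdeal.primeCompl, (t : R) • b • y = 0 := by
      intro b hb
      have hbp : b ∈ p.toIdeal := by rw [← hG]; exact Ideal.subset_span hb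
      have h2 := hx (algebraMap R (Localization.AtPrime p.toIdeal) b)
        ((IsLocalization.AtPrime.to_map_mem_maximal_iff _ p.toIdeal b).2 hbp)
      rw [algebraMap_smul, LocalizedModule.smul'_mk, mk_eq_zero_iff] at h2
      exact h2
    choose! t ht using h1
    let t0 : p.toIdeal.primeCompl := ∏ b ∈ G, t b
    have hkill : ∀ a ∈ p.toIdeal, a • ((t0 : R) • y) = 0 := by
      intro a ha
      let Ann : Ideal R := LinearMap.ker (LinearMap.toSpanSingleton R E' ((t0 : R) • y))
      have hle : p.toIdeal ≤ Ann := by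
        rw [← hG, Ideal.span_le]
        intro b hb
        show LinearMap.toSpanSingleton R E' ((t0 : R) • y) b = 0
        rw [LinearMap.toSpanSingleton_apply]
        have h3 : (t0 : R) = (∏ b' ∈ G.erase b, (t b' : R)) * (t b : R) := by
          show ((∏ b ∈ G, t b : p.toIdeal.primeCompl) : R) = _
          rw [Submonoid.coe_finsetProd, Finset.prod_erase_mul G _ hb]
        rw [h3, smul_comm, mul_smul, ht b hb, smul_zero]
      have := hle ha
      rw [LinearMap.mem_ker, LinearMap.toSpanSingleton_apply] at this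
      exact this
    obtain ⟨r, hr, c, hc⟩ := exists_smul_eq_lc 𝒜 𝓔 P hP g J hJ hind htop f hf p hkill
    let q : p.toIdeal.primeCompl := ⟨r, hr⟩ * t0 * s
    have h4 : LocalizedModule.mk y s = LocalizedModule.mk (lc 𝒜 P f p c) q := by
      rw [LocalizedModule.mk_eq]
      refine ⟨1, ?_⟩
      rw [one_smul, one_smul, ← hc]
      show (q : R) • y = (s : R) • r • (t0 : R) • y
      show ((r * (t0 : R) * (s : R)) : R) • y = _
      rw [smul_smul, smul_smul]
      congr 1
      ring
    rw [h4, mk_eq_smul_mkLinearMap]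
    exact Submodule.smul_mem _ _ (mkLinearMap_lc 𝒜 P f p c)

omit [IsNoetherianRing R] [SetLike.GradedSMul 𝒜 𝓔] in
include hf hind in
/-- the kernel of the combination map -/
theorem ΨL_eq_zero_iff (c : {α : Λ // P α = p} →₀ Localization.AtPrime p.toIdeal) :
    ΨL 𝒜 P f p c = 0 ↔ ∀ α, c α ∈ maximalIdeal (Localization.AtPrime p.toIdeal) := by
  classical
  constructor
  · intro hc
    obtain ⟨b, hb⟩ := IsLocalization.exist_integer_multiples_of_finset p.toIdeal.primeCompl
      (c.support.image c)
    have hint : ∀ β, ∃ a : R, algebraMap R (Localization.AtPrime p.toIdeal) a = (b : R) • c β := by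
      intro β
      by_cases hβ : β ∈ c.support
      · exact hb (c β) (Finset.mem_image_of_mem c hβ)
      · exact ⟨0, by rw [Finsupp.notMem_support_iff.1 hβ, smul_zero, map_zero]⟩
    choose a ha using hint
    let cR : {α : Λ // P α = p} →₀ R :=
      Finsupp.onFinset c.support (fun β => if β ∈ c.support then a β else 0) (by
        intro β hβ
        by_contra h
        simp [h] at hβ)
    have hcR : ∀ β, algebraMap R (Localization.AtPrime p.toIdeal) (cR β) = (b : R) • c β := by
      intro β
      show algebraMap R _ (if β ∈ c.support then a β else 0) = _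
      split_ifs with h
      · exact ha β
      · rw [Finsupp.notMem_support_iff.1 h, smul_zero, map_zero]
    have hmap : Finsupp.mapRange (algebraMap R (Localization.AtPrime p.toIdeal)) (map_zero _) cR =
        (algebraMap R (Localization.AtPrime p.toIdeal) (b : R)) • c := by
      ext β
      rw [Finsupp.mapRange_apply, hcR, Finsupp.smul_apply, Algebra.smul_def, smul_eq_mul]
    have h1 : LocalizedModule.mkLinearMap p.toIdeal.primeCompl E' (lc 𝒜 P f p cR) = 0 := by
      rw [mkLinearMap_lc_eq, hmap, map_smul, hc, smul_zero]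
    rw [LocalizedModule.mkLinearMap_apply, mk_eq_zero_iff] at h1
    obtain ⟨t, ht⟩ := h1
    have h2 : lc 𝒜 P f p ((t : R) • cR) = 0 := by rw [map_smul, ht]
    have h3 := mem_of_lc_eq_zero 𝒜 𝓔 P g J hind f hf p _ h2
    intro α
    have h4 : cR α ∈ p.toIdeal := by
      have := h3 α
      rw [Finsupp.smul_apply, smul_eq_mul] at this
      rcases hp.mem_or_mem this with h | h
      · exact absurd h t.2
      · exact h
    have h5 : (algebraMap R (Localization.AtPrime p.toIdeal) (b : R)) * c α ∈
        maximalIdeal (Localization.AtPrime p.toIdeal) := by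
      rw [← smul_eq_mul, algebraMap_smul, ← hcR]
      exact (IsLocalization.AtPrime.to_map_mem_maximal_iff _ p.toIdeal _).2 h4
    have hunit : IsUnit (algebraMap R (Localization.AtPrime p.toIdeal) (b : R)) :=
      IsLocalization.map_units _ b
    exact (Ideal.unit_mul_mem_iff_mem _ hunit).1 h5
  · intro hc
    unfold ΨL
    rw [Finsupp.linearCombination_apply]
    exact Finset.sum_eq_zero (fun α _ => genL_mem_soc 𝒜 P f p α (c α) (hc α))

omit [IsNoetherianRing R] in
include hP hf in
/-- the generators of the socle lie in the localization of a *essential submodule -/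
theorem genL_mem_range_map {M : Type u} [AddCommGroup M] [Module R M] (e : M →ₗ[R] E')
    (hess : ∀ Q : Submodule R E', Q.IsHomogeneous 𝓔 → Q ≠ ⊥ → Q ⊓ LinearMap.range e ≠ ⊥)
    (α : {α : Λ // P α = p}) :
    genL 𝒜 P f p α ∈ LinearMap.range (LocalizedModule.map p.toIdeal.primeCompl e) := by
  obtain ⟨r, hr, m, hm⟩ := exists_smul_mem_range 𝒜 𝓔 P hP g J f hf e hess α.1
  have h3 : (P α.1).toIdeal = p.toIdeal := congrArg HomogeneousIdeal.toIdeal α.2
  rw [h3] at hr
  refine ⟨LocalizedModule.mk m ⟨r, hr⟩, ?_⟩
  rw [LocalizedModule.map_mk, hm]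
  exact LocalizedModule.mk_cancel (⟨r, hr⟩ : p.toIdeal.primeCompl) (gen 𝒜 P f α.1)

include hP hf hJ hind htop in
/-- **the zeroth Bass number at a graded prime counts the summands** -/
theorem length_hom_eq_card {M : Type u} [AddCommGroup M] [Module R M] (e : M →ₗ[R] E')
    (he : Function.Injective e)
    (hess : ∀ Q : Submodule R E', Q.IsHomogeneous 𝓔 → Q ≠ ⊥ → Q ⊓ LinearMap.range e ≠ ⊥) :
    Module.length (Localization.AtPrime p.toIdeal)
      (ResidueField (Localization.AtPrime p.toIdeal) →ₗ[Localization.AtPrime p.toIdeal]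
        LocalizedModule p.toIdeal.primeCompl M) = ENat.card {α : Λ // P α = p} := by
  classical
  have hsocF : soc (S := Localization.AtPrime p.toIdeal) (LocalizedModule p.toIdeal.primeCompl E') =
      LinearMap.range (ΨL 𝒜 P f p) :=
    le_antisymm (soc_le_range_ΨL 𝒜 𝓔 P hP g J hJ hind htop f hf p) (range_ΨL_le_soc 𝒜 P f p)
  have hep : Function.Injective (LocalizedModule.map p.toIdeal.primeCompl e) :=
    LocalizedModule.map_injective _ e he
  have hrange : LinearMap.range (ΨL 𝒜 P f p) ≤
      LinearMap.range (LocalizedModule.map p.toIdeal.primeCompl e) := by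
    unfold ΨL
    rw [Finsupp.range_linearCombination, Submodule.span_le]
    rintro _ ⟨α, rfl⟩
    exact genL_mem_range_map 𝒜 𝓔 P hP g J f hf p e hess α
  -- the socles of `M_p` and `E'_p` agree
  let χ : soc (S := Localization.AtPrime p.toIdeal) (LocalizedModule p.toIdeal.primeCompl M) →ₗ[Localization.AtPrime p.toIdeal]
      soc (S := Localization.AtPrime p.toIdeal) (LocalizedModule p.toIdeal.primeCompl E') :=
    (LocalizedModule.map p.toIdeal.primeCompl e).restrict (fun x hx a ha => by
      rw [← map_smul, hx a ha, map_zero])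
  have hχ : Function.Bijective χ := by
    constructor
    · intro x y hxy
      apply Subtype.ext
      apply hep
      exact congrArg Subtype.val hxy
    · intro z
      have hz : z.1 ∈ LinearMap.range (ΨL 𝒜 P f p) := by rw [← hsocF]; exact z.2
      obtain ⟨x, hx⟩ := hrange hz
      refine ⟨⟨x, fun a ha => ?_⟩, Subtype.ext hx⟩
      apply hep
      rw [map_smul, hx, map_zero]
      exact z.2 a ha
  let e1 := homEquivSoc (S := Localization.AtPrime p.toIdeal) (LocalizedModule p.toIdeal.primeCompl M)
  let e2 := LinearEquiv.ofBijective χ hχ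
  let e3 := LinearEquiv.ofEq _ _ hsocF
  let e4 := LinearMap.quotKerEquivRange (ΨL 𝒜 P f p)
  let ρ : ({α : Λ // P α = p} →₀ Localization.AtPrime p.toIdeal) →ₗ[Localization.AtPrime p.toIdeal]
      ({α : Λ // P α = p} →₀ ResidueField (Localization.AtPrime p.toIdeal)) :=
    Finsupp.mapRange.linearMap (Algebra.linearMap (Localization.AtPrime p.toIdeal)
      (ResidueField (Localization.AtPrime p.toIdeal)))
  have hρsurj : Function.Surjective ρ :=
    Finsupp.mapRange_surjective _ (map_zero _) IsLocalRing.residue_surjective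
  have hker : LinearMap.ker (ΨL 𝒜 P f p) = LinearMap.ker ρ := by
    ext c
    rw [LinearMap.mem_ker, LinearMap.mem_ker, ΨL_eq_zero_iff 𝒜 𝓔 P g J hind f hf p]
    constructor
    · intro h
      ext α
      show algebraMap _ (ResidueField (Localization.AtPrime p.toIdeal)) (c α) = 0
      exact (IsLocalRing.residue_eq_zero_iff _).2 (h α)
    · intro h α
      have := DFunLike.congr_fun h α
      exact (IsLocalRing.residue_eq_zero_iff _).1 this
  let e5 := Submodule.quotEquivOfEq _ _ hker
  let e6 := ρ.quotKerEquivOfSurjective hρsurj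
  haveI := Groth.Agent.Lib.helper19.HullTools.isSimpleModule_residueField
    (Localization.AtPrime p.toIdeal)
  rw [e1.length_eq, e2.length_eq, e3.length_eq, ← e4.length_eq, e5.length_eq, e6.length_eq,
    Module.length_finsupp, Module.length_eq_one, mul_one]

end Main

end Groth.Agent.Lib.helper19.BassZero
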