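import Mathlib
import Groth.Agent.Lib.Helper19.ExtLoc2
import Groth.Agent.Lib.Helper19.BassShift1
import Groth.Agent.Lib.Helper19.BassZero2
import Groth.Agent.S13216
set_option autoImplicit false
universe u
/-! Bass numbers at graded primes shift along minimal *injective resolutions:
`toRes` (`R ⧸ p → κ(p)` is a localization), `ext_residue_subsingleton`, `soc_le_range_map`,
`length_ext_shift`. -/

namespace Groth.Agent.Lib.helper19.BassShift
open CategoryTheory IsLocalRing GrLC DirectSum Groth.Agent.Lib.helper19.GrMod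
  Groth.Agent.Lib.helper19.BassZero Groth.Agent.Lib.helper19.ExtLoc

section Residue
variable {R : Type u} [CommRing R] (p : Ideal R) [p.IsPrime]

/-- `R ⧸ p → κ(p)` -/
noncomputable def toRes : (R ⧸ p) →ₗ[R] ResidueField (Localization.AtPrime p) :=
  (IsScalarTower.toAlgHom R (R ⧸ p) p.ResidueField).toLinearMap

lemma toRes_mk (x : R) : toRes p (Ideal.Quotient.mk p x) =
    residue (Localization.AtPrime p) (algebraMap R (Localization.AtPrime p) x) := rfl

instance toRes_isLocalizedModule : IsLocalizedModule p.primeCompl (toRes p) where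
  map_units := by
    intro x
    exact IsLocalizedModule.map_units (S := p.primeCompl)
      (f := (LinearMap.id : ResidueField (Localization.AtPrime p) →ₗ[R] _))
      (self := isLocalizedModule_id p.primeCompl _ (Localization.AtPrime p)) x
  surj := by
    intro y
    obtain ⟨x, rfl⟩ := residue_surjective y
    obtain ⟨x, s, rfl⟩ := IsLocalization.exists_mk'_eq p.primeCompl x
    refine ⟨⟨Ideal.Quotient.mk p x, s⟩, ?_⟩
    rw [toRes_mk]
    show (s : R) • residue (Localization.AtPrime p) (IsLocalization.mk' _ x s) = _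
    rw [← algebraMap_smul (Localization.AtPrime p) (s : R), ← IsLocalRing.ResidueField.algebraMap_eq,
      Algebra.smul_def, ← map_mul, IsLocalization.mk'_spec']
  exists_of_eq := by
    intro x₁ x₂ h
    refine ⟨1, ?_⟩
    rw [one_smul, one_smul]
    exact p.injective_algebraMap_quotient_residueField h

end Residue

section Graded
variable {ι : Type} [AddCommGroup ι] [DecidableEq ι]
variable {R : Type u} [CommRing R] [IsNoetherianRing R] (𝒜 : ι → AddSubgroup R) [GradedRing 𝒜]
variable {X : Type u} [AddCommGroup X] [Module R X] (𝒳 : ι → AddSubgroup X)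
  [DirectSum.Decomposition 𝒳] [SetLike.GradedSMul 𝒜 𝒳]
variable (p : HomogeneousIdeal 𝒜) [hp : p.toIdeal.IsPrime]

/-- `Ext^{≥1}(κ(p), X_p) = 0` for a *injective module `X` and a graded prime `p` -/
theorem ext_residue_subsingleton [Module.Free ℤ ι] [Module.Finite ℤ ι] (hX : IsStarInj 𝒜 𝒳) (n : ℕ) :
    Subsingleton (Abelian.Ext.{u}
      (ModuleCat.of (Localization.AtPrime p.toIdeal) (ResidueField (Localization.AtPrime p.toIdeal)))
      (ModuleCat.of (Localization.AtPrime p.toIdeal) (LocalizedModule p.toIdeal.primeCompl X))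
      (n + 1)) := by
  letI : DirectSum.Decomposition (GrLC.quotGr 𝒜 p) :=
    Groth.Agent.Lib.helper19.GrMod.quotDecomposition 𝒜 p.toIdeal p.isHomogeneous
  haveI : SetLike.GradedSMul 𝒜 (GrLC.quotGr 𝒜 p) :=
    Groth.Agent.Lib.helper19.GrMod.quot_gradedSMul 𝒜 𝒜 p.toIdeal
  have h1 := Groth.Agent.S13216.result R 𝒜 (R ⧸ p.toIdeal) (GrLC.quotGr 𝒜 p) X 𝒳 hX (n + 1)
    (by omega)
  rw [ext_iff p.toIdeal.primeCompl (Localization.AtPrime p.toIdeal)
    (LocalizedModule.mkLinearMap p.toIdeal.primeCompl X) (n + 1) (R ⧸ p.toIdeal)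
    (ResidueField (Localization.AtPrime p.toIdeal)) (toRes p.toIdeal)]
  exact ttors_of_subsingleton _ _

omit [IsNoetherianRing R] hp in
/-- the homogeneous components of a `p`-torsion element are `p`-torsion -/
theorem comp_torsion {y : X} (hpy : ∀ a ∈ p.toIdeal, a • y = 0) (d : ι) :
    ∀ a ∈ p.toIdeal, a • ((decompose 𝒳 y d : 𝒳 d) : X) = 0 := by
  classical
  intro a ha
  have key : ∀ i : ι, ((decompose 𝒜 a i : 𝒜 i) : R) • ((decompose 𝒳 y d : 𝒳 d) : X) = 0 := by
    intro i
    have hai : ((decompose 𝒜 a i : 𝒜 i) : R) ∈ p.toIdeal := p.isHomogeneous i ha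
    have h1 := decompose_smul_apply 𝒜 𝒳 (SetLike.coe_mem (decompose 𝒜 a i)) y (i + d)
    rw [hpy _ hai, decompose_zero, DirectSum.zero_apply, ZeroMemClass.coe_zero] at h1
    rw [h1]
    congr 1
    exact coe_decompose_congr 𝒳 y (by abel)
  rw [← DirectSum.sum_support_decompose 𝒜 a, Finset.sum_smul]
  exact Finset.sum_eq_zero (fun i _ => key i)

variable {A : Type u} [AddCommGroup A] [Module R A] (i : A →ₗ[R] X)
  (hess : ∀ Q : Submodule R X, Q.IsHomogeneous 𝒳 → Q ≠ ⊥ → Q ⊓ LinearMap.range i ≠ ⊥)

omit [IsNoetherianRing R] in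
include hess in
theorem exists_smul_mem_of_homogeneous {d : ι} {z : X} (hz : z ∈ 𝒳 d)
    (hpz : ∀ a ∈ p.toIdeal, a • z = 0) : ∃ r : R, r ∉ p.toIdeal ∧ r • z ∈ LinearMap.range i := by
  by_cases hz0 : z = 0
  · refine ⟨1, fun h => hp.ne_top ((Ideal.eq_top_iff_one _).2 h), ?_⟩
    rw [hz0, smul_zero]
    exact zero_mem _
  have hQh : (Submodule.span R {z}).IsHomogeneous 𝒳 := span_singleton_isHomogeneous 𝒜 𝒳 hz
  have hQne : Submodule.span R {z} ≠ ⊥ := by
    rw [Ne, Submodule.span_singleton_eq_bot]; exact hz0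
  obtain ⟨w, hw, hw0⟩ := (Submodule.ne_bot_iff _).1 (hess _ hQh hQne)
  obtain ⟨hw1, hw2⟩ := hw
  obtain ⟨r, rfl⟩ := Submodule.mem_span_singleton.1 hw1
  exact ⟨r, fun h => hw0 (hpz r h), hw2⟩

omit [IsNoetherianRing R] in
include hess in
theorem exists_smul_mem_of_torsion {y : X} (hpy : ∀ a ∈ p.toIdeal, a • y = 0) :
    ∃ r : R, r ∉ p.toIdeal ∧ r • y ∈ LinearMap.range i := by
  classical
  let Good2 : X → Prop := fun y => ∃ r : R, r ∉ p.toIdeal ∧ r • y ∈ LinearMap.range i
  have hadd : ∀ y₁ y₂, Good2 y₁ → Good2 y₂ → Good2 (y₁ + y₂) := by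
    rintro y₁ y₂ ⟨r₁, hr₁, h₁⟩ ⟨r₂, hr₂, h₂⟩
    refine ⟨r₁ * r₂, fun h => ?_, ?_⟩
    · rcases hp.mem_or_mem h with h | h
      · exact hr₁ h
      · exact hr₂ h
    · rw [smul_add]
      apply add_mem
      · rw [mul_comm, mul_smul]
        exact Submodule.smul_mem _ _ h₁
      · rw [mul_smul]
        exact Submodule.smul_mem _ _ h₂
  have hzero : Good2 0 :=
    ⟨1, fun h => hp.ne_top ((Ideal.eq_top_iff_one _).2 h), by rw [smul_zero]; exact zero_mem _⟩
  show Good2 y
  rw [← DirectSum.sum_support_decompose 𝒳 y]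
  apply Finset.sum_induction _ Good2 hadd hzero
  intro d _
  exact exists_smul_mem_of_homogeneous 𝒜 𝒳 p i hess (SetLike.coe_mem _) (comp_torsion 𝒜 𝒳 p hpy d)

include hess in
/-- the socle of `X_p` lies in the localization of a *essential submodule -/
theorem soc_le_range_map :
    soc (S := Localization.AtPrime p.toIdeal) (LocalizedModule p.toIdeal.primeCompl X) ≤
      LinearMap.range (LocalizedModule.map p.toIdeal.primeCompl i) := by
  classical
  intro x hx
  induction x using LocalizedModule.induction_on with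
  | h y s =>
    obtain ⟨G, hG⟩ := (IsNoetherian.noetherian p.toIdeal : p.toIdeal.FG)
    have h1 : ∀ b ∈ G, ∃ t : p.toIdeal.primeCompl, (t : R) • b • y = 0 := by
      intro b hb
      have hbp : b ∈ p.toIdeal := by rw [← hG]; exact Ideal.subset_span hb
      have h2 := hx (algebraMap R (Localization.AtPrime p.toIdeal) b)
        ((IsLocalization.AtPrime.to_map_mem_maximal_iff _ p.toIdeal b).2 hbp)
      rw [algebraMap_smul, LocalizedModule.smul'_mk, mk_eq_zero_iff] at h2
      exact h2
    choose! t ht using h1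
    let t0 : p.toIdeal.primeCompl := ∏ b ∈ G, t b
    have hkill : ∀ a ∈ p.toIdeal, a • ((t0 : R) • y) = 0 := by
      intro a ha
      let Ann : Ideal R := LinearMap.ker (LinearMap.toSpanSingleton R X ((t0 : R) • y))
      have hle : p.toIdeal ≤ Ann := by
        rw [← hG, Ideal.span_le]
        intro b hb
        show LinearMap.toSpanSingleton R X ((t0 : R) • y) b = 0
        rw [LinearMap.toSpanSingleton_apply]
        have h3 : (t0 : R) = (∏ b' ∈ G.erase b, (t b' : R)) * (t b : R) := by
          show ((∏ b ∈ G, t b : p.toIdeal.primeCompl) : R) = _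
          rw [Submonoid.coe_finsetProd, Finset.prod_erase_mul G _ hb]
        rw [h3, smul_comm, mul_smul, ht b hb, smul_zero]
      have := hle ha
      rw [LinearMap.mem_ker, LinearMap.toSpanSingleton_apply] at this
      exact this
    obtain ⟨r, hr, m, hm⟩ := exists_smul_mem_of_torsion 𝒜 𝒳 p i hess hkill
    let q : p.toIdeal.primeCompl := ⟨r, hr⟩ * t0 * s
    refine ⟨LocalizedModule.mk m q, ?_⟩
    rw [LocalizedModule.map_mk, hm, LocalizedModule.mk_eq]
    refine ⟨1, ?_⟩
    rw [one_smul, one_smul]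
    show (s : R) • r • (t0 : R) • y = ((r * (t0 : R) * (s : R)) : R) • y
    rw [smul_smul, smul_smul]
    congr 1
    ring

variable {C : Type u} [AddCommGroup C] [Module R C] (q : X →ₗ[R] C)

include hess in
/-- **Bass numbers shift along a *essential embedding into a *injective module** -/
theorem length_ext_shift [Module.Free ℤ ι] [Module.Finite ℤ ι] (hX : IsStarInj 𝒜 𝒳)
    (hi : Function.Injective i) (hq : Function.Surjective q) (hex : Function.Exact i q) (n : ℕ) :
    Module.length (Localization.AtPrime p.toIdeal) (Abelian.Ext.{u}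
      (ModuleCat.of (Localization.AtPrime p.toIdeal) (ResidueField (Localization.AtPrime p.toIdeal)))
      (ModuleCat.of (Localization.AtPrime p.toIdeal) (LocalizedModule p.toIdeal.primeCompl C)) n) =
    Module.length (Localization.AtPrime p.toIdeal) (Abelian.Ext.{u}
      (ModuleCat.of (Localization.AtPrime p.toIdeal) (ResidueField (Localization.AtPrime p.toIdeal)))
      (ModuleCat.of (Localization.AtPrime p.toIdeal) (LocalizedModule p.toIdeal.primeCompl A))
      (n + 1)) := by
  have hi' := LocalizedModule.map_injective p.toIdeal.primeCompl i hi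
  have hq' := LocalizedModule.map_surjective p.toIdeal.primeCompl q hq
  have hex' := LocalizedModule.map_exact p.toIdeal.primeCompl i q hex
  have hsoc : ∀ φ : ResidueField (Localization.AtPrime p.toIdeal) →ₗ[Localization.AtPrime p.toIdeal]
      LocalizedModule p.toIdeal.primeCompl X,
      ∃ φ' : ResidueField (Localization.AtPrime p.toIdeal) →ₗ[Localization.AtPrime p.toIdeal]
        LocalizedModule p.toIdeal.primeCompl A,
        (LocalizedModule.map p.toIdeal.primeCompl i) ∘ₗ φ' = φ := by
    intro φ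
    have h1 : φ 1 ∈ soc (S := Localization.AtPrime p.toIdeal)
        (LocalizedModule p.toIdeal.primeCompl X) :=
      Groth.Agent.Lib.helper19.HullTools.smul_apply_one φ
    obtain ⟨a, ha⟩ := soc_le_range_map 𝒜 𝒳 p i hess h1
    have ha' : ∀ c ∈ maximalIdeal (Localization.AtPrime p.toIdeal), c • a = 0 := by
      intro c hc
      apply hi'
      rw [map_smul, ha, map_zero]
      exact h1 c hc
    refine ⟨Groth.Agent.Lib.helper19.HullTools.ofSocle a ha',
      Groth.Agent.Lib.helper19.HullTools.ext_one ?_⟩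
    rw [LinearMap.comp_apply, Groth.Agent.Lib.helper19.HullTools.ofSocle_one, ha]
  exact (Groth.Agent.Lib.helper19.BassShift.covShift
    (ResidueField (Localization.AtPrime p.toIdeal))
    (LocalizedModule.map p.toIdeal.primeCompl i) (LocalizedModule.map p.toIdeal.primeCompl q)
    hi' hq' hex' (fun n => ext_residue_subsingleton 𝒜 𝒳 p hX n) hsoc n).length_eq

end Graded
end Groth.Agent.Lib.helper19.BassShift
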