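import Mathlib
import Groth.Agent.Lib.Helper19.BassFlat3
import Groth.Agent.Lib.Helper19.BassShift2
import Groth.Agent.Lib.Helper26.GlobalDim
set_option autoImplicit false
universe u
/-!
# Bass numbers and injective dimension (helper19)

* `nonempty_ext_localization R p M j : R_p ⊗ Ext^j_R(R ⧸ p, M) ≅ Ext^j_{R_p}(κ(p), M_p)` (`M` arbitrary).
* `exists_smul_eq_zero_of_bassNum_eq_zero`.
* `ext_quot_top_subsingleton`, `ext_middle_subsingleton`, `eq_zero_of_smul_eq_zero`.
* `ext_quotient_subsingleton_of_bassNum`: if `μ^j(p, M) = 0` for all primes `p` and `j ≥ i₀` then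
  `Ext^j(R ⧸ I, M) = 0` for all ideals `I`, `j ≥ i₀` (`R` Noetherian, `M` ARBITRARY; Noetherian induction).
* `hasInjectiveDimensionLT_of_bassNum`.
* `subsingleton_hom_residueField_iff`, `bassNum_zero_eq_zero_iff` (`μ^0(p, M) = 0 ↔ p ∉ Ass M`),
  `bassNum_eq_zero_of_injective`.
* `ringKrullDim_laurent_le_one`, `height_quot_core_int_le_one` (`ht(p/p*) ≤ 1` for `ℤ`-gradings).
* `bassNum_core_succ_eq_zero`, `bassNum_succ_eq_zero_of_isHomogeneous`,
  `bassNum_eq_zero_of_isStarInj_int` (`μ^j(p, M) = 0`, `j ≥ 2`, `M` *injective, `ℤ`-graded).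
-/

namespace Groth.Agent.Lib.helper19.BassInj
open TensorProduct IsLocalRing LocCoh DirectSum Polynomial GrLC CategoryTheory
open Groth.Agent.Lib.helper26.Depth Groth.Agent.Lib.Helper24.FlatDepth
open Groth.Agent.Lib.helper19.GrTwist Groth.Agent.Lib.helper19.GrDepth
open Groth.Agent.Lib.helper19.BassFlat Groth.Agent.Lib.helper19.BassFlat3
open Groth.Agent.Lib.helper19.ExtBC Groth.Agent.Lib.helper19.ExtLoc

section A1
variable (R : Type u) [CommRing R] [IsNoetherianRing R] (p : Ideal R) [p.IsPrime]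
  (M : Type u) [AddCommGroup M] [Module R M]

/-- localization of `Ext^j_R(R ⧸ p, M)` at `p` -/
theorem nonempty_ext_localization (j : ℕ) :
    Nonempty (Localization.AtPrime p ⊗[R]
        (Abelian.Ext.{u} (ModuleCat.of R (R ⧸ p)) (ModuleCat.of R M) j) ≃ₗ[Localization.AtPrime p]
      Abelian.Ext.{u}
        (ModuleCat.of (Localization.AtPrime p) (ResidueField (Localization.AtPrime p)))
        (ModuleCat.of (Localization.AtPrime p) (LocalizedModule p.primeCompl M)) j) := by
  obtain ⟨e1⟩ := nonempty_extBaseChange R (Localization.AtPrime p) (ModuleCat.of R (R ⧸ p))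
    (ModuleCat.of R M) j
  have hmax : p.map (algebraMap R (Localization.AtPrime p)) =
      maximalIdeal (Localization.AtPrime p) := Localization.AtPrime.map_eq_maximalIdeal
  let eM : Localization.AtPrime p ⊗[R] (R ⧸ p) ≃ₗ[Localization.AtPrime p]
      ResidueField (Localization.AtPrime p) :=
    (tensorQuot R (Localization.AtPrime p) p).trans (Submodule.quotEquivOfEq _ _ hmax)
  let isoM : (ModuleCat.extendScalars.{u, u, u} (algebraMap R (Localization.AtPrime p))).obj
      (ModuleCat.of R (R ⧸ p)) ≅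
      ModuleCat.of (Localization.AtPrime p) (ResidueField (Localization.AtPrime p)) :=
    ((extendScalarsEquiv R (Localization.AtPrime p) (ModuleCat.of R (R ⧸ p))).trans eM).toModuleIso
  let eN : Localization.AtPrime p ⊗[R] M ≃ₗ[Localization.AtPrime p]
      LocalizedModule p.primeCompl M :=
    (IsLocalizedModule.isBaseChange p.primeCompl (Localization.AtPrime p)
      (LocalizedModule.mkLinearMap p.primeCompl M)).equiv
  let isoN : (ModuleCat.extendScalars.{u, u, u} (algebraMap R (Localization.AtPrime p))).obj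
      (ModuleCat.of R M) ≅
      ModuleCat.of (Localization.AtPrime p) (LocalizedModule p.primeCompl M) :=
    ((extendScalarsEquiv R (Localization.AtPrime p) (ModuleCat.of R M)).trans eN).toModuleIso
  let e2 := Groth.Agent.Lib.helper21.ExtCongr.left (R := Localization.AtPrime p) isoM
    ((ModuleCat.extendScalars.{u, u, u} (algebraMap R (Localization.AtPrime p))).obj
      (ModuleCat.of R M)) j
  let e3 := Groth.Agent.Lib.helper21.ExtCongr.right (R := Localization.AtPrime p)
    (ModuleCat.of (Localization.AtPrime p) (ResidueField (Localization.AtPrime p))) isoN j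
  exact ⟨e1.trans (e2.trans e3)⟩

/-- if `μ^j(p, M) = 0` then every element of `Ext^j_R(R ⧸ p, M)` is killed by some `s ∉ p` -/
theorem exists_smul_eq_zero_of_bassNum_eq_zero (j : ℕ) (h : bassNum p M j = 0)
    (e : Abelian.Ext.{u} (ModuleCat.of R (R ⧸ p)) (ModuleCat.of R M) j) :
    ∃ s : R, s ∉ p ∧ s • e = 0 := by
  obtain ⟨ε⟩ := nonempty_ext_localization R p M j
  have hsub : Subsingleton (Abelian.Ext.{u}
      (ModuleCat.of (Localization.AtPrime p) (ResidueField (Localization.AtPrime p)))
      (ModuleCat.of (Localization.AtPrime p) (LocalizedModule p.primeCompl M)) j) :=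
    Module.length_eq_zero_iff.1 h
  have hsub2 : Subsingleton (Localization.AtPrime p ⊗[R]
      (Abelian.Ext.{u} (ModuleCat.of R (R ⧸ p)) (ModuleCat.of R M) j)) :=
    ε.injective.subsingleton
  have h0 : TensorProduct.mk R (Localization.AtPrime p)
      (Abelian.Ext.{u} (ModuleCat.of R (R ⧸ p)) (ModuleCat.of R M) j) 1 e = 0 :=
    Subsingleton.elim _ _
  obtain ⟨s, hs⟩ := (IsLocalizedModule.eq_zero_iff p.primeCompl
    (TensorProduct.mk R (Localization.AtPrime p)
      (Abelian.Ext.{u} (ModuleCat.of R (R ⧸ p)) (ModuleCat.of R M) j) 1)).1 h0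
  exact ⟨s.1, s.2, hs⟩

end A1

section A2
variable {R : Type u} [CommRing R] (M : ModuleCat.{u} R)

/-- `Ext` out of `R ⧸ ⊤` vanishes -/
theorem ext_quot_top_subsingleton (j : ℕ) :
    Subsingleton (Abelian.Ext.{u} (ModuleCat.of R (R ⧸ (⊤ : Ideal R))) M j) := by
  refine ⟨fun a b => ?_⟩
  have h : ∀ x : Abelian.Ext.{u} (ModuleCat.of R (R ⧸ (⊤ : Ideal R))) M j, x = 0 := by
    intro x
    have h1 : (1 : R) • x = 0 := by
      apply Groth.Agent.Lib.helper26.Depth.smul_ext_eq_zero_of_mem_annihilator_left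
      show (1 : R) ∈ Module.annihilator R (R ⧸ (⊤ : Ideal R))
      rw [Ideal.annihilator_quotient]
      trivial
    rwa [one_smul] at h1
  rw [h a, h b]

/-- middle vanishing in the contravariant long exact sequence -/
theorem ext_middle_subsingleton {F₁ F₂ F₃ : Type u} [AddCommGroup F₁] [Module R F₁]
    [AddCommGroup F₂] [Module R F₂] [AddCommGroup F₃] [Module R F₃]
    (f : F₁ →ₗ[R] F₂) (g : F₂ →ₗ[R] F₃) (hf : Function.Injective f) (hg : Function.Surjective g)
    (hex : Function.Exact f g) (j : ℕ)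
    (h1 : Subsingleton (Abelian.Ext.{u} (ModuleCat.of R F₁) M j))
    (h3 : Subsingleton (Abelian.Ext.{u} (ModuleCat.of R F₃) M j)) :
    Subsingleton (Abelian.Ext.{u} (ModuleCat.of R F₂) M j) := by
  have key : ∀ x : Abelian.Ext.{u} (ModuleCat.of R F₂) M j, x = 0 := by
    intro x
    obtain ⟨x₁, hx₁⟩ := Abelian.Ext.contravariant_sequence_exact₂ (sc_shortExact f g hf hg hex) M x
      (Subsingleton.elim _ _)
    rw [← hx₁, Subsingleton.elim x₁ 0, Abelian.Ext.comp_zero]
  exact ⟨fun a b => by rw [key a, key b]⟩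

/-- if `Ext^j(R ⧸ (I + (s)), M) = 0` then `s` is injective on `Ext^j(R ⧸ I, M)` (for `s` regular
on `R ⧸ I`) -/
theorem eq_zero_of_smul_eq_zero (I : Ideal R) (s : R) (hs : IsSMulRegular (R ⧸ I) s) (j : ℕ)
    (h3 : Subsingleton (Abelian.Ext.{u} (ModuleCat.of R (R ⧸ (I ⊔ Ideal.span {s}))) M j))
    (x : Abelian.Ext.{u} (ModuleCat.of R (R ⧸ I)) M j) (hx : s • x = 0) : x = 0 := by
  rw [← mk₀_lsmul_comp] at hx
  obtain ⟨x₁, hx₁⟩ := Abelian.Ext.contravariant_sequence_exact₂
    (sc_shortExact (LinearMap.lsmul R (R ⧸ I) s) (factorSup I s) hs (factorSup_surjective I s)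
      (factorSup_exact I s)) M x hx
  rw [← hx₁, Subsingleton.elim x₁ 0, Abelian.Ext.comp_zero]

end A2

section A3
variable (R : Type u) [CommRing R] [IsNoetherianRing R] (M : Type u) [AddCommGroup M] [Module R M]

/-- **vanishing of Bass numbers gives vanishing of `Ext` on cyclic modules**: if `μ^j(p, M) = 0` for all
primes `p` and all `j ≥ i₀` then `Ext^j(R ⧸ I, M) = 0` for all ideals `I` and all `j ≥ i₀`
(`M` arbitrary) -/
theorem ext_quotient_subsingleton_of_bassNum (i₀ : ℕ)
    (h : ∀ (p : Ideal R) [p.IsPrime] (j : ℕ), i₀ ≤ j → bassNum p M j = 0) (I : Ideal R) :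
    ∀ (j : ℕ), i₀ ≤ j →
      Subsingleton (Abelian.Ext.{u} (ModuleCat.of R (R ⧸ I)) (ModuleCat.of R M) j) := by
  refine IsNoetherian.induction (P := fun I : Ideal R => ∀ (j : ℕ), i₀ ≤ j →
      Subsingleton (Abelian.Ext.{u} (ModuleCat.of R (R ⧸ I)) (ModuleCat.of R M) j)) ?_ I
  intro (I : Ideal R) (ih : ∀ J : Ideal R, J > I → ∀ (j : ℕ), i₀ ≤ j →
      Subsingleton (Abelian.Ext.{u} (ModuleCat.of R (R ⧸ J)) (ModuleCat.of R M) j))
  intro j hj
  by_cases htop : I = ⊤
  · subst htop
    exact ext_quot_top_subsingleton _ j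
  by_cases hprime : I.IsPrime
  · haveI := hprime
    have key : ∀ x : Abelian.Ext.{u} (ModuleCat.of R (R ⧸ I)) (ModuleCat.of R M) j, x = 0 := by
      intro x
      obtain ⟨s, hs, hsx⟩ := exists_smul_eq_zero_of_bassNum_eq_zero R I M j (h I j hj) x
      have hlt : I < I ⊔ Ideal.span {s} := by
        refine lt_of_le_of_ne le_sup_left ?_
        intro heq
        apply hs
        rw [heq]
        exact Ideal.mem_sup_right (Ideal.mem_span_singleton_self s)
      have hs0 : Ideal.Quotient.mk I s ≠ 0 := by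
        rwa [Ne, Ideal.Quotient.eq_zero_iff_mem]
      have hreg : IsSMulRegular (R ⧸ I) s := by
        intro a b hab
        have hab' : Ideal.Quotient.mk I s * a = Ideal.Quotient.mk I s * b := by
          have h1 : ∀ z : R ⧸ I, s • z = Ideal.Quotient.mk I s * z := fun z => by
            rw [Algebra.smul_def, Ideal.Quotient.algebraMap_eq]
          rw [← h1, ← h1]
          exact hab
        exact mul_left_cancel₀ hs0 hab'
      exact eq_zero_of_smul_eq_zero _ I s hreg j (ih _ hlt j hj) x hsx
    exact ⟨fun a b => by rw [key a, key b]⟩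
  · obtain ⟨a, ha, b, hb, hab⟩ := (Ideal.not_isPrime_iff.1 hprime).resolve_left htop
    let φ : R →ₗ[R] R ⧸ I := (LinearMap.lsmul R (R ⧸ I) a) ∘ₗ (Submodule.mkQ I)
    have hφ : ∀ r : R, φ r = Ideal.Quotient.mk I (a * r) := by
      intro r
      show a • Ideal.Quotient.mk I r = _
      rw [Algebra.smul_def, Ideal.Quotient.algebraMap_eq, ← map_mul]
    let J : Ideal R := LinearMap.ker φ
    have hIJ : I < J := by
      refine lt_of_le_of_ne ?_ ?_
      · intro r hr
        show φ r = 0
        rw [hφ, Ideal.Quotient.eq_zero_iff_mem]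
        exact I.mul_mem_left a hr
      · intro heq
        apply hb
        rw [heq]
        show φ b = 0
        rw [hφ, Ideal.Quotient.eq_zero_iff_mem]
        exact hab
    let f : (R ⧸ J) →ₗ[R] (R ⧸ I) := Submodule.liftQ J φ le_rfl
    have hf : Function.Injective f := by
      rw [← LinearMap.ker_eq_bot]
      exact Submodule.ker_liftQ_eq_bot _ _ _ le_rfl
    have hfmk : ∀ r : R, f (Ideal.Quotient.mk J r) = Ideal.Quotient.mk I (a * r) := fun r => hφ r
    have hex : Function.Exact f (factorSup I a) := by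
      intro y
      rw [factorSup_exact I a y]
      constructor
      · rintro ⟨z, rfl⟩
        obtain ⟨r, rfl⟩ := Ideal.Quotient.mk_surjective z
        refine ⟨Ideal.Quotient.mk J r, ?_⟩
        rw [hfmk]
        show _ = a • Ideal.Quotient.mk I r
        rw [Algebra.smul_def, Ideal.Quotient.algebraMap_eq, ← map_mul]
      · rintro ⟨z, rfl⟩
        obtain ⟨r, rfl⟩ := Ideal.Quotient.mk_surjective z
        refine ⟨Ideal.Quotient.mk I r, ?_⟩
        rw [hfmk]
        show a • Ideal.Quotient.mk I r = _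
        rw [Algebra.smul_def, Ideal.Quotient.algebraMap_eq, ← map_mul]
    have hlt2 : I < I ⊔ Ideal.span {a} := by
      refine lt_of_le_of_ne le_sup_left ?_
      intro heq
      apply ha
      rw [heq]
      exact Ideal.mem_sup_right (Ideal.mem_span_singleton_self a)
    exact ext_middle_subsingleton _ f (factorSup I a) hf (factorSup_surjective I a) hex j
      (ih J hIJ j hj) (ih _ hlt2 j hj)

/-- if `μ^j(p, M) = 0` for all primes `p` and all `j > n` then `M` has injective dimension `≤ n` -/
theorem hasInjectiveDimensionLT_of_bassNum (n : ℕ)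
    (h : ∀ (p : Ideal R) [p.IsPrime] (j : ℕ), n + 1 ≤ j → bassNum p M j = 0) :
    HasInjectiveDimensionLT (ModuleCat.of R M) (n + 1) :=
  Groth.Agent.Lib.helper26.GlobalDim.hasInjectiveDimensionLT_of_ext_quotient n _
    (fun I => ext_quotient_subsingleton_of_bassNum R M (n + 1) h I (n + 1) le_rfl)

end A3


section C
variable (A : Type u) [CommRing A] [IsLocalRing A] [IsNoetherianRing A]
  (N : Type u) [AddCommGroup N] [Module A N]

/-- `Hom(k, N) = 0` iff the maximal ideal is not an associated prime of `N` -/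
theorem subsingleton_hom_residueField_iff :
    Subsingleton (ResidueField A →ₗ[A] N) ↔ maximalIdeal A ∉ associatedPrimes A N := by
  rw [AssociatedPrimes.mem_iff, isAssociatedPrime_iff_exists_injective_linearMap]
  constructor
  · rintro hsub ⟨_, f, hf⟩
    let f' : ResidueField A →ₗ[A] N := f
    have h0 : f' = 0 := Subsingleton.elim _ _
    have h1 : f' 1 = f' 0 := by rw [h0]; rfl
    have := hf h1
    exact one_ne_zero (α := ResidueField A) this
  · intro h
    by_contra hns
    rw [not_subsingleton_iff_nontrivial] at hns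
    obtain ⟨f, hf⟩ := exists_ne (0 : ResidueField A →ₗ[A] N)
    haveI : IsSimpleModule A (A ⧸ maximalIdeal A) := by
      rw [isSimpleModule_iff_quot_maximal]
      exact ⟨maximalIdeal A, inferInstance, ⟨LinearEquiv.refl _ _⟩⟩
    let f' : (A ⧸ maximalIdeal A) →ₗ[A] N := f
    rcases LinearMap.injective_or_eq_zero f' with h1 | h1
    · exact h ⟨inferInstance, f', h1⟩
    · exact hf h1

end C

section D
variable (R : Type u) [CommRing R] [IsNoetherianRing R] (p : Ideal R) [p.IsPrime]
  (M : Type u) [AddCommGroup M] [Module R M]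

/-- `μ^0(p, M) = 0` iff `p` is not an associated prime of `M` -/
theorem bassNum_zero_eq_zero_iff : bassNum p M 0 = 0 ↔ p ∉ associatedPrimes R M := by
  have h1 : bassNum p M 0 = 0 ↔ Subsingleton (ResidueField (Localization.AtPrime p)
      →ₗ[Localization.AtPrime p] LocalizedModule p.primeCompl M) := by
    show Module.length _ _ = 0 ↔ _
    rw [Module.length_eq_zero_iff]
    exact (ext0Equiv (LocalizedModule p.primeCompl M)
      (ResidueField (Localization.AtPrime p))).toEquiv.subsingleton_congr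
  have h2 : maximalIdeal (Localization.AtPrime p) ∈
      associatedPrimes (Localization.AtPrime p) (LocalizedModule p.primeCompl M) ↔
      p ∈ associatedPrimes R M := by
    have := Module.associatedPrimes.preimage_comap_associatedPrimes_eq_associatedPrimes_of_isLocalizedModule
      p.primeCompl (Localization.AtPrime p) (LocalizedModule.mkLinearMap p.primeCompl M)
    have hc : Ideal.comap (algebraMap R (Localization.AtPrime p))
        (maximalIdeal (Localization.AtPrime p)) = p := Localization.AtPrime.under_maximalIdeal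
    rw [← this, Set.mem_preimage, hc]
  rw [h1, subsingleton_hom_residueField_iff, h2]

/-- Bass numbers of injective modules vanish in positive degrees -/
theorem bassNum_eq_zero_of_injective [Module.Injective R M] (j : ℕ) : bassNum p M (j + 1) = 0 := by
  haveI : Module.Injective (Localization.AtPrime p) (LocalizedModule p.primeCompl M) :=
    Module.injective_of_isLocalizedModule p.primeCompl (LocalizedModule.mkLinearMap p.primeCompl M)
  haveI : Injective (ModuleCat.of (Localization.AtPrime p) (LocalizedModule p.primeCompl M)) :=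
    (Module.injective_iff_injective_object _ _).1 inferInstance
  show Module.length _ _ = 0
  rw [Module.length_eq_zero_iff]
  exact HasInjectiveDimensionLT.subsingleton _ 1 (j + 1) (by omega) _

end D


/-- Laurent polynomials over a field have dimension at most one -/
theorem ringKrullDim_laurent_le_one (K : Type u) [Field K] :
    ringKrullDim (AddMonoidAlgebra K ℤ) ≤ 1 := by
  rw [ringKrullDim_le_iff_height_le]
  intro J hJ
  have h1 : (J.under (Polynomial K)).height = J.height :=
    IsLocalization.height_under (Submonoid.powers (X : Polynomial K))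
      (A := LaurentPolynomial K) J
  have h2 : ((J.under (Polynomial K)).height : WithBot ℕ∞) ≤ ringKrullDim (Polynomial K) :=
    Ideal.height_le_ringKrullDim_of_isPrime
  have h3 : ringKrullDim (Polynomial K) ≤ 1 := by
    have : Ring.KrullDimLE 1 (Polynomial K) := inferInstance
    exact_mod_cast Ring.krullDimLE_iff.1 this
  rw [← h1]
  exact h2.trans h3

section F2
variable {R : Type u} [CommRing R] [IsNoetherianRing R] (𝒜 : ℤ → AddSubgroup R) [GradedRing 𝒜]
  (p : Ideal R) [p.IsPrime] [hq : (Ideal.homogeneousCore 𝒜 p).toIdeal.IsPrime]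

theorem height_quot_core_int_le_one :
    (p.map (Ideal.Quotient.mk (Ideal.homogeneousCore 𝒜 p).toIdeal)).height ≤ 1 := by
  classical
  haveI := twoUniqueSums (ι := ℤ)
  haveI := isNoetherianRing_addMonoidAlgebra (ι := ℤ) (R := R)
  set q := (Ideal.homogeneousCore 𝒜 p).toIdeal with hqdef
  have hqp : q ≤ p := Ideal.toIdeal_homogeneousCore_le 𝒜 p
  haveI hprime : (p.map (Ideal.Quotient.mk q)).IsPrime :=
    Ideal.map_isPrime_of_surjective Ideal.Quotient.mk_surjective (by rwa [Ideal.mk_ker])
  obtain ⟨d, hd⟩ := ENat.ne_top_iff_exists.1 (Ideal.height_ne_top_of_isPrime (I := p.map (Ideal.Quotient.mk q)))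
  haveI := isRegularLocalRing_fibLoc_bigP 𝒜 p
  have h1 := spanFinrank_fibLoc_bigP 𝒜 p d hd.symm
  have h2 := IsRegularLocalRing.spanFinrank_maximalIdeal
    (R := FibLoc R (AddMonoidAlgebra R ℤ) q (bigP 𝒜 p))
  rw [h1] at h2
  obtain ⟨q', hq', ⟨e⟩⟩ := exists_fibre_prime_equiv R (AddMonoidAlgebra R ℤ) q (bigP 𝒜 p)
  have h3 : ringKrullDim (Localization.AtPrime q') = q'.height :=
    IsLocalization.AtPrime.ringKrullDim_eq_height q' (Localization.AtPrime q')
  have h4 : (q'.height : WithBot ℕ∞) ≤ ringKrullDim (q.Fiber (AddMonoidAlgebra R ℤ)) :=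
    Ideal.height_le_ringKrullDim_of_isPrime
  have h5 : ringKrullDim (q.Fiber (AddMonoidAlgebra R ℤ)) =
      ringKrullDim (AddMonoidAlgebra q.ResidueField ℤ) :=
    ringKrullDim_eq_of_ringEquiv
      (AddMonoidAlgebra.scalarTensorEquiv R q.ResidueField (M := ℤ)).toRingEquiv
  have h6 := ringKrullDim_laurent_le_one q.ResidueField
  rw [← ringKrullDim_eq_of_ringEquiv e, h3] at h2
  have h7 : ((d : ℕ) : WithBot ℕ∞) ≤ 1 := by
    rw [h2]
    exact h4.trans (h5.le.trans h6)
  rw [← hd]
  exact_mod_cast h7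

end F2


section G
variable {ι : Type} [AddCommGroup ι] [DecidableEq ι] [Module.Free ℤ ι] [Module.Finite ℤ ι]
variable {R : Type u} [CommRing R] [IsNoetherianRing R] (𝒜 : ι → AddSubgroup R) [GradedRing 𝒜]
  {M : Type u} [AddCommGroup M] [Module R M] (ℳ : ι → AddSubgroup M)
  [DirectSum.Decomposition ℳ] [SetLike.GradedSMul 𝒜 ℳ]

/-- positive Bass numbers of a *injective module at a homogeneous prime vanish -/
theorem bassNum_homogeneous_succ_eq_zero (hM : IsStarInj 𝒜 ℳ) (q : HomogeneousIdeal 𝒜)
    [hq : q.toIdeal.IsPrime] (n : ℕ) : bassNum q.toIdeal M (n + 1) = 0 := by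
  show Module.length _ _ = 0
  rw [Module.length_eq_zero_iff]
  exact Groth.Agent.Lib.helper19.BassShift.ext_residue_subsingleton 𝒜 ℳ q hM n

theorem bassNum_succ_eq_zero_of_isHomogeneous (hM : IsStarInj 𝒜 ℳ) (p : Ideal R) [hp : p.IsPrime]
    (hph : p.IsHomogeneous 𝒜) (n : ℕ) : bassNum p M (n + 1) = 0 :=
  bassNum_homogeneous_succ_eq_zero 𝒜 ℳ hM ⟨p, hph⟩ (hq := hp) n

end G

section GZ
variable {R : Type u} [CommRing R] [IsNoetherianRing R] (𝒜 : ℤ → AddSubgroup R) [GradedRing 𝒜]
  {M : Type u} [AddCommGroup M] [Module R M] (ℳ : ℤ → AddSubgroup M)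
  [DirectSum.Decomposition ℳ] [SetLike.GradedSMul 𝒜 ℳ]

/-- `μ^j(p, M) = 0` for `j ≥ 2`, `M` *injective over a `ℤ`-graded Noetherian ring -/
theorem bassNum_eq_zero_of_isStarInj_int (hM : IsStarInj 𝒜 ℳ) (p : Ideal R) [p.IsPrime] (j : ℕ)
    (hj : 2 ≤ j) : bassNum p M j = 0 := by
  haveI hq : (Ideal.homogeneousCore 𝒜 p).toIdeal.IsPrime := homogeneousCore_isPrime 𝒜 p
  have hqp : (Ideal.homogeneousCore 𝒜 p).toIdeal ≤ p := Ideal.toIdeal_homogeneousCore_le 𝒜 p
  haveI hprime : (p.map (Ideal.Quotient.mk (Ideal.homogeneousCore 𝒜 p).toIdeal)).IsPrime :=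
    Ideal.map_isPrime_of_surjective Ideal.Quotient.mk_surjective (by rwa [Ideal.mk_ker])
  obtain ⟨d, hd⟩ := ENat.ne_top_iff_exists.1 (Ideal.height_ne_top_of_isPrime
    (I := p.map (Ideal.Quotient.mk (Ideal.homogeneousCore 𝒜 p).toIdeal)))
  have hd1 : d ≤ 1 := by
    have := height_quot_core_int_le_one 𝒜 p
    rw [← hd] at this
    exact_mod_cast this
  obtain ⟨-, h2⟩ := bassNum_eq_bassNum_core_shift 𝒜 ℳ p d hd.symm
  obtain ⟨j', rfl⟩ : ∃ j', j = d + (j' + 1) := ⟨j - d - 1, by omega⟩
  rw [h2]
  exact bassNum_homogeneous_succ_eq_zero 𝒜 ℳ hM (Ideal.homogeneousCore 𝒜 p) j'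

end GZ

end Groth.Agent.Lib.helper19.BassInj
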