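import Mathlib
universe u

/-! Flat base change commutes with the homology of a three-term complex of modules,
in the concrete "cocycles in an ambient module modulo coboundaries" form.

We use an opaque synonym `BC R R' M` for `R' ⊗[R] M`: instance search for quotients of
submodules of `R' ⊗[R] M` by `R'`-submodules is extremely slow / fails, and the synonym avoids this. -/

namespace Groth.Agent.Lib.helper19.FlatHom
open scoped TensorProduct

section Syn
variable (R : Type u) [CommRing R] (R' : Type u) [CommRing R'] [Algebra R R']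
variable (M : Type u) [AddCommGroup M] [Module R M]

/-- opaque synonym for the base change `R' ⊗[R] M` -/
def BC : Type u := R' ⊗[R] M

noncomputable instance : AddCommGroup (BC R R' M) := inferInstanceAs (AddCommGroup (R' ⊗[R] M))
noncomputable instance : Module R' (BC R R' M) := inferInstanceAs (Module R' (R' ⊗[R] M))

/-- the identification with the tensor product -/
noncomputable def bcEquiv : (R' ⊗[R] M) ≃ₗ[R'] BC R R' M := LinearEquiv.refl R' (R' ⊗[R] M)

end Syn

section Basic
variable {R : Type u} [CommRing R] (R' : Type u) [CommRing R'] [Algebra R R']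
variable {A B C : Type u} [AddCommGroup A] [Module R A] [AddCommGroup B] [Module R B]
  [AddCommGroup C] [Module R C]

/-- base change of a linear map, on the synonyms -/
noncomputable def bcMap (f : A →ₗ[R] B) : BC R R' A →ₗ[R'] BC R R' B := f.baseChange R'

lemma bcMap_comp (f : A →ₗ[R] B) (g : B →ₗ[R] C) :
    bcMap R' (g ∘ₗ f) = bcMap R' g ∘ₗ bcMap R' f :=
  LinearMap.baseChange_comp (A := R') f g

lemma bcMap_comp_apply (f : A →ₗ[R] B) (g : B →ₗ[R] C) (x : BC R R' A) :
    bcMap R' (g ∘ₗ f) x = bcMap R' g (bcMap R' f x) := by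
  rw [bcMap_comp]; rfl

lemma bcMap_zero : bcMap R' (0 : A →ₗ[R] B) = 0 :=
  LinearMap.baseChange_zero (A := R')

lemma bcMap_surjective {f : A →ₗ[R] B} (h : Function.Surjective f) :
    Function.Surjective (bcMap R' f) :=
  LinearMap.lTensor_surjective R' h

variable [Module.Flat R R']

lemma bcMap_exact {f : A →ₗ[R] B} {g : B →ₗ[R] C} (h : Function.Exact f g) :
    Function.Exact (bcMap R' f) (bcMap R' g) :=
  Module.Flat.lTensor_exact R' h

lemma bcMap_injective {f : A →ₗ[R] B} (h : Function.Injective f) :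
    Function.Injective (bcMap R' f) :=
  Module.Flat.lTensor_preserves_injective_linearMap (M := R') f h

end Basic

section Main
variable {R : Type u} [CommRing R] (R' : Type u) [CommRing R'] [Algebra R R'] [Module.Flat R R']
variable {A B Bt C : Type u} [AddCommGroup A] [Module R A] [AddCommGroup B] [Module R B]
  [AddCommGroup Bt] [Module R Bt] [AddCommGroup C] [Module R C]
variable (f : A →ₗ[R] B) (ι : B →ₗ[R] Bt) (g : Bt →ₗ[R] C)

/-- cocycles -/
abbrev P : Submodule R Bt := LinearMap.range ι ⊓ LinearMap.ker g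

/-- coboundaries inside cocycles -/
abbrev N : Submodule R (P ι g) := (LinearMap.range (ι ∘ₗ f)).comap (P ι g).subtype

/-- cocycles after base change -/
noncomputable abbrev P' : Submodule R' (BC R R' Bt) :=
  LinearMap.range (bcMap R' ι) ⊓ LinearMap.ker (bcMap R' g)

/-- coboundaries after base change -/
noncomputable abbrev N' : Submodule R' (P' R' ι g) :=
  (LinearMap.range (bcMap R' (ι ∘ₗ f))).comap (P' R' ι g).subtype

variable (hgf : ∀ a, g (ι (f a)) = 0)

/-- the kernel of `g ∘ ι`, mapped to cocycles -/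
def kP : LinearMap.ker (g ∘ₗ ι) →ₗ[R] P ι g where
  toFun b := ⟨ι b.1, ⟨⟨b.1, rfl⟩, b.2⟩⟩
  map_add' x y := Subtype.ext (map_add ι x.1 y.1)
  map_smul' r x := Subtype.ext (map_smul ι r x.1)

lemma kP_surjective : Function.Surjective (kP ι g) := by
  rintro ⟨x, ⟨b, rfl⟩, hb⟩
  exact ⟨⟨b, hb⟩, rfl⟩

lemma subtype_comp_kP : (P ι g).subtype ∘ₗ kP ι g = ι ∘ₗ (LinearMap.ker (g ∘ₗ ι)).subtype := rfl

include hgf in
/-- `f` corestricted to cocycles -/
def fP : A →ₗ[R] P ι g where
  toFun a := ⟨ι (f a), ⟨⟨f a, rfl⟩, hgf a⟩⟩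
  map_add' x y := Subtype.ext (by simp)
  map_smul' r x := Subtype.ext (by simp)

lemma subtype_comp_fP : (P ι g).subtype ∘ₗ fP f ι g hgf = ι ∘ₗ f := rfl

lemma range_fP : LinearMap.range (fP f ι g hgf) = N f ι g := by
  ext x
  constructor
  · rintro ⟨a, rfl⟩
    exact ⟨a, rfl⟩
  · rintro ⟨a, ha⟩
    exact ⟨a, Subtype.ext ha⟩

omit [Module.Flat R R'] in
lemma θ₀_mem (x : BC R R' (P ι g)) : bcMap R' (P ι g).subtype x ∈ P' R' ι g := by
  refine Submodule.mem_inf.2 ⟨?_, ?_⟩
  · obtain ⟨z, rfl⟩ := bcMap_surjective R' (kP_surjective ι g) x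
    rw [← bcMap_comp_apply, subtype_comp_kP, bcMap_comp_apply]
    exact ⟨_, rfl⟩
  · rw [LinearMap.mem_ker, ← bcMap_comp_apply]
    have h0 : g ∘ₗ (P ι g).subtype = 0 := by
      apply LinearMap.ext
      intro p
      exact p.2.2
    rw [h0, bcMap_zero, LinearMap.zero_apply]

/-- base change of cocycles maps to cocycles of the base change -/
noncomputable def θ : BC R R' (P ι g) →ₗ[R'] P' R' ι g :=
  (bcMap R' (P ι g).subtype).codRestrict (P' R' ι g) (θ₀_mem R' ι g)

omit [Module.Flat R R'] in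
lemma θ_coe (x : BC R R' (P ι g)) : ((θ R' ι g x : P' R' ι g) : BC R R' Bt) =
    bcMap R' (P ι g).subtype x := rfl

lemma θ_injective : Function.Injective (θ R' ι g) := by
  intro x y hxy
  apply bcMap_injective R' (Submodule.injective_subtype (P ι g))
  exact congrArg Subtype.val hxy

lemma θ_surjective : Function.Surjective (θ R' ι g) := by
  rintro ⟨x, hx⟩
  obtain ⟨⟨y, rfl⟩, hy⟩ := Submodule.mem_inf.1 hx
  rw [LinearMap.mem_ker, ← bcMap_comp_apply] at hy
  have hex := bcMap_exact R' (LinearMap.exact_subtype_ker_map (g ∘ₗ ι))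
  obtain ⟨z, rfl⟩ := (hex y).1 hy
  refine ⟨bcMap R' (kP ι g) z, Subtype.ext ?_⟩
  rw [θ_coe, ← bcMap_comp_apply, subtype_comp_kP, bcMap_comp_apply]

/-- the comparison map to the homology of the base change -/
noncomputable def Φ : BC R R' (P ι g) →ₗ[R'] (P' R' ι g ⧸ N' R' f ι g) :=
  (N' R' f ι g).mkQ ∘ₗ θ R' ι g

lemma Φ_surjective : Function.Surjective (Φ R' f ι g) := by
  unfold Φ
  rw [LinearMap.coe_comp]
  exact (Submodule.mkQ_surjective _).comp (θ_surjective R' ι g)

lemma ker_Φ : LinearMap.ker (Φ R' f ι g) = LinearMap.range (bcMap R' (fP f ι g hgf)) := by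
  ext x
  unfold Φ
  rw [LinearMap.mem_ker, LinearMap.comp_apply, Submodule.mkQ_apply, Submodule.Quotient.mk_eq_zero,
    Submodule.mem_comap, Submodule.subtype_apply, θ_coe, ← subtype_comp_fP f ι g hgf]
  constructor
  · rintro ⟨a, ha⟩
    rw [bcMap_comp_apply] at ha
    exact ⟨a, bcMap_injective R' (Submodule.injective_subtype (P ι g)) ha⟩
  · rintro ⟨a, rfl⟩
    exact ⟨a, bcMap_comp_apply R' _ _ a⟩

lemma ker_mkQ' : LinearMap.ker (bcMap R' (N f ι g).mkQ) =
    LinearMap.range (bcMap R' (fP f ι g hgf)) := by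
  have hex : Function.Exact (fP f ι g hgf) (N f ι g).mkQ := by
    rw [LinearMap.exact_iff, Submodule.ker_mkQ, range_fP]
  exact (LinearMap.exact_iff.1 (bcMap_exact R' hex))

include hgf in
/-- flat base change commutes with homology -/
theorem nonempty_equiv :
    Nonempty (BC R R' (P ι g ⧸ N f ι g) ≃ₗ[R'] (P' R' ι g ⧸ N' R' f ι g)) := by
  have hπ : Function.Surjective (bcMap R' (N f ι g).mkQ) :=
    bcMap_surjective R' (Submodule.mkQ_surjective _)
  have hk : LinearMap.ker (bcMap R' (N f ι g).mkQ) = LinearMap.ker (Φ R' f ι g) := by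
    rw [ker_mkQ' R' f ι g hgf, ker_Φ R' f ι g hgf]
  exact ⟨((bcMap R' (N f ι g).mkQ).quotKerEquivOfSurjective hπ).symm ≪≫ₗ
    Submodule.quotEquivOfEq _ _ hk ≪≫ₗ
    (Φ R' f ι g).quotKerEquivOfSurjective (Φ_surjective R' f ι g)⟩

include hgf in
/-- the same, with the submodules given up to propositional equality -/
theorem nonempty_equiv' (Pm : Submodule R Bt) (hP : Pm = P ι g) (Nm : Submodule R Pm)
    (hN : ∀ x : Pm, x ∈ Nm ↔ x.1 ∈ LinearMap.range (ι ∘ₗ f))
    (Pm' : Submodule R' (BC R R' Bt)) (hP' : Pm' = P' R' ι g) (Nm' : Submodule R' Pm')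
    (hN' : ∀ x : Pm', x ∈ Nm' ↔ x.1 ∈ LinearMap.range (bcMap R' (ι ∘ₗ f))) :
    Nonempty (BC R R' (Pm ⧸ Nm) ≃ₗ[R'] (Pm' ⧸ Nm')) := by
  subst hP
  subst hP'
  have h1 : Nm = N f ι g := by
    ext x
    rw [hN x]
    exact Iff.rfl
  have h2 : Nm' = N' R' f ι g := by
    ext x
    rw [hN' x]
    exact Iff.rfl
  subst h1
  subst h2
  exact nonempty_equiv R' f ι g hgf

end Main

end Groth.Agent.Lib.helper19.FlatHom
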