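import Mathlib
import Groth.Prelude.Def_Formal2
import Groth.Agent.Lib.Helper23.Falt15
import Groth.Agent.Lib.Helper23.DimFn21
import Groth.Agent.Lib.Helper2.LCNat12
import Groth.Agent.Lib.Helper2.DepthLC
import Groth.Agent.S1711
import Groth.Agent.S1727

/-!
# helper19: the bootstrap lemma for local cohomology (Stacks 52.9), core construction

* `dimBetween_eq`, `dimBetween_eq_n`: `dim (A/p)_q` as the Krull dimension of `[p, q]`.
* `exists_J0`: the ideal `J₀` of the bootstrap lemma.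
* `dim_cond`: the depth-plus-dimension condition outside `T ∪ V(I)`.
* `HmapOfLE_bijective_of_depth`, `exists_pow_kills`, `finite_H`, `HTEquivH`.
* `concl_of_core`: the conclusions of the bootstrap lemma for `J₀`.
-/

set_option autoImplicit false
universe u
open CategoryTheory CategoryTheory.Limits DerivedCategory Pretriangulated TensorProduct IsLocalRing
  Opposite

attribute [local instance] HasDerivedCategory.standard

namespace Groth.Agent.Lib.helper19.Boot1

open Groth.Agent.Lib.helper23 Groth.Agent.Lib.helper23.FBC Groth.Agent.Lib.helper23.DimFn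
  Groth.Agent.Lib.helper23.BassD Groth.Agent.Lib.helper23.Falt

attribute [local instance 50] homModuleA

variable {A : Type u} [CommRing A] [IsNoetherianRing A]

/-- `Spec (A_q / p A_q) ≃o [p, q]` -/
noncomputable def icc_iso (p q : PrimeSpectrum A) :
    PrimeSpectrum (Localization.AtPrime q.asIdeal ⧸
      p.asIdeal.map (algebraMap A (Localization.AtPrime q.asIdeal))) ≃o Set.Icc p q := by
  let P : Ideal (Localization.AtPrime q.asIdeal) :=
    p.asIdeal.map (algebraMap A (Localization.AtPrime q.asIdeal))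
  let e1 := Ideal.primeSpectrumQuotientOrderIsoZeroLocus P
  let e2 := IsLocalization.AtPrime.primeSpectrumOrderIso (Localization.AtPrime q.asIdeal) q.asIdeal
  have key : ∀ r : PrimeSpectrum (Localization.AtPrime q.asIdeal),
      r ∈ PrimeSpectrum.zeroLocus (P : Set (Localization.AtPrime q.asIdeal)) ↔ p ≤ (e2 r).1 := by
    intro r
    rw [PrimeSpectrum.mem_zeroLocus, SetLike.coe_subset_coe]
    change P ≤ r.asIdeal ↔ p.asIdeal ≤ _
    rw [Ideal.map_le_iff_le_comap]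
    rfl
  refine
    { toFun := fun r' => ⟨(e2 (e1 r').1).1, (key _).1 (e1 r').2, (e2 (e1 r').1).2⟩
      invFun := fun x => e1.symm ⟨e2.symm ⟨x.1, x.2.2⟩, (key _).2 (by
        rw [OrderIso.apply_symm_apply]; exact x.2.1)⟩
      left_inv := ?_
      right_inv := ?_
      map_rel_iff' := ?_ }
  · intro r'
    simp
  · intro x
    simp
  · intro a b
    change (e2 (e1 a).1).1 ≤ (e2 (e1 b).1).1 ↔ a ≤ b
    rw [Subtype.coe_le_coe, e2.le_iff_le, Subtype.coe_le_coe, e1.le_iff_le]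

omit [IsNoetherianRing A] in
theorem dimBetween_eq (p q : PrimeSpectrum A) :
    Formal2.dimBetween A p.asIdeal q.asIdeal = Order.krullDim (Set.Icc p q) := by
  unfold Formal2.dimBetween ringKrullDim
  exact Order.krullDim_eq_of_orderIso (icc_iso p q)

/-- dimension function data: `dim (A/p)_q = n q - n p`. -/
theorem dimBetween_eq_n (n : PrimeSpectrum A → ℤ) (hsm : StrictMono n)
    (hn2 : ∀ p q : PrimeSpectrum A, p ⋖ q → n p = n q - 1) (p q : PrimeSpectrum A) (hpq : p ≤ q) :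
    Formal2.dimBetween A p.asIdeal q.asIdeal = (((n q - n p).toNat : ℕ∞) : WithBot ℕ∞) := by
  rw [dimBetween_eq]
  exact krullDim_Icc_eq wellFounded_gt_primeSpectrum n hsm hn2 p q hpq


omit [IsNoetherianRing A] in
/-- `T` (primes `p` with `V(p) ∩ V(I) ⊆ V(J)`) is stable under specialization. -/
theorem T_stable (I J : Ideal A) (T : Set (PrimeSpectrum A))
    (hT : ∀ p : PrimeSpectrum A, p ∈ T ↔ ∀ q : PrimeSpectrum A, p ≤ q → I ≤ q.asIdeal → J ≤ q.asIdeal)
    {p q : PrimeSpectrum A} (hpq : p ≤ q) (hp : p ∈ T) : q ∈ T :=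
  (hT q).2 fun q' hq' hI => (hT p).1 hp q' (hpq.trans hq') hI

omit [IsNoetherianRing A] in
theorem zeroLocus_J_subset_T (I J : Ideal A) (T : Set (PrimeSpectrum A))
    (hT : ∀ p : PrimeSpectrum A, p ∈ T ↔ ∀ q : PrimeSpectrum A, p ≤ q → I ≤ q.asIdeal → J ≤ q.asIdeal)
    {p : PrimeSpectrum A} (hp : J ≤ p.asIdeal) : p ∈ T :=
  (hT p).2 fun _ hq' _ => hp.trans hq'

/-- the core construction of the bootstrap lemma -/
theorem exists_J0 (hdc : ∃ ω : Dual.D A, Dual.IsDualizing A ω) (I J : Ideal A) (M : Type u)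
    [AddCommGroup M] [Module A M] [Module.Finite A M] (s d : ℕ) (T : Set (PrimeSpectrum A))
    (hT : ∀ p : PrimeSpectrum A, p ∈ T ↔ ∀ q : PrimeSpectrum A, p ≤ q → I ≤ q.asIdeal → J ≤ q.asIdeal)
    (h3 : ∀ p : PrimeSpectrum A, ¬ I ≤ p.asIdeal → p ∈ T → ∃ q : PrimeSpectrum A, p ≤ q ∧
      J ≤ q.asIdeal ∧ I ≤ q.asIdeal ∧
      Formal2.dimBetween A p.asIdeal q.asIdeal ≤ ((d : ℕ∞) : WithBot ℕ∞))
    (h4 : ∀ p : PrimeSpectrum A, ¬ I ≤ p.asIdeal → p ∉ T → ∀ q : PrimeSpectrum A, p ≤ q →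
      J ≤ q.asIdeal → I ≤ q.asIdeal →
      (s : ℕ∞) ≤ LocCoh.depth (Localization.AtPrime p.asIdeal)
        (LocalizedModule p.asIdeal.primeCompl M) ∨
      (((d + s : ℕ) : ℕ∞) : WithBot ℕ∞) <
        ((LocCoh.depth (Localization.AtPrime p.asIdeal)
          (LocalizedModule p.asIdeal.primeCompl M) : ℕ∞) : WithBot ℕ∞) +
          Formal2.dimBetween A p.asIdeal q.asIdeal) :
    ∃ J₀ : Ideal A, J₀ ≤ J ∧ PrimeSpectrum.zeroLocus (J₀ : Set A) ⊆ T ∧
      ∀ p : PrimeSpectrum A, p ∈ T → ¬ I ≤ p.asIdeal →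
        LocCoh.depth (Localization.AtPrime p.asIdeal)
          (LocalizedModule p.asIdeal.primeCompl M) ≤ (s : ℕ∞) → J₀ ≤ p.asIdeal := by
  classical
  obtain ⟨ω, hω⟩ := hdc
  obtain ⟨a, hGE, n, hn1, hn2, hsm⟩ := exists_dimFn ω hω
  haveI := hGE
  obtain ⟨a', b, hv⟩ := hω.finite_injective_dimension
  have hKa : ∀ j : ℤ, j < a → IsZero ((homologyFunctor (ModuleCat.{u} A) j).obj ω) :=
    (DerivedCategory.isGE_iff ω a).1 inferInstance
  have hfin := hω.finite_cohomology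
  haveI hMfin : Module.Finite A (ModuleCat.of A M) := inferInstanceAs (Module.Finite A M)
  have hfinE : ∀ i : ℤ, Module.Finite A (Dual.inD A M ⟶ ω⟦i⟧) := fun i =>
    FinHom.finite_hom_single_of_bddBelow (ModuleCat.of A M) ω a hKa hfin i
  have hrange : ∀ (i : ℤ) (p : PrimeSpectrum A),
      p ∈ Module.support A (Dual.inD A M ⟶ ω⟦i⟧) → i ∈ Finset.Icc a' b := by
    intro i p hp
    by_contra hi
    rw [Finset.mem_Icc, not_and_or, not_le, not_le] at hi
    haveI := hv M i hi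
    have : Module.support A (Dual.inD A M ⟶ ω⟦i⟧) = ∅ := Module.support_eq_empty
    rw [this] at hp
    exact hp
  -- the finite set of primes
  let PP : ℤ → Set (Ideal A) := fun i =>
    {r | r ∈ (Module.annihilator A (Dual.inD A M ⟶ ω⟦i⟧)).minimalPrimes ∧
      ∃ hr : r.IsPrime, (⟨r, hr⟩ : PrimeSpectrum A) ∈ T}
  have hPPfin : ∀ i, (PP i).Finite := fun i =>
    (Ideal.finite_minimalPrimes_of_isNoetherianRing A _).subset (fun r hr => hr.1)
  let Q : Ideal A := ∏ i ∈ Finset.Icc a' b, ∏ r ∈ (hPPfin i).toFinset, r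
  refine ⟨J * Q, Ideal.mul_le_left, ?_, ?_⟩
  · intro q hq
    rw [PrimeSpectrum.mem_zeroLocus, SetLike.coe_subset_coe] at hq
    rcases (Ideal.IsPrime.mul_le q.2).1 hq with h | h
    · exact zeroLocus_J_subset_T I J T hT h
    · obtain ⟨i, -, hi⟩ := (Ideal.IsPrime.prod_le q.2).1 h
      obtain ⟨r, hr, hrq⟩ := (Ideal.IsPrime.prod_le q.2).1 hi
      rw [Set.Finite.mem_toFinset] at hr
      obtain ⟨-, hrp, hrT⟩ := hr
      exact T_stable I J T hT (p := ⟨r, hrp⟩) hrq hrT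
  · intro p hpT hpI hdep
    have hpM : p ∈ Module.support A M := by
      by_contra hp
      haveI : Subsingleton (LocalizedModule p.asIdeal.primeCompl M) :=
        Module.notMem_support_iff.1 hp
      rw [depth_eq_top_of_subsingleton] at hdep
      exact absurd hdep (by simp)
    obtain ⟨δ, e, hδ, -, -, -, hmem, -⟩ := support_ext_bounds ω hω a p (n p) (hn1 p) M hpM
    rw [hδ] at hdep
    have hδs : δ ≤ s := by exact_mod_cast hdep
    set j : ℤ := n p - (δ : ℤ) with hj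
    have hjr := hrange j p hmem
    haveI := hfinE j
    have hann : Module.annihilator A (Dual.inD A M ⟶ ω⟦j⟧) ≤ p.asIdeal :=
      Module.mem_support_iff_of_finite.1 hmem
    obtain ⟨r, hrmin, hrp⟩ := Ideal.exists_minimalPrimes_le hann
    have hrprime : r.IsPrime := hrmin.1.1
    let r' : PrimeSpectrum A := ⟨r, hrprime⟩
    have hr'p : r' ≤ p := hrp
    have hr'supp : r' ∈ Module.support A (Dual.inD A M ⟶ ω⟦j⟧) :=
      Module.mem_support_iff_of_finite.2 hrmin.1.2
    -- claim: r' ∈ T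
    have hr'T : r' ∈ T := by
      by_contra hnT
      have hr'I : ¬ I ≤ r'.asIdeal := fun h => hpI (h.trans hrp)
      have hr'M : r' ∈ Module.support A M := mem_support_of_mem_support_hom ω a r' M j hr'supp
      obtain ⟨δr, er, hδr, -, -, hb, -, -⟩ :=
        support_ext_bounds ω hω a r' (n r') (hn1 r') M hr'M
      have hb2 := (hb j hr'supp).2
      obtain ⟨q, hpq, hJq, hIq, hdim⟩ := h3 p hpI hpT
      have hr'q : r' ≤ q := hr'p.trans hpq
      rw [dimBetween_eq_n n hsm hn2 p q hpq] at hdim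
      have hdim' : (n q - n p).toNat ≤ d := by exact_mod_cast hdim
      have hm1 : n r' ≤ n p := hsm.monotone hr'p
      have hm2 : n p ≤ n q := hsm.monotone hpq
      rcases h4 r' hr'I hnT q hr'q hJq hIq with h | h
      · rw [hδr] at h
        have h' : s ≤ δr := by exact_mod_cast h
        have hnn : n r' = n p := by omega
        have : r' = p := by
          rcases eq_or_lt_of_le hr'p with h1 | h1
          · exact h1
          · exact absurd (hsm h1) (by omega)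
        exact hnT (this ▸ hpT)
      · rw [hδr, dimBetween_eq_n n hsm hn2 r' q hr'q] at h
        have h' : d + s < δr + (n q - n r').toNat := by exact_mod_cast h
        omega
    have hrPP : r ∈ PP j := ⟨hrmin, hrprime, hr'T⟩
    have h1 : (∏ r ∈ (hPPfin j).toFinset, r) ≤ r :=
      Ideal.prod_le_inf.trans (Finset.inf_le ((Set.Finite.mem_toFinset _).2 hrPP))
    have h2 : Q ≤ ∏ r ∈ (hPPfin j).toFinset, r :=
      Ideal.prod_le_inf.trans (Finset.inf_le (f := fun i => ∏ r ∈ (hPPfin i).toFinset, r) hjr)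
    exact Ideal.mul_le_right.trans (h2.trans (h1.trans hrp))


/-- the depth-plus-dimension condition for primes outside `T ∪ V(I)` below a prime of `T` -/
theorem dim_cond (hdc : ∃ ω : Dual.D A, Dual.IsDualizing A ω) (I J : Ideal A) (M : Type u)
    [AddCommGroup M] [Module A M] [Module.Finite A M] (s d : ℕ) (T : Set (PrimeSpectrum A))
    (hT : ∀ p : PrimeSpectrum A, p ∈ T ↔ ∀ q : PrimeSpectrum A, p ≤ q → I ≤ q.asIdeal → J ≤ q.asIdeal)
    (h3 : ∀ p : PrimeSpectrum A, ¬ I ≤ p.asIdeal → p ∈ T → ∃ q : PrimeSpectrum A, p ≤ q ∧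
      J ≤ q.asIdeal ∧ I ≤ q.asIdeal ∧
      Formal2.dimBetween A p.asIdeal q.asIdeal ≤ ((d : ℕ∞) : WithBot ℕ∞))
    (h4 : ∀ p : PrimeSpectrum A, ¬ I ≤ p.asIdeal → p ∉ T → ∀ q : PrimeSpectrum A, p ≤ q →
      J ≤ q.asIdeal → I ≤ q.asIdeal →
      (s : ℕ∞) ≤ LocCoh.depth (Localization.AtPrime p.asIdeal)
        (LocalizedModule p.asIdeal.primeCompl M) ∨
      (((d + s : ℕ) : ℕ∞) : WithBot ℕ∞) <
        ((LocCoh.depth (Localization.AtPrime p.asIdeal)
          (LocalizedModule p.asIdeal.primeCompl M) : ℕ∞) : WithBot ℕ∞) +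
          Formal2.dimBetween A p.asIdeal q.asIdeal)
    (p q : PrimeSpectrum A) (hpI : ¬ I ≤ p.asIdeal) (hpT : p ∉ T) (hqT : q ∈ T) (hpq : p ≤ q) :
    (s : WithBot ℕ∞) < ((LocCoh.depth (Localization.AtPrime p.asIdeal)
      (LocalizedModule p.asIdeal.primeCompl M) : ℕ∞) : WithBot ℕ∞) +
        Order.krullDim (Set.Icc p q) := by
  obtain ⟨ω, hω⟩ := hdc
  obtain ⟨a, hGE, n, hn1, hn2, hsm⟩ := exists_dimFn ω hω
  rw [krullDim_Icc_eq wellFounded_gt_primeSpectrum n hsm hn2 p q hpq, ← WithBot.coe_add]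
  have hgoal : (s : ℕ∞) < LocCoh.depth (Localization.AtPrime p.asIdeal)
      (LocalizedModule p.asIdeal.primeCompl M) + ((n q - n p).toNat : ℕ∞) := by
    have hne : p ≠ q := fun h => hpT (h ▸ hqT)
    have hlt : n p < n q := hsm (lt_of_le_of_ne hpq hne)
    -- a prime `q'` above `q` in `V(J) ∩ V(I)` with `dim (q, q') ≤ d`
    obtain ⟨q', hqq', hJq', hIq', hd⟩ : ∃ q' : PrimeSpectrum A, q ≤ q' ∧ J ≤ q'.asIdeal ∧
        I ≤ q'.asIdeal ∧ (n q' - n q).toNat ≤ d := by
      by_cases hIq : I ≤ q.asIdeal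
      · exact ⟨q, le_rfl, (hT q).1 hqT q le_rfl hIq, hIq, by simp⟩
      · obtain ⟨q', hqq', hJq', hIq', hdim⟩ := h3 q hIq hqT
        rw [dimBetween_eq_n n hsm hn2 q q' hqq'] at hdim
        exact ⟨q', hqq', hJq', hIq', by exact_mod_cast hdim⟩
    have hm : n q ≤ n q' := hsm.monotone hqq'
    have h := h4 p hpI hpT q' (hpq.trans hqq') hJq' hIq'
    rw [dimBetween_eq_n n hsm hn2 p q' (hpq.trans hqq'), ← WithBot.coe_add,
      WithBot.coe_lt_coe] at h
    generalize LocCoh.depth (Localization.AtPrime p.asIdeal)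
      (LocalizedModule p.asIdeal.primeCompl M) = D at h ⊢
    induction D using ENat.recTopCoe with
    | top => simp
    | coe D =>
      rcases h with h | h
      · have h' : s ≤ D := by exact_mod_cast h
        have : s < D + (n q - n p).toNat := by omega
        exact_mod_cast this
      · have h' : d + s < D + (n q' - n p).toNat := by exact_mod_cast h
        have : s < D + (n q - n p).toNat := by omega
        exact_mod_cast this
  exact_mod_cast hgoal


/-- comparison of local cohomology is bijective in degrees `≤ s` if the depth is `> s` on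
`V(I') ∖ V(I)`. -/
theorem HmapOfLE_bijective_of_depth (I' I : Ideal A) (h : I' ≤ I) (M : Type u) [AddCommGroup M]
    [Module A M] [Module.Finite A M] (s : ℕ)
    (hdep : ∀ p : PrimeSpectrum A, I' ≤ p.asIdeal → ¬ I ≤ p.asIdeal →
      (s : ℕ∞) < LocCoh.depth (Localization.AtPrime p.asIdeal)
        (LocalizedModule p.asIdeal.primeCompl M)) (i : ℕ) (hi : i ≤ s) :
    Function.Bijective ((Dual2.HmapOfLE h i).app (ModuleCat.of A M)).hom := by
  have hvan : ∀ p : PrimeSpectrum A, I' ≤ p.asIdeal → ¬ I ≤ p.asIdeal → ∀ j : ℕ, j ≤ s →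
      Subsingleton (LocCoh.H (IsLocalRing.maximalIdeal (Localization.AtPrime p.asIdeal)) j
        (LocalizedModule p.asIdeal.primeCompl M)) := by
    intro p hp hnp j hj
    apply Groth.Agent.S0318.H_vanish_below
    refine lt_of_le_of_lt ?_ (hdep p hp hnp)
    exact_mod_cast hj
  obtain ⟨hs, hin⟩ := Groth.Agent.Lib.helper2.LCNat.HmapOfLE_surj_inj I' I h M i
  exact ⟨hin fun p hp hnp j hj => hvan p hp hnp j (by omega),
    hs fun p hp hnp => hvan p hp hnp i hi⟩


/-- `H_{V(I)} ≃ H_I`, linear -/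
noncomputable def HTEquivH (I : Ideal A) (i : ℕ) (M : Type u) [AddCommGroup M] [Module A M] :
    Dual2.HT (PrimeSpectrum.zeroLocus (I : Set A)) i M ≃ₗ[A] LocCoh.H I i M :=
  ((Groth.Agent.Lib.helper23.Falt.HTIsoH I i).app (ModuleCat.of A M)).toLinearEquiv

/-- annihilation of `H^i_K(M)`, `i ≤ s`, by a power of `L`, from Faltings' annihilator theorem -/
theorem exists_pow_kills (hdc : ∃ ω : Dual.D A, Dual.IsDualizing A ω) (K L : Ideal A)
    (hKL : PrimeSpectrum.zeroLocus (K : Set A) ⊆ PrimeSpectrum.zeroLocus (L : Set A))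
    (M : Type u) [AddCommGroup M] [Module A M] [Module.Finite A M] (s : ℕ)
    (hcond : ∀ p q : PrimeSpectrum A, ¬ L ≤ p.asIdeal → K ≤ q.asIdeal → p ≤ q →
      (s : WithBot ℕ∞) < ((LocCoh.depth (Localization.AtPrime p.asIdeal)
        (LocalizedModule p.asIdeal.primeCompl M) : ℕ∞) : WithBot ℕ∞) +
          Order.krullDim (Set.Icc p q)) :
    ∃ n : ℕ, ∀ a ∈ L ^ n, ∀ i : ℕ, i ≤ s → ∀ x : LocCoh.H K i M, a • x = 0 := by
  obtain ⟨c, hc, hkill⟩ := (Groth.Agent.S1711.result A hdc (PrimeSpectrum.zeroLocus (K : Set A))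
    (PrimeSpectrum.zeroLocus (L : Set A))
    (PrimeSpectrum.isClosed_zeroLocus _).stableUnderSpecialization
    (PrimeSpectrum.isClosed_zeroLocus _).stableUnderSpecialization hKL s M).2 (by
      intro p q hp hq hpq
      refine hcond p q ?_ ?_ hpq
      · intro h
        exact hp ((PrimeSpectrum.mem_zeroLocus _ _).2 (SetLike.coe_subset_coe.2 h))
      · exact SetLike.coe_subset_coe.1 ((PrimeSpectrum.mem_zeroLocus _ _).1 hq))
  have hrad : L ≤ c.radical := (PrimeSpectrum.zeroLocus_subset_zeroLocus_iff c L).1 hc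
  obtain ⟨n, hn⟩ := Ideal.exists_pow_le_of_le_radical_of_fg hrad
    ((isNoetherianRing_iff_ideal_fg A).1 inferInstance L)
  refine ⟨n, fun a ha i hi x => ?_⟩
  obtain ⟨y, rfl⟩ := (HTEquivH K i M).surjective x
  rw [← map_smul, hkill i hi a (hn ha) y, map_zero]

/-- finiteness of `H^i_K(M)`, `i ≤ s`, from the finiteness theorem -/
theorem finite_H (hdc : ∃ ω : Dual.D A, Dual.IsDualizing A ω) (K : Ideal A)
    (M : Type u) [AddCommGroup M] [Module A M] [Module.Finite A M] (s : ℕ)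
    (hcond : ∀ p q : PrimeSpectrum A, ¬ K ≤ p.asIdeal → K ≤ q.asIdeal → p ≤ q →
      (s : WithBot ℕ∞) < ((LocCoh.depth (Localization.AtPrime p.asIdeal)
        (LocalizedModule p.asIdeal.primeCompl M) : ℕ∞) : WithBot ℕ∞) +
          Order.krullDim (Set.Icc p q)) (i : ℕ) (hi : i ≤ s) :
    Module.Finite A (LocCoh.H K i M) := by
  have h := (Groth.Agent.S1727.result A hdc (PrimeSpectrum.zeroLocus (K : Set A))
    (PrimeSpectrum.isClosed_zeroLocus _).stableUnderSpecialization s M).2 (by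
      intro p q hp hq hpq
      refine hcond p q ?_ ?_ hpq
      · intro h
        exact hp ((PrimeSpectrum.mem_zeroLocus _ _).2 (SetLike.coe_subset_coe.2 h))
      · exact SetLike.coe_subset_coe.1 ((PrimeSpectrum.mem_zeroLocus _ _).1 hq)) i hi
  exact Module.Finite.equiv (HTEquivH K i M)


omit [IsNoetherianRing A] in
/-- `s < depth` implies `s < depth + dim [p, q]` -/
theorem lt_add_krullDim_of_lt {p q : PrimeSpectrum A} (hpq : p ≤ q) (s : ℕ) (D : ℕ∞)
    (hlt : (s : ℕ∞) < D) :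
    (s : WithBot ℕ∞) < ((D : ℕ∞) : WithBot ℕ∞) + Order.krullDim (Set.Icc p q) := by
  haveI : Nonempty (Set.Icc p q) := ⟨⟨p, le_rfl, hpq⟩⟩
  obtain ⟨k, hk⟩ : ∃ k : ℕ∞, Order.krullDim (Set.Icc p q) = (k : WithBot ℕ∞) := by
    have h0 : (0 : WithBot ℕ∞) ≤ Order.krullDim (Set.Icc p q) := Order.krullDim_nonneg
    exact ⟨(Order.krullDim (Set.Icc p q)).unbot (fun h => by rw [h] at h0; simp at h0),
      (WithBot.coe_unbot _ _).symm⟩
  rw [hk, ← WithBot.coe_add]
  have : (s : ℕ∞) < D + k := lt_of_lt_of_le hlt le_self_add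
  exact_mod_cast this

/-- the depth-plus-dimension condition for primes outside `V(J₀) ∪ V(I)` below a prime of `T` -/
theorem cond_of_core (hdc : ∃ ω : Dual.D A, Dual.IsDualizing A ω) (I J : Ideal A) (M : Type u)
    [AddCommGroup M] [Module A M] [Module.Finite A M] (s d : ℕ) (T : Set (PrimeSpectrum A))
    (hT : ∀ p : PrimeSpectrum A, p ∈ T ↔ ∀ q : PrimeSpectrum A, p ≤ q → I ≤ q.asIdeal → J ≤ q.asIdeal)
    (h3 : ∀ p : PrimeSpectrum A, ¬ I ≤ p.asIdeal → p ∈ T → ∃ q : PrimeSpectrum A, p ≤ q ∧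
      J ≤ q.asIdeal ∧ I ≤ q.asIdeal ∧
      Formal2.dimBetween A p.asIdeal q.asIdeal ≤ ((d : ℕ∞) : WithBot ℕ∞))
    (h4 : ∀ p : PrimeSpectrum A, ¬ I ≤ p.asIdeal → p ∉ T → ∀ q : PrimeSpectrum A, p ≤ q →
      J ≤ q.asIdeal → I ≤ q.asIdeal →
      (s : ℕ∞) ≤ LocCoh.depth (Localization.AtPrime p.asIdeal)
        (LocalizedModule p.asIdeal.primeCompl M) ∨
      (((d + s : ℕ) : ℕ∞) : WithBot ℕ∞) <
        ((LocCoh.depth (Localization.AtPrime p.asIdeal)
          (LocalizedModule p.asIdeal.primeCompl M) : ℕ∞) : WithBot ℕ∞) +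
          Formal2.dimBetween A p.asIdeal q.asIdeal)
    (J₀ : Ideal A)
    (hcore : ∀ p : PrimeSpectrum A, p ∈ T → ¬ I ≤ p.asIdeal →
        LocCoh.depth (Localization.AtPrime p.asIdeal)
          (LocalizedModule p.asIdeal.primeCompl M) ≤ (s : ℕ∞) → J₀ ≤ p.asIdeal)
    (p q : PrimeSpectrum A) (hpJ₀ : ¬ J₀ ≤ p.asIdeal) (hpI : ¬ I ≤ p.asIdeal) (hqT : q ∈ T)
    (hpq : p ≤ q) :
    (s : WithBot ℕ∞) < ((LocCoh.depth (Localization.AtPrime p.asIdeal)
      (LocalizedModule p.asIdeal.primeCompl M) : ℕ∞) : WithBot ℕ∞) +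
        Order.krullDim (Set.Icc p q) := by
  by_cases hpT : p ∈ T
  · refine lt_add_krullDim_of_lt hpq s _ ?_
    by_contra hcon
    exact hpJ₀ (hcore p hpT hpI (not_lt.1 hcon))
  · exact dim_cond hdc I J M s d T hT h3 h4 p q hpI hpT hqT hpq

/-- the conclusions of the bootstrap lemma for an ideal `J₀` with the core properties -/
theorem concl_of_core (hdc : ∃ ω : Dual.D A, Dual.IsDualizing A ω) (I J : Ideal A) (M : Type u)
    [AddCommGroup M] [Module A M] [Module.Finite A M] (s d : ℕ) (T : Set (PrimeSpectrum A))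
    (hT : ∀ p : PrimeSpectrum A, p ∈ T ↔ ∀ q : PrimeSpectrum A, p ≤ q → I ≤ q.asIdeal → J ≤ q.asIdeal)
    (h3 : ∀ p : PrimeSpectrum A, ¬ I ≤ p.asIdeal → p ∈ T → ∃ q : PrimeSpectrum A, p ≤ q ∧
      J ≤ q.asIdeal ∧ I ≤ q.asIdeal ∧
      Formal2.dimBetween A p.asIdeal q.asIdeal ≤ ((d : ℕ∞) : WithBot ℕ∞))
    (h4 : ∀ p : PrimeSpectrum A, ¬ I ≤ p.asIdeal → p ∉ T → ∀ q : PrimeSpectrum A, p ≤ q →
      J ≤ q.asIdeal → I ≤ q.asIdeal →
      (s : ℕ∞) ≤ LocCoh.depth (Localization.AtPrime p.asIdeal)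
        (LocalizedModule p.asIdeal.primeCompl M) ∨
      (((d + s : ℕ) : ℕ∞) : WithBot ℕ∞) <
        ((LocCoh.depth (Localization.AtPrime p.asIdeal)
          (LocalizedModule p.asIdeal.primeCompl M) : ℕ∞) : WithBot ℕ∞) +
          Formal2.dimBetween A p.asIdeal q.asIdeal)
    (J₀ : Ideal A) (hJ₀ : J₀ ≤ J) (hJ₀T : PrimeSpectrum.zeroLocus (J₀ : Set A) ⊆ T)
    (hcore : ∀ p : PrimeSpectrum A, p ∈ T → ¬ I ≤ p.asIdeal →
        LocCoh.depth (Localization.AtPrime p.asIdeal)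
          (LocalizedModule p.asIdeal.primeCompl M) ≤ (s : ℕ∞) → J₀ ≤ p.asIdeal) :
    J₀ ≤ J ∧ PrimeSpectrum.zeroLocus ((J₀ : Ideal A) : Set A) ∩
        PrimeSpectrum.zeroLocus ((I : Ideal A) : Set A) =
      PrimeSpectrum.zeroLocus ((J : Ideal A) : Set A) ∩
        PrimeSpectrum.zeroLocus ((I : Ideal A) : Set A) ∧
    (∀ (J' : Ideal A) (hJ' : J' ≤ J₀), PrimeSpectrum.zeroLocus ((J' : Ideal A) : Set A) ∩
        PrimeSpectrum.zeroLocus ((I : Ideal A) : Set A) =
      PrimeSpectrum.zeroLocus ((J : Ideal A) : Set A) ∩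
        PrimeSpectrum.zeroLocus ((I : Ideal A) : Set A) → ∀ i : ℕ, i ≤ s →
      Function.Bijective ((Dual2.HmapOfLE hJ' i).app (ModuleCat.of A M)).hom) ∧
    (∃ n : ℕ, ∀ a ∈ (J₀ * I) ^ n, ∀ i : ℕ, i ≤ s → ∀ x : LocCoh.H J₀ i M, a • x = 0) := by
  have hmz : ∀ (K : Ideal A) (p : PrimeSpectrum A),
      p ∈ PrimeSpectrum.zeroLocus (K : Set A) ↔ K ≤ p.asIdeal := fun K p => by
    rw [PrimeSpectrum.mem_zeroLocus, SetLike.coe_subset_coe]
  have hVeq : PrimeSpectrum.zeroLocus ((J₀ : Ideal A) : Set A) ∩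
        PrimeSpectrum.zeroLocus ((I : Ideal A) : Set A) =
      PrimeSpectrum.zeroLocus ((J : Ideal A) : Set A) ∩
        PrimeSpectrum.zeroLocus ((I : Ideal A) : Set A) := by
    ext q
    simp only [Set.mem_inter_iff, hmz]
    constructor
    · rintro ⟨h1, h2⟩
      exact ⟨(hT q).1 (hJ₀T ((hmz _ _).2 h1)) q le_rfl h2, h2⟩
    · rintro ⟨h1, h2⟩
      exact ⟨hJ₀.trans h1, h2⟩
  refine ⟨hJ₀, hVeq, ?_, ?_⟩
  · intro J' hJ' hV i hi
    refine HmapOfLE_bijective_of_depth J' J₀ hJ' M s ?_ i hi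
    intro p hp hnp
    have hpT : p ∈ T := by
      rw [hT]
      intro q hpq hIq
      have : q ∈ PrimeSpectrum.zeroLocus ((J' : Ideal A) : Set A) ∩
          PrimeSpectrum.zeroLocus ((I : Ideal A) : Set A) :=
        ⟨(hmz _ _).2 (hp.trans hpq), (hmz _ _).2 hIq⟩
      rw [hV] at this
      exact (hmz _ _).1 this.1
    have hpI : ¬ I ≤ p.asIdeal := by
      intro hIp
      have : p ∈ PrimeSpectrum.zeroLocus ((J' : Ideal A) : Set A) ∩
          PrimeSpectrum.zeroLocus ((I : Ideal A) : Set A) := ⟨(hmz _ _).2 hp, (hmz _ _).2 hIp⟩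
      rw [hV] at this
      exact hnp (hJ₀.trans ((hmz _ _).1 this.1))
    by_contra hcon
    exact hnp (hcore p hpT hpI (not_lt.1 hcon))
  · refine exists_pow_kills hdc J₀ (J₀ * I) ?_ M s ?_
    · intro q hq
      rw [hmz] at hq ⊢
      exact Ideal.mul_le_left.trans hq
    · intro p q hp hq hpq
      have hpJ₀ : ¬ J₀ ≤ p.asIdeal := fun h => hp (Ideal.mul_le_left.trans h)
      have hpI : ¬ I ≤ p.asIdeal := fun h => hp (Ideal.mul_le_right.trans h)
      have hqT : q ∈ T := hJ₀T ((hmz _ _).2 hq)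
      exact cond_of_core hdc I J M s d T hT h3 h4 J₀ hcore p q hpJ₀ hpI hqT hpq

end Groth.Agent.Lib.helper19.Boot1
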