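import Mathlib
import Groth.Agent.S7708
import Groth.Agent.S7691

/-!
# Canonical modules over homomorphic images of Gorenstein local rings (helper19), part 1

`R'` a Gorenstein local ring of dimension `d`, `R' → R` a surjection onto a Noetherian local ring of
dimension `n`, `E` an injective hull of the residue field of `R`.

* `canonical_of_ext` : an `R`-module `K` which is `R'`-linearly isomorphic to `Ext^{d-n}_{R'}(R, R')`
  is a canonical module of `R` : `Hom_R(K, E) ≅ H^n_m(R)`.
* `ext_of_canonical` : conversely every canonical module of `R` is `R'`-linearly isomorphic to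
  `Ext^{d-n}_{R'}(R, R')`.
-/

set_option autoImplicit false
universe u

namespace Groth.Agent.Lib.helper19.CanMod
open IsLocalRing CategoryTheory LocCoh Groth.Agent.Lib.helper19.LocalDuality1 Groth.Agent.S5156
  Groth.Agent.S7708

section
variable (R' R : Type u) [CommRing R'] [CommRing R] [Algebra R' R]
  [LocCoh.IsGorensteinLocalRing R'] [IsNoetherianRing R] [IsLocalRing R]
  (hg : Function.Surjective (algebraMap R' R))
  (n d : ℕ) (hn : ringKrullDim R = n) (hd : ringKrullDim R' = d)
  (E : Type u) [AddCommGroup E] [Module R E] (f : ResidueField R →ₗ[R] E)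
  (hf : InjHull.IsInjectiveHull f)

include hg hn hd hf in
/-- an `R`-module which is `R'`-isomorphic to `Ext^{d-n}_{R'}(R, R')` is a canonical module -/
theorem canonical_of_ext (K : Type u) [AddCommGroup K] [Module R K] [Module R' K]
    [IsScalarTower R' R K]
    (e : K ≃ₗ[R'] Abelian.Ext.{u} (ModuleCat.of R' R) (ModuleCat.of R' R') (d - n)) :
    Nonempty ((K →ₗ[R] E) ≃ₗ[R] LocCoh.H (maximalIdeal R) n R) := by
  classical
  haveI : Module.Finite R' R := Module.Finite.of_surjective (Algebra.linearMap R' R) hg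
  haveI hCM : LocCoh.IsCohenMacaulayLocalRing R' := Groth.Agent.S0341.result R'
  have hnd : n ≤ d := by
    have := ringKrullDim_le_of_surjective (algebraMap R' R) hg
    rw [hn, hd] at this
    exact_mod_cast this
  set mA := maximalIdeal R' with hmA
  have hcd := Groth.Agent.S0325.result R' mA d (le_of_eq hd)
  have hv : ∀ N : ModuleCat.{u} R',
      Subsingleton ((localCohomology mA (d + 1)).obj N) :=
    fun N => hcd N (d + 1) (Nat.lt_succ_self d)
  have hdepth : LocCoh.idealDepth mA R' = d := by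
    have h1 := IsCohenMacaulayLocalRing.supportDim_eq_depth (R := R')
    rw [Module.supportDim_self_eq_ringKrullDim, hd] at h1
    have h2 : ((d : ℕ∞) : WithBot ℕ∞) = ((LocCoh.depth R' R' : ℕ∞) : WithBot ℕ∞) := by
      rw [← h1]; rfl
    have h3 : (d : ℕ∞) = LocCoh.depth R' R' := WithBot.coe_injective h2
    exact h3.symm
  have hlow : ∀ j : ℕ, j < d →
      Subsingleton ((localCohomology mA j).obj (ModuleCat.of R' R') : ModuleCat.{u} R') := by
    intro j hj
    apply Groth.Agent.S0318.H_vanish_below mA R' j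
    rw [hdepth]
    exact_mod_cast hj
  obtain ⟨gA, hgA⟩ := Groth.Agent.S11665.result R' d hd
  haveI : Module.Injective R' (LocCoh.H mA d R') := hgA.isInjective
  let eKA : (R' →ₗ[R'] LocCoh.H mA d R') ≃ₗ[R'] LocCoh.H mA d R' :=
    LinearMap.ringLmapEquivSelf R' R' (LocCoh.H mA d R')
  obtain ⟨e1⟩ := main mA d hv hlow R' (LocCoh.H mA d R') eKA (d - n) n (by omega) R
  let e2 : (K →ₗ[R'] LocCoh.H mA d R') ≃ₗ[R']
      (Abelian.Ext.{u} (ModuleCat.of R' R) (ModuleCat.of R' R') (d - n) →ₗ[R'] LocCoh.H mA d R') :=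
    LinearEquiv.congrLeft (LocCoh.H mA d R') R' e
  -- the hull over R
  obtain ⟨g₀, hg₀⟩ := Groth.Agent.S5156.result R' R (LocCoh.H mA d R') gA hgA
  obtain ⟨e0, -⟩ := Groth.Agent.S0302.result R _ E _ f hf g₀ hg₀
  -- independence of base
  have hmap : Ideal.map (algebraMap R' R) mA = maximalIdeal R :=
    map_maximalIdeal (algebraMap R' R) hg
  obtain ⟨φ, hφ⟩ : ∃ φ : LocCoh.H (maximalIdeal R) n R ≃+ LocCoh.H mA n R,
      ∀ (a : R') (x : LocCoh.H (maximalIdeal R) n R), φ (algebraMap R' R a • x) = a • φ x := by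
    rw [← hmap]
    exact Groth.Agent.S11614.result R' R mA R n
  -- assemble
  let Ψ : (K →ₗ[R] E) ≃+ LocCoh.H (maximalIdeal R) n R :=
    ((((LinearEquiv.congrRight e0 : (K →ₗ[R] E) ≃ₗ[R]
        (K →ₗ[R] C R' R (LocCoh.H mA d R'))).toAddEquiv.trans
      (adj R' R (LocCoh.H mA d R') K)).trans e2.toAddEquiv).trans e1.symm.toAddEquiv).trans φ.symm
  refine ⟨Ψ.toLinearEquiv ?_⟩
  intro r x
  obtain ⟨a, rfl⟩ := hg r
  show φ.symm (e1.symm (e2 (adj R' R (LocCoh.H mA d R') K
    (LinearEquiv.congrRight e0 (algebraMap R' R a • x))))) =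
    algebraMap R' R a • φ.symm (e1.symm (e2 (adj R' R (LocCoh.H mA d R') K
    (LinearEquiv.congrRight e0 x))))
  rw [map_smul, adj_smul, map_smul, map_smul]
  apply φ.injective
  rw [hφ, φ.apply_symm_apply, φ.apply_symm_apply]

include hg hn hd hf in
/-- every canonical module of `R` is `R'`-isomorphic to `Ext^{d-n}_{R'}(R, R')` -/
theorem ext_of_canonical (K : Type u) [AddCommGroup K] [Module R K] [Module.Finite R K]
    [Module R' K] [IsScalarTower R' R K]
    (eK : (K →ₗ[R] E) ≃ₗ[R] LocCoh.H (maximalIdeal R) n R) :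
    Nonempty (K ≃ₗ[R'] Abelian.Ext.{u} (ModuleCat.of R' R) (ModuleCat.of R' R') (d - n)) := by
  classical
  haveI : Module.Finite R' R := Module.Finite.of_surjective (Algebra.linearMap R' R) hg
  let KA := Abelian.Ext.{u} (ModuleCat.of R' R) (ModuleCat.of R' R') (d - n)
  have hKfin : Module.Finite R' KA := ModuleCat.finite_ext R' _ _ (d - n)
  have hkill : ∀ a ∈ RingHom.ker (algebraMap R' R), ∀ x : KA, a • x = 0 := by
    intro a ha x
    apply Groth.Agent.Lib.helper19.LCBridge.ext_smul_eq_zero a
    apply ModuleCat.hom_ext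
    apply LinearMap.ext
    intro r
    show a • r = 0
    rw [Algebra.smul_def, (RingHom.mem_ker).mp ha, zero_mul]
  obtain ⟨instK, hK⟩ := exists_module_of_surjective (algebraMap R' R) hg KA hkill
  letI := instK
  haveI hTower : IsScalarTower R' R KA := IsScalarTower.of_algebraMap_smul (fun a x => hK a x)
  haveI : Module.Finite R KA := Module.Finite.of_restrictScalars_finite R' R KA
  obtain ⟨eKA⟩ := canonical_of_ext R' R hg n d hn hd E f hf KA (LinearEquiv.refl R' KA)
  obtain ⟨ε⟩ := Groth.Agent.S7691.result R n hn E f hf K eK KA eKA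
  exact ⟨ε.restrictScalars R'⟩

end

end Groth.Agent.Lib.helper19.CanMod
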