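import Mathlib
import Groth.Agent.Lib.Helper19.BassInj1
import Groth.Agent.Lib.Helper19.Gor2
import Groth.Agent.Lib.Helper19.CanMod1
import Groth.Agent.Lib.Helper2.GNV4

/-!
# Canonical modules over homomorphic images of Gorenstein local rings (helper19), part 2:
localization

* `nonempty_extBaseChange'` : flat base change of `Ext` with prescribed base changes of the modules.
* `loc_ext` : `K ≅ Ext^c_G(A, G)` localizes to `K_p ≅ Ext^c_{G_P}(A_p, G_P)` (`G → A` surjective).
* `height_add_dim_quot_le` : `ht p + dim A/p ≤ dim A`.
* `dims_of_nontrivial`, `nontrivial_localization_iff` : `K_p ≠ 0` iff `ht p + dim A/p = dim A`,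
  for `K ≅ Ext^{d-n}_G(A, G)` the canonical module of a quotient `A` of a Gorenstein local ring `G`.
* `canonical_localization` : `K_p` is a canonical module of `A_p` for `p ∈ Supp K`.
-/

set_option autoImplicit false
universe u

namespace Groth.Agent.Lib.helper19.CanMod
open TensorProduct IsLocalRing CategoryTheory
open Groth.Agent.Lib.helper19.BassFlat Groth.Agent.Lib.helper19.ExtBC
open Groth.Agent.Lib.helper19.KLoc Groth.Agent.Lib.helper19.Gor

section BC
variable (A B : Type u) [CommRing A] [CommRing B] [Algebra A B] [Module.Flat A B]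
  [IsNoetherianRing A]
  (M N : Type u) [AddCommGroup M] [Module A M] [Module.Finite A M] [AddCommGroup N] [Module A N]
  (M' N' : Type u) [AddCommGroup M'] [Module A M'] [Module B M'] [IsScalarTower A B M']
  [AddCommGroup N'] [Module A N'] [Module B N'] [IsScalarTower A B N']
  (fM : M →ₗ[A] M') (hM : IsBaseChange B fM) (fN : N →ₗ[A] N') (hN : IsBaseChange B fN)

include hM hN in
/-- flat base change of `Ext` with prescribed base changes of the two modules -/
theorem nonempty_extBaseChange' (i : ℕ) :
    Nonempty (B ⊗[A] (Abelian.Ext.{u} (ModuleCat.of A M) (ModuleCat.of A N) i) ≃ₗ[B]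
      Abelian.Ext.{u} (ModuleCat.of B M') (ModuleCat.of B N') i) := by
  obtain ⟨e1⟩ := nonempty_extBaseChange A B (ModuleCat.of A M) (ModuleCat.of A N) i
  let isoM : (ModuleCat.extendScalars.{u, u, u} (algebraMap A B)).obj (ModuleCat.of A M) ≅
      ModuleCat.of B M' :=
    ((extendScalarsEquiv A B (ModuleCat.of A M)).trans hM.equiv).toModuleIso
  let isoN : (ModuleCat.extendScalars.{u, u, u} (algebraMap A B)).obj (ModuleCat.of A N) ≅
      ModuleCat.of B N' :=
    ((extendScalarsEquiv A B (ModuleCat.of A N)).trans hN.equiv).toModuleIso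
  let e2 := Groth.Agent.Lib.helper21.ExtCongr.left (R := B) isoM
    ((ModuleCat.extendScalars.{u, u, u} (algebraMap A B)).obj (ModuleCat.of A N)) i
  let e3 := Groth.Agent.Lib.helper21.ExtCongr.right (R := B) (ModuleCat.of B M') isoN i
  exact ⟨e1.trans (e2.trans e3)⟩

end BC



section Loc
variable {G : Type u} [CommRing G] [IsNoetherianRing G] {A : Type u} [CommRing A]
  [Algebra G A] (hπ : Function.Surjective (algebraMap G A))
  (K : Type u) [AddCommGroup K] [Module A K] [Module G K] [IsScalarTower G A K]
  (p : Ideal A) [p.IsPrime]

include hπ in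
/-- localization of `K ≅ Ext^c_G(A, G)` at a prime `p` of `A` -/
theorem loc_ext (c : ℕ)
    (e : K ≃ₗ[G] Abelian.Ext.{u} (ModuleCat.of G A) (ModuleCat.of G G) c) :
    letI := algLoc (algebraMap G A) p
    letI := modLoc (algebraMap G A) K p
    Nonempty (LocalizedModule p.primeCompl K ≃ₗ[Localization.AtPrime (p.comap (algebraMap G A))]
      Abelian.Ext.{u}
        (ModuleCat.of (Localization.AtPrime (p.comap (algebraMap G A))) (Localization.AtPrime p))
        (ModuleCat.of (Localization.AtPrime (p.comap (algebraMap G A)))
          (Localization.AtPrime (p.comap (algebraMap G A)))) c) := by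
  letI := algLoc (algebraMap G A) p
  letI := modLoc (algebraMap G A) K p
  haveI : Module.Finite G A := Module.Finite.of_surjective (Algebra.linearMap G A) hπ
  set P := p.comap (algebraMap G A) with hP
  have hsub : Algebra.algebraMapSubmonoid A P.primeCompl = p.primeCompl := by
    ext a
    constructor
    · rintro ⟨r, hr, rfl⟩
      exact hr
    · intro ha
      obtain ⟨r, rfl⟩ := hπ a
      exact ⟨r, ha, rfl⟩
  -- K_p
  haveI t1 : IsScalarTower G (Localization.AtPrime P) (LocalizedModule p.primeCompl K) :=
    ⟨fun r s n => by
      show locHom (algebraMap G A) p (r • s) • n = r • locHom (algebraMap G A) p s • n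
      rw [Algebra.smul_def, map_mul, mul_smul, Localization.localRingHom_to_map, algebraMap_smul,
        algebraMap_smul]⟩
  let gK : K →ₗ[G] LocalizedModule p.primeCompl K :=
    (LocalizedModule.mkLinearMap p.primeCompl K).restrictScalars G
  haveI : IsLocalizedModule (Algebra.algebraMapSubmonoid A P.primeCompl)
      (LocalizedModule.mkLinearMap p.primeCompl K) := by
    rw [hsub]; infer_instance
  haveI : IsLocalizedModule P.primeCompl gK :=
    IsLocalizedModule.restrictScalars P.primeCompl (LocalizedModule.mkLinearMap p.primeCompl K)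
  have hK : IsBaseChange (Localization.AtPrime P) gK :=
    IsLocalizedModule.isBaseChange P.primeCompl (Localization.AtPrime P) gK
  -- A_p
  haveI t2 : IsScalarTower G (Localization.AtPrime P) (Localization.AtPrime p) :=
    ⟨fun r s n => by
      show locHom (algebraMap G A) p (r • s) * n = r • (locHom (algebraMap G A) p s * n)
      rw [Algebra.smul_def, map_mul, mul_assoc, Localization.localRingHom_to_map,
        ← Algebra.smul_def, algebraMap_smul]⟩
  let gA : A →ₗ[G] Localization.AtPrime p :=
    (Algebra.linearMap A (Localization.AtPrime p)).restrictScalars G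
  haveI : IsLocalizedModule (Algebra.algebraMapSubmonoid A P.primeCompl)
      (Algebra.linearMap A (Localization.AtPrime p)) := by
    rw [hsub]; infer_instance
  haveI : IsLocalizedModule P.primeCompl gA :=
    IsLocalizedModule.restrictScalars P.primeCompl (Algebra.linearMap A (Localization.AtPrime p))
  have hA : IsBaseChange (Localization.AtPrime P) gA :=
    IsLocalizedModule.isBaseChange P.primeCompl (Localization.AtPrime P) gA
  -- G_P
  have hG : IsBaseChange (Localization.AtPrime P) (Algebra.linearMap G (Localization.AtPrime P)) :=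
    IsLocalizedModule.isBaseChange P.primeCompl (Localization.AtPrime P) _
  obtain ⟨e1⟩ := nonempty_extBaseChange' G (Localization.AtPrime P) A G
    (Localization.AtPrime p) (Localization.AtPrime P) gA hA
    (Algebra.linearMap G (Localization.AtPrime P)) hG c
  exact ⟨hK.equiv.symm.trans ((LinearEquiv.baseChange G (Localization.AtPrime P) _ _ e).trans e1)⟩

end Loc



/-- `ht p + dim A/p ≤ dim A` -/
lemma height_add_dim_quot_le (A : Type u) [CommRing A] (p : Ideal A) [hp : p.IsPrime] (h e n : ℕ)
    (hh : p.height = h) (he : ringKrullDim (A ⧸ p) = e) (hn : ringKrullDim A = n) : h + e ≤ n := by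
  have h1 : Order.height (⟨p, hp⟩ : PrimeSpectrum A) = h := by
    rw [← hh]; exact (PrimeSpectrum.height_eq_orderHeight (⟨p, hp⟩ : PrimeSpectrum A)).symm
  have h2 := Groth.Agent.Lib.Helper24.CatEquidim.coheight_eq_ringKrullDim_quotient
    (⟨p, hp⟩ : PrimeSpectrum A)
  rw [he] at h2
  have h2' : Order.coheight (⟨p, hp⟩ : PrimeSpectrum A) = e := by exact_mod_cast h2
  haveI : Nonempty (PrimeSpectrum A) := ⟨⟨p, hp⟩⟩
  have h3 : ringKrullDim A = _ := Order.krullDim_eq_iSup_height_add_coheight_of_nonempty
  rw [hn] at h3
  have h4 : Order.height (⟨p, hp⟩ : PrimeSpectrum A) + Order.coheight (⟨p, hp⟩ : PrimeSpectrum A) ≤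
      ⨆ a : PrimeSpectrum A, Order.height a + Order.coheight a :=
    le_iSup (fun a : PrimeSpectrum A => Order.height a + Order.coheight a) ⟨p, hp⟩
  rw [h1, h2'] at h4
  have h5 : ((h + e : ℕ) : WithBot ℕ∞) ≤ (n : WithBot ℕ∞) := by
    rw [h3]
    exact_mod_cast h4
  exact_mod_cast h5



section Main
variable {G : Type u} [CommRing G] [LocCoh.IsGorensteinLocalRing G] {A : Type u} [CommRing A]
  [IsLocalRing A] [IsNoetherianRing A] [Algebra G A] (hπ : Function.Surjective (algebraMap G A))
  (n d : ℕ) (hn : ringKrullDim A = n) (hd : ringKrullDim G = d)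
  (K : Type u) [AddCommGroup K] [Module A K] [Module G K] [IsScalarTower G A K]
  (e : K ≃ₗ[G] Abelian.Ext.{u} (ModuleCat.of G A) (ModuleCat.of G G) (d - n))
  (p : Ideal A) [p.IsPrime]

omit [IsLocalRing A] in
include hπ hn hd e in
/-- the dimensions at a prime in the support of the canonical module -/
theorem dims_of_nontrivial (hp : Nontrivial (LocalizedModule p.primeCompl K)) (h δ e' : ℕ)
    (hh : p.height = h) (hδ : (p.comap (algebraMap G A)).height = δ)
    (he' : ringKrullDim (A ⧸ p) = e') : d - n = δ - h ∧ h ≤ δ ∧ h + e' = n := by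
  letI := algLoc (algebraMap G A) p
  letI := modLoc (algebraMap G A) K p
  set P := p.comap (algebraMap G A) with hP
  haveI := gor_localization G P
  have hdimG : ringKrullDim (Localization.AtPrime P) = δ := by
    rw [IsLocalization.AtPrime.ringKrullDim_eq_height P, hδ]; rfl
  have hdimA : ringKrullDim (Localization.AtPrime p) = h := by
    rw [IsLocalization.AtPrime.ringKrullDim_eq_height p, hh]; rfl
  have hnd : n ≤ d := by
    have := ringKrullDim_le_of_surjective (algebraMap G A) hπ
    rw [hn, hd] at this
    exact_mod_cast this
  have F1 : δ + e' = d := by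
    have := height_comap_add hπ d hd p e' he'
    rw [← hP, hδ] at this
    exact_mod_cast this
  have F2 : h + e' ≤ n := height_add_dim_quot_le A p h e' n hh he' hn
  obtain ⟨ε⟩ := loc_ext hπ K p (d - n) e
  have hnt : Nontrivial (Abelian.Ext.{u}
      (ModuleCat.of (Localization.AtPrime P) (Localization.AtPrime p))
      (ModuleCat.of (Localization.AtPrime P) (Localization.AtPrime P)) (d - n)) :=
    ε.injective.nontrivial
  have hc : d - n ≤ δ := by
    by_contra hlt
    push Not at hlt
    have := ext_subsingleton_of_gt (Localization.AtPrime P) δ hdimG (Localization.AtPrime p)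
      (d - n) hlt
    exact not_subsingleton _ this
  haveI : Module.Finite (Localization.AtPrime P) (Localization.AtPrime p) :=
    Module.Finite.of_surjective (Algebra.linearMap (Localization.AtPrime P) (Localization.AtPrime p))
      (locHom_surjective p hπ)
  have hH : ¬ Subsingleton (LocCoh.H (maximalIdeal (Localization.AtPrime P)) (δ - (d - n))
      (Localization.AtPrime p)) := by
    rw [H_subsingleton_iff (Localization.AtPrime P) δ hdimG (Localization.AtPrime p)
      (δ - (d - n)) (d - n) (by omega)]
    exact not_subsingleton_iff_nontrivial.mpr hnt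
  obtain ⟨φ, -⟩ := Groth.Agent.S11614.result (Localization.AtPrime P) (Localization.AtPrime p)
    (maximalIdeal (Localization.AtPrime P)) (Localization.AtPrime p) (δ - (d - n))
  have hmap : Ideal.map (algebraMap (Localization.AtPrime P) (Localization.AtPrime p))
      (maximalIdeal (Localization.AtPrime P)) = maximalIdeal (Localization.AtPrime p) :=
    map_maximalIdeal p hπ
  rw [hmap] at φ
  have hH2 : ¬ Subsingleton (LocCoh.H (maximalIdeal (Localization.AtPrime p)) (δ - (d - n))
      (Localization.AtPrime p)) := fun hs => hH (φ.symm.toEquiv.subsingleton)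
  have hle : δ - (d - n) ≤ h := by
    by_contra hlt
    push Not at hlt
    exact hH2 (Groth.Agent.S0325.result (Localization.AtPrime p)
      (maximalIdeal (Localization.AtPrime p)) h (le_of_eq hdimA) (Localization.AtPrime p) _ hlt)
  omega

include hπ hn hd e in
/-- **localization of the canonical module** at a prime of its support -/
theorem canonical_localization (hp : Nontrivial (LocalizedModule p.primeCompl K)) (h : ℕ)
    (hh : ringKrullDim (Localization.AtPrime p) = h)
    (E' : Type u) [AddCommGroup E'] [Module (Localization.AtPrime p) E']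
    (f' : ResidueField (Localization.AtPrime p) →ₗ[Localization.AtPrime p] E')
    (hf' : InjHull.IsInjectiveHull f') :
    Nonempty ((LocalizedModule p.primeCompl K →ₗ[Localization.AtPrime p] E') ≃ₗ[Localization.AtPrime p]
      LocCoh.H (maximalIdeal (Localization.AtPrime p)) h (Localization.AtPrime p)) := by
  letI := algLoc (algebraMap G A) p
  letI := modLoc (algebraMap G A) K p
  set P := p.comap (algebraMap G A) with hP
  haveI := gor_localization G P
  obtain ⟨δ, hδ⟩ : ∃ δ : ℕ, P.height = δ :=
    ENat.ne_top_iff_exists.1 (Ideal.height_ne_top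
      (Ideal.IsPrime.ne_top inferInstance)) |>.imp fun _ h => h.symm
  obtain ⟨e', he'⟩ := exists_dim_quot A p
  have hh' : p.height = h := by
    rw [IsLocalization.AtPrime.ringKrullDim_eq_height p] at hh
    exact_mod_cast hh
  have hdimG : ringKrullDim (Localization.AtPrime P) = δ := by
    rw [IsLocalization.AtPrime.ringKrullDim_eq_height P, hδ]; rfl
  obtain ⟨h1, h2, h3⟩ := dims_of_nontrivial hπ n d hn hd K e p hp h δ e' hh' hδ he'
  obtain ⟨ε⟩ := loc_ext hπ K p (d - n) e
  rw [h1] at ε
  haveI : IsScalarTower (Localization.AtPrime P) (Localization.AtPrime p)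
      (LocalizedModule p.primeCompl K) := IsScalarTower.of_algebraMap_smul fun _ _ => rfl
  exact Groth.Agent.Lib.helper19.CanMod.canonical_of_ext (Localization.AtPrime P)
    (Localization.AtPrime p) (locHom_surjective p hπ) h δ hh hdimG E' f' hf'
    (LocalizedModule p.primeCompl K) ε

omit [IsLocalRing A] in
include hπ hn hd e in
/-- the support of the canonical module -/
theorem nontrivial_localization_iff (h e' : ℕ) (hh : p.height = h)
    (he' : ringKrullDim (A ⧸ p) = e') :
    Nontrivial (LocalizedModule p.primeCompl K) ↔ h + e' = n := by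
  letI := algLoc (algebraMap G A) p
  letI := modLoc (algebraMap G A) K p
  set P := p.comap (algebraMap G A) with hP
  haveI := gor_localization G P
  obtain ⟨δ, hδ⟩ : ∃ δ : ℕ, P.height = δ :=
    ENat.ne_top_iff_exists.1 (Ideal.height_ne_top
      (Ideal.IsPrime.ne_top inferInstance)) |>.imp fun _ h => h.symm
  constructor
  · intro hp
    exact (dims_of_nontrivial hπ n d hn hd K e p hp h δ e' hh hδ he').2.2
  · intro hsum
    have hdimG : ringKrullDim (Localization.AtPrime P) = δ := by
      rw [IsLocalization.AtPrime.ringKrullDim_eq_height P, hδ]; rfl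
    have hdimA : ringKrullDim (Localization.AtPrime p) = h := by
      rw [IsLocalization.AtPrime.ringKrullDim_eq_height p, hh]; rfl
    have F1 : δ + e' = d := by
      have := height_comap_add hπ d hd p e' he'
      rw [← hP, hδ] at this
      exact_mod_cast this
    have hnd : n ≤ d := by
      have := ringKrullDim_le_of_surjective (algebraMap G A) hπ
      rw [hn, hd] at this
      exact_mod_cast this
    obtain ⟨ε⟩ := loc_ext hπ K p (d - n) e
    haveI : Module.Finite (Localization.AtPrime P) (Localization.AtPrime p) :=
      Module.Finite.of_surjective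
        (Algebra.linearMap (Localization.AtPrime P) (Localization.AtPrime p))
        (locHom_surjective p hπ)
    have hnt : Nontrivial (LocCoh.H (maximalIdeal (Localization.AtPrime p)) h
        (Localization.AtPrime p)) := by
      apply Groth.Agent.Lib.helper2.GNV.nontrivial_H_supportDim h (Localization.AtPrime p)
      rw [Module.supportDim_self_eq_ringKrullDim, hdimA]
    obtain ⟨φ, -⟩ := Groth.Agent.S11614.result (Localization.AtPrime P) (Localization.AtPrime p)
      (maximalIdeal (Localization.AtPrime P)) (Localization.AtPrime p) h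
    have hmap : Ideal.map (algebraMap (Localization.AtPrime P) (Localization.AtPrime p))
        (maximalIdeal (Localization.AtPrime P)) = maximalIdeal (Localization.AtPrime p) :=
      map_maximalIdeal p hπ
    rw [hmap] at φ
    have hnt2 : Nontrivial (LocCoh.H (maximalIdeal (Localization.AtPrime P)) h
        (Localization.AtPrime p)) := φ.injective.nontrivial
    have hnt3 : ¬ Subsingleton (Abelian.Ext.{u}
        (ModuleCat.of (Localization.AtPrime P) (Localization.AtPrime p))
        (ModuleCat.of (Localization.AtPrime P) (Localization.AtPrime P)) (d - n)) := by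
      rw [← H_subsingleton_iff (Localization.AtPrime P) δ hdimG (Localization.AtPrime p)
        h (d - n) (by omega)]
      exact not_subsingleton_iff_nontrivial.mpr hnt2
    rw [not_subsingleton_iff_nontrivial] at hnt3
    exact ε.symm.injective.nontrivial

end Main

end Groth.Agent.Lib.helper19.CanMod
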