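import Mathlib
import Groth.Prelude.Def_Wider
import Groth.Agent.Lib.Helper19.HullTools
set_option autoImplicit false

/-! Length under a flat local base change `A → B` with `m_A B = m_B`:
`length_B (B ⊗ N) = length_A N` for `N` of finite length; base change of `Hom(A/𝔞, E)`. -/

universe u

namespace Groth.Agent.Lib.helper19.FlatLen
open IsLocalRing TensorProduct

section
variable {A : Type u} [CommRing A] [IsLocalRing A] {B : Type u} [CommRing B] [IsLocalRing B]
  [Algebra A B] [Module.Flat A B]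
  (hm : (maximalIdeal A).map (algebraMap A B) = maximalIdeal B)

include hm in
theorem length_baseChange_simple (S : Type u) [AddCommGroup S] [Module A S] [IsSimpleModule A S] :
    Module.length B (B ⊗[A] S) = 1 := by
  obtain ⟨I, hI, ⟨e⟩⟩ := isSimpleModule_iff_quot_maximal.mp (inferInstance : IsSimpleModule A S)
  have hI' : I = maximalIdeal A := IsLocalRing.eq_maximalIdeal hI
  subst hI'
  let e₁ : B ⊗[A] S ≃ₗ[B] B ⊗[A] (A ⧸ maximalIdeal A) := LinearEquiv.baseChange A B _ _ e
  let e₂ : (B ⧸ (maximalIdeal A).map (algebraMap A B)) ≃ₗ[B] B ⊗[A] (A ⧸ maximalIdeal A) :=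
    (Algebra.TensorProduct.quotIdealMapEquivTensorQuot B (maximalIdeal A)).toLinearEquiv
  let e₃ : (B ⧸ (maximalIdeal A).map (algebraMap A B)) ≃ₗ[B] (B ⧸ maximalIdeal B) :=
    Submodule.quotEquivOfEq _ _ hm
  rw [(e₁.trans (e₂.symm.trans e₃)).length_eq]
  haveI : IsSimpleModule B (B ⧸ maximalIdeal B) :=
    isSimpleModule_iff_quot_maximal.mpr ⟨_, inferInstance, ⟨LinearEquiv.refl _ _⟩⟩
  exact Module.length_eq_one B _

include hm in
/-- `length_B (B ⊗ N) = length_A N` for `N` of finite length -/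
theorem length_baseChange (N : Type u) [AddCommGroup N] [Module A N] (hN : IsFiniteLength A N) :
    Module.length B (B ⊗[A] N) = Module.length A N := by
  induction hN with
  | of_subsingleton =>
    rw [Module.length_eq_zero, Module.length_eq_zero]
  | @of_simple_quotient N _ _ N' _ hN' ih =>
    have h1 := Module.length_eq_add_of_exact N'.subtype N'.mkQ N'.injective_subtype
      (Submodule.mkQ_surjective N') (LinearMap.exact_subtype_mkQ N')
    have h2 := Module.length_eq_add_of_exact (N'.subtype.baseChange B) (N'.mkQ.baseChange B)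
      (Module.Flat.lTensor_preserves_injective_linearMap (M := B) N'.subtype N'.injective_subtype)
      (LinearMap.lTensor_surjective B (Submodule.mkQ_surjective N'))
      (lTensor_exact B (LinearMap.exact_subtype_mkQ N') (Submodule.mkQ_surjective N'))
    rw [h1, h2, ih, length_baseChange_simple hm (N ⧸ N'), Module.length_eq_one A (N ⧸ N')]

/-- `B/𝔞B ≅ B ⊗ A/𝔞` as `B`-modules -/
noncomputable def quotEquiv (𝔞 : Ideal A) :
    (B ⧸ 𝔞.map (algebraMap A B)) ≃ₗ[B] B ⊗[A] (A ⧸ 𝔞) :=
  (Algebra.TensorProduct.quotIdealMapEquivTensorQuot B 𝔞).toLinearEquiv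

include hm in
theorem length_quot_map (𝔞 : Ideal A) (h𝔞 : IsFiniteLength A (A ⧸ 𝔞)) :
    Module.length B (B ⧸ 𝔞.map (algebraMap A B)) = Module.length A (A ⧸ 𝔞) := by
  rw [(quotEquiv (B := B) 𝔞).length_eq]
  exact length_baseChange hm _ h𝔞

/-- flat base change of `Hom(A/𝔞, E)` -/
noncomputable def homEquiv [IsNoetherianRing A] (𝔞 : Ideal A) (E : Type u) [AddCommGroup E]
    [Module A E] :
    ((B ⧸ 𝔞.map (algebraMap A B)) →ₗ[B] B ⊗[A] E) ≃ₗ[B] B ⊗[A] ((A ⧸ 𝔞) →ₗ[A] E) :=
  haveI : Module.FinitePresentation A (A ⧸ 𝔞) := Module.finitePresentation_of_finite A (A ⧸ 𝔞)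
  (LinearEquiv.congrLeft (B ⊗[A] E) B (quotEquiv (B := B) 𝔞)).trans
    (Module.FinitePresentation.isBaseChange_map A (A ⧸ 𝔞) E B).equiv.symm

include hm in
theorem length_hom_quot_map [IsNoetherianRing A] (𝔞 : Ideal A) (E : Type u) [AddCommGroup E]
    [Module A E] (hfin : IsFiniteLength A ((A ⧸ 𝔞) →ₗ[A] E)) :
    Module.length B ((B ⧸ 𝔞.map (algebraMap A B)) →ₗ[B] B ⊗[A] E) =
      Module.length A ((A ⧸ 𝔞) →ₗ[A] E) := by
  rw [(homEquiv (B := B) 𝔞 E).length_eq]
  exact length_baseChange hm _ hfin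

include hm in
theorem isPowerTorsion_baseChange (E : Type u) [AddCommGroup E] [Module A E]
    (hE : LocCoh.IsPowerTorsion (maximalIdeal A) E) :
    LocCoh.IsPowerTorsion (maximalIdeal B) (B ⊗[A] E) := by
  have hpow : ∀ n : ℕ, maximalIdeal B ^ n = (maximalIdeal A ^ n).map (algebraMap A B) := by
    intro n; rw [Ideal.map_pow, hm]
  intro z
  induction z using TensorProduct.induction_on with
  | zero => exact ⟨0, fun a _ => smul_zero a⟩
  | tmul b e =>
    obtain ⟨n, hn⟩ := hE e
    refine ⟨n, fun c hc => ?_⟩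
    rw [hpow n] at hc
    refine Submodule.span_induction (p := fun c _ => c • (b ⊗ₜ[A] e) = 0) ?_ ?_ ?_ ?_ hc
    · rintro _ ⟨a, ha, rfl⟩
      rw [TensorProduct.smul_tmul', smul_eq_mul, ← Algebra.smul_def, TensorProduct.smul_tmul,
        hn a ha, TensorProduct.tmul_zero]
    · exact zero_smul _ _
    · intro c d _ _ hc hd; rw [add_smul, hc, hd, add_zero]
    · intro s c _ hc; rw [smul_eq_mul, mul_smul, hc, smul_zero]
  | add x y hx hy =>
    obtain ⟨n, hn⟩ := hx
    obtain ⟨m, hm'⟩ := hy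
    refine ⟨max n m, fun c hc => ?_⟩
    rw [smul_add, hn c (Ideal.pow_le_pow_right (le_max_left n m) hc),
      hm' c (Ideal.pow_le_pow_right (le_max_right n m) hc), add_zero]

end

end Groth.Agent.Lib.helper19.FlatLen
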