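import Mathlib
import Groth.Prelude.Def_Wider
import Groth.Agent.Lib.Helper19.LCLes2
import Groth.Agent.Lib.Helper19.LCFactor
import Groth.Agent.Lib.Helper19.LCGroth
import Groth.Agent.S5162
set_option autoImplicit false

/-! Multiplication by an element on top local cohomology: surjectivity when the quotient has smaller
dimension, and divisibility of the kernel. -/

universe u

namespace Groth.Agent.Lib.helper19.TopSurj
open CategoryTheory Groth.Agent.Lib.helper19.LCBridge Groth.Agent.Lib.helper19.LCLes
  Groth.Agent.Lib.helper19.LCLes2 Groth.Agent.Lib.helper19.LCFactor Groth.Agent.S5162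
open scoped Pointwise

variable {R : Type u} [CommRing R] [IsNoetherianRing R] (I : Ideal R)

/-- local cohomology -/
abbrev HH (i : ℕ) (M : Type u) [AddCommGroup M] [Module R M] : Type u :=
  ((localCohomology I i).obj (ModuleCat.of R M) : ModuleCat.{u} R)

variable (M : Type u) [AddCommGroup M] [Module R M] [Module.Finite R M] (a : R)

/-- multiplication by `a` -/
abbrev L : M →ₗ[R] M := a • LinearMap.id

lemma range_L : LinearMap.range (L M a) = a • (⊤ : Submodule R M) := by
  ext y
  rw [Submodule.mem_smul_pointwise_iff_exists]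
  constructor
  · rintro ⟨x, rfl⟩; exact ⟨x, trivial, rfl⟩
  · rintro ⟨x, -, rfl⟩; exact ⟨x, rfl⟩

/-- the kernel of multiplication by `a` has support inside that of `M/aM` -/
lemma supportDim_ker_le :
    Module.supportDim R (LinearMap.ker (L M a)) ≤ Module.supportDim R (QuotSMulTop a M) := by
  have hsub : ∀ p : Module.support R (LinearMap.ker (L M a)),
      p.1 ∈ Module.support R (QuotSMulTop a M) := by
    intro p
    rw [Module.support_quotSMulTop]
    refine ⟨Module.support_subset_of_injective _ (Submodule.injective_subtype _) p.2, ?_⟩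
    rw [PrimeSpectrum.mem_zeroLocus, Set.singleton_subset_iff]
    apply Module.annihilator_le_of_mem_support p.2
    rw [Module.mem_annihilator]
    intro x
    apply Subtype.ext
    exact x.2
  exact Order.krullDim_le_of_strictMono
    (fun p => (⟨p.1, hsub p⟩ : Module.support R (QuotSMulTop a M))) (fun {_ _} lt => lt)

/-- the map `M → aM` -/
noncomputable abbrev π : M →ₗ[R] (a • (⊤ : Submodule R M) : Submodule R M) :=
  (L M a).codRestrict _ (fun x => by rw [← range_L]; exact ⟨x, rfl⟩)

lemma π_surjective : Function.Surjective (π M a) := by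
  rintro ⟨y, hy⟩
  rw [← range_L] at hy
  obtain ⟨x, rfl⟩ := hy
  exact ⟨x, rfl⟩

lemma ker_π : LinearMap.ker (π M a) = LinearMap.ker (L M a) := by
  ext x
  rw [LinearMap.mem_ker, LinearMap.mem_ker]
  constructor
  · intro h; exact congrArg Subtype.val h
  · intro h; exact Subtype.ext h

/-- `0 → ker → M → aM → 0` -/
lemma ses1 : (sesOf (LinearMap.ker (π M a)).subtype (π M a)
    (LinearMap.exact_subtype_ker_map _)).ShortExact :=
  sesOf_shortExact _ _ (Submodule.injective_subtype _) (π_surjective M a)
    (LinearMap.exact_subtype_ker_map _)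

/-- `0 → aM → M → M/aM → 0` -/
lemma ses2 : (sesOf (a • (⊤ : Submodule R M)).subtype (a • (⊤ : Submodule R M)).mkQ
    (LinearMap.exact_subtype_mkQ _)).ShortExact :=
  sesOf_shortExact _ _ (Submodule.injective_subtype _) (Submodule.mkQ_surjective _)
    (LinearMap.exact_subtype_mkQ _)

lemma map_comp (i : ℕ) (x : HH I i M) :
    ((localCohomology I i).map (ModuleCat.ofHom (a • (⊤ : Submodule R M)).subtype)).hom
      (((localCohomology I i).map (ModuleCat.ofHom (π M a))).hom x) = a • x := by
  have h1 : ModuleCat.ofHom (π M a) ≫ ModuleCat.ofHom (a • (⊤ : Submodule R M)).subtype =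
      a • 𝟙 (ModuleCat.of R M) := by
    apply ModuleCat.hom_ext; rfl
  have h2 := H_map_smul_id I i (ModuleCat.of R M) a x
  rw [← h1, Functor.map_comp, ModuleCat.hom_comp, LinearMap.comp_apply] at h2
  exact h2

/-- multiplication by `a` is surjective on `H^e_I(M)` when `dim M ≤ e` and `dim M/aM < e` -/
theorem smul_surjective (e : ℕ) (hM : Module.supportDim R M ≤ (e : WithBot ℕ∞))
    (hq : Module.supportDim R (QuotSMulTop a M) < (e : WithBot ℕ∞)) :
    ∀ y : HH I e M, ∃ x : HH I e M, a • x = y := by
  intro y
  have hv1 : Subsingleton (HH I (e + 1) (LinearMap.ker (π M a))) := by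
    apply Groth.Agent.Lib.helper19.LCGroth.vanish I _ (e + 1)
    refine lt_of_le_of_lt ((Module.supportDim_le_of_injective _
      (Submodule.injective_subtype _)).trans hM) ?_
    exact_mod_cast Nat.lt_succ_self e
  have hv2 : Subsingleton (HH I e (M ⧸ (a • (⊤ : Submodule R M)))) :=
    Groth.Agent.Lib.helper19.LCGroth.vanish I _ e hq
  obtain ⟨z, hz⟩ := H_f_surjective_of_vanish I e (ses2 M a) hv2 y
  obtain ⟨x, hx⟩ := H_surjective_of_vanish I e (ses1 M a) hv1 z
  refine ⟨x, ?_⟩
  rw [← map_comp I M a e x]
  have hx' : ((localCohomology I e).map (ModuleCat.ofHom (π M a))).hom x = z := hx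
  rw [hx']
  exact hz

/-- elements of `H^{j+1}_I(M)` killed by `a` are divisible by `b` inside the kernel of `a`, when `b` is
surjective on `H^j_I(M/aM)` -/
theorem ker_divisible (j : ℕ) (hq : Module.supportDim R (QuotSMulTop a M) ≤ (j : WithBot ℕ∞))
    (hv : ∀ N : ModuleCat.{u} R, Subsingleton ((localCohomology I (j + 2)).obj N))
    (b : R) (hsurj : ∀ y : HH I j (QuotSMulTop a M), ∃ y' : HH I j (QuotSMulTop a M), b • y' = y) :
    ∀ h : HH I (j + 1) M, a • h = 0 → ∃ h' : HH I (j + 1) M, a • h' = 0 ∧ b • h' = h := by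
  intro h hh
  have hS1 := ses1 M a
  have hS2 := ses2 M a
  have hv1 : Subsingleton (HH I (j + 1) (LinearMap.ker (π M a))) := by
    apply Groth.Agent.Lib.helper19.LCGroth.vanish I _ (j + 1)
    rw [ker_π]
    refine lt_of_le_of_lt ((supportDim_ker_le M a).trans hq) ?_
    exact_mod_cast Nat.lt_succ_self j
  -- `H(π)` is bijective
  have hπinj : Function.Injective ((localCohomology I (j + 1)).map (ModuleCat.ofHom (π M a))).hom :=
    H_g_injective_of_vanish I (j + 1) hS1 hv1
  have hπsurj : Function.Surjective
      ((localCohomology I (j + 1)).map (ModuleCat.ofHom (π M a))).hom :=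
    H_surjective_of_vanish I (j + 1) hS1 (hv _)
  -- `H(π) h` is a boundary
  have h1 : ((localCohomology I (j + 1)).map (ModuleCat.ofHom (a • (⊤ : Submodule R M)).subtype)).hom
      (((localCohomology I (j + 1)).map (ModuleCat.ofHom (π M a))).hom h) = 0 := by
    rw [map_comp]; exact hh
  obtain ⟨y, hy⟩ := exact_at_X₁ I j hS2 _ h1
  obtain ⟨y', hy'⟩ := hsurj y
  obtain ⟨h', hh'⟩ := hπsurj (δH I j hS2 y')
  refine ⟨h', ?_, ?_⟩
  · rw [← map_comp I M a (j + 1) h']
    have : ((localCohomology I (j + 1)).map (ModuleCat.ofHom (π M a))).hom h' = δH I j hS2 y' := hh'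
    rw [this]
    exact f_comp_δH I j hS2 y'
  · apply hπinj
    have e1 : δH I j hS2 (b • y') = b • δH I j hS2 y' := (δH I j hS2).map_smul b y'
    have e2 : δH I j hS2 (b • y') = δH I j hS2 y := congrArg _ hy'
    have e3 : ((localCohomology I (j + 1)).map (ModuleCat.ofHom (π M a))).hom (b • h') =
        b • ((localCohomology I (j + 1)).map (ModuleCat.ofHom (π M a))).hom h' := map_smul _ b h'
    have e4 : b • ((localCohomology I (j + 1)).map (ModuleCat.ofHom (π M a))).hom h' =
        b • δH I j hS2 y' := congrArg (fun t => b • t) hh'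
    exact e3.trans (e4.trans (e1.symm.trans (e2.trans hy)))

end Groth.Agent.Lib.helper19.TopSurj
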