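import Mathlib
import Groth.Agent.S11617
import Groth.Agent.S0312
import Groth.Agent.S7693
import Groth.Agent.Lib.Helper26.Depth1
import Groth.Agent.Lib.Helper19.CanMod2

/-!
# Canonical modules (helper19), part 3: base change, depth, quotients

`K` a canonical module of a Noetherian local ring `R` of dimension `n` (`Hom_R(K, E) ≅ H^n_m(R)`).

* `canonical_baseChange` : for a flat local `A → B` with `m_A B = m_B`, `B ⊗ K` is a canonical module
  of `B` with respect to `B ⊗ E`.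
* `exists_sop` : systems of parameters exist.
* `min_two_le_depth` : `min(2, n) ≤ depth K`.
* `faithful_of_dim_zero` : `K` is faithful if `n = 0`.
* `canonical_quot_iff` : `K` is a canonical module of `R` iff it is one of `R ⧸ u`, for an ideal `u`
  of dimension `< n` killing `K`.
-/

set_option autoImplicit false
universe u

namespace Groth.Agent.Lib.helper19.CanMod
open TensorProduct IsLocalRing CategoryTheory Groth.Agent.S5156 Groth.Agent.S7708

/-- flat local base change of a canonical module -/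
theorem canonical_baseChange (A B : Type u) [CommRing A] [IsLocalRing A] [IsNoetherianRing A]
    [CommRing B] [IsLocalRing B] [IsNoetherianRing B] [Algebra A B] [Module.Flat A B]
    (hm : (maximalIdeal A).map (algebraMap A B) = maximalIdeal B)
    (n : ℕ) (E : Type u) [AddCommGroup E] [Module A E]
    (K : Type u) [AddCommGroup K] [Module A K] [Module.Finite A K]
    (eK : (K →ₗ[A] E) ≃ₗ[A] LocCoh.H (maximalIdeal A) n A) :
    Nonempty ((B ⊗[A] K →ₗ[B] B ⊗[A] E) ≃ₗ[B] LocCoh.H (maximalIdeal B) n B) := by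
  haveI : Module.FinitePresentation A K := Module.finitePresentation_of_finite A K
  let e1 : (B ⊗[A] K →ₗ[B] B ⊗[A] E) ≃ₗ[B] B ⊗[A] (K →ₗ[A] E) :=
    (Module.FinitePresentation.isBaseChange_map A K E B).equiv.symm
  let e2 : B ⊗[A] (K →ₗ[A] E) ≃ₗ[B] B ⊗[A] LocCoh.H (maximalIdeal A) n A :=
    LinearEquiv.baseChange A B _ _ eK
  obtain ⟨e3⟩ := Groth.Agent.S11617.result A B (maximalIdeal A) A n
  rw [hm] at e3
  let e4 : LocCoh.H (maximalIdeal B) n (B ⊗[A] A) ≃ₗ[B] LocCoh.H (maximalIdeal B) n B :=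
    ((localCohomology (maximalIdeal B) n).mapIso
      (LinearEquiv.toModuleIso (TensorProduct.AlgebraTensorModule.rid A B B))).toLinearEquiv
  exact ⟨e1.trans (e2.trans (e3.trans e4))⟩



/-- a system of parameters -/
theorem exists_sop (R : Type u) [CommRing R] [IsNoetherianRing R] [IsLocalRing R] (n : ℕ)
    (hn : ringKrullDim R = n) :
    ∃ a : Fin n → R, (∀ i, a i ∈ maximalIdeal R) ∧
      maximalIdeal R ≤ (Ideal.span (Set.range a)).radical := by
  classical
  have hmtop : maximalIdeal R ≠ ⊤ := Ideal.IsPrime.ne_top'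
  obtain ⟨J, hJ, hrank, hht⟩ := Ideal.exists_spanRank_eq_and_height_eq (maximalIdeal R) hmtop
  have hhm : (maximalIdeal R).height = n := by
    have h1 : ((maximalIdeal R).height : WithBot ℕ∞) = ((n : ℕ∞) : WithBot ℕ∞) := by
      rw [IsLocalRing.maximalIdeal_height_eq_ringKrullDim, hn]; rfl
    exact_mod_cast h1
  have hJfg : J.FG := (isNoetherianRing_iff_ideal_fg R).mp inferInstance J
  have hfr : J.spanFinrank = n := by
    rw [hhm] at hrank
    exact (Submodule.FG.spanRank_eq_iff hJfg n).mp (by exact_mod_cast hrank)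
  obtain ⟨s, hs1, hs2⟩ := Submodule.FG.exists_span_finset_card_eq_spanFinrank hJfg
  rw [hfr] at hs1
  let ε : s ≃ Fin n := s.equivFinOfCardEq hs1
  refine ⟨fun i => ((ε.symm i : s) : R), fun i => hJ ?_, ?_⟩
  · rw [← hs2]
    exact Submodule.subset_span (ε.symm i).2
  · have hrange : Set.range (fun i => ((ε.symm i : s) : R)) = (s : Set R) := by
      ext x
      constructor
      · rintro ⟨i, rfl⟩
        exact (ε.symm i).2
      · intro hx
        exact ⟨ε ⟨x, hx⟩, by simp⟩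
    rw [hrange]
    have hs2' : Ideal.span (s : Set R) = J := hs2
    rw [hs2', Ideal.radical_eq_sInf]
    refine le_sInf ?_
    rintro P ⟨hJP, hP⟩
    haveI := hP
    have h1 : (maximalIdeal R).height ≤ P.height := by
      rw [← hht]; exact Ideal.height_mono hJP
    have h2 : P ≤ maximalIdeal R := le_maximalIdeal hP.ne_top
    rcases lt_or_eq_of_le h2 with h3 | h3
    · exfalso
      have := Ideal.height_strict_mono_of_isPrime h3
      exact absurd h1 (not_le.mpr this)
    · exact h3.ge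



/-- the depth of a canonical module is at least `min(2, dim R)` -/
theorem min_two_le_depth (R : Type u) [CommRing R] [IsNoetherianRing R] [IsLocalRing R] (n : ℕ)
    (hn : ringKrullDim R = n) (E : Type u) [AddCommGroup E] [Module R E]
    (f : ResidueField R →ₗ[R] E) (hf : InjHull.IsInjectiveHull f)
    (K : Type u) [AddCommGroup K] [Module R K] [Module.Finite R K]
    (eK : (K →ₗ[R] E) ≃ₗ[R] LocCoh.H (maximalIdeal R) n R) :
    ((min 2 n : ℕ) : ℕ∞) ≤ LocCoh.depth R K := by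
  rcases Nat.eq_zero_or_pos n with h0 | hn0
  · subst h0
    simp
  obtain ⟨a, ha, hsop⟩ := exists_sop R n hn
  obtain ⟨h1, h2⟩ := Groth.Agent.S7693.result R n hn E f hf K eK hn0 a ha hsop
  by_cases h2n : 2 ≤ n
  · have hreg := (h2 h2n).toIsWeaklyRegular
    have := Groth.Agent.Lib.helper26.Depth.length_le_idealDepth (I := maximalIdeal R) hreg
      (by
        intro r hr
        simp only [List.mem_cons, List.not_mem_nil, or_false] at hr
        rcases hr with rfl | rfl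
        · exact ha _
        · exact ha _)
    rw [min_eq_left h2n]
    exact this
  · have hn1 : n = 1 := by omega
    have hreg : RingTheory.Sequence.IsWeaklyRegular K [a ⟨0, hn0⟩] := by
      rw [RingTheory.Sequence.isWeaklyRegular_cons_iff]
      exact ⟨h1, RingTheory.Sequence.IsWeaklyRegular.nil _ _⟩
    have := Groth.Agent.Lib.helper26.Depth.length_le_idealDepth (I := maximalIdeal R) hreg
      (by
        intro r hr
        simp only [List.mem_cons, List.not_mem_nil, or_false] at hr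
        rw [hr]
        exact ha _)
    rw [hn1]
    exact this



/-- a canonical module of an Artinian local ring is faithful -/
theorem faithful_of_dim_zero (R : Type u) [CommRing R] [IsNoetherianRing R] [IsLocalRing R]
    (hn : ringKrullDim R = (0 : ℕ)) (E : Type u) [AddCommGroup E] [Module R E]
    (K : Type u) [AddCommGroup K] [Module R K]
    (eK : (K →ₗ[R] E) ≃ₗ[R] LocCoh.H (maximalIdeal R) 0 R) (r : R) (hr : ∀ k : K, r • k = 0) :
    r = 0 := by
  haveI : Ring.KrullDimLE 0 R := by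
    rw [Ring.krullDimLE_iff, hn]
  haveI : IsArtinianRing R := isArtinianRing_iff_krullDimLE_zero.mpr inferInstance
  have hnil : IsNilpotent (maximalIdeal R) :=
    (isArtinianRing_iff_isNilpotent_maximalIdeal R).mp inferInstance
  obtain ⟨t, ht⟩ := hnil
  have hT : Groth.Agent.Lib.helper19.LCZero.IsTors (maximalIdeal R) R := by
    intro x
    refine ⟨t, fun a ha => ?_⟩
    rw [ht] at ha
    rw [(Submodule.mem_bot R).mp ha, zero_smul]
  let e := Groth.Agent.Lib.helper19.LCZero.zeroEquivOfTorsion (maximalIdeal R) R hT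
  let x : K →ₗ[R] E := (eK.trans e).symm 1
  have hx : r • x = 0 := by
    apply LinearMap.ext
    intro k
    rw [LinearMap.smul_apply, ← map_smul, hr, map_zero, LinearMap.zero_apply]
  have h1 : (eK.trans e) (r • x) = r • (1 : R) := by
    rw [map_smul, LinearEquiv.apply_symm_apply]
  rw [hx, map_zero] at h1
  simpa using h1.symm



/-- canonical modules of `R` and of `R ⧸ u` for an ideal `u` of dimension `< dim R` -/
theorem canonical_quot_iff (R : Type u) [CommRing R] [IsNoetherianRing R] [IsLocalRing R]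
    (n : ℕ) (E : Type u) [AddCommGroup E] [Module R E]
    (f : ResidueField R →ₗ[R] E) (hf : InjHull.IsInjectiveHull f)
    (𝔲 : Ideal R) (hu : Module.supportDim R 𝔲 < n) [IsLocalRing (R ⧸ 𝔲)]
    (E' : Type u) [AddCommGroup E'] [Module (R ⧸ 𝔲) E']
    (f' : ResidueField (R ⧸ 𝔲) →ₗ[R ⧸ 𝔲] E') (hf' : InjHull.IsInjectiveHull f')
    (K : Type u) [AddCommGroup K] [Module R K] [Module (R ⧸ 𝔲) K] [IsScalarTower R (R ⧸ 𝔲) K] :
    Nonempty ((K →ₗ[R] E) ≃ₗ[R] LocCoh.H (maximalIdeal R) n R) ↔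
      Nonempty ((K →ₗ[R ⧸ 𝔲] E') ≃ₗ[R ⧸ 𝔲] LocCoh.H (maximalIdeal (R ⧸ 𝔲)) n (R ⧸ 𝔲)) := by
  classical
  have hsurj : Function.Surjective (algebraMap R (R ⧸ 𝔲)) := Ideal.Quotient.mk_surjective
  haveI : Module.Finite R (R ⧸ 𝔲) := Module.Finite.of_surjective (Algebra.linearMap R (R ⧸ 𝔲)) hsurj
  -- the hull over the quotient
  obtain ⟨g₀, hg₀⟩ := Groth.Agent.S5156.result R (R ⧸ 𝔲) E f hf
  obtain ⟨e0, -⟩ := Groth.Agent.S0302.result (R ⧸ 𝔲) _ E' _ f' hf' g₀ hg₀
  let Θ : (K →ₗ[R ⧸ 𝔲] E') ≃+ (K →ₗ[R] E) :=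
    (LinearEquiv.congrRight e0 : (K →ₗ[R ⧸ 𝔲] E') ≃ₗ[R ⧸ 𝔲]
      (K →ₗ[R ⧸ 𝔲] C R (R ⧸ 𝔲) E)).toAddEquiv.trans (adj R (R ⧸ 𝔲) E K)
  have hΘ : ∀ (a : R) (x : K →ₗ[R ⧸ 𝔲] E'), Θ (algebraMap R (R ⧸ 𝔲) a • x) = a • Θ x := by
    intro a x
    show adj R (R ⧸ 𝔲) E K (LinearEquiv.congrRight e0 (algebraMap R (R ⧸ 𝔲) a • x)) =
      a • adj R (R ⧸ 𝔲) E K (LinearEquiv.congrRight e0 x)
    rw [map_smul, adj_smul]
  -- local cohomology of the quotient
  have hv1 : Subsingleton ((localCohomology (maximalIdeal R) n).obj (ModuleCat.of R 𝔲) :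
      ModuleCat.{u} R) := Groth.Agent.Lib.helper19.LCGroth.vanish (maximalIdeal R) 𝔲 n hu
  have hv2 : Subsingleton ((localCohomology (maximalIdeal R) (n + 1)).obj (ModuleCat.of R 𝔲) :
      ModuleCat.{u} R) :=
    Groth.Agent.Lib.helper19.LCGroth.vanish (maximalIdeal R) 𝔲 (n + 1)
      (lt_of_lt_of_le hu (by exact_mod_cast Nat.le_succ n))
  have hex : Function.Exact (Submodule.subtype 𝔲) (Submodule.mkQ 𝔲) :=
    LinearMap.exact_subtype_mkQ 𝔲
  have hS := Groth.Agent.Lib.helper19.ExtLoc.sc_shortExact (Submodule.subtype 𝔲) (Submodule.mkQ 𝔲)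
    (Submodule.injective_subtype 𝔲) (Submodule.mkQ_surjective 𝔲) hex
  let ψ : LocCoh.H (maximalIdeal R) n R ≃ₗ[R] LocCoh.H (maximalIdeal R) n (R ⧸ 𝔲) :=
    LinearEquiv.ofBijective ((localCohomology (maximalIdeal R) n).map
      (ModuleCat.ofHom (Submodule.mkQ 𝔲))).hom
      ⟨Groth.Agent.Lib.helper19.LCLes.H_g_injective_of_vanish (maximalIdeal R) n hS hv1,
        Groth.Agent.Lib.helper19.LCLes.H_surjective_of_vanish (maximalIdeal R) n hS hv2⟩
  have hmap : Ideal.map (algebraMap R (R ⧸ 𝔲)) (maximalIdeal R) = maximalIdeal (R ⧸ 𝔲) :=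
    map_maximalIdeal (algebraMap R (R ⧸ 𝔲)) hsurj
  obtain ⟨φ, hφ⟩ : ∃ φ : LocCoh.H (maximalIdeal (R ⧸ 𝔲)) n (R ⧸ 𝔲) ≃+
      LocCoh.H (maximalIdeal R) n (R ⧸ 𝔲),
      ∀ (a : R) (x : LocCoh.H (maximalIdeal (R ⧸ 𝔲)) n (R ⧸ 𝔲)),
        φ (algebraMap R (R ⧸ 𝔲) a • x) = a • φ x := by
    rw [← hmap]
    exact Groth.Agent.S11614.result R (R ⧸ 𝔲) (maximalIdeal R) (R ⧸ 𝔲) n
  constructor
  · rintro ⟨ε⟩
    let Ψ : (K →ₗ[R ⧸ 𝔲] E') ≃+ LocCoh.H (maximalIdeal (R ⧸ 𝔲)) n (R ⧸ 𝔲) :=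
      Θ.trans (ε.toAddEquiv.trans (ψ.toAddEquiv.trans φ.symm))
    refine ⟨Ψ.toLinearEquiv ?_⟩
    intro r x
    obtain ⟨a, rfl⟩ := hsurj r
    show φ.symm (ψ (ε (Θ (algebraMap R (R ⧸ 𝔲) a • x)))) =
      algebraMap R (R ⧸ 𝔲) a • φ.symm (ψ (ε (Θ x)))
    rw [hΘ, map_smul, map_smul]
    apply φ.injective
    rw [hφ, φ.apply_symm_apply, φ.apply_symm_apply]
  · rintro ⟨ε'⟩
    let Ψ : (K →ₗ[R] E) ≃+ LocCoh.H (maximalIdeal R) n R :=
      Θ.symm.trans (ε'.toAddEquiv.trans (φ.trans ψ.symm.toAddEquiv))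
    refine ⟨Ψ.toLinearEquiv ?_⟩
    intro a y
    show ψ.symm (φ (ε' (Θ.symm (a • y)))) = a • ψ.symm (φ (ε' (Θ.symm y)))
    have h1 : Θ.symm (a • y) = algebraMap R (R ⧸ 𝔲) a • Θ.symm y := by
      apply Θ.injective
      rw [hΘ, Θ.apply_symm_apply, Θ.apply_symm_apply]
    rw [h1, map_smul, hφ, map_smul]

end Groth.Agent.Lib.helper19.CanMod
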