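import Mathlib
import Groth.Prelude.Def_Wider
import Groth.Agent.Lib.Helper19.LCLes2
import Groth.Agent.Lib.Helper19.LCGroth
import Groth.Agent.Lib.Helper19.ExtLoc1
set_option autoImplicit false

/-! # Finiteness of `H^1_I(M)` and associated primes (helper19)

* `finite_H_mid`, `finite_H_succ_left`, `finite_H_zero`, `finite_H_pi`, `finite_H_of_equiv` : finiteness
  along the long exact sequence of local cohomology.
* `exists_injective_of_torsionFree` : a finite torsion-free module over a domain embeds into a finite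
  free module; `exists_injective_of_killed` : the version for `R/p`.
* `mem_ass_of_mem_ass_quotient_torsion`, `mem_ass_of_mem_ass_torsion` : `Ass(M/Γ_J M) ⊆ Ass M ∖ V(J)`,
  `Ass(Γ_J M) ⊆ Ass M ∩ V(J)`.
* `finite_H_one_of_coprimary` : `H^1_I(N)` is finite for `p`-coprimary `N` if `H^1_I(R/p)` is.
* `finite_H_one_iff` : `H^1_I(M)` finite iff `H^1_I(R/p)` finite for all `p ∈ Ass M`, `I ⊄ p` (S1763).
-/

universe u

namespace Groth.Agent.Lib.helper19.H1Fin
open CategoryTheory Submodule Groth.Agent.Lib.helper19.LCBridge Groth.Agent.Lib.helper19.LCLes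
  Groth.Agent.Lib.helper19.LCLes2 Groth.Agent.Lib.helper19.LCZero
  Groth.Agent.Lib.helper19.ExtLoc Groth.Agent.Lib.helper19.LCFactor
  Groth.Agent.Lib.helper19.LCGroth

section LES
variable {R : Type u} [CommRing R] [IsNoetherianRing R] (I : Ideal R)
  {X₁ X₂ X₃ : Type u} [AddCommGroup X₁] [Module R X₁] [AddCommGroup X₂] [Module R X₂]
  [AddCommGroup X₃] [Module R X₃]
  (f : X₁ →ₗ[R] X₂) (g : X₂ →ₗ[R] X₃) (hf : Function.Injective f) (hg : Function.Surjective g)
  (hex : Function.Exact f g)

include hf hg hex in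
/-- finiteness of the middle term -/
theorem finite_H_mid (i : ℕ) (h1 : Module.Finite R (LocCoh.H I i X₁))
    (h3 : Module.Finite R (LocCoh.H I i X₃)) : Module.Finite R (LocCoh.H I i X₂) := by
  have hS := sc_shortExact f g hf hg hex
  haveI : IsNoetherian R (LocCoh.H I i X₁) := isNoetherian_of_isNoetherianRing_of_finite R _
  haveI : IsNoetherian R (LocCoh.H I i X₃) := isNoetherian_of_isNoetherianRing_of_finite R _
  have hN : IsNoetherian R (LocCoh.H I i X₂) :=
    isNoetherian_of_range_eq_ker ((localCohomology I i).map (sc f g hex).f).hom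
      ((localCohomology I i).map (sc f g hex).g).hom (by
      apply le_antisymm
      · rintro _ ⟨x, rfl⟩
        rw [LinearMap.mem_ker]
        have h0 : (localCohomology I i).map (sc f g hex).f ≫ (localCohomology I i).map (sc f g hex).g
            = 0 := by
          rw [← Functor.map_comp, (sc f g hex).zero]
          exact Functor.map_zero _ _ _
        exact congrArg (fun t => t.hom x) h0
      · intro x hx
        obtain ⟨x₁, hx₁⟩ := H_exact_mid I i hS x hx
        exact ⟨x₁, hx₁⟩)
  infer_instance

include hf hg hex in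
/-- finiteness of the left term in the next degree -/
theorem finite_H_succ_left (i : ℕ) (h3 : Module.Finite R (LocCoh.H I i X₃))
    (h2 : Module.Finite R (LocCoh.H I (i + 1) X₂)) : Module.Finite R (LocCoh.H I (i + 1) X₁) := by
  have hS := sc_shortExact f g hf hg hex
  haveI : IsNoetherian R (LocCoh.H I i X₃) := isNoetherian_of_isNoetherianRing_of_finite R _
  haveI : IsNoetherian R (LocCoh.H I (i + 1) X₂) := isNoetherian_of_isNoetherianRing_of_finite R _
  have hN : IsNoetherian R (LocCoh.H I (i + 1) X₁) :=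
    isNoetherian_of_range_eq_ker (δH I i hS)
      ((localCohomology I (i + 1)).map (sc f g hex).f).hom (by
      apply le_antisymm
      · rintro _ ⟨y, rfl⟩
        exact f_comp_δH I i hS y
      · intro x hx
        obtain ⟨y, hy⟩ := exact_at_X₁ I i hS x hx
        exact ⟨y, hy⟩)
  infer_instance

/-- `H^0_I` of a finite module is finite -/
theorem finite_H_zero (X : Type u) [AddCommGroup X] [Module R X] [Module.Finite R X] :
    Module.Finite R (LocCoh.H I 0 X) := by
  haveI : IsNoetherian R X := isNoetherian_of_isNoetherianRing_of_finite R X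
  exact Module.Finite.of_surjective (gammaToH I (ModuleCat.of R X))
    (gammaToH_bijective I (ModuleCat.of R X)).2

end LES

section Pi
variable {R : Type u} [CommRing R] (I : Ideal R) (i : ℕ)

/-- `H^i_I` of a finite product of copies of `X` is finite if `H^i_I(X)` is -/
theorem finite_H_pi (n : ℕ) (X : Type u) [AddCommGroup X] [Module R X]
    (h : Module.Finite R (LocCoh.H I i X)) : Module.Finite R (LocCoh.H I i (Fin n → X)) := by
  classical
  let Φ : (Fin n → LocCoh.H I i X) →ₗ[R] LocCoh.H I i (Fin n → X) :=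
    ∑ j : Fin n, ((localCohomology I i).map
      (ModuleCat.ofHom (LinearMap.single R (fun _ : Fin n => X) j))).hom ∘ₗ
        LinearMap.proj (R := R) (φ := fun _ : Fin n => LocCoh.H I i X) j
  have hid : 𝟙 (ModuleCat.of R (Fin n → X)) = ∑ j : Fin n,
      (ModuleCat.ofHom (LinearMap.proj (R := R) (φ := fun _ : Fin n => X) j) ≫
        ModuleCat.ofHom (LinearMap.single R (fun _ : Fin n => X) j)) := by
    apply ModuleCat.hom_ext
    apply LinearMap.ext
    intro v
    rw [ModuleCat.hom_sum, LinearMap.sum_apply]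
    simp only [ModuleCat.hom_comp, ModuleCat.hom_ofHom, LinearMap.comp_apply, LinearMap.proj_apply,
      LinearMap.single_apply, ModuleCat.hom_id, LinearMap.id_apply]
    exact (Finset.univ_sum_single v).symm
  apply Module.Finite.of_surjective Φ
  intro x
  refine ⟨fun j => ((localCohomology I i).map
    (ModuleCat.ofHom (LinearMap.proj (R := R) (φ := fun _ : Fin n => X) j))).hom x, ?_⟩
  have h1 : ((localCohomology I i).map (𝟙 (ModuleCat.of R (Fin n → X)))).hom x = x := by
    rw [CategoryTheory.Functor.map_id]; rfl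
  have h2 : x = ∑ j : Fin n, ((localCohomology I i).map
      (ModuleCat.ofHom (LinearMap.single R (fun _ : Fin n => X) j))).hom
        (((localCohomology I i).map
          (ModuleCat.ofHom (LinearMap.proj (R := R) (φ := fun _ : Fin n => X) j))).hom x) := by
    conv_lhs => rw [← h1, hid, H_map_sum]
    apply Finset.sum_congr rfl
    intro j _
    rw [Functor.map_comp, ModuleCat.hom_comp, LinearMap.comp_apply]
  rw [LinearMap.sum_apply]
  conv_rhs => rw [h2]
  apply Finset.sum_congr rfl
  intro j _
  rw [LinearMap.comp_apply]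
  rfl

/-- transport of finiteness along an isomorphism -/
theorem finite_H_of_equiv {X Y : Type u} [AddCommGroup X] [Module R X] [AddCommGroup Y] [Module R Y]
    (e : X ≃ₗ[R] Y) (h : Module.Finite R (LocCoh.H I i X)) : Module.Finite R (LocCoh.H I i Y) :=
  Module.Finite.equiv ((localCohomology I i).mapIso e.toModuleIso).toLinearEquiv

end Pi

section T
variable {B : Type u} [CommRing B] [IsDomain B] {M : Type u} [AddCommGroup M] [Module B M]

/-- a finite torsion-free module over a domain embeds into a finite free module -/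
theorem exists_injective_of_torsionFree [Module.Finite B M] [Module.IsTorsionFree B M] :
    ∃ (n : ℕ) (j : M →ₗ[B] (Fin n → B)), Function.Injective j := by
  classical
  obtain ⟨m, s, hs⟩ := Module.Finite.exists_fin (R := B) (M := M)
  obtain ⟨I, indepI, hI⟩ := exists_maximal_linearIndepOn B s
  let N := span B (Set.range (s ∘ (fun x => x) : I → M))
  let sI_basis : Module.Basis I B N := Module.Basis.span indepI
  have exists_a : ∀ i : Fin m, ∃ a : B, a ≠ 0 ∧ a • s i ∈ N := by
    intro i
    by_cases hi : i ∈ I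
    · refine ⟨1, one_ne_zero, ?_⟩
      rw [one_smul]
      exact subset_span (Set.mem_range_self (⟨i, hi⟩ : I))
    · obtain ⟨a, ha, ha'⟩ := hI i hi
      refine ⟨a, ha, ?_⟩
      have : s '' I = Set.range (s ∘ (fun x => x) : I → M) := by
        ext y
        simp
      rw [this] at ha'
      exact ha'
  choose a ha ha' using exists_a
  let A := ∏ i, a i
  have hA : A ≠ 0 := by
    rw [Finset.prod_ne_zero_iff]
    intro i _
    exact ha i
  let φ : M →ₗ[B] M := LinearMap.lsmul B M A
  have hφinj : Function.Injective φ := by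
    rw [← LinearMap.ker_eq_bot]
    exact LinearMap.ker_lsmul hA
  have hφN : ∀ x, φ x ∈ N := by
    have : LinearMap.range φ ≤ N := by
      rw [LinearMap.range_eq_map, ← hs, map_span_le]
      rintro _ ⟨i, rfl⟩
      show A • s i ∈ N
      have h1 : (∏ j ∈ ({i} : Finset (Fin m))ᶜ, a j) • a i • s i ∈ N := N.smul_mem _ (ha' i)
      rwa [← mul_smul, ← Fintype.prod_eq_prod_compl_mul i] at h1
    intro x
    exact this ⟨x, rfl⟩
  let ψ : M →ₗ[B] N := φ.codRestrict N hφN
  have hψ : Function.Injective ψ := fun x y h => hφinj (congrArg Subtype.val h)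
  let e1 : N ≃ₗ[B] (I → B) := sI_basis.equivFun
  let e2 : (I → B) ≃ₗ[B] (Fin (Fintype.card I) → B) :=
    LinearEquiv.funCongrLeft B B (Fintype.equivFin I).symm
  exact ⟨Fintype.card I, e2.toLinearMap ∘ₗ e1.toLinearMap ∘ₗ ψ,
    e2.injective.comp (e1.injective.comp hψ)⟩

end T

section T'
variable {R : Type u} [CommRing R] (p : Ideal R) [p.IsPrime]
  (Q : Type u) [AddCommGroup Q] [Module R Q] [Module.Finite R Q]

/-- a finite module killed by the prime `p` on which every element outside `p` is a nonzerodivisor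
embeds into a finite free `R/p`-module -/
theorem exists_injective_of_killed (hkill : ∀ a ∈ p, ∀ q : Q, a • q = 0)
    (htf : ∀ r, r ∉ p → ∀ q : Q, r • q = 0 → q = 0) :
    ∃ (n : ℕ) (j : Q →ₗ[R] (Fin n → R ⧸ p)), Function.Injective j := by
  have hT : Module.IsTorsionBySet R Q (p : Set R) := by
    intro x a
    exact hkill a.1 a.2 x
  letI : Module (R ⧸ p) Q := hT.module
  haveI : IsScalarTower R (R ⧸ p) Q := inferInstance
  haveI : Module.Finite (R ⧸ p) Q := Module.Finite.of_restrictScalars_finite R (R ⧸ p) Q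
  haveI : Module.IsTorsionFree (R ⧸ p) Q := by
    refine ⟨fun b hb => ?_⟩
    obtain ⟨r, rfl⟩ := Ideal.Quotient.mk_surjective b
    have hr : r ∉ p := by
      intro h
      have h0 : Ideal.Quotient.mk p r = 0 := Ideal.Quotient.eq_zero_iff_mem.2 h
      rw [h0] at hb
      exact hb.ne_zero rfl
    intro x y hxy
    have h1 : r • (x - y) = 0 := by
      rw [smul_sub, sub_eq_zero]
      exact hxy
    exact sub_eq_zero.1 (htf r hr _ h1)
  obtain ⟨n, j, hj⟩ := exists_injective_of_torsionFree (B := R ⧸ p) (M := Q)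
  exact ⟨n, j.restrictScalars R, hj⟩

end T'

section Ass
variable {R : Type u} [CommRing R] [IsNoetherianRing R] {M : Type u} [AddCommGroup M] [Module R M]

theorem mem_associatedPrimes_iff {p : Ideal R} :
    p ∈ associatedPrimes R M ↔ p.IsPrime ∧ ∃ x : M, ∀ r, r ∈ p ↔ r • x = 0 := by
  show IsAssociatedPrime p M ↔ _
  rw [isAssociatedPrime_iff]
  constructor
  · rintro ⟨hp, x, hx⟩
    refine ⟨hp, x, fun r => ?_⟩
    rw [hx, mem_colon_singleton, mem_bot]
  · rintro ⟨hp, x, hx⟩
    refine ⟨hp, x, ?_⟩
    ext r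
    rw [hx, mem_colon_singleton, mem_bot]

/-- associated primes of `M/Γ_J(M)` -/
theorem mem_ass_of_mem_ass_quotient_torsion (J : Ideal R) {p : Ideal R}
    (hp : p ∈ associatedPrimes R (M ⧸ DRing.torsionSub J M)) :
    p ∈ associatedPrimes R M ∧ ¬ J ≤ p := by
  classical
  obtain ⟨hpp, xb, hx⟩ := mem_associatedPrimes_iff.1 hp
  obtain ⟨x, rfl⟩ := Submodule.Quotient.mk_surjective _ xb
  have hx' : ∀ r, r ∈ p ↔ r • x ∈ DRing.torsionSub J M := by
    intro r
    rw [hx r, ← Submodule.Quotient.mk_smul, Submodule.Quotient.mk_eq_zero]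
  have hJp : ¬ J ≤ p := by
    intro hJ
    have h1 : (Submodule.Quotient.mk x : M ⧸ DRing.torsionSub J M) ∈
        DRing.torsionSub J (M ⧸ DRing.torsionSub J M) := by
      refine ⟨1, fun a ha => ?_⟩
      rw [pow_one] at ha
      exact (hx a).1 (hJ ha)
    rw [torsionSub_quotient_eq_bot, mem_bot] at h1
    apply hpp.ne_top
    rw [Ideal.eq_top_iff_one, hx 1, h1, smul_zero]
  refine ⟨?_, hJp⟩
  -- a uniform power of `J` killing `p x`
  obtain ⟨n, g, hg⟩ := Module.Finite.exists_fin (R := R) (M := p)
  have h2 : ∀ i : Fin n, ∃ k : ℕ, ∀ a ∈ J ^ k, a • ((g i : R) • x) = 0 := by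
    intro i
    exact (hx' (g i)).1 (g i).2
  choose k hk using h2
  let N := Finset.univ.sup k
  have h3 : ∀ a ∈ J ^ N, ∀ r ∈ p, a • r • x = 0 := by
    intro a ha r hr
    have hr' : (⟨r, hr⟩ : p) ∈ span R (Set.range g) := hg ▸ mem_top
    have key : ∀ y : p, y ∈ span R (Set.range g) → a • (y : R) • x = 0 := by
      intro y hy
      induction hy using span_induction with
      | mem y hy =>
        obtain ⟨i, rfl⟩ := hy
        exact hk i a (Ideal.pow_le_pow_right (Finset.le_sup (Finset.mem_univ i)) ha)
      | zero => simp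
      | add y z _ _ hy hz =>
        rw [Submodule.coe_add, add_smul, smul_add, hy, hz, add_zero]
      | smul c y _ hy =>
        rw [Submodule.coe_smul, smul_eq_mul, mul_smul, smul_comm a c, hy, smul_zero]
    exact key ⟨r, hr⟩ hr'
  have h4 : ¬ J ^ N ≤ p := fun h => hJp (hpp.le_of_pow_le h)
  obtain ⟨a, haJ, hap⟩ := SetLike.not_le_iff_exists.1 h4
  rw [mem_associatedPrimes_iff]
  refine ⟨hpp, a • x, fun r => ⟨fun hr => ?_, fun hr => ?_⟩⟩
  · rw [smul_comm]
    exact h3 a haJ r hr
  · have h5 : (r * a) • x ∈ DRing.torsionSub J M := by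
      rw [mul_smul, hr]
      exact zero_mem _
    exact (hpp.mem_or_mem ((hx' _).2 h5)).resolve_right hap

/-- associated primes of `Γ_J(M)` -/
theorem mem_ass_of_mem_ass_torsion (J : Ideal R) {p : Ideal R}
    (hp : p ∈ associatedPrimes R (DRing.torsionSub J M)) :
    p ∈ associatedPrimes R M ∧ J ≤ p := by
  refine ⟨associatedPrimes.subset_of_injective (f := (DRing.torsionSub J M).subtype)
    (Submodule.injective_subtype _) hp, ?_⟩
  obtain ⟨hpp, x, hx⟩ := mem_associatedPrimes_iff.1 hp
  obtain ⟨n, hn⟩ := x.2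
  apply hpp.le_of_pow_le (n := n)
  intro a ha
  rw [hx a]
  exact Subtype.ext (hn a ha)

/-- if `Ass M ⊆ {p}` then elements outside `p` are nonzerodivisors on `M` -/
theorem eq_zero_of_smul_eq_zero_of_ass_subset {p : Ideal R}
    (hass : ∀ q ∈ associatedPrimes R M, q = p) (r : R) (hr : r ∉ p) (x : M) (hx : r • x = 0) :
    x = 0 := by
  by_contra hne
  have h1 : r ∈ {r : R | ∃ x : M, x ≠ 0 ∧ r • x = 0} := ⟨x, hne, hx⟩
  rw [← biUnion_associatedPrimes_eq_zero_divisors R M] at h1
  simp only [Set.mem_iUnion] at h1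
  obtain ⟨q, hq, hrq⟩ := h1
  rw [hass q hq] at hrq
  exact hr hrq

end Ass

section Coprimary
variable {R : Type u} [CommRing R] [IsNoetherianRing R] (I : Ideal R) (p : Ideal R)
  (N : Type u) [AddCommGroup N] [Module R N]

/-- the submodule of elements killed by `p^j` -/
def tors (j : ℕ) : Submodule R N := Submodule.torsionBySet R N ((p ^ j : Ideal R) : Set R)

variable {p N}

lemma mem_tors {j : ℕ} {x : N} : x ∈ tors p N j ↔ ∀ a ∈ p ^ j, a • x = 0 := by
  unfold tors
  rw [Submodule.mem_torsionBySet_iff]
  exact ⟨fun h a ha => h ⟨a, ha⟩, fun h a => h a.1 a.2⟩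

lemma tors_mono {j k : ℕ} (h : j ≤ k) : tors p N j ≤ tors p N k :=
  fun _ hx => mem_tors.2 (fun a ha => mem_tors.1 hx a (Ideal.pow_le_pow_right h ha))

variable (p N)

/-- a finite module all of whose associated primes are `p` is killed by a power of `p` -/
theorem exists_tors_eq_top [Module.Finite R N] (hass : ∀ q ∈ associatedPrimes R N, q = p) :
    ∃ k : ℕ, tors p N k = ⊤ := by
  classical
  have h1 : DRing.torsionSub p N = ⊤ := by
    rw [← Submodule.Quotient.subsingleton_iff]
    by_contra hns
    rw [not_subsingleton_iff_nontrivial] at hns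
    obtain ⟨q, hq⟩ := associatedPrimes.nonempty R (N ⧸ DRing.torsionSub p N)
    obtain ⟨hq1, hq2⟩ := mem_ass_of_mem_ass_quotient_torsion p hq
    rw [hass q hq1] at hq2
    exact hq2 le_rfl
  obtain ⟨n, g, hg⟩ := Module.Finite.exists_fin (R := R) (M := N)
  have h2 : ∀ i : Fin n, ∃ k : ℕ, ∀ a ∈ p ^ k, a • g i = 0 := by
    intro i
    have : g i ∈ DRing.torsionSub p N := h1 ▸ Submodule.mem_top
    exact this
  choose k hk using h2
  refine ⟨Finset.univ.sup k, ?_⟩
  rw [eq_top_iff, ← hg, Submodule.span_le]
  rintro _ ⟨i, rfl⟩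
  exact mem_tors.2 (fun a ha => hk i a (Ideal.pow_le_pow_right (Finset.le_sup (Finset.mem_univ i)) ha))

/-- `H^1_I` of a `p`-coprimary finite module is finite as soon as `H^1_I(R/p)` is -/
theorem finite_H_one_of_coprimary [p.IsPrime] [Module.Finite R N]
    (hass : ∀ q ∈ associatedPrimes R N, q = p)
    (hB : Module.Finite R (LocCoh.H I 1 (R ⧸ p))) : Module.Finite R (LocCoh.H I 1 N) := by
  classical
  haveI : IsNoetherian R N := isNoetherian_of_isNoetherianRing_of_finite R N
  have key : ∀ j : ℕ, Module.Finite R (LocCoh.H I 1 (tors p N j)) := by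
    intro j
    induction j with
    | zero =>
      haveI : Subsingleton (tors p N 0) := by
        refine ⟨fun x y => Subtype.ext ?_⟩
        have hx := mem_tors.1 x.2 1 (by rw [pow_zero, Ideal.one_eq_top]; exact Submodule.mem_top)
        have hy := mem_tors.1 y.2 1 (by rw [pow_zero, Ideal.one_eq_top]; exact Submodule.mem_top)
        rw [one_smul] at hx hy
        rw [hx, hy]
      haveI := H_subsingleton_of_subsingleton I 1 (tors p N 0)
      infer_instance
    | succ j ih =>
      let f : tors p N j →ₗ[R] tors p N (j + 1) := Submodule.inclusion (tors_mono (Nat.le_succ j))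
      have hfinj : Function.Injective f := Submodule.inclusion_injective _
      have hmemrange : ∀ x : tors p N (j + 1), x ∈ LinearMap.range f ↔ x.1 ∈ tors p N j := by
        intro x
        constructor
        · rintro ⟨y, rfl⟩
          exact y.2
        · intro hx
          exact ⟨⟨x.1, hx⟩, Subtype.ext rfl⟩
      -- the quotient is killed by `p` and torsion-free over `R/p`
      have hkill : ∀ a ∈ p, ∀ q : tors p N (j + 1) ⧸ LinearMap.range f, a • q = 0 := by
        intro a ha q
        obtain ⟨x, rfl⟩ := Submodule.Quotient.mk_surjective _ q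
        rw [← Submodule.Quotient.mk_smul, Submodule.Quotient.mk_eq_zero, hmemrange]
        refine mem_tors.2 (fun b hb => ?_)
        show b • a • x.1 = 0
        rw [← mul_smul]
        exact mem_tors.1 x.2 _ (by rw [pow_succ]; exact Ideal.mul_mem_mul hb ha)
      have htf : ∀ r, r ∉ p → ∀ q : tors p N (j + 1) ⧸ LinearMap.range f, r • q = 0 → q = 0 := by
        intro r hr q hq
        obtain ⟨x, rfl⟩ := Submodule.Quotient.mk_surjective _ q
        rw [← Submodule.Quotient.mk_smul, Submodule.Quotient.mk_eq_zero, hmemrange] at hq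
        rw [Submodule.Quotient.mk_eq_zero, hmemrange]
        refine mem_tors.2 (fun b hb => ?_)
        apply eq_zero_of_smul_eq_zero_of_ass_subset hass r hr
        rw [smul_comm]
        exact mem_tors.1 hq b hb
      obtain ⟨n, jQ, hjQ⟩ := exists_injective_of_killed p (tors p N (j + 1) ⧸ LinearMap.range f)
        hkill htf
      have h1 : Module.Finite R (LocCoh.H I 1 (Fin n → R ⧸ p)) := finite_H_pi I 1 n (R ⧸ p) hB
      have h2 : Module.Finite R (LocCoh.H I 1 (tors p N (j + 1) ⧸ LinearMap.range f)) :=
        finite_H_succ_left I jQ (LinearMap.range jQ).mkQ hjQ (Submodule.mkQ_surjective _)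
          (LinearMap.exact_map_mkQ_range jQ) 0 (finite_H_zero I _) h1
      exact finite_H_mid I f (LinearMap.range f).mkQ hfinj (Submodule.mkQ_surjective _)
        (LinearMap.exact_map_mkQ_range f) 1 ih h2
  obtain ⟨k, hk⟩ := exists_tors_eq_top p N hass
  exact finite_H_of_equiv I 1 (LinearEquiv.ofTop (tors p N k) hk) (key k)

end Coprimary

end Groth.Agent.Lib.helper19.H1Fin
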