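import Mathlib
import Groth.Agent.Lib.Helper19.H1Fin
set_option autoImplicit false
universe u
namespace Groth.Agent.Lib.helper19.H1Fin
open CategoryTheory Submodule Groth.Agent.Lib.helper19.LCBridge Groth.Agent.Lib.helper19.LCLes
  Groth.Agent.Lib.helper19.LCLes2 Groth.Agent.Lib.helper19.LCZero
  Groth.Agent.Lib.helper19.ExtLoc Groth.Agent.Lib.helper19.LCFactor
  Groth.Agent.Lib.helper19.LCGroth Groth.Agent.Lib.helper19.H1Fin

section Main
variable {R : Type u} [CommRing R] [IsNoetherianRing R] (I : Ideal R)

theorem finite_H_one_of_ass_aux (n : ℕ) : ∀ (M : Type u) [AddCommGroup M] [Module R M]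
    [Module.Finite R M], (associatedPrimes R M).ncard ≤ n →
    (∀ p ∈ associatedPrimes R M, ¬ I ≤ p → Module.Finite R (LocCoh.H I 1 (R ⧸ p))) →
    Module.Finite R (LocCoh.H I 1 M) := by
  classical
  induction n with
  | zero =>
    intro M _ _ _ hcard _
    have hfin : (associatedPrimes R M).Finite := associatedPrimes.finite R M
    have hempty : associatedPrimes R M = ∅ := by
      rw [← Set.ncard_eq_zero hfin]
      omega
    haveI : Subsingleton M := by
      by_contra hns
      rw [not_subsingleton_iff_nontrivial] at hns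
      obtain ⟨q, hq⟩ := associatedPrimes.nonempty R M
      rw [hempty] at hq
      exact hq
    haveI := H_subsingleton_of_subsingleton I 1 M
    infer_instance
  | succ n ih =>
    intro M _ _ _ hcard h
    have hfin : (associatedPrimes R M).Finite := associatedPrimes.finite R M
    by_cases hne : (associatedPrimes R M).Nonempty
    swap
    · haveI : Subsingleton M := by
        by_contra hns
        rw [not_subsingleton_iff_nontrivial] at hns
        exact hne (associatedPrimes.nonempty R M)
      haveI := H_subsingleton_of_subsingleton I 1 M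
      infer_instance
    obtain ⟨p, hp⟩ := hfin.exists_maximal hne
    have hpM : p ∈ associatedPrimes R M := hp.prop
    haveI hpp : p.IsPrime := (AssociatedPrimes.mem_iff.1 hpM).isPrime
    haveI : IsNoetherian R M := isNoetherian_of_isNoetherianRing_of_finite R M
    -- the `p`-torsion part
    have hassN : ∀ q ∈ associatedPrimes R (DRing.torsionSub p M), q = p := by
      intro q hq
      obtain ⟨hqM, hpq⟩ := mem_ass_of_mem_ass_torsion p hq
      exact le_antisymm (hp.le_of_ge hqM hpq) hpq
    have hN : Module.Finite R (LocCoh.H I 1 (DRing.torsionSub p M)) := by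
      by_cases hIp : I ≤ p
      · have htors : IsTors I (DRing.torsionSub p M) := by
          intro x
          obtain ⟨k, hk⟩ := x.2
          exact ⟨k, fun a ha => Subtype.ext (hk a (Ideal.pow_right_mono hIp k ha))⟩
        haveI := H_subsingleton_of_torsion I _ htors 1 Nat.one_pos
        infer_instance
      · exact finite_H_one_of_coprimary I p _ hassN (h p hpM hIp)
    -- the quotient has fewer associated primes
    have hsub : associatedPrimes R (M ⧸ DRing.torsionSub p M) ⊆ associatedPrimes R M \ {p} := by
      intro q hq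
      obtain ⟨hqM, hpq⟩ := mem_ass_of_mem_ass_quotient_torsion p hq
      refine ⟨hqM, ?_⟩
      rintro rfl
      exact hpq le_rfl
    have hcard' : (associatedPrimes R (M ⧸ DRing.torsionSub p M)).ncard ≤ n := by
      have h1 := Set.ncard_le_ncard hsub (hfin.subset Set.sdiff_subset)
      have h2 := Set.ncard_sdiff_singleton_lt_of_mem hpM hfin
      omega
    have hQ : Module.Finite R (LocCoh.H I 1 (M ⧸ DRing.torsionSub p M)) :=
      ih _ hcard' (fun q hq hIq => h q (hsub hq).1 hIq)
    exact finite_H_mid I (DRing.torsionSub p M).subtype (DRing.torsionSub p M).mkQ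
      (Submodule.injective_subtype _) (Submodule.mkQ_surjective _)
      (LinearMap.exact_subtype_mkQ _) 1 hN hQ

/-- `H^1_I(M)` is finite if `H^1_I(R/p)` is finite for the associated primes `p ⊉ I` of `M` -/
theorem finite_H_one_of_ass (M : Type u) [AddCommGroup M] [Module R M] [Module.Finite R M]
    (h : ∀ p ∈ associatedPrimes R M, ¬ I ≤ p → Module.Finite R (LocCoh.H I 1 (R ⧸ p))) :
    Module.Finite R (LocCoh.H I 1 M) :=
  finite_H_one_of_ass_aux I _ M le_rfl h

/-- conversely -/
theorem finite_H_one_quotient_of_mem_ass (M : Type u) [AddCommGroup M] [Module R M]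
    [Module.Finite R M] (hM : Module.Finite R (LocCoh.H I 1 M)) (p : Ideal R)
    (hp : p ∈ associatedPrimes R M) : Module.Finite R (LocCoh.H I 1 (R ⧸ p)) := by
  obtain ⟨hpp, ψ, hψ⟩ := (isAssociatedPrime_iff_exists_injective_linearMap p M).1 hp
  exact finite_H_succ_left I ψ (LinearMap.range ψ).mkQ hψ (Submodule.mkQ_surjective _)
    (LinearMap.exact_map_mkQ_range ψ) 0 (finite_H_zero I _) hM

theorem finite_H_one_iff (M : Type u) [AddCommGroup M] [Module R M] [Module.Finite R M] :
    Module.Finite R (LocCoh.H I 1 M) ↔
      ∀ p : Ideal R, p ∈ associatedPrimes R M → ¬ I ≤ p → Module.Finite R (LocCoh.H I 1 (R ⧸ p)) :=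
  ⟨fun hM p hp _ => finite_H_one_quotient_of_mem_ass I M hM p hp, finite_H_one_of_ass I M⟩

end Main
end Groth.Agent.Lib.helper19.H1Fin
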