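import Mathlib
import Groth.Agent.Lib.Helper24.CplCatenary
import Groth.Agent.Lib.Helper24.CplCM
import Groth.Agent.S0342
import Groth.Agent.S11617
import Groth.Agent.Lib.Helper19.Gor2
import Groth.Agent.Lib.Helper19.H1Fin2

set_option autoImplicit false
universe u
namespace Groth.Agent.Lib.helper19.H1Cpl
open CategoryTheory IsLocalRing TensorProduct Groth.Agent.Lib.helper19.LCZero
  Groth.Agent.Lib.helper19.LCGroth Groth.Agent.Lib.helper19.H1Fin

section Complete
variable (C : Type u) [CommRing C] [IsLocalRing C] [IsNoetherianRing C]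

/-- `H^0` vanishes when the torsion submodule does -/
lemma H_zero_subsingleton_of_torsionSub {R : Type u} [CommRing R] (I : Ideal R)
    (M : Type u) [AddCommGroup M] [Module R M] (h : ∀ y : M, y ∈ DRing.torsionSub I M → y = 0) :
    Subsingleton (LocCoh.H I 0 M) := by
  have hb := gammaToH_bijective I (ModuleCat.of R M)
  refine ⟨fun a b => ?_⟩
  obtain ⟨⟨x, hx⟩, rfl⟩ := hb.2 a
  obtain ⟨⟨y, hy⟩, rfl⟩ := hb.2 b
  congr 1
  apply Subtype.ext
  show x = y
  rw [h x hx, h y hy]

omit [IsNoetherianRing C] in
/-- a prime `p` of `C` with `dim C/p = 0` is the maximal ideal -/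
lemma eq_maximalIdeal_of_dim_zero (p : Ideal C) [p.IsPrime] (h : ringKrullDim (C ⧸ p) = (0 : ℕ)) :
    p = maximalIdeal C := by
  haveI : Ring.KrullDimLE 0 (C ⧸ p) := Ring.krullDimLE_iff.2 h.le
  have hf : IsField (C ⧸ p) := Ring.KrullDimLE.isField_of_isDomain
  haveI := Ideal.Quotient.maximal_of_isField p hf
  exact IsLocalRing.eq_maximalIdeal inferInstance

omit [IsLocalRing C] [IsNoetherianRing C] in
/-- local vanishing of `H^0` of `(C/P)_p` for `p ≠ P` -/
lemma H_zero_localized_quotient (P p : Ideal C) [P.IsPrime] [p.IsPrime] (hne : P ≠ p) :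
    Subsingleton (LocCoh.H (maximalIdeal (Localization.AtPrime p)) 0
      (LocalizedModule p.primeCompl (C ⧸ P))) := by
  by_cases hle : P ≤ p
  · -- `P ⊊ p`
    obtain ⟨t, htp, htP⟩ : ∃ t ∈ p, t ∉ P := by
      by_contra hcon
      push Not at hcon
      exact hne (le_antisymm hle hcon)
    apply H_zero_subsingleton_of_torsionSub
    intro y hy
    obtain ⟨n, hn⟩ := hy
    have ht1 : algebraMap C (Localization.AtPrime p) t ∈ maximalIdeal (Localization.AtPrime p) := by
      rw [← IsLocalization.AtPrime.map_eq_maximalIdeal p (Localization.AtPrime p)]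
      exact Ideal.mem_map_of_mem _ htp
    have h1 : (algebraMap C (Localization.AtPrime p) t) ^ n • y = 0 :=
      hn _ (Ideal.pow_mem_pow ht1 n)
    rw [← map_pow, algebraMap_smul] at h1
    -- multiplication by `t ^ n` is injective on `(C/P)_p`
    have hinj0 : Function.Injective (DistribSMul.toLinearMap C (C ⧸ P) (t ^ n)) := by
      intro a b hab
      have hab' : (t ^ n) • a = (t ^ n) • b := hab
      have h2 : (t ^ n) • (a - b) = 0 := by rw [smul_sub, hab', sub_self]
      obtain ⟨c, hc⟩ := Ideal.Quotient.mk_surjective (a - b)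
      rw [← hc, ← Ideal.Quotient.mk_eq_mk, ← Submodule.Quotient.mk_smul,
        Ideal.Quotient.mk_eq_mk, Ideal.Quotient.eq_zero_iff_mem, smul_eq_mul] at h2
      have h3 : c ∈ P := by
        rcases Ideal.IsPrime.mem_or_mem inferInstance h2 with h | h
        · exact absurd (Ideal.IsPrime.mem_of_pow_mem inferInstance n h) htP
        · exact h
      have h4 : a - b = 0 := by
        rw [← hc]
        exact Ideal.Quotient.eq_zero_iff_mem.2 h3
      exact sub_eq_zero.1 h4
    have hinj1 := LocalizedModule.map_injective p.primeCompl _ hinj0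
    apply hinj1
    rw [map_zero]
    have h5 : LocalizedModule.map p.primeCompl (DistribSMul.toLinearMap C (C ⧸ P) (t ^ n)) y
        = (t ^ n) • y := by
      induction y using LocalizedModule.induction_on with
      | h m s =>
        rw [LocalizedModule.map_mk, LocalizedModule.smul'_mk]
        rfl
    rw [h5]
    exact h1
  · -- `(C/P)_p = 0`
    obtain ⟨s, hsP, hsp⟩ : ∃ s ∈ P, s ∉ p := by
      by_contra hcon
      push Not at hcon
      exact hle hcon
    haveI : Subsingleton (LocalizedModule p.primeCompl (C ⧸ P)) := by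
      rw [LocalizedModule.subsingleton_iff]
      intro m
      refine ⟨s, hsp, ?_⟩
      obtain ⟨c, rfl⟩ := Ideal.Quotient.mk_surjective m
      rw [← Ideal.Quotient.mk_eq_mk, ← Submodule.Quotient.mk_smul, Ideal.Quotient.mk_eq_mk,
        Ideal.Quotient.eq_zero_iff_mem, smul_eq_mul]
      exact Ideal.mul_mem_right _ _ hsP
    apply H_zero_subsingleton_of_torsionSub
    intro y _
    exact Subsingleton.elim _ _

/-- over a complete local ring: `H^1_m(C/P)` is finite if `dim C/P ≥ 2` -/
theorem finite_H_one_quotient [IsAdicComplete (maximalIdeal C) C] (P : Ideal C) [P.IsPrime]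
    (hdim : (2 : WithBot ℕ∞) ≤ ringKrullDim (C ⧸ P)) :
    Module.Finite C (LocCoh.H (maximalIdeal C) 1 (C ⧸ P)) := by
  obtain ⟨R, _, hR, f, hf⟩ := Groth.Agent.Lib.Helper24.CplCatenary.exists_regular_surjective C
  letI : Algebra R C := f.toAlgebra
  haveI : LocCoh.IsGorensteinLocalRing R := Groth.Agent.S0342.result R
  letI : Module R (C ⧸ P) := Module.compHom (C ⧸ P) (algebraMap R C)
  haveI : IsScalarTower R C (C ⧸ P) := ⟨fun r c x => by
    show (r • c) • x = algebraMap R C r • (c • x)
    rw [Algebra.smul_def (A := C) r c, mul_smul]⟩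
  have hπ : Function.Surjective (algebraMap R C) := hf
  have hfl : IsFiniteLength C (LocCoh.H (maximalIdeal C) 1 (C ⧸ P)) := by
    rw [Groth.Agent.Lib.helper19.Gor.finLenA (R := R) (A := C) hπ (C ⧸ P) 1]
    intro p _ hp e j he hj
    have hej : (e = 0 ∧ j = 1) ∨ (e = 1 ∧ j = 0) := by omega
    rcases hej with ⟨rfl, rfl⟩ | ⟨rfl, rfl⟩
    · exact absurd (eq_maximalIdeal_of_dim_zero C p he) hp
    · apply H_zero_localized_quotient
      rintro rfl
      rw [he] at hdim
      exact absurd hdim (by decide)
  obtain ⟨hN, _⟩ := isFiniteLength_iff_isNoetherian_isArtinian.1 hfl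
  infer_instance

/-- over a complete local ring all of whose associated primes have dimension `≥ 2`, `H^1_m(C)`
is finite -/
theorem finite_H_one_complete [IsAdicComplete (maximalIdeal C) C]
    (h : ∀ P ∈ associatedPrimes C C, (2 : WithBot ℕ∞) ≤ ringKrullDim (C ⧸ P)) :
    Module.Finite C (LocCoh.H (maximalIdeal C) 1 C) :=
  finite_H_one_of_ass (maximalIdeal C) C (fun P hP _ => by
    haveI := hP.isPrime
    exact finite_H_one_quotient C P (h P hP))

end Complete

section Local
variable (B : Type u) [CommRing B] [IsLocalRing B] [IsNoetherianRing B]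

/-- the completion of a Noetherian local ring is complete for its maximal ideal -/
theorem isAdicComplete_cpl :
    IsAdicComplete (maximalIdeal (AdicCompletion (maximalIdeal B) B))
      (AdicCompletion (maximalIdeal B) B) := by
  rw [← Groth.Agent.Lib.Helper24.CplCM.map_maximalIdeal_cpl]
  exact (IsAdicComplete.map_algebraMap_iff (R := B) (S := AdicCompletion (maximalIdeal B) B)
    (I := maximalIdeal B) (M := AdicCompletion (maximalIdeal B) B)).mpr
    (AdicCompletion.isAdicComplete (IsNoetherian.noetherian (maximalIdeal B)))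

/-- **finiteness of `H^1_m(B)` from the completion**: if all associated primes of the completion
`B^` have `dim B^/P ≥ 2` then `H^1_m(B)` is a finite `B`-module -/
theorem finite_H_one_of_completion
    (h : ∀ P ∈ associatedPrimes (AdicCompletion (maximalIdeal B) B)
      (AdicCompletion (maximalIdeal B) B),
      (2 : WithBot ℕ∞) ≤ ringKrullDim (AdicCompletion (maximalIdeal B) B ⧸ P)) :
    Module.Finite B (LocCoh.H (maximalIdeal B) 1 B) := by
  haveI := isAdicComplete_cpl B
  have h1 := finite_H_one_complete (AdicCompletion (maximalIdeal B) B) h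
  obtain ⟨e⟩ := Groth.Agent.S11617.result B (AdicCompletion (maximalIdeal B) B) (maximalIdeal B) B 1
  rw [Groth.Agent.Lib.Helper24.CplCM.map_maximalIdeal_cpl] at e
  have h2 : Module.Finite (AdicCompletion (maximalIdeal B) B)
      (LocCoh.H (maximalIdeal (AdicCompletion (maximalIdeal B) B)) 1
        (AdicCompletion (maximalIdeal B) B ⊗[B] B)) :=
    finite_H_of_equiv _ 1
      (TensorProduct.AlgebraTensorModule.rid B (AdicCompletion (maximalIdeal B) B)
        (AdicCompletion (maximalIdeal B) B)).symm h1
  haveI : Module.Finite (AdicCompletion (maximalIdeal B) B)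
      (AdicCompletion (maximalIdeal B) B ⊗[B] LocCoh.H (maximalIdeal B) 1 B) :=
    Module.Finite.equiv e.symm
  haveI : Module.FaithfullyFlat B (AdicCompletion (maximalIdeal B) B) :=
    Module.FaithfullyFlat.of_flat_of_isLocalHom
  exact Module.Finite.of_finite_tensorProduct_of_faithfullyFlat (AdicCompletion (maximalIdeal B) B)

end Local

end Groth.Agent.Lib.helper19.H1Cpl
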