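import Mathlib
import Groth.Agent.Lib.Helper19.Gor1
import Groth.Agent.Lib.Helper19.ExtLoc1
import Groth.Agent.Lib.Helper19.LCGroth
import Groth.Agent.Lib.Helper19.LCZero

/-! Hartshorne–Lichtenbaum vanishing, part 1: duality input over a Gorenstein local ring `G` of
dimension `d`: `Ext^d(N, G) ≅ Ext^d(Γ_m N, G)` for finite `N`, and a class in `Ext^d(Γ, G)`
vanishing on the `t`-socle of `Γ` lies in `(t) • Ext^d(Γ, G)`. -/

set_option autoImplicit false
universe u
open IsLocalRing CategoryTheory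

namespace Groth.Agent.Lib.helper19.HLV

/-- `H^0` vanishes when the torsion submodule does -/
lemma H_zero_subsingleton_of_torsionSub {R : Type u} [CommRing R] (I : Ideal R)
    (M : Type u) [AddCommGroup M] [Module R M] (h : ∀ y : M, y ∈ DRing.torsionSub I M → y = 0) :
    Subsingleton (LocCoh.H I 0 M) := by
  have hb := Groth.Agent.Lib.helper19.LCZero.gammaToH_bijective I (ModuleCat.of R M)
  refine ⟨fun a b => ?_⟩
  obtain ⟨⟨x, hx⟩, rfl⟩ := hb.2 a
  obtain ⟨⟨y, hy⟩, rfl⟩ := hb.2 b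
  congr 1
  apply Subtype.ext
  show x = y
  rw [h x hx, h y hy]

section P
variable (G : Type u) [CommRing G] [LocCoh.IsGorensteinLocalRing G] (d : ℕ)
  (hd : ringKrullDim G = d)

section P1
variable {Γ N C : Type u} [AddCommGroup Γ] [Module G Γ] [AddCommGroup N] [Module G N]
  [AddCommGroup C] [Module G C]
  (ι : Γ →ₗ[G] N) (p : N →ₗ[G] C) (hι : Function.Injective ι) (hp : Function.Surjective p)
  (hex : Function.Exact ι p)

include hd hι hp hex in
/-- restriction `Ext^d(N, G) → Ext^d(Γ, G)` is injective when `H^0_m(N/Γ) = 0`. -/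
theorem restr_injective [Module.Finite G C]
    (hC : Subsingleton (LocCoh.H (maximalIdeal G) 0 C))
    (ξ : Abelian.Ext.{u} (ModuleCat.of G N) (ModuleCat.of G G) d)
    (h : (Abelian.Ext.mk₀ (ModuleCat.ofHom ι)).comp ξ (zero_add d) = 0) : ξ = 0 := by
  have hS := ExtLoc.sc_shortExact ι p hι hp hex
  obtain ⟨x, hx⟩ := Abelian.Ext.contravariant_sequence_exact₂ hS (ModuleCat.of G G) ξ h
  haveI : Subsingleton (Abelian.Ext.{u} (ModuleCat.of G C) (ModuleCat.of G G) d) :=
    (Gor.H_subsingleton_iff G d hd C 0 d (zero_add d)).1 hC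
  rw [← hx, Subsingleton.elim x 0, Abelian.Ext.comp_zero]

include hd hι hp hex in
/-- restriction `Ext^d(N, G) → Ext^d(Γ, G)` is surjective. -/
theorem restr_surjective
    (ζ : Abelian.Ext.{u} (ModuleCat.of G Γ) (ModuleCat.of G G) d) :
    ∃ ξ : Abelian.Ext.{u} (ModuleCat.of G N) (ModuleCat.of G G) d,
      (Abelian.Ext.mk₀ (ModuleCat.ofHom ι)).comp ξ (zero_add d) = ζ := by
  have hS := ExtLoc.sc_shortExact ι p hι hp hex
  haveI : Subsingleton (Abelian.Ext.{u} (ModuleCat.of G C) (ModuleCat.of G G) (d + 1)) :=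
    Gor.ext_subsingleton_of_gt G d hd C (d + 1) (by omega)
  exact Abelian.Ext.contravariant_sequence_exact₁ hS (ModuleCat.of G G) ζ (add_comm 1 d)
    (Subsingleton.elim _ _)

end P1

section P2
variable {Γ : Type u} [AddCommGroup Γ] [Module G Γ] {r : ℕ} (t : Fin r → G)

/-- the map `x ↦ (t_i x)_i` -/
def tmap : Γ →ₗ[G] (Fin r → Γ) := LinearMap.pi (fun i => t i • LinearMap.id)

omit [LocCoh.IsGorensteinLocalRing G] in
lemma tmap_apply (x : Γ) (i : Fin r) : tmap G t x i = t i • x := rfl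

omit [LocCoh.IsGorensteinLocalRing G] in
lemma mem_ker_tmap (x : Γ) : x ∈ LinearMap.ker (tmap G t) ↔ ∀ i, t i • x = 0 := by
  rw [LinearMap.mem_ker]
  constructor
  · intro h i
    have := congrFun h i
    rwa [tmap_apply] at this
  · intro h
    funext i
    rw [tmap_apply]
    exact h i

omit [LocCoh.IsGorensteinLocalRing G] in
lemma tmap_eq_sum : (tmap G t : Γ →ₗ[G] (Fin r → Γ)) =
    ∑ i, (LinearMap.single G (fun _ : Fin r => Γ) i) ∘ₗ (t i • LinearMap.id) := by
  apply LinearMap.ext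
  intro x
  funext j
  rw [tmap_apply, LinearMap.sum_apply, Finset.sum_apply]
  simp only [LinearMap.comp_apply, LinearMap.smul_apply, LinearMap.id_apply,
    LinearMap.single_apply, Pi.single_apply]
  rw [Finset.sum_ite_eq]
  simp

include hd in
/-- a class in `Ext^d(Γ, G)` vanishing on the `t`-socle is in `(t) • Ext^d(Γ, G)`. -/
theorem exists_eq_sum_smul (ξ : Abelian.Ext.{u} (ModuleCat.of G Γ) (ModuleCat.of G G) d)
    (h : (Abelian.Ext.mk₀ (ModuleCat.ofHom (LinearMap.ker (tmap G (Γ := Γ) t)).subtype)).comp ξ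
      (zero_add d) = 0) :
    ∃ ζ : Fin r → Abelian.Ext.{u} (ModuleCat.of G Γ) (ModuleCat.of G G) d,
      ξ = ∑ i, t i • ζ i := by
  let φ : Γ →ₗ[G] (Fin r → Γ) := tmap G t
  have hex1 : Function.Exact (LinearMap.ker φ).subtype φ.rangeRestrict := by
    rw [LinearMap.exact_iff, LinearMap.ker_rangeRestrict, Submodule.range_subtype]
  have hS1 := ExtLoc.sc_shortExact (LinearMap.ker φ).subtype φ.rangeRestrict
    (Submodule.subtype_injective _) φ.surjective_rangeRestrict hex1
  obtain ⟨ζ₀, hζ₀⟩ := Abelian.Ext.contravariant_sequence_exact₂ hS1 (ModuleCat.of G G) ξ h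
  have hex2 : Function.Exact (LinearMap.range φ).subtype (LinearMap.range φ).mkQ :=
    LinearMap.exact_subtype_mkQ _
  have hS2 := ExtLoc.sc_shortExact (LinearMap.range φ).subtype (LinearMap.range φ).mkQ
    (Submodule.subtype_injective _) (Submodule.mkQ_surjective _) hex2
  haveI : Subsingleton (Abelian.Ext.{u} (ModuleCat.of G ((Fin r → Γ) ⧸ LinearMap.range φ))
      (ModuleCat.of G G) (d + 1)) :=
    Gor.ext_subsingleton_of_gt G d hd _ (d + 1) (by omega)
  obtain ⟨ζ', hζ'⟩ := Abelian.Ext.contravariant_sequence_exact₁ hS2 (ModuleCat.of G G) ζ₀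
    (add_comm 1 d) (Subsingleton.elim _ _)
  refine ⟨fun i => (Abelian.Ext.mk₀ (ModuleCat.ofHom
    (LinearMap.single G (fun _ : Fin r => Γ) i))).comp ζ' (zero_add d), ?_⟩
  have h1 : ξ = (Abelian.Ext.mk₀ (ModuleCat.ofHom φ)).comp ζ' (zero_add d) := by
    rw [← hζ₀, ← hζ']
    dsimp only [ExtLoc.sc]
    rw [Abelian.Ext.mk₀_comp_mk₀_assoc]
    rfl
  rw [h1]
  have h2 : ModuleCat.ofHom φ = ∑ i, ModuleCat.ofHom (t i • LinearMap.id) ≫
      ModuleCat.ofHom (LinearMap.single G (fun _ : Fin r => Γ) i) := by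
    apply ModuleCat.hom_ext
    rw [ModuleCat.hom_sum]
    exact tmap_eq_sum G t
  rw [h2, Abelian.Ext.mk₀_sum, Abelian.Ext.sum_comp]
  refine Finset.sum_congr rfl fun i _ => ?_
  rw [← Abelian.Ext.mk₀_comp_mk₀, Abelian.Ext.comp_assoc_of_second_deg_zero]
  have h3 : ModuleCat.ofHom (t i • (LinearMap.id : Γ →ₗ[G] Γ)) = t i • 𝟙 (ModuleCat.of G Γ) := rfl
  rw [h3, Abelian.Ext.mk₀_smul, Abelian.Ext.smul_comp, Abelian.Ext.mk₀_id_comp]

end P2

section Comb
variable {N : Type u} [AddCommGroup N] [Module G N] [Module.Finite G N] {r : ℕ} (t : Fin r → G)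

/-- the inclusion of the `t`-socle of the `m`-torsion of `N` into `N` -/
def socIncl : LinearMap.ker (tmap G (Γ := DRing.torsionSub (maximalIdeal G) N) t) →ₗ[G] N :=
  (DRing.torsionSub (maximalIdeal G) N).subtype ∘ₗ (LinearMap.ker (tmap G t)).subtype

include hd in
/-- a class in `Ext^d(N, G)` (`N` finite) vanishing on the `t`-socle of `Γ_m(N)` lies in
`(t) • Ext^d(N, G)`. -/
theorem exists_eq_sum_smul_of_finite
    (ξ : Abelian.Ext.{u} (ModuleCat.of G N) (ModuleCat.of G G) d)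
    (h : (Abelian.Ext.mk₀ (ModuleCat.ofHom (socIncl G (N := N) t))).comp ξ (zero_add d) = 0) :
    ∃ η : Fin r → Abelian.Ext.{u} (ModuleCat.of G N) (ModuleCat.of G G) d,
      ξ = ∑ i, t i • η i := by
  let Γ := DRing.torsionSub (maximalIdeal G) N
  have hex : Function.Exact Γ.subtype Γ.mkQ := LinearMap.exact_subtype_mkQ _
  have hC : Subsingleton (LocCoh.H (maximalIdeal G) 0 (N ⧸ Γ)) := by
    apply H_zero_subsingleton_of_torsionSub
    intro y hy
    have := Groth.Agent.Lib.helper19.LCGroth.torsionSub_quotient_eq_bot (maximalIdeal G) N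
    rw [this] at hy
    exact (Submodule.mem_bot G).1 hy
  have h1 : (Abelian.Ext.mk₀ (ModuleCat.ofHom (LinearMap.ker (tmap G (Γ := Γ) t)).subtype)).comp
      ((Abelian.Ext.mk₀ (ModuleCat.ofHom Γ.subtype)).comp ξ (zero_add d)) (zero_add d) = 0 := by
    rw [Abelian.Ext.mk₀_comp_mk₀_assoc]
    exact h
  obtain ⟨ζ, hζ⟩ := exists_eq_sum_smul G d hd t _ h1
  choose η hη using fun i => restr_surjective G d hd Γ.subtype Γ.mkQ
    (Submodule.subtype_injective _) (Submodule.mkQ_surjective _) hex (ζ i)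
  refine ⟨η, ?_⟩
  rw [← sub_eq_zero]
  apply restr_injective G d hd Γ.subtype Γ.mkQ
    (Submodule.subtype_injective _) (Submodule.mkQ_surjective _) hex hC
  have h2 : (Abelian.Ext.mk₀ (ModuleCat.ofHom Γ.subtype)).comp (ξ - ∑ i, t i • η i) (zero_add d) =
      ((Abelian.Ext.mk₀ (ModuleCat.ofHom Γ.subtype)).precomp (ModuleCat.of G G) (zero_add d))
        (ξ - ∑ i, t i • η i) := rfl
  rw [h2, map_sub, map_sum, sub_eq_zero]
  show (Abelian.Ext.mk₀ (ModuleCat.ofHom Γ.subtype)).comp ξ (zero_add d) = _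
  rw [hζ]
  refine Finset.sum_congr rfl fun i _ => ?_
  show _ = (Abelian.Ext.mk₀ (ModuleCat.ofHom Γ.subtype)).comp (t i • η i) (zero_add d)
  rw [Abelian.Ext.comp_smul, hη i]

end Comb

end P

end Groth.Agent.Lib.helper19.HLV
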