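import Mathlib
import Groth.Agent.S1735

set_option autoImplicit false
universe u
open IsLocalRing

namespace Groth.Agent.Lib.helper19.HLV

variable {G : Type u} [CommRing G] [IsNoetherianRing G] [IsLocalRing G]

/-- the elements `x` with `x mod J^n` `m`-power torsion and killed by `q` -/
def TT (J q : Ideal G) (n : ℕ) : Ideal G where
  carrier := {x | (∃ k, ∀ a ∈ maximalIdeal G ^ k, a * x ∈ J ^ n) ∧ ∀ a ∈ q, a * x ∈ J ^ n}
  zero_mem' := ⟨⟨0, fun a _ => by simp⟩, fun a _ => by simp⟩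
  add_mem' := by
    rintro x y ⟨⟨k₁, h₁⟩, hx⟩ ⟨⟨k₂, h₂⟩, hy⟩
    refine ⟨⟨max k₁ k₂, fun a ha => ?_⟩, fun a ha => ?_⟩
    · rw [mul_add]
      exact add_mem (h₁ a (Ideal.pow_le_pow_right (le_max_left _ _) ha))
        (h₂ a (Ideal.pow_le_pow_right (le_max_right _ _) ha))
    · rw [mul_add]
      exact add_mem (hx a ha) (hy a ha)
  smul_mem' := by
    rintro r x ⟨⟨k, h⟩, hx⟩
    refine ⟨⟨k, fun a ha => ?_⟩, fun a ha => ?_⟩
    · rw [smul_eq_mul, mul_left_comm]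
      exact Ideal.mul_mem_left _ _ (h a ha)
    · rw [smul_eq_mul, mul_left_comm]
      exact Ideal.mul_mem_left _ _ (hx a ha)

omit [IsNoetherianRing G] in
lemma mem_TT {J q : Ideal G} {n : ℕ} {x : G} :
    x ∈ TT J q n ↔ (∃ k, ∀ a ∈ maximalIdeal G ^ k, a * x ∈ J ^ n) ∧ ∀ a ∈ q, a * x ∈ J ^ n :=
  Iff.rfl

omit [IsNoetherianRing G] in
lemma TT_antitone (J q : Ideal G) : Antitone (TT J q) := by
  intro n n' hnn' x hx
  obtain ⟨⟨k, h⟩, hq⟩ := hx
  exact ⟨⟨k, fun a ha => Ideal.pow_le_pow_right hnn' (h a ha)⟩,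
    fun a ha => Ideal.pow_le_pow_right hnn' (hq a ha)⟩

/-- Artin–Rees: `m`-power torsion elements mod `K` lying deep in `m` are in `K`. -/
lemma artinRees (K : Ideal G) :
    ∃ N, ∀ x ∈ maximalIdeal G ^ N, (∃ k, ∀ a ∈ maximalIdeal G ^ k, a * x ∈ K) → x ∈ K := by
  -- the saturation as a stabilising chain of colon ideals
  let c : ℕ →o Ideal G :=
    ⟨fun k => K.colon ((maximalIdeal G ^ k : Ideal G) : Set G), fun a b hab =>
      Submodule.colon_mono le_rfl (Ideal.pow_le_pow_right hab)⟩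
  obtain ⟨k₀, hk₀⟩ := (monotone_stabilizes_iff_noetherian (R := G) (M := G)).2 inferInstance c
  obtain ⟨e, he⟩ := Ideal.exists_pow_inf_eq_pow_smul (maximalIdeal G) (c k₀)
  refine ⟨e + k₀, fun x hx hsat => ?_⟩
  obtain ⟨k, hk⟩ := hsat
  have hxc : x ∈ c k₀ := by
    have h1 : x ∈ c (max k k₀) := by
      show x ∈ K.colon ((maximalIdeal G ^ (max k k₀) : Ideal G) : Set G)
      rw [Submodule.mem_colon]
      intro a ha
      rw [smul_eq_mul, mul_comm]
      exact hk a (Ideal.pow_le_pow_right (le_max_left _ _) ha)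
    rw [← hk₀ (max k k₀) (le_max_right _ _)] at h1
    exact h1
  have h2 : x ∈ (maximalIdeal G ^ (e + k₀) • ⊤ ⊓ c k₀ : Submodule G G) := by
    refine ⟨?_, hxc⟩
    rw [smul_eq_mul, Ideal.mul_top]
    exact hx
  rw [he (e + k₀) (by omega), show e + k₀ - e = k₀ by omega] at h2
  have h3 : (maximalIdeal G ^ k₀ • (maximalIdeal G ^ e • ⊤ ⊓ c k₀ : Submodule G G) :
      Submodule G G) ≤ K := by
    rw [Submodule.smul_le]
    intro a ha y hy
    have hy2 : y ∈ K.colon ((maximalIdeal G ^ k₀ : Ideal G) : Set G) := hy.2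
    rw [Submodule.mem_colon] at hy2
    have := hy2 a ha
    rwa [smul_eq_mul, mul_comm] at this
  exact h3 h2

variable (J q 𝔓 : Ideal G) [h𝔓 : 𝔓.IsPrime] (hJ : J ≤ 𝔓) (h𝔓m : 𝔓 ≠ maximalIdeal G)
  (Hq : ∀ x : G, (∀ a ∈ q, a * x = 0) → (∃ s, s ∉ 𝔓 ∧ s * x = 0) → x = 0)

include hJ h𝔓m Hq in
lemma iInf_TT_eq_bot : ⨅ n, TT J q n = ⊥ := by
  rw [eq_bot_iff]
  intro x hx
  rw [Ideal.mem_iInf] at hx
  rw [Ideal.mem_bot]
  have hJtop : J ≠ ⊤ := fun h => h𝔓.ne_top (top_le_iff.1 (h ▸ hJ))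
  apply Hq
  · intro a ha
    have h1 : a * x ∈ ⨅ n, J ^ n := by
      rw [Ideal.mem_iInf]
      intro n
      exact (hx n).2 a ha
    rw [Ideal.iInf_pow_eq_bot_of_isLocalRing J hJtop] at h1
    exact h1
  · -- localise at `𝔓`
    obtain ⟨t, htm, ht𝔓⟩ : ∃ t, t ∈ maximalIdeal G ∧ t ∉ 𝔓 := by
      by_contra hcon
      push Not at hcon
      exact h𝔓m (le_antisymm (le_maximalIdeal h𝔓.ne_top) hcon)
    let S := Localization.AtPrime 𝔓
    have hmap : J.map (algebraMap G S) ≠ ⊤ := by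
      intro h
      have h1 : J.map (algebraMap G S) ≤ maximalIdeal S := by
        rw [← Localization.AtPrime.map_eq_maximalIdeal]
        exact Ideal.map_mono hJ
      exact (maximalIdeal.isMaximal S).ne_top (top_le_iff.1 (h ▸ h1))
    have h2 : algebraMap G S x ∈ ⨅ n, (J.map (algebraMap G S)) ^ n := by
      rw [Ideal.mem_iInf]
      intro n
      obtain ⟨k, hk⟩ := (hx n).1
      have h3 : t ^ k * x ∈ J ^ n := hk _ (Ideal.pow_mem_pow htm k)
      have hu : IsUnit (algebraMap G S (t ^ k)) :=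
        IsLocalization.map_units S (⟨t ^ k, 𝔓.primeCompl.pow_mem ht𝔓 k⟩ : 𝔓.primeCompl)
      have h4 : algebraMap G S (t ^ k * x) ∈ (J.map (algebraMap G S)) ^ n := by
        rw [← Ideal.map_pow]
        exact Ideal.mem_map_of_mem _ h3
      rw [map_mul] at h4
      exact (Ideal.unit_mul_mem_iff_mem _ hu).1 h4
    rw [Ideal.iInf_pow_eq_bot_of_isLocalRing _ hmap, Ideal.mem_bot] at h2
    obtain ⟨s, hs⟩ := (IsLocalization.map_eq_zero_iff 𝔓.primeCompl S x).1 h2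
    exact ⟨s, s.2, hs⟩

include hJ h𝔓m Hq in
theorem key_C [IsAdicComplete (maximalIdeal G) G] (n : ℕ) :
    ∃ n', n ≤ n' ∧ TT J q n' ≤ J ^ n := by
  obtain ⟨N, hN⟩ := artinRees (J ^ n)
  obtain ⟨n₀, hn₀⟩ := Groth.Agent.S1735.chevalley (TT J q) (TT_antitone J q)
    (iInf_TT_eq_bot J q 𝔓 hJ h𝔓m Hq) N
  refine ⟨max n₀ n, le_max_right _ _, fun x hx => ?_⟩
  have h1 : x ∈ maximalIdeal G ^ N := hn₀ (TT_antitone J q (le_max_left n₀ n) hx)
  have h2 : x ∈ TT J q n := TT_antitone J q (le_max_right n₀ n) hx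
  exact hN x h1 h2.1

end Groth.Agent.Lib.helper19.HLV
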