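import Mathlib
import Groth.Agent.Lib.Helper19.HLV1
import Groth.Agent.Lib.Helper19.HLV2
import Groth.Agent.Lib.Helper19.LCBridge
import Groth.Agent.Lib.Helper19.LCLes
import Groth.Agent.Lib.Helper19.LCFactor

set_option autoImplicit false
universe u
open IsLocalRing CategoryTheory

namespace Groth.Agent.Lib.helper19.HLV
open Groth.Agent.Lib.helper19.LCBridge

variable (G : Type u) [CommRing G] [LocCoh.IsGorensteinLocalRing G]
  [IsAdicComplete (maximalIdeal G) G] (d : ℕ) (hd : ringKrullDim G = d)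
  (J q 𝔓 : Ideal G) [h𝔓 : 𝔓.IsPrime] (hJ : J ≤ 𝔓) (h𝔓m : 𝔓 ≠ maximalIdeal G)
  (Hq : ∀ x : G, (∀ a ∈ q, a * x = 0) → (∃ s, s ∉ 𝔓 ∧ s * x = 0) → x = 0)

include hd hJ h𝔓m Hq in
/-- every element of `H^d_J(G)` lies in `q • H^d_J(G)` -/
theorem mem_smul_top {r : ℕ} (t : Fin r → G) (ht : Ideal.span (Set.range t) = q)
    (w : LocCoh.H J d G) :
    ∃ w' : Fin r → LocCoh.H J d G, w = ∑ i, t i • w' i := by
  obtain ⟨n, ξ, rfl⟩ := toH'_surj J d (ModuleCat.of G G) w
  obtain ⟨n', hnn', hTT⟩ := key_C J q 𝔓 hJ h𝔓m Hq n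
  let ξ' := (Abelian.Ext.mk₀ (quotMap J hnn')).comp ξ (zero_add d)
  have hzero : ModuleCat.ofHom
      (X := LinearMap.ker (tmap G (Γ := DRing.torsionSub (maximalIdeal G) (G ⧸ J ^ n')) t))
      (socIncl G (N := G ⧸ J ^ n') t) ≫ quotMap J hnn' = 0 := by
    apply ModuleCat.hom_ext
    apply LinearMap.ext
    rintro ⟨⟨x, hxΓ⟩, hxK⟩
    obtain ⟨y, rfl⟩ := Ideal.Quotient.mk_surjective x
    show Submodule.mapQ _ _ LinearMap.id (Ideal.pow_le_pow_right hnn')
      (Ideal.Quotient.mk (J ^ n') y) = 0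
    have hy : y ∈ TT J q n' := by
      rw [mem_TT]
      constructor
      · obtain ⟨k, hk⟩ := hxΓ
        refine ⟨k, fun a ha => ?_⟩
        have := hk a ha
        rw [← Ideal.Quotient.eq_zero_iff_mem, map_mul]
        exact this
      · intro a ha
        rw [← ht] at ha
        rw [mem_ker_tmap] at hxK
        induction ha using Submodule.span_induction with
        | mem a ha =>
          obtain ⟨i, rfl⟩ := ha
          have := congrArg Subtype.val (hxK i)
          rw [← Ideal.Quotient.eq_zero_iff_mem, map_mul]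
          exact this
        | zero => rw [zero_mul]; exact zero_mem _
        | add a b _ _ iha ihb => rw [add_mul]; exact add_mem iha ihb
        | smul c a _ iha =>
          rw [smul_eq_mul, mul_assoc]
          exact Ideal.mul_mem_left _ _ iha
    have hy' := hTT hy
    show Submodule.Quotient.mk (LinearMap.id y) = 0
    rw [Submodule.Quotient.mk_eq_zero]
    exact hy'
  have h : (Abelian.Ext.mk₀ (ModuleCat.ofHom
      (X := LinearMap.ker (tmap G (Γ := DRing.torsionSub (maximalIdeal G) (G ⧸ J ^ n')) t))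
      (socIncl G (N := G ⧸ J ^ n') t))).comp ξ'
      (zero_add d) = 0 := by
    show (Abelian.Ext.mk₀ _).comp ((Abelian.Ext.mk₀ (quotMap J hnn')).comp ξ (zero_add d))
      (zero_add d) = 0
    rw [Abelian.Ext.mk₀_comp_mk₀_assoc, hzero, Abelian.Ext.mk₀_zero, Abelian.Ext.zero_comp]
  obtain ⟨η, hη⟩ := exists_eq_sum_smul_of_finite G d hd t ξ' h
  refine ⟨fun i => toH' J d (ModuleCat.of G G) n' (η i), ?_⟩
  rw [← toH'_comp J d (ModuleCat.of G G) hnn' ξ]
  show toH' J d (ModuleCat.of G G) n' ξ' = _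
  rw [hη, map_sum]
  refine Finset.sum_congr rfl fun i _ => ?_
  rw [map_smul]

include hd hJ h𝔓m Hq in
/-- Hartshorne–Lichtenbaum vanishing, Gorenstein complete case -/
theorem H_quot_subsingleton : Subsingleton (LocCoh.H J d (G ⧸ q)) := by
  obtain ⟨r, t, ht⟩ := (Submodule.fg_iff_exists_fin_generating_family).1
    ((isNoetherianRing_iff_ideal_fg G).1 inferInstance q)
  have hex : Function.Exact q.subtype q.mkQ := LinearMap.exact_subtype_mkQ _
  have hS := ExtLoc.sc_shortExact q.subtype q.mkQ (Submodule.subtype_injective _)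
    (Submodule.mkQ_surjective _) hex
  have hv : Subsingleton ((localCohomology J (d + 1)).obj (ModuleCat.of G q) : ModuleCat.{u} G) := by
    apply Groth.Agent.Lib.helper19.LCGroth.vanish
    refine lt_of_le_of_lt (Module.supportDim_le_ringKrullDim G q) ?_
    rw [hd]
    exact_mod_cast Nat.lt_succ_self d
  have hsurj := Groth.Agent.Lib.helper19.LCLes.H_surjective_of_vanish J d hS hv
  refine ⟨fun a b => ?_⟩
  have hz : ∀ z : LocCoh.H J d (G ⧸ q), z = 0 := by
    intro z
    obtain ⟨w, rfl⟩ := hsurj z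
    obtain ⟨w', rfl⟩ := mem_smul_top G d hd J q 𝔓 hJ h𝔓m Hq t ht w
    rw [map_sum]
    apply Finset.sum_eq_zero
    intro i _
    rw [map_smul]
    apply H_smul_eq_zero J d (ModuleCat.of G (G ⧸ q)) (t i)
    apply smul_id_quot_eq_zero q (t i)
    rw [← ht]
    exact Ideal.subset_span ⟨i, rfl⟩
  rw [hz a, hz b]

end Groth.Agent.Lib.helper19.HLV
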