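import Mathlib
import Groth.Agent.S16981
import Groth.Agent.S0341
import Groth.Agent.S0342
import Groth.Agent.S0580
import Groth.Agent.LibCR29e
import Groth.Agent.Lib.Helper24.CplCatenary
import Groth.Agent.Lib.Helper26.CMLci
import Groth.Agent.Lib.Helper26.Depth5
import Groth.Agent.Lib.Helper17.LciGor
import Groth.Agent.Lib.Helper19.Gor1

set_option autoImplicit false
universe u
open IsLocalRing CategoryTheory

namespace Groth.Agent.Lib.helper19.HLV

/-- (after helper24 `N2Reg`) a local quotient of a complete Noetherian local ring is complete -/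
theorem isAdicComplete_quotient (A : Type u) [CommRing A] [IsLocalRing A] [IsNoetherianRing A]
    [IsAdicComplete (maximalIdeal A) A] (J : Ideal A) [IsLocalRing (A ⧸ J)] :
    IsAdicComplete (maximalIdeal (A ⧸ J)) (A ⧸ J) := by
  have hJ : J ≤ maximalIdeal A := by
    apply IsLocalRing.le_maximalIdeal
    intro h
    have : Subsingleton (A ⧸ J) := Ideal.Quotient.subsingleton_iff.mpr h
    exact not_subsingleton (A ⧸ J) this
  have hmax : ((maximalIdeal A).map (Ideal.Quotient.mk J)).IsMaximal :=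
    Ideal.IsMaximal.map_of_surjective_of_ker_le Ideal.Quotient.mk_surjective
      (by rw [Ideal.mk_ker]; exact hJ)
  rw [← IsLocalRing.eq_maximalIdeal hmax]
  have h1 : IsAdicComplete (maximalIdeal A) (A ⧸ J) :=
    Groth.Agent.S16981.isAdicComplete_of_finite (maximalIdeal A) (A ⧸ J)
  exact (IsAdicComplete.map_algebraMap_iff (S := A ⧸ J) (maximalIdeal A) (A ⧸ J)).mpr h1

/-- Cohen structure theorem with a complete regular cover -/
theorem exists_regular_complete_surjective (B : Type u) [CommRing B] [IsLocalRing B]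
    [IsNoetherianRing B] [IsAdicComplete (maximalIdeal B) B] :
    ∃ (P : Type u) (_ : CommRing P) (_ : IsRegularLocalRing P) (f : P →+* B),
      IsAdicComplete (maximalIdeal P) P ∧ Function.Surjective f := by
  obtain ⟨Λ, _, n, f, hΛ, hf⟩ :=
    Groth.Agent.S0580.result B (maximalIdeal B).fg_of_isNoetherianRing
  refine ⟨MvPowerSeries (Fin n) Λ, inferInstance,
    Groth.Agent.Lib.Helper24.CplCatenary.isRegularLocalRing_mvPowerSeries_of_field_or_cohen Λ hΛ n,
    f, ?_, hf⟩
  rcases hΛ with hF | hC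
  · letI := hF.toField
    haveI : IsAdicComplete (maximalIdeal Λ) Λ := by
      rw [IsLocalRing.maximalIdeal_eq_bot]
      infer_instance
    exact Groth.Agent.LibCR29.isAdicComplete_mvPowerSeries n Λ
  · obtain ⟨hd, hdvr, hc, p, hp, hm⟩ := hC
    exact Groth.Agent.LibCR29.isAdicComplete_mvPowerSeries n Λ

/-- in a CM local ring, associated primes are minimal -/
theorem cm_ass_minimal (G : Type u) [CommRing G] [hG : LocCoh.IsCohenMacaulayLocalRing G]
    (𝔭 : Ideal G) (h𝔭 : 𝔭 ∈ associatedPrimes G G) : 𝔭 ∈ minimalPrimes G := by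
  haveI : 𝔭.IsPrime := h𝔭.isPrime
  obtain ⟨d, hd⟩ : ∃ d : ℕ, ringKrullDim G = d := by
    have h1 : ringKrullDim G ≠ ⊤ := ringKrullDim_ne_top
    have h2 : ringKrullDim G ≠ ⊥ := ringKrullDim_ne_bot
    obtain ⟨a, ha⟩ := WithBot.ne_bot_iff_exists.1 h2
    have ha' : a ≠ ⊤ := by
      rintro rfl
      exact h1 ha.symm
    obtain ⟨k, hk⟩ := ENat.ne_top_iff_exists.1 ha'
    exact ⟨k, by rw [← ha, ← hk]; rfl⟩
  have h1 := Groth.Agent.Lib.helper26.Depth.depth_le_ringKrullDim_quotient_of_mem_associatedPrimes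
    G 𝔭 h𝔭
  rw [← hG.supportDim_eq_depth, Module.supportDim_self_eq_ringKrullDim, hd] at h1
  have h2 : ringKrullDim (G ⧸ 𝔭) ≤ d := by
    rw [← hd]
    exact ringKrullDim_le_of_surjective _ Ideal.Quotient.mk_surjective
  have h3 := Gor.cm_height_add G hG.supportDim_eq_depth d hd 𝔭 d (le_antisymm h2 h1)
  rw [← Ideal.height_eq_zero_iff]
  have h4 : 𝔭.height ≠ ⊤ := Ideal.height_ne_top Ideal.IsPrime.ne_top'
  obtain ⟨k, hk⟩ := ENat.ne_top_iff_exists.1 h4
  rw [← hk] at h3 ⊢
  have : k + d = d := by exact_mod_cast h3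
  have : k = 0 := by omega
  rw [this]
  rfl

open RingTheory.Sequence in
/-- a complete local domain of dimension `d` is a quotient of a complete Gorenstein local ring of
dimension `d` by a prime `q` with `(0 : q) ∩ ker(G → G_q) = 0`. -/
theorem exists_gorenstein_cover (B : Type u) [CommRing B] [IsDomain B] [IsLocalRing B]
    [IsNoetherianRing B] [IsAdicComplete (maximalIdeal B) B] (d : ℕ) (hd : ringKrullDim B = d) :
    ∃ (G : Type u) (_ : CommRing G) (_ : LocCoh.IsGorensteinLocalRing G) (φ : G →+* B),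
      IsAdicComplete (maximalIdeal G) G ∧ Function.Surjective φ ∧ ringKrullDim G = d ∧
      (∀ x : G, (∀ a ∈ RingHom.ker φ, a * x = 0) → (∃ s, s ∉ RingHom.ker φ ∧ s * x = 0) → x = 0) := by
  obtain ⟨P, _, hP, f, hPc, hf⟩ := exists_regular_complete_surjective B
  have hCM : LocCoh.IsCohenMacaulayModule P P :=
    Groth.Agent.Lib.Helper24.CplCatenary.isCohenMacaulayModule_of_isRegularLocalRing P
  haveI hCMl : LocCoh.IsCohenMacaulayLocalRing P := ⟨hCM⟩
  haveI h𝔮 : (RingHom.ker f).IsPrime := RingHom.ker_isPrime f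
  have hdim𝔮 : ringKrullDim (P ⧸ RingHom.ker f) = d := by
    rw [← hd]
    exact ringKrullDim_eq_of_ringEquiv (RingHom.quotientKerEquivOfSurjective hf)
  obtain ⟨rs, hreg, hle, hdimrs, hmin⟩ :=
    Groth.Agent.Lib.helper26.Unmixed.exists_regular_sequence_of_equidim P (RingHom.ker f) (by
      intro p hp
      rw [Ideal.minimalPrimes_eq_subsingleton_self, Set.mem_singleton_iff] at hp
      rw [hp])
  have hmem : ∀ r ∈ rs, r ∈ maximalIdeal P := fun r hr =>
    le_maximalIdeal h𝔮.ne_top (hle (Ideal.subset_span hr))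
  haveI hG : LocCoh.IsGorensteinLocalRing (P ⧸ Ideal.ofList rs) :=
    Groth.Agent.Lib.helper17.LciGor.gor_quot_ofList P rs hmem hreg (Groth.Agent.S0342.result P)
  let φ : P ⧸ Ideal.ofList rs →+* B := Ideal.Quotient.lift (Ideal.ofList rs) f (fun a ha => hle ha)
  have hφ : Function.Surjective φ := by
    intro b
    obtain ⟨a, rfl⟩ := hf b
    exact ⟨Ideal.Quotient.mk _ a, rfl⟩
  haveI hφp : (RingHom.ker φ).IsPrime := RingHom.ker_isPrime φ
  refine ⟨P ⧸ Ideal.ofList rs, inferInstance, hG, φ, isAdicComplete_quotient P _, hφ,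
    hdimrs.trans hdim𝔮, ?_⟩
  intro x hx ⟨s, hs, hsx⟩
  by_contra hx0
  haveI hGcm : LocCoh.IsCohenMacaulayLocalRing (P ⧸ Ideal.ofList rs) :=
    Groth.Agent.S0341.result _
  obtain ⟨𝔭, h𝔭, hann⟩ := exists_le_isAssociatedPrime_of_isNoetherianRing
    (P ⧸ Ideal.ofList rs) x hx0
  have hminp := cm_ass_minimal (P ⧸ Ideal.ofList rs) 𝔭 h𝔭
  have hker : RingHom.ker φ ≤ 𝔭 := by
    intro a ha
    apply hann
    rw [Submodule.mem_colon_singleton, smul_eq_mul, Submodule.mem_bot]
    exact hx a ha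
  have h𝔭le : 𝔭 ≤ RingHom.ker φ := hminp.2 ⟨hφp, bot_le⟩ hker
  apply hs
  apply h𝔭le
  apply hann
  rw [Submodule.mem_colon_singleton, smul_eq_mul, Submodule.mem_bot]
  exact hsx

end Groth.Agent.Lib.helper19.HLV
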