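import Mathlib
import Groth.Agent.Lib.Helper19.HLV3
import Groth.Agent.Lib.Helper19.HLV4
import Groth.Agent.S11614
import Groth.Agent.S0333
import Groth.Agent.Lib.Helper19.LCFactor

set_option autoImplicit false
universe u
open IsLocalRing CategoryTheory

namespace Groth.Agent.Lib.helper19.HLV

/-- transfer of the Gorenstein complete case along a surjection `φ : G → B` -/
theorem H_subsingleton_of_cover (B : Type u) [CommRing B] [IsLocalRing B] [IsNoetherianRing B]
    (G : Type u) [CommRing G] [LocCoh.IsGorensteinLocalRing G]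
    [IsAdicComplete (maximalIdeal G) G] (φ : G →+* B) (hφ : Function.Surjective φ) (d : ℕ)
    (hd : ringKrullDim G = d)
    (Hq : ∀ x : G, (∀ a ∈ RingHom.ker φ, a * x = 0) → (∃ s, s ∉ RingHom.ker φ ∧ s * x = 0) → x = 0)
    (JB 𝔓B : Ideal B) [h𝔓B : 𝔓B.IsPrime] (hJ : JB ≤ 𝔓B) (hne : 𝔓B ≠ maximalIdeal B) :
    Subsingleton (LocCoh.H JB d B) := by
  letI : Algebra G B := φ.toAlgebra
  have halg : algebraMap G B = φ := rfl
  let q : Ideal G := LinearMap.ker (Algebra.linearMap G B)
  have hq : ∀ a, a ∈ q ↔ a ∈ RingHom.ker φ := fun a => Iff.rfl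
  haveI : (𝔓B.comap φ).IsPrime := Ideal.comap_isPrime φ 𝔓B
  have h𝔓ne : 𝔓B.comap φ ≠ maximalIdeal G := by
    intro h
    apply hne
    have hmax : ((maximalIdeal B).comap φ).IsMaximal :=
      Ideal.comap_isMaximal_of_surjective φ hφ
    have h2 : (maximalIdeal B).comap φ = maximalIdeal G := IsLocalRing.eq_maximalIdeal hmax
    exact Ideal.comap_injective_of_surjective φ hφ (h.trans h2.symm)
  have hq𝔓 : ∀ s, s ∉ 𝔓B.comap φ → s ∉ RingHom.ker φ := by
    intro s hs hs'
    apply hs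
    rw [Ideal.mem_comap, (RingHom.mem_ker).1 hs']
    exact zero_mem _
  have h1 : Subsingleton (LocCoh.H (JB.comap φ) d (G ⧸ q)) :=
    H_quot_subsingleton G d hd (JB.comap φ) q (𝔓B.comap φ) (Ideal.comap_mono hJ) h𝔓ne
      (fun x hx ⟨s, hs, hsx⟩ => Hq x (fun a ha => hx a ((hq a).2 ha)) ⟨s, hq𝔓 s hs, hsx⟩)
  let e : (G ⧸ q) ≃ₗ[G] B := (Algebra.linearMap G B).quotKerEquivOfSurjective hφ
  have h2 : Subsingleton (LocCoh.H (JB.comap φ) d B) :=
    (((localCohomology (JB.comap φ) d).mapIso e.toModuleIso).toLinearEquiv.symm).toEquiv.subsingleton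
  obtain ⟨ψ, -⟩ := Groth.Agent.S11614.result G B (JB.comap φ) B d
  rw [halg, Ideal.map_comap_of_surjective φ hφ] at ψ
  exact ψ.toEquiv.subsingleton

/-- a ring of positive dimension has a non-maximal prime -/
theorem exists_prime_not_maximal (S : Type u) [CommRing S] (h : (1 : WithBot ℕ∞) ≤ ringKrullDim S) :
    ∃ 𝔓 : Ideal S, 𝔓.IsPrime ∧ ¬ 𝔓.IsMaximal := by
  by_contra hcon
  push Not at hcon
  haveI : Ring.KrullDimLE 0 S := Ring.krullDimLE_zero_iff.2 hcon
  have h0 : ringKrullDim S ≤ 0 := Ring.krullDimLE_iff.1 inferInstance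
  have := h.trans h0
  norm_num at this

/-- HLVT for the module `A ⧸ p` over a complete local ring `A`, `dim A/p = d`. -/
theorem H_quotient_prime_subsingleton (A : Type u) [CommRing A] [IsLocalRing A]
    [IsNoetherianRing A] [IsAdicComplete (maximalIdeal A) A] (p : Ideal A) [hp : p.IsPrime]
    (d : ℕ) (hd : ringKrullDim (A ⧸ p) = d) (I : Ideal A)
    (h : (1 : WithBot ℕ∞) ≤ ringKrullDim (A ⧸ (I ⊔ p))) :
    Subsingleton (LocCoh.H I d (A ⧸ p)) := by
  haveI : IsLocalRing (A ⧸ p) :=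
    IsLocalRing.of_surjective' (Ideal.Quotient.mk p) Ideal.Quotient.mk_surjective
  haveI : IsAdicComplete (maximalIdeal (A ⧸ p)) (A ⧸ p) := isAdicComplete_quotient A p
  -- a non-maximal prime of `A ⧸ p` containing the image of `I`
  let JB : Ideal (A ⧸ p) := I.map (Ideal.Quotient.mk p)
  have h1 : (1 : WithBot ℕ∞) ≤ ringKrullDim ((A ⧸ p) ⧸ JB) := by
    have e : ((A ⧸ p) ⧸ JB) ≃+* (A ⧸ (I ⊔ p)) :=
      (DoubleQuot.quotQuotEquivQuotSup p I).trans (Ideal.quotEquivOfEq (sup_comm p I))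
    rw [ringKrullDim_eq_of_ringEquiv e]
    exact h
  obtain ⟨𝔓', h𝔓', hnm⟩ := exists_prime_not_maximal _ h1
  haveI := h𝔓'
  haveI : (𝔓'.comap (Ideal.Quotient.mk JB)).IsPrime := Ideal.comap_isPrime _ _
  have hJB : JB ≤ 𝔓'.comap (Ideal.Quotient.mk JB) := by
    intro a ha
    rw [Ideal.mem_comap, Ideal.Quotient.eq_zero_iff_mem.2 ha]
    exact zero_mem _
  have hne : 𝔓'.comap (Ideal.Quotient.mk JB) ≠ maximalIdeal (A ⧸ p) := by
    intro hcon
    apply hnm
    have hmax : (𝔓'.comap (Ideal.Quotient.mk JB)).IsMaximal := hcon ▸ maximalIdeal.isMaximal _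
    rw [← Ideal.map_comap_of_surjective (Ideal.Quotient.mk JB) Ideal.Quotient.mk_surjective 𝔓']
    exact Ideal.IsMaximal.map_of_surjective_of_ker_le Ideal.Quotient.mk_surjective
      (by rw [Ideal.mk_ker]; exact hJB)
  obtain ⟨G, _, hG, φ, hGc, hφ, hdG, Hq⟩ := exists_gorenstein_cover (A ⧸ p) d hd
  have h2 : Subsingleton (LocCoh.H JB d (A ⧸ p)) :=
    H_subsingleton_of_cover (A ⧸ p) G φ hφ d hdG Hq JB _ hJB hne
  obtain ⟨ψ, -⟩ := Groth.Agent.S11614.result A (A ⧸ p) I (A ⧸ p) d
  exact ψ.symm.toEquiv.subsingleton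

open Groth.Agent.Lib.helper19.LCFactor in
/-- local cohomology of a finite product vanishes when it does on the factors -/
lemma H_pi_subsingleton' {R : Type u} [CommRing R] (I : Ideal R) (i : ℕ) {ι : Type u} [Fintype ι]
    (M : ι → Type u) [∀ j, AddCommGroup (M j)] [∀ j, Module R (M j)]
    (h : ∀ j, Subsingleton ((localCohomology I i).obj (ModuleCat.of R (M j)) : ModuleCat.{u} R)) :
    Subsingleton ((localCohomology I i).obj (ModuleCat.of R (∀ j, M j)) : ModuleCat.{u} R) := by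
  classical
  have hid : 𝟙 (ModuleCat.of R (∀ j, M j)) = ∑ j : ι,
      (ModuleCat.ofHom (LinearMap.proj (R := R) (φ := M) j) ≫
        ModuleCat.ofHom (LinearMap.single R M j)) := by
    apply ModuleCat.hom_ext
    apply LinearMap.ext
    intro v
    rw [ModuleCat.hom_sum, LinearMap.sum_apply]
    simp only [ModuleCat.hom_comp, ModuleCat.hom_ofHom, LinearMap.comp_apply, LinearMap.proj_apply,
      LinearMap.single_apply, ModuleCat.hom_id, LinearMap.id_apply]
    exact (Finset.univ_sum_single v).symm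
  have hz : ∀ x : ((localCohomology I i).obj (ModuleCat.of R (∀ j, M j)) : ModuleCat.{u} R),
      x = 0 := by
    intro x
    have h1 : ((localCohomology I i).map (𝟙 (ModuleCat.of R (∀ j, M j)))).hom x = x := by
      rw [CategoryTheory.Functor.map_id]; rfl
    rw [← h1, hid, H_map_sum]
    apply Finset.sum_eq_zero
    intro j _
    rw [Functor.map_comp, ModuleCat.hom_comp, LinearMap.comp_apply,
      (h j).elim (((localCohomology I i).map (ModuleCat.ofHom
        (LinearMap.proj (R := R) (φ := M) j))).hom x) 0, map_zero]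
  exact ⟨fun x y => by rw [hz x, hz y]⟩

/-- HLVT over a complete local ring -/
theorem complete_case (A : Type u) [CommRing A] [IsLocalRing A] [IsNoetherianRing A]
    [IsAdicComplete (maximalIdeal A) A] (d : ℕ) (hd : ringKrullDim A = d) (I : Ideal A)
    (h : ∀ p ∈ minimalPrimes A, ringKrullDim (A ⧸ p) = d →
      (1 : WithBot ℕ∞) ≤ ringKrullDim (A ⧸ (I ⊔ p)))
    (N : Type u) [AddCommGroup N] [Module A N] (i : ℕ) (hi : d ≤ i) :
    Subsingleton (LocCoh.H I i N) := by
  classical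
  let S : Set (Ideal A) := {p | p ∈ minimalPrimes A ∧ ringKrullDim (A ⧸ p) = d}
  have hfin : S.Finite := (minimalPrimes.finite_of_isNoetherianRing A).subset (fun p hp => hp.1)
  haveI : Fintype S := hfin.fintype
  haveI hprime : ∀ p : S, p.1.IsPrime := fun p => p.2.1.1.1
  let M : Type u := ∀ p : S, A ⧸ p.1
  apply Groth.Agent.S0333.result A I d hd M ?_ ?_ N i hi
  · intro p hp hpd hprime'
    have hsurj : Function.Surjective
        (LinearMap.proj (R := A) (φ := fun p : S => A ⧸ p.1) ⟨p, hp, hpd⟩) := by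
      intro y
      exact ⟨Pi.single (⟨p, hp, hpd⟩ : S) y, by simp⟩
    apply Module.support_subset_of_surjective _ hsurj
    rw [Module.mem_support_iff_of_finite, Ideal.annihilator_quotient]
  · apply H_pi_subsingleton' I d (fun p : S => A ⧸ p.1)
    intro p
    exact H_quotient_prime_subsingleton A p.1 d p.2.2 I (h p.1 p.2.1 p.2.2)

end Groth.Agent.Lib.helper19.HLV
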