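import Mathlib
import Groth.Agent.S0326
import Groth.Agent.S0381
import Groth.Agent.Lib.Helper19.HLV5
import Groth.Agent.Lib.Helper2.LCNat9
import Groth.Agent.Lib.Helper2.GNV6
import Groth.Agent.Lib.Helper19.H1Cpl

set_option autoImplicit false
universe u
open IsLocalRing CategoryTheory
open scoped Pointwise

namespace Groth.Agent.Lib.helper19.Conn

section Basic
variable {R : Type u} [CommRing R] [IsNoetherianRing R]

/-- cohomological dimension only depends on the radical -/
lemma cdLE_of_radical_eq (I J : Ideal R) (h : I.radical = J.radical) (k : ℕ)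
    (hI : LocCoh.CdLE R I k) : LocCoh.CdLE R J k := by
  intro M _ _ i hi
  have := hI M i hi
  exact ((localCohomology.isoOfSameRadical h i).app
    (ModuleCat.of R M)).toLinearEquiv.symm.toEquiv.subsingleton

/-- adding a generator raises the cohomological dimension by at most one -/
lemma cdLE_sup_span (c : Ideal R) (x : R) (k : ℕ) (h : LocCoh.CdLE R c k) :
    LocCoh.CdLE R (c ⊔ Ideal.span {x}) (k + 1) := by
  have h1 := Groth.Agent.S0326.result R ({x} : Finset R)
  rw [Finset.coe_singleton, Finset.card_singleton] at h1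
  exact Groth.Agent.S0381.result R c (Ideal.span {x}) k 1 h h1

/-- `QuotSMulTop x (R ⧸ c) ≃ R ⧸ (c ⊔ (x))` -/
noncomputable def quotSMulTopEquiv (c : Ideal R) (x : R) :
    QuotSMulTop x (R ⧸ c) ≃ₗ[R] R ⧸ (c ⊔ Ideal.span {x}) := by
  let f : R →ₗ[R] QuotSMulTop x (R ⧸ c) :=
    (Submodule.mkQ (x • (⊤ : Submodule R (R ⧸ c)))) ∘ₗ (Submodule.mkQ c)
  have hf : Function.Surjective f :=
    (Submodule.mkQ_surjective _).comp (Submodule.mkQ_surjective _)
  have hker : LinearMap.ker f = c ⊔ Ideal.span {x} := by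
    ext r
    rw [LinearMap.mem_ker]
    show Submodule.Quotient.mk (Submodule.Quotient.mk r) = 0 ↔ _
    rw [Submodule.Quotient.mk_eq_zero, Submodule.mem_smul_pointwise_iff_exists,
      Submodule.mem_sup]
    constructor
    · rintro ⟨y, -, hy⟩
      obtain ⟨s, rfl⟩ := Submodule.Quotient.mk_surjective c y
      have h1 : r - x * s ∈ c := by
        rw [← Submodule.Quotient.mk_eq_zero c, Submodule.Quotient.mk_sub, ← hy]
        exact sub_self _
      exact ⟨r - x * s, h1, x * s, Ideal.mul_mem_right _ _ (Ideal.mem_span_singleton_self x),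
        by ring⟩
    · rintro ⟨a, ha, b, hb, rfl⟩
      obtain ⟨s, rfl⟩ := Ideal.mem_span_singleton'.1 hb
      refine ⟨Submodule.Quotient.mk s, Submodule.mem_top, ?_⟩
      rw [Submodule.Quotient.mk_add, (Submodule.Quotient.mk_eq_zero c).2 ha, zero_add,
        ← Submodule.Quotient.mk_smul, smul_eq_mul, mul_comm]
  exact (f.quotKerEquivOfSurjective hf).symm.trans (Submodule.quotEquivOfEq _ _ hker)

variable [IsLocalRing R]

lemma exists_nat_dim (S : Type u) [CommRing S] [IsNoetherianRing S] [IsLocalRing S] :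
    ∃ n : ℕ, ringKrullDim S = n := by
  have h1 : ringKrullDim S ≠ ⊤ := ringKrullDim_ne_top
  have h2 : ringKrullDim S ≠ ⊥ := ringKrullDim_ne_bot
  obtain ⟨a, ha⟩ := WithBot.ne_bot_iff_exists.1 h2
  have ha' : a ≠ ⊤ := by
    rintro rfl
    exact h1 ha.symm
  obtain ⟨k, hk⟩ := ENat.ne_top_iff_exists.1 ha'
  exact ⟨k, by rw [← ha, ← hk]; rfl⟩

omit [IsNoetherianRing R] in
lemma isLocalRing_quot (c : Ideal R) (hc : c ≠ ⊤) : IsLocalRing (R ⧸ c) := by
  haveI : Nontrivial (R ⧸ c) := Ideal.Quotient.nontrivial_iff.2 hc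
  exact IsLocalRing.of_surjective' (Ideal.Quotient.mk c) Ideal.Quotient.mk_surjective

lemma exists_nat_dim_quot (c : Ideal R) (hc : c ≠ ⊤) : ∃ n : ℕ, ringKrullDim (R ⧸ c) = n := by
  haveI := isLocalRing_quot c hc
  exact exists_nat_dim (R ⧸ c)

lemma dim_quot_le_succ (c : Ideal R) (x : R) (hx : x ∈ maximalIdeal R) :
    ringKrullDim (R ⧸ c) ≤ ringKrullDim (R ⧸ (c ⊔ Ideal.span {x})) + 1 := by
  have h := Module.supportDim_le_supportDim_quotSMulTop_succ (M := R ⧸ c) hx
  rwa [Module.supportDim_eq_of_equiv (quotSMulTopEquiv c x),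
    Module.supportDim_quotient_eq_ringKrullDim, Module.supportDim_quotient_eq_ringKrullDim] at h

omit [IsNoetherianRing R] in
lemma sup_span_ne_top (c : Ideal R) (hc : c ≠ ⊤) (x : R) (hx : x ∈ maximalIdeal R) :
    c ⊔ Ideal.span {x} ≠ ⊤ := by
  intro h
  have h1 : c ⊔ Ideal.span {x} ≤ maximalIdeal R :=
    sup_le (le_maximalIdeal hc) ((Ideal.span_singleton_le_iff_mem _).2 hx)
  rw [h] at h1
  exact (maximalIdeal.isMaximal R).ne_top (top_le_iff.1 h1)

omit [IsNoetherianRing R] in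
/-- if the maximal ideal is minimal over `c` then `dim R/c ≤ 0` -/
lemma dim_quot_le_zero_of_maximalIdeal_mem_minimalPrimes (c : Ideal R)
    (h : maximalIdeal R ∈ c.minimalPrimes) : ringKrullDim (R ⧸ c) ≤ 0 := by
  have : Ring.KrullDimLE 0 (R ⧸ c) := by
    rw [Ring.krullDimLE_zero_iff]
    intro I hI
    have h1 : (I.comap (Ideal.Quotient.mk c)).IsPrime := Ideal.comap_isPrime _ _
    have h2 : c ≤ I.comap (Ideal.Quotient.mk c) := by
      intro a ha
      rw [Ideal.mem_comap, Ideal.Quotient.eq_zero_iff_mem.2 ha]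
      exact zero_mem _
    have h3 : I.comap (Ideal.Quotient.mk c) = maximalIdeal R :=
      le_antisymm (le_maximalIdeal h1.ne_top) (h.2 ⟨h1, h2⟩ (le_maximalIdeal h1.ne_top))
    rw [← Ideal.map_comap_of_surjective (Ideal.Quotient.mk c) Ideal.Quotient.mk_surjective I, h3]
    exact Ideal.IsMaximal.map_of_surjective_of_ker_le Ideal.Quotient.mk_surjective
      (by rw [Ideal.mk_ker]; exact h.1.2)
  exact Ring.krullDimLE_iff.1 this

/-- a parameter cutting down the dimension of `R ⧸ c` -/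
lemma exists_dim_quot_sup_span (c : Ideal R)
    (h : (1 : WithBot ℕ∞) ≤ ringKrullDim (R ⧸ c)) :
    ∃ x ∈ maximalIdeal R, ringKrullDim (R ⧸ (c ⊔ Ideal.span {x})) + 1 = ringKrullDim (R ⧸ c) := by
  classical
  have hfin : c.minimalPrimes.Finite := Ideal.finite_minimalPrimes_of_isNoetherianRing R c
  obtain ⟨x, hxm, hx⟩ : ∃ x ∈ maximalIdeal R, ∀ p ∈ c.minimalPrimes, x ∉ p := by
    by_contra hcon
    push Not at hcon
    have hsub : ((maximalIdeal R : Ideal R) : Set R) ⊆
        ⋃ p ∈ (↑hfin.toFinset : Set (Ideal R)), ((fun q : Ideal R => q) p : Set R) := by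
      intro x hx
      obtain ⟨p, hp, hxp⟩ := hcon x hx
      exact Set.mem_biUnion (show p ∈ (↑hfin.toFinset : Set (Ideal R)) by simpa using hp) hxp
    rw [Ideal.subset_union_prime (maximalIdeal R) (maximalIdeal R)
      (fun p hp _ _ => ((hfin.mem_toFinset).1 hp).1.1)] at hsub
    obtain ⟨p, hp, hmp⟩ := hsub
    have hp' := (hfin.mem_toFinset).1 hp
    have hpm : p = maximalIdeal R := le_antisymm (le_maximalIdeal hp'.1.1.ne_top) hmp
    have h0 := dim_quot_le_zero_of_maximalIdeal_mem_minimalPrimes c (hpm ▸ hp')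
    have := h.trans h0
    norm_num at this
  refine ⟨x, hxm, ?_⟩
  have h1 := Module.supportDim_quotSMulTop_succ_eq_of_notMem_minimalPrimes_of_mem_maximalIdeal
    (M := R ⧸ c) (x := x) (by rw [Ideal.annihilator_quotient]; exact hx) hxm
  rwa [Module.supportDim_eq_of_equiv (quotSMulTopEquiv c x),
    Module.supportDim_quotient_eq_ringKrullDim, Module.supportDim_quotient_eq_ringKrullDim] at h1

end Basic

section Domain
variable (R : Type u) [CommRing R] [IsDomain R] [IsNoetherianRing R] [IsLocalRing R]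
  [IsAdicComplete (maximalIdeal R) R] (n : ℕ) (hn : ringKrullDim R = n)

include hn in
/-- HLVT for a complete local domain -/
lemma H_top_vanish (a : Ideal R) (h : (1 : WithBot ℕ∞) ≤ ringKrullDim (R ⧸ a)) :
    Subsingleton (LocCoh.H a n R) := by
  apply Groth.Agent.Lib.helper19.HLV.complete_case R n hn a ?_ R n le_rfl
  intro p hp _
  rw [IsDomain.minimalPrimes_eq_singleton_bot, Set.mem_singleton_iff] at hp
  rw [hp, sup_bot_eq]
  exact h

omit [IsDomain R] [IsNoetherianRing R] [IsAdicComplete (maximalIdeal R) R] in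
lemma radical_eq_maximalIdeal_of_dim_zero (c : Ideal R) (hc : c ≠ ⊤)
    (h0 : ringKrullDim (R ⧸ c) = 0) : c.radical = maximalIdeal R := by
  apply le_antisymm
  · exact (Ideal.radical_mono (le_maximalIdeal hc)).trans
      (Ideal.IsPrime.radical (maximalIdeal.isMaximal R).isPrime).le
  · rw [Ideal.radical_eq_sInf]
    apply le_sInf
    rintro q ⟨hcq, hq⟩
    haveI := hq
    have h1 : ringKrullDim (R ⧸ q) ≤ 0 := by
      rw [← h0]
      exact ringKrullDim_le_of_surjective (Ideal.Quotient.factor hcq)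
        (Ideal.Quotient.factor_surjective hcq)
    have h2 : ringKrullDim (R ⧸ q) = (0 : ℕ) :=
      le_antisymm h1 ringKrullDim_nonneg_of_nontrivial
    rw [Groth.Agent.Lib.helper19.H1Cpl.eq_maximalIdeal_of_dim_zero R q h2]

include hn in
/-- the base case `dim R/(a+b) = 0` -/
lemma base_case (a b : Ideal R) (ha : a ≠ ⊤) (hb : b ≠ ⊤)
    (h0 : ringKrullDim (R ⧸ (a ⊔ b)) = 0)
    (hda : (1 : WithBot ℕ∞) ≤ ringKrullDim (R ⧸ a)) (hdb : (1 : WithBot ℕ∞) ≤ ringKrullDim (R ⧸ b))
    (k : ℕ) (hk : LocCoh.CdLE R (a ⊓ b) k) : n ≤ k + 1 := by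
  have hn1 : 1 ≤ n := by
    have h1 : (1 : WithBot ℕ∞) ≤ (n : WithBot ℕ∞) := by
      rw [← hn]
      exact hda.trans (ringKrullDim_quotient_le a)
    exact_mod_cast h1
  obtain ⟨j, rfl⟩ : ∃ j, n = j + 1 := ⟨n - 1, by omega⟩
  have hab : a ⊔ b ≠ ⊤ := by
    intro h
    have h1 : a ⊔ b ≤ maximalIdeal R := sup_le (le_maximalIdeal ha) (le_maximalIdeal hb)
    rw [h] at h1
    exact (maximalIdeal.isMaximal R).ne_top (top_le_iff.1 h1)
  have hrad : (a ⊔ b).radical = (maximalIdeal R).radical := by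
    rw [radical_eq_maximalIdeal_of_dim_zero R (a ⊔ b) hab h0,
      Ideal.IsPrime.radical (maximalIdeal.isMaximal R).isPrime]
  have hnt : Nontrivial (LocCoh.H (a ⊔ b) (j + 1) R) := by
    have h1 := Groth.Agent.Lib.helper2.GNV.nontrivial_H_supportDim (R := R) (j + 1) R
      (by rw [Module.supportDim_self_eq_ringKrullDim, hn])
    exact ((localCohomology.isoOfSameRadical hrad (j + 1)).app
      (ModuleCat.of R R)).toLinearEquiv.symm.injective.nontrivial
  haveI hsa : Subsingleton (LocCoh.H a (j + 1) R) := H_top_vanish R (j + 1) hn a hda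
  haveI hsb : Subsingleton (LocCoh.H b (j + 1) R) := H_top_vanish R (j + 1) hn b hdb
  obtain ⟨δ, -, h1, -, -⟩ := Groth.Agent.Lib.helper2.LCNat.mayer_vietoris R R a b
  by_contra hcon
  push Not at hcon
  haveI hs : Subsingleton (LocCoh.H (a ⊓ b) j R) := hk R j (by omega)
  obtain ⟨y, hy⟩ := exists_ne (0 : LocCoh.H (a ⊔ b) (j + 1) R)
  have hyk : y ∈ LinearMap.ker (Groth.Agent.Lib.helper2.LCNat.mvα R R a b (j + 1)) := by
    rw [LinearMap.mem_ker]
    exact Subsingleton.elim _ _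
  rw [h1 j] at hyk
  obtain ⟨z, rfl⟩ := hyk
  apply hy
  rw [Subsingleton.elim z 0, map_zero]

omit [IsDomain R] [IsNoetherianRing R] [IsLocalRing R] [IsAdicComplete (maximalIdeal R) R] in
lemma radical_inf_sup_eq (a b s : Ideal R) :
    ((a ⊓ b) ⊔ s).radical = ((a ⊔ s) ⊓ (b ⊔ s)).radical := by
  apply le_antisymm
  · exact Ideal.radical_mono (le_inf (sup_le_sup_right inf_le_left s) (sup_le_sup_right inf_le_right s))
  · rw [Ideal.radical_le_radical_iff]
    intro y hy
    refine ⟨2, ?_⟩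
    rw [pow_two]
    have h1 : y * y ∈ (a ⊔ s) * (b ⊔ s) := Ideal.mul_mem_mul hy.1 hy.2
    have h2 : (a ⊔ s) * (b ⊔ s) ≤ (a ⊓ b) ⊔ s := by
      rw [Ideal.sup_mul]
      apply sup_le
      · rw [Ideal.mul_sup]
        exact sup_le (Ideal.mul_le_inf.trans le_sup_left) ((Ideal.mul_le_right (I := a) (J := s)).trans le_sup_right)
      · exact (Ideal.mul_le_left (I := s) (J := b ⊔ s)).trans le_sup_right
    exact h2 h1

include hn in
/-- Brodmann–Sharp 19.2.7: in a complete local domain, `dim R ≤ cd(a ∩ b) + dim R/(a+b) + 1` when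
`dim R/(a+b) < min(dim R/a, dim R/b)`. -/
theorem main : ∀ (δ : ℕ) (a b : Ideal R), a ≠ ⊤ → b ≠ ⊤ → ringKrullDim (R ⧸ (a ⊔ b)) = δ →
    (δ : WithBot ℕ∞) < ringKrullDim (R ⧸ a) → (δ : WithBot ℕ∞) < ringKrullDim (R ⧸ b) →
    ∀ k : ℕ, LocCoh.CdLE R (a ⊓ b) k → n ≤ k + δ + 1 := by
  intro δ
  induction δ with
  | zero =>
    intro a b ha hb h0 hda hdb k hk
    obtain ⟨da, hda'⟩ := exists_nat_dim_quot a ha
    obtain ⟨db, hdb'⟩ := exists_nat_dim_quot b hb
    rw [hda'] at hda
    rw [hdb'] at hdb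
    have h1 : 0 < da := by exact_mod_cast hda
    have h2 : 0 < db := by exact_mod_cast hdb
    have := base_case R n hn a b ha hb (by exact_mod_cast h0)
      (by rw [hda']; exact_mod_cast h1) (by rw [hdb']; exact_mod_cast h2) k hk
    omega
  | succ δ ih =>
    intro a b ha hb hδ hda hdb k hk
    obtain ⟨x, hxm, hx⟩ := exists_dim_quot_sup_span (a ⊔ b) (by
      rw [hδ]
      exact_mod_cast Nat.succ_le_succ (Nat.zero_le δ))
    have hab : a ⊔ b ≠ ⊤ := by
      intro h
      have h1 : a ⊔ b ≤ maximalIdeal R := sup_le (le_maximalIdeal ha) (le_maximalIdeal hb)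
      rw [h] at h1
      exact (maximalIdeal.isMaximal R).ne_top (top_le_iff.1 h1)
    have ha' := sup_span_ne_top a ha x hxm
    have hb' := sup_span_ne_top b hb x hxm
    have hab' := sup_span_ne_top (a ⊔ b) hab x hxm
    obtain ⟨d', hd'⟩ := exists_nat_dim_quot _ hab'
    rw [hd', hδ] at hx
    have hd'δ : d' = δ := by
      have : d' + 1 = δ + 1 := by exact_mod_cast hx
      omega
    have hsup : (a ⊔ Ideal.span {x}) ⊔ (b ⊔ Ideal.span {x}) = (a ⊔ b) ⊔ Ideal.span {x} :=
      (sup_sup_distrib_right a b (Ideal.span {x})).symm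
    have hlt : ∀ c : Ideal R, c ≠ ⊤ → ((δ + 1 : ℕ) : WithBot ℕ∞) < ringKrullDim (R ⧸ c) →
        (δ : WithBot ℕ∞) < ringKrullDim (R ⧸ (c ⊔ Ideal.span {x})) := by
      intro c hc hlt
      have h1 := dim_quot_le_succ c x hxm
      obtain ⟨dc, hdc⟩ := exists_nat_dim_quot c hc
      obtain ⟨dc', hdc'⟩ := exists_nat_dim_quot _ (sup_span_ne_top c hc x hxm)
      rw [hdc, hdc'] at h1
      rw [hdc] at hlt
      rw [hdc']
      have h2 : dc ≤ dc' + 1 := by exact_mod_cast h1
      have h3 : δ + 1 < dc := by exact_mod_cast hlt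
      have : δ < dc' := by omega
      exact_mod_cast this
    have hcd : LocCoh.CdLE R ((a ⊔ Ideal.span {x}) ⊓ (b ⊔ Ideal.span {x})) (k + 1) :=
      cdLE_of_radical_eq _ _ (radical_inf_sup_eq R a b (Ideal.span {x})) (k + 1)
        (cdLE_sup_span (a ⊓ b) x k hk)
    have := ih (a ⊔ Ideal.span {x}) (b ⊔ Ideal.span {x}) ha' hb'
      (by rw [hsup, hd', hd'δ]) (hlt a ha hda) (hlt b hb hdb) (k + 1) hcd
    omega

end Domain

end Groth.Agent.Lib.helper19.Conn
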