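import Mathlib
import Groth.Agent.S0547
import Groth.Agent.S0342
import Groth.Agent.S0312
import Groth.Agent.Lib.Helper24.CplQuot
import Groth.Agent.Lib.Helper24.CplCM
import Groth.Agent.Lib.Helper24.CatEquidim2
import Groth.Agent.Lib.Helper24.RkDescent
import Groth.Agent.Lib.Helper19.Gor2
import Groth.Agent.Lib.Helper19.Conn1
import Groth.Agent.Lib.Helper19.CanMod3
import Groth.Agent.Lib.Helper19.H1Cpl
import Groth.Agent.Lib.Helper19.HLV4
import Groth.Agent.Lib.Helper18.PullbackStalk

/-!
# Canonical modules (helper19), part 4: passage to the completion, the support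

* `exists_prime_cpl` : over a prime `p` of a Noetherian local ring `A` there is a prime `P` of `Â`, minimal
  over `p Â`, with `P ∩ A = p`, `ht P = ht p`, `dim Â/P = dim A/p`.
* `exists_gor_cpl` : `Â` is a quotient of a Gorenstein (regular) local ring.
* `exists_cpl_canonical` : `Â ⊗ K` is a canonical module of `Â`.
* `mem_support_iff` : `p ∈ Supp K ↔ ht p + dim A/p = n`.
-/

set_option autoImplicit false
universe u

namespace Groth.Agent.Lib.helper19.CanMod
open TensorProduct IsLocalRing CategoryTheory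
open Groth.Agent.Lib.Helper24.CplCM

/-- a ring of finite dimension has a minimal prime of maximal coheight -/
theorem exists_minimalPrimes_dim_eq (R : Type u) [CommRing R] [Nontrivial R] (e : ℕ)
    (he : ringKrullDim R = e) :
    ∃ Q ∈ minimalPrimes R, ringKrullDim (R ⧸ Q) = e := by
  by_contra hcon
  push Not at hcon
  have hle : ∀ Q ∈ minimalPrimes R, ringKrullDim (R ⧸ Q) ≤ e := by
    intro Q hQ
    rw [← he]
    exact ringKrullDim_le_of_surjective _ Ideal.Quotient.mk_surjective
  have hlt : ∀ Q ∈ minimalPrimes R, ringKrullDim (R ⧸ Q) < e :=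
    fun Q hQ => lt_of_le_of_ne (hle Q hQ) (hcon Q hQ)
  rcases Nat.eq_zero_or_pos e with h0 | hpos
  · subst h0
    obtain ⟨M, hM⟩ := Ideal.exists_maximal R
    obtain ⟨Q, hQ, -⟩ := Ideal.exists_minimalPrimes_le (I := (⊥ : Ideal R)) (J := M) bot_le
    haveI : Q.IsPrime := hQ.1.1
    have h1 := hlt Q hQ
    have h2 : (0 : WithBot ℕ∞) ≤ ringKrullDim (R ⧸ Q) := ringKrullDim_nonneg_of_nontrivial
    exact absurd (lt_of_le_of_lt h2 h1) (by simp)
  · obtain ⟨k, rfl⟩ : ∃ k, e = k + 1 := ⟨e - 1, by omega⟩
    have h3 : ringKrullDim R ≤ (k : WithBot ℕ∞) := by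
      apply Groth.Agent.Lib.Helper24.CatEquidim.ringKrullDim_le_of_forall_minimalPrimes
      intro Q hQ
      have h1 := hlt Q hQ
      induction hx : ringKrullDim (R ⧸ Q) using WithBot.recBotCoe with
      | bot => exact bot_le
      | coe y =>
        rw [hx] at h1
        have h4 : y < ((k + 1 : ℕ) : ℕ∞) := by exact_mod_cast h1
        have h5 : y ≤ (k : ℕ∞) := by
          rw [Nat.cast_add, Nat.cast_one] at h4
          exact (ENat.lt_add_one_iff (ENat.natCast_ne_top k)).mp h4
        exact_mod_cast h5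
    rw [he] at h3
    have : (k + 1 : ℕ) ≤ k := by exact_mod_cast h3
    omega



section Prime
variable (A : Type u) [CommRing A] [IsLocalRing A] [IsNoetherianRing A]

local notation "Â" => AdicCompletion (maximalIdeal A) A

/-- **choice of a good prime of the completion** over a prime `p` of `A`: minimal over `p Â`, lying over
`p`, of the same height and coheight. -/
theorem exists_prime_cpl (p : Ideal A) [hp : p.IsPrime] :
    ∃ P : Ideal Â, P.IsPrime ∧ P ∈ (p.map (algebraMap A Â)).minimalPrimes ∧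
      P.comap (algebraMap A Â) = p ∧ P.height = p.height ∧
      ringKrullDim (Â ⧸ P) = ringKrullDim (A ⧸ p) := by
  haveI : IsLocalRing (A ⧸ p) := Groth.Agent.Lib.helper19.Conn.isLocalRing_quot p hp.ne_top
  set I := p.map (algebraMap A Â) with hI
  obtain ⟨e, he⟩ := Groth.Agent.Lib.helper19.Gor.exists_dim_quot A p
  have hdim : ringKrullDim (Â ⧸ I) = e := by
    rw [ringKrullDim_eq_of_ringEquiv (Groth.Agent.Lib.Helper24.CplQuot.equiv A p),
      Groth.Agent.S0547.result (A ⧸ p), he]
  haveI : Nontrivial (Â ⧸ I) := by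
    rw [Ideal.Quotient.nontrivial_iff]
    intro htop
    have : ringKrullDim (Â ⧸ I) = ⊥ := by
      haveI : Subsingleton (Â ⧸ I) := Ideal.Quotient.subsingleton_iff.mpr htop
      exact ringKrullDim_eq_bot_of_subsingleton
    rw [hdim] at this
    exact absurd this (by simp)
  obtain ⟨Q, hQ, hQdim⟩ := exists_minimalPrimes_dim_eq (Â ⧸ I) e hdim
  obtain ⟨hPmin, hPdim⟩ := Groth.Agent.Lib.Helper24.CatEquidim.minimalPrimes_quotient Â I Q hQ
  set P := Q.comap (Ideal.Quotient.mk I) with hP
  haveI : P.IsPrime := hPmin.1.1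
  have hcomap : P.comap (algebraMap A Â) = p :=
    Groth.Agent.Lib.Helper24.CatEquidim.comap_eq_of_mem_minimalPrimes_map A Â p P hPmin
  refine ⟨P, inferInstance, hPmin, hcomap,
    Groth.Agent.Lib.Helper24.RkDescent.height_eq_of_minimalPrimes A Â p P hPmin hcomap, ?_⟩
  rw [← hPdim, hQdim, he]

end Prime


/-- the support of the canonical module of a quotient of a Gorenstein local ring (ring hom form) -/
theorem mem_support_iff_of_gor (R : Type u) [CommRing R] [IsNoetherianRing R] [IsLocalRing R] (n : ℕ)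
    (hn : ringKrullDim R = n) (E : Type u) [AddCommGroup E] [Module R E]
    (f : ResidueField R →ₗ[R] E) (hf : InjHull.IsInjectiveHull f)
    (K : Type u) [AddCommGroup K] [Module R K] [Module.Finite R K]
    (eK : (K →ₗ[R] E) ≃ₗ[R] LocCoh.H (maximalIdeal R) n R)
    (R' : Type u) [CommRing R'] [LocCoh.IsGorensteinLocalRing R'] (g : R' →+* R)
    (hg : Function.Surjective g) (p : Ideal R) [p.IsPrime] (h e' : ℕ) (hh : p.height = h)
    (he' : ringKrullDim (R ⧸ p) = e') :
    Nontrivial (LocalizedModule p.primeCompl K) ↔ h + e' = n := by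
  classical
  letI alg : Algebra R' R := g.toAlgebra
  letI : Module R' K := Module.compHom K g
  haveI : IsScalarTower R' R K := IsScalarTower.of_algebraMap_smul fun _ _ => rfl
  obtain ⟨d, hd⟩ := Groth.Agent.Lib.helper19.Gor.exists_dim R'
  have hg' : Function.Surjective (algebraMap R' R) := hg
  obtain ⟨e⟩ := ext_of_canonical R' R hg' n d hn hd E f hf K eK
  exact nontrivial_localization_iff hg' n d hn hd K e p h e' hh he'

section Cpl
variable (A : Type u) [CommRing A] [IsLocalRing A] [IsNoetherianRing A]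

local notation "Â" => AdicCompletion (maximalIdeal A) A

/-- the completion is a quotient of a Gorenstein local ring -/
theorem exists_gor_cpl :
    ∃ (G : Type u) (_ : CommRing G) (_ : LocCoh.IsGorensteinLocalRing G) (g : G →+* Â),
      Function.Surjective g := by
  haveI := Groth.Agent.Lib.helper19.H1Cpl.isAdicComplete_cpl A
  obtain ⟨P, _, _, g, -, hg⟩ := Groth.Agent.Lib.helper19.HLV.exists_regular_complete_surjective Â
  exact ⟨P, inferInstance, Groth.Agent.S0342.result P, g, hg⟩

end Cpl


section Support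
variable (A : Type u) [CommRing A] [IsLocalRing A] [IsNoetherianRing A]

local notation "Â" => AdicCompletion (maximalIdeal A) A

/-- the base change of a canonical module to the completion is canonical -/
theorem exists_cpl_canonical (n : ℕ) (E : Type u) [AddCommGroup E] [Module A E]
    (f : ResidueField A →ₗ[A] E) (hf : InjHull.IsInjectiveHull f)
    (K : Type u) [AddCommGroup K] [Module A K] [Module.Finite A K]
    (eK : (K →ₗ[A] E) ≃ₗ[A] LocCoh.H (maximalIdeal A) n A) :
    ∃ g' : ResidueField Â →ₗ[Â] Â ⊗[A] E, InjHull.IsInjectiveHull g' ∧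
      Nonempty ((Â ⊗[A] K →ₗ[Â] Â ⊗[A] E) ≃ₗ[Â] LocCoh.H (maximalIdeal Â) n Â) := by
  obtain ⟨g', hg'⟩ := Groth.Agent.S0312.result A Â (map_maximalIdeal_cpl A) E f hf
  exact ⟨g', hg', canonical_baseChange A Â (map_maximalIdeal_cpl A) n E K eK⟩

/-- **the support of a canonical module**: `p ∈ Supp K ↔ ht p + dim A/p = n` -/
theorem mem_support_iff (n : ℕ) (hn : ringKrullDim A = n) (E : Type u) [AddCommGroup E] [Module A E]
    (f : ResidueField A →ₗ[A] E) (hf : InjHull.IsInjectiveHull f)
    (K : Type u) [AddCommGroup K] [Module A K] [Module.Finite A K]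
    (eK : (K →ₗ[A] E) ≃ₗ[A] LocCoh.H (maximalIdeal A) n A) (p : PrimeSpectrum A) :
    p ∈ Module.support A K ↔
      (p.asIdeal.height : WithBot ℕ∞) + ringKrullDim (A ⧸ p.asIdeal) = n := by
  classical
  obtain ⟨g', hg', ⟨eK'⟩⟩ := exists_cpl_canonical A n E f hf K eK
  obtain ⟨G, _, _, g, hg⟩ := exists_gor_cpl A
  obtain ⟨P, hP, hPmin, hPc, hPh, hPd⟩ := exists_prime_cpl A p.asIdeal
  have hnB : ringKrullDim Â = n := by rw [Groth.Agent.S0547.result A, hn]
  obtain ⟨h, hh⟩ : ∃ h : ℕ, p.asIdeal.height = h :=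
    ENat.ne_top_iff_exists.1 (Ideal.height_ne_top p.2.ne_top) |>.imp fun _ h => h.symm
  obtain ⟨e', he'⟩ := Groth.Agent.Lib.helper19.Gor.exists_dim_quot A p.asIdeal
  have key := mem_support_iff_of_gor Â n hnB (Â ⊗[A] E) g' hg' (Â ⊗[A] K) eK' G g hg P h e'
    (hPh.trans hh) (hPd.trans he')
  have h1 := Groth.Agent.Lib.Helper18.PullbackStalk.mem_support_baseChange_iff A Â K ⟨P, hP⟩
  have h2 : PrimeSpectrum.comap (algebraMap A Â) ⟨P, hP⟩ = p := PrimeSpectrum.ext hPc
  rw [h2] at h1
  rw [← h1, Module.mem_support_iff, hh, he']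
  show Nontrivial (LocalizedModule P.primeCompl (Â ⊗[A] K)) ↔ _
  rw [key]
  constructor
  · intro h3
    exact_mod_cast h3
  · intro h3
    exact_mod_cast h3

end Support

end Groth.Agent.Lib.helper19.CanMod
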