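import Mathlib
import Groth.Agent.Lib.Helper19.CanMod4
import Groth.Agent.Lib.Helper2.DepthBC
import Groth.Agent.Lib.Helper18.SmoothDescent
import Groth.Agent.S7697
import Groth.Agent.S0299

/-!
# Canonical modules (helper19), part 5: Serre's condition `(S_2)`

* `depth_localization_baseChange` : for flat `A → B`, `P` a prime of `B` minimal over `(P ∩ A) B`:
  `depth_{B_P} (B ⊗ K)_P = depth_{A_p} K_p`.
* `hasSk_two` : a canonical module of a Noetherian local ring satisfies `(S_2)`.
-/

set_option autoImplicit false
universe u

namespace Groth.Agent.Lib.helper19.CanMod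
open TensorProduct IsLocalRing CategoryTheory
open Groth.Agent.Lib.Helper24.CplCM

section Depth
variable (A B : Type u) [CommRing A] [CommRing B] [Algebra A B] [Module.Flat A B]
  [IsNoetherianRing A] [IsNoetherianRing B]
  (K : Type u) [AddCommGroup K] [Module A K] [Module.Finite A K]
  (P : Ideal B) [P.IsPrime]

/-- depth of the localization of a flat base change at a prime minimal over the extension of its
contraction -/
theorem depth_localization_baseChange
    (hmin : P ∈ ((P.comap (algebraMap A B)).map (algebraMap A B)).minimalPrimes) :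
    LocCoh.depth (Localization.AtPrime P) (LocalizedModule P.primeCompl (B ⊗[A] K)) =
      LocCoh.depth (Localization.AtPrime (P.comap (algebraMap A B)))
        (LocalizedModule (P.comap (algebraMap A B)).primeCompl K) := by
  set p : Ideal A := P.comap (algebraMap A B) with hp
  haveI : P.LiesOver p := ⟨rfl⟩
  letI := Localization.AtPrime.algebraOfLiesOver p P
  haveI hloc : IsLocalHom (algebraMap (Localization.AtPrime p) (Localization.AtPrime P)) :=
    Localization.isLocalHom_localRingHom _ P (algebraMap A B) Ideal.LiesOver.over
  haveI hflat : Module.Flat (Localization.AtPrime p) (Localization.AtPrime P) := inferInstance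
  let e1 := (IsLocalizedModule.isBaseChange P.primeCompl (Localization.AtPrime P)
    (LocalizedModule.mkLinearMap P.primeCompl (B ⊗[A] K))).equiv
  let e2 := Groth.Agent.Lib.Helper18.SmoothDescent.localizationBaseChangeEquiv A B K P
  let e3 := (IsLocalizedModule.isBaseChange p.primeCompl (Localization.AtPrime p)
    (LocalizedModule.mkLinearMap p.primeCompl K)).equiv
  have h1 : LocCoh.depth (Localization.AtPrime P) (LocalizedModule P.primeCompl (B ⊗[A] K)) =
      LocCoh.depth (Localization.AtPrime P)
        (Localization.AtPrime P ⊗[Localization.AtPrime p] (Localization.AtPrime p ⊗[A] K)) :=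
    Groth.Agent.Lib.helper26.Depth.idealDepth_congr (I := maximalIdeal (Localization.AtPrime P))
      (e1.symm.trans e2)
  have h3 : LocCoh.depth (Localization.AtPrime p) (Localization.AtPrime p ⊗[A] K) =
      LocCoh.depth (Localization.AtPrime p) (LocalizedModule p.primeCompl K) :=
    Groth.Agent.Lib.helper26.Depth.idealDepth_congr (I := maximalIdeal (Localization.AtPrime p)) e3
  rw [h1, ← h3]
  refine Groth.Agent.Lib.helper2.DepthBC.depth_baseChange_eq (Localization.AtPrime p)
    (Localization.AtPrime P) (Localization.AtPrime p ⊗[A] K) _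
    (TensorProduct.mk (Localization.AtPrime p) (Localization.AtPrime P)
      (Localization.AtPrime p ⊗[A] K) 1)
    (TensorProduct.isBaseChange _ _ _) ?_
  intro Q hQ hle
  have hQ'P : Q.comap (algebraMap B (Localization.AtPrime P)) ≤ P := by
    have h4 : Q ≤ maximalIdeal (Localization.AtPrime P) := IsLocalRing.le_maximalIdeal hQ.ne_top
    have h5 := Ideal.comap_mono (f := algebraMap B (Localization.AtPrime P)) h4
    have h7 := IsLocalization.AtPrime.under_maximalIdeal (Localization.AtPrime P) P
    rw [Ideal.under_def] at h7
    rwa [h7] at h5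
  have hpQ' : p.map (algebraMap A B) ≤ Q.comap (algebraMap B (Localization.AtPrime P)) := by
    rw [Ideal.map_le_iff_le_comap]
    intro a ha
    rw [Ideal.mem_comap, Ideal.mem_comap]
    apply hle
    have h6 : algebraMap B (Localization.AtPrime P) (algebraMap A B a) =
        algebraMap (Localization.AtPrime p) (Localization.AtPrime P)
          (algebraMap A (Localization.AtPrime p) a) := by
      rw [← IsScalarTower.algebraMap_apply, ← IsScalarTower.algebraMap_apply]
    rw [h6]
    apply Ideal.mem_map_of_mem
    exact (IsLocalization.AtPrime.to_map_mem_maximal_iff (Localization.AtPrime p) p a).mpr ha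
  haveI : (Q.comap (algebraMap B (Localization.AtPrime P))).IsPrime := Ideal.comap_isPrime _ _
  have hPQ' : P ≤ Q.comap (algebraMap B (Localization.AtPrime P)) :=
    hmin.2 ⟨inferInstance, hpQ'⟩ hQ'P
  have hQ'eq : Q.comap (algebraMap B (Localization.AtPrime P)) = P := le_antisymm hQ'P hPQ'
  rw [← IsLocalization.map_under P.primeCompl (Localization.AtPrime P) Q, Ideal.under_def, hQ'eq,
    IsLocalization.AtPrime.map_eq_maximalIdeal]

end Depth

section Sk
variable (A : Type u) [CommRing A] [IsLocalRing A] [IsNoetherianRing A]

local notation "Â" => AdicCompletion (maximalIdeal A) A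

/-- **the canonical module is `(S_2)`** -/
theorem hasSk_two (n : ℕ) (hn : ringKrullDim A = n) (E : Type u) [AddCommGroup E] [Module A E]
    (f : ResidueField A →ₗ[A] E) (hf : InjHull.IsInjectiveHull f)
    (K : Type u) [AddCommGroup K] [Module A K] [Module.Finite A K]
    (eK : (K →ₗ[A] E) ≃ₗ[A] LocCoh.H (maximalIdeal A) n A) : LocCoh.HasSk 2 A K := by
  classical
  intro p hp
  by_cases hK : Subsingleton (LocalizedModule p.primeCompl K)
  · have : Module.supportDim (Localization.AtPrime p) (LocalizedModule p.primeCompl K) = ⊥ :=
      Module.supportDim_eq_bot_of_subsingleton _ _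
    rw [this]
    simp
  · rw [not_subsingleton_iff_nontrivial] at hK
    obtain ⟨g', hg', ⟨eK'⟩⟩ := exists_cpl_canonical A n E f hf K eK
    obtain ⟨G, _, _, g, hg⟩ := exists_gor_cpl A
    obtain ⟨P, hP, hPmin, hPc, hPh, hPd⟩ := exists_prime_cpl A p
    subst hPc
    have hnB : ringKrullDim Â = n := by rw [Groth.Agent.S0547.result A, hn]
    have hPsupp : Nontrivial (LocalizedModule P.primeCompl (Â ⊗[A] K)) := by
      have h1 := Groth.Agent.Lib.Helper18.PullbackStalk.mem_support_baseChange_iff A Â K ⟨P, hP⟩
      rw [Module.mem_support_iff, Module.mem_support_iff] at h1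
      exact h1.mpr hK
    obtain ⟨h, hh⟩ : ∃ h : ℕ, P.height = h :=
      ENat.ne_top_iff_exists.1 (Ideal.height_ne_top hP.ne_top) |>.imp fun _ h => h.symm
    have hdimB : ringKrullDim (Localization.AtPrime P) = h := by
      rw [IsLocalization.AtPrime.ringKrullDim_eq_height P, hh]; rfl
    have hdimA : ringKrullDim (Localization.AtPrime (P.comap (algebraMap A Â))) = h := by
      rw [IsLocalization.AtPrime.ringKrullDim_eq_height (P.comap (algebraMap A Â)), ← hPh, hh]; rfl
    obtain ⟨E', _, _, f', hf'⟩ := Groth.Agent.S0299.result (Localization.AtPrime P)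
      (ResidueField (Localization.AtPrime P))
    obtain ⟨eloc⟩ := Groth.Agent.S7697.result Â n hnB (Â ⊗[A] E) g' hg' (Â ⊗[A] K) eK' G g hg P hPsupp h
      hdimB E' f' hf'
    have hdepth := min_two_le_depth (Localization.AtPrime P) h hdimB E' f' hf'
      (LocalizedModule P.primeCompl (Â ⊗[A] K)) eloc
    rw [depth_localization_baseChange A Â K P hPmin] at hdepth
    have hsd : Module.supportDim (Localization.AtPrime (P.comap (algebraMap A Â)))
        (LocalizedModule (P.comap (algebraMap A Â)).primeCompl K) ≤ h := by
      rw [← hdimA]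
      exact Module.supportDim_le_ringKrullDim _ _
    calc min (2 : WithBot ℕ∞) (Module.supportDim (Localization.AtPrime (P.comap (algebraMap A Â)))
          (LocalizedModule (P.comap (algebraMap A Â)).primeCompl K))
        ≤ min (2 : WithBot ℕ∞) (h : WithBot ℕ∞) := min_le_min le_rfl hsd
      _ = (((min 2 h : ℕ) : ℕ∞) : WithBot ℕ∞) := by
        rcases le_total 2 h with h2 | h2
        · rw [min_eq_left h2, min_eq_left (by exact_mod_cast h2)]; rfl
        · rw [min_eq_right h2, min_eq_right (by exact_mod_cast h2)]; rfl
      _ ≤ _ := by exact_mod_cast hdepth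

end Sk

end Groth.Agent.Lib.helper19.CanMod
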