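import Mathlib
import Groth.Agent.S0542
import Groth.Agent.Lib.Helper19.CanMod5

/-!
# helper19: condition (6) of the algebraization-of-local-cohomology setting (Stacks 52.10)

* `locEquiv`, `depth_congr_loc`, `depth_congr_prime`: transport of depth of localized modules.
* `cplEquiv`: `(A_r)^ ⊗_A M ≃ (M_r)^` (`I`-adic completions).
* `depth_gt_of_minimal`: condition (6) at `r ∈ T` gives `depth M_p > s` for `p ∉ V(I)` with `r`
  minimal over `p + I`.
-/

set_option autoImplicit false
universe u
open TensorProduct IsLocalRing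
namespace Groth.Agent.Lib.helper19.Boot2

section Loc
variable {B : Type u} [CommRing B] (P : Ideal B) [P.IsPrime]
  {X Y : Type u} [AddCommGroup X] [Module B X] [AddCommGroup Y] [Module B Y]

/-- localization of a linear equivalence -/
noncomputable def locEquiv (e : X ≃ₗ[B] Y) :
    LocalizedModule P.primeCompl X ≃ₗ[Localization.AtPrime P] LocalizedModule P.primeCompl Y :=
  (IsLocalizedModule.linearEquiv P.primeCompl (LocalizedModule.mkLinearMap P.primeCompl X)
    ((LocalizedModule.mkLinearMap P.primeCompl Y) ∘ₗ e.toLinearMap)).extendScalarsOfIsLocalization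
      P.primeCompl (Localization.AtPrime P)

theorem depth_congr_loc (e : X ≃ₗ[B] Y) :
    LocCoh.depth (Localization.AtPrime P) (LocalizedModule P.primeCompl X) =
      LocCoh.depth (Localization.AtPrime P) (LocalizedModule P.primeCompl Y) :=
  Groth.Agent.Lib.helper26.Depth.idealDepth_congr
    (I := maximalIdeal (Localization.AtPrime P)) (locEquiv P e)

end Loc

theorem depth_congr_prime {A : Type u} [CommRing A] (M : Type u) [AddCommGroup M] [Module A M]
    (p₁ p₂ : Ideal A) [p₁.IsPrime] [p₂.IsPrime] (h : p₁ = p₂) :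
    LocCoh.depth (Localization.AtPrime p₁) (LocalizedModule p₁.primeCompl M) =
      LocCoh.depth (Localization.AtPrime p₂) (LocalizedModule p₂.primeCompl M) := by
  subst h
  rfl


section Main

variable (A : Type u) [CommRing A] [IsNoetherianRing A] (I : Ideal A) (r : PrimeSpectrum A)

abbrev R := Localization.AtPrime r.asIdeal
abbrev IR : Ideal (R A r) := I.map (algebraMap A (R A r))
abbrev A' := AdicCompletion (IR A I r) (R A r)

theorem flatA : Module.Flat A (A' A I r) := Module.Flat.trans A (R A r) (A' A I r)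

theorem noethA' : IsNoetherianRing (A' A I r) :=
  Groth.Agent.S0542.result (R A r) (IR A I r) (IsNoetherian.noetherian _)

variable (M : Type u) [AddCommGroup M] [Module A M] [Module.Finite A M]

/-- `A' ⊗_A M ≃ (M_r)^` -/
noncomputable def cplEquiv :
    (A' A I r) ⊗[A] M ≃ₗ[A' A I r]
      AdicCompletion (IR A I r) (LocalizedModule r.asIdeal.primeCompl M) :=
  (TensorProduct.AlgebraTensorModule.cancelBaseChange A (R A r) (A' A I r) (A' A I r) M).symm ≪≫ₗ
    (TensorProduct.AlgebraTensorModule.congr (LinearEquiv.refl (A' A I r) (A' A I r))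
      (IsLocalizedModule.isBaseChange r.asIdeal.primeCompl (R A r)
        (LocalizedModule.mkLinearMap r.asIdeal.primeCompl M)).equiv) ≪≫ₗ
    AdicCompletion.ofTensorProductEquivOfFiniteNoetherian (IR A I r)
      (LocalizedModule r.asIdeal.primeCompl M)


/-- condition (6) at `r` gives `depth M_p > s` for primes `p ∉ V(I)` such that `r` is minimal
over `p + I`. -/
theorem depth_gt_of_minimal (s : ℕ)
    (h6 : ∀ p' : PrimeSpectrum (A' A I r),
      ¬ (I.map (algebraMap A (A' A I r))) ≤ p'.asIdeal →
      (∀ q' : PrimeSpectrum (A' A I r), p' ≤ q' →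
        (I.map (algebraMap A (A' A I r))) ≤ q'.asIdeal → q'.asIdeal.IsMaximal) →
      (s : ℕ∞) < LocCoh.depth (Localization.AtPrime p'.asIdeal)
        (LocalizedModule p'.asIdeal.primeCompl
          (AdicCompletion (IR A I r) (LocalizedModule r.asIdeal.primeCompl M))))
    (p : PrimeSpectrum A) (hmin : r.asIdeal ∈ (p.asIdeal ⊔ I).minimalPrimes)
    (hpI : ¬ I ≤ p.asIdeal) :
    (s : ℕ∞) < LocCoh.depth (Localization.AtPrime p.asIdeal)
      (LocalizedModule p.asIdeal.primeCompl M) := by
  classical
  haveI := flatA A I r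
  haveI := noethA' A I r
  have hIr : I ≤ r.asIdeal := le_sup_right.trans hmin.1.2
  have hpr : p.asIdeal ≤ r.asIdeal := le_sup_left.trans hmin.1.2
  have hIRle : IR A I r ≤ maximalIdeal (R A r) := by
    rw [Ideal.map_le_iff_le_comap]
    intro a ha
    exact (IsLocalization.AtPrime.to_map_mem_maximal_iff (R A r) r.asIdeal a).2 (hIr ha)
  have hmax : ((maximalIdeal (R A r)).map (algebraMap (R A r) (A' A I r))).IsMaximal :=
    AdicCompletion.isMaximal_map_of_le (IR A I r) (maximalIdeal (R A r)) hIRle
      (IsNoetherian.noetherian _)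
  have hrmap : r.asIdeal.map (algebraMap A (A' A I r)) =
      (maximalIdeal (R A r)).map (algebraMap (R A r) (A' A I r)) := by
    rw [← Localization.AtPrime.map_eq_maximalIdeal, Ideal.map_map,
      ← IsScalarTower.algebraMap_eq]
  have hple : p.asIdeal.map (algebraMap A (A' A I r)) ≤
      (maximalIdeal (R A r)).map (algebraMap (R A r) (A' A I r)) := by
    rw [← hrmap]
    exact Ideal.map_mono hpr
  obtain ⟨P, hPmin, hPle⟩ := Ideal.exists_minimalPrimes_le hple
  haveI hPprime : P.IsPrime := hPmin.1.1
  have hpP : p.asIdeal ≤ P.comap (algebraMap A (A' A I r)) :=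
    Ideal.map_le_iff_le_comap.1 hPmin.1.2
  have hcomap : P.comap (algebraMap A (A' A I r)) = p.asIdeal := by
    refine le_antisymm ?_ hpP
    haveI : P.LiesOver (P.comap (algebraMap A (A' A I r))) := ⟨rfl⟩
    obtain ⟨Q, hQP, hQprime, hQover⟩ := Ideal.exists_ideal_le_liesOver_of_le
      (p := p.asIdeal) (q := P.comap (algebraMap A (A' A I r))) P hpP
    have hQc : Q.comap (algebraMap A (A' A I r)) = p.asIdeal := (hQover.over).symm
    have hpQ : p.asIdeal.map (algebraMap A (A' A I r)) ≤ Q := by
      rw [Ideal.map_le_iff_le_comap, hQc]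
    have hPQ : P ≤ Q := hPmin.2 ⟨hQprime, hpQ⟩ hQP
    have hQeq : Q = P := le_antisymm hQP hPQ
    rw [← hQeq, hQc]
  let P' : PrimeSpectrum (A' A I r) := ⟨P, hPprime⟩
  have hnI : ¬ (I.map (algebraMap A (A' A I r))) ≤ P'.asIdeal := by
    intro h
    have := Ideal.map_le_iff_le_comap.1 h
    rw [hcomap] at this
    exact hpI this
  have hmaxq : ∀ q' : PrimeSpectrum (A' A I r), P' ≤ q' →
      (I.map (algebraMap A (A' A I r))) ≤ q'.asIdeal → q'.asIdeal.IsMaximal := by
    intro q' hPq' hIq'
    set 𝔮 : Ideal A := q'.asIdeal.comap (algebraMap A (A' A I r)) with h𝔮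
    haveI : 𝔮.IsPrime := Ideal.comap_isPrime _ _
    have h1 : p.asIdeal ⊔ I ≤ 𝔮 := by
      refine sup_le ?_ (Ideal.map_le_iff_le_comap.1 hIq')
      rw [← hcomap]
      exact Ideal.comap_mono hPq'
    have h2 : 𝔮 ≤ r.asIdeal := by
      have h3 : q'.asIdeal.comap (algebraMap (R A r) (A' A I r)) ≤ maximalIdeal (R A r) :=
        IsLocalRing.le_maximalIdeal (Ideal.comap_ne_top _ q'.2.ne_top)
      have h4 := Ideal.comap_mono (f := algebraMap A (R A r)) h3
      rw [Ideal.comap_comap, ← IsScalarTower.algebraMap_eq] at h4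
      have h5 := IsLocalization.AtPrime.under_maximalIdeal (R A r) r.asIdeal
      rw [Ideal.under_def] at h5
      rwa [h5] at h4
    have h3 : r.asIdeal ≤ 𝔮 := hmin.2 ⟨inferInstance, h1⟩ h2
    have h4 : (maximalIdeal (R A r)).map (algebraMap (R A r) (A' A I r)) ≤ q'.asIdeal := by
      rw [← hrmap, Ideal.map_le_iff_le_comap]
      exact h3
    rw [← hmax.eq_of_le q'.2.ne_top h4]
    exact hmax
  have h := h6 P' hnI hmaxq
  have hminP : P ∈ ((P.comap (algebraMap A (A' A I r))).map
      (algebraMap A (A' A I r))).minimalPrimes := by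
    rw [hcomap]
    exact hPmin
  have hd := Groth.Agent.Lib.helper19.CanMod.depth_localization_baseChange A (A' A I r) M P hminP
  rw [depth_congr_prime M _ _ hcomap] at hd
  rw [← hd, depth_congr_loc P (cplEquiv A I r M)]
  exact h

end Main

end Groth.Agent.Lib.helper19.Boot2
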