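import Mathlib
import Groth.Prelude.Def_Wider
import Groth.Prelude.Def_CAlg
import Groth.Agent.Lib.Helper19.TopSurj
import Groth.Agent.Lib.Helper26.CM2
import Groth.Agent.Lib.Helper2.GNV4
import Groth.Agent.S7701
import Groth.Agent.S0318
set_option autoImplicit false

/-! Duality pairs `(M, L)` with `Hom(L, E) ≃ H^e_m(M)`, `M` Cohen–Macaulay of dimension `e`:
regular elements correspond, and quotients by a regular element form a pair again. -/

universe u

namespace Groth.Agent.Lib.helper19.PairDuality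
open CategoryTheory IsLocalRing LocCoh Groth.Agent.Lib.helper19.LCBridge Groth.Agent.Lib.helper19.LCLes
  Groth.Agent.Lib.helper19.LCLes2 Groth.Agent.Lib.helper19.LCFactor Groth.Agent.S5162
  Groth.Agent.Lib.helper19.TopSurj
open scoped Pointwise

section Arith

theorem lt_of_add_one_le' (x : WithBot ℕ∞) (n : ℕ) (h : x + 1 ≤ (n : WithBot ℕ∞)) :
    x < (n : WithBot ℕ∞) := by
  induction x using WithBot.recBotCoe with
  | bot => exact WithBot.bot_lt_coe _
  | coe b =>
    have h' : b + 1 ≤ (n : ℕ∞) := by exact_mod_cast h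
    have hb : b ≠ ⊤ := by
      rintro rfl
      simp at h'
    obtain ⟨k, rfl⟩ := ENat.ne_top_iff_exists.mp hb
    have : k + 1 ≤ n := by exact_mod_cast h'
    exact_mod_cast Nat.lt_of_succ_le this

theorem add_one_le_of_lt' (x : WithBot ℕ∞) (n : ℕ) (h : x < (n : WithBot ℕ∞)) :
    x + 1 ≤ (n : WithBot ℕ∞) := by
  induction x using WithBot.recBotCoe with
  | bot => simp
  | coe b =>
    have h' : b < (n : ℕ∞) := by exact_mod_cast h
    have hb : b ≠ ⊤ := ne_top_of_lt h'
    obtain ⟨k, rfl⟩ := ENat.ne_top_iff_exists.mp hb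
    have : k < n := by exact_mod_cast h'
    exact_mod_cast Nat.succ_le_of_lt this

theorem eq_of_add_one_eq (x : WithBot ℕ∞) (j : ℕ) (h : x + 1 = ((j + 1 : ℕ) : WithBot ℕ∞)) :
    x = (j : WithBot ℕ∞) := by
  induction x using WithBot.recBotCoe with
  | bot =>
    rw [WithBot.bot_add] at h
    exact absurd h WithBot.bot_ne_coe
  | coe b =>
    have h' : b + 1 = ((j + 1 : ℕ) : ℕ∞) := by exact_mod_cast h
    have hb : b ≠ ⊤ := by
      rintro rfl
      rw [top_add] at h'
      exact ENat.top_ne_natCast _ h'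
    obtain ⟨k, rfl⟩ := ENat.ne_top_iff_exists.mp hb
    have : k + 1 = j + 1 := by exact_mod_cast h'
    have hk : k = j := by omega
    rw [hk]
    rfl

end Arith

variable {R : Type u} [CommRing R] [IsNoetherianRing R]

section A

variable (I : Ideal R) (M : Type u) [AddCommGroup M] [Module R M] [Module.Finite R M] (a : R)

lemma exact_L_mkQ : Function.Exact (L M a) (a • (⊤ : Submodule R M)).mkQ := by
  intro y
  rw [Submodule.mkQ_apply, Submodule.Quotient.mk_eq_zero, ← range_L]
  rfl

/-- `0 → M →a M → M/aM → 0` -/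
lemma ses3 (ha : IsSMulRegular M a) :
    (sesOf (L M a) (a • (⊤ : Submodule R M)).mkQ (exact_L_mkQ M a)).ShortExact :=
  sesOf_shortExact _ _ (fun _ _ h => ha h) (Submodule.mkQ_surjective _) (exact_L_mkQ M a)

/-- the connecting map `H^j(M/aM) → H^{j+1}(M)` -/
noncomputable def δ' (ha : IsSMulRegular M a) (j : ℕ) :
    H I j (QuotSMulTop a M) →ₗ[R] H I (j + 1) M :=
  δH I j (ses3 M a ha)

lemma smul_δ' (ha : IsSMulRegular M a) (j : ℕ) (y : H I j (QuotSMulTop a M)) :
    a • δ' I M a ha j y = 0 := by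
  have h1 : ((localCohomology I (j + 1)).map (ModuleCat.ofHom (L M a))).hom (δ' I M a ha j y) = 0 :=
    f_comp_δH I j (ses3 M a ha) y
  have h2 : ModuleCat.ofHom (L M a) = a • 𝟙 (ModuleCat.of R M) := by
    apply ModuleCat.hom_ext; rfl
  rw [h2, H_map_smul_id] at h1
  exact h1

lemma exists_δ' (ha : IsSMulRegular M a) (j : ℕ) (x : H I (j + 1) M) (hx : a • x = 0) :
    ∃ y : H I j (QuotSMulTop a M), δ' I M a ha j y = x := by
  have h2 : ModuleCat.ofHom (L M a) = a • 𝟙 (ModuleCat.of R M) := by
    apply ModuleCat.hom_ext; rfl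
  have h1 : ((localCohomology I (j + 1)).map (ModuleCat.ofHom (L M a))).hom x = 0 := by
    rw [h2, H_map_smul_id]; exact hx
  exact exact_at_X₁ I j (ses3 M a ha) x h1

lemma δ'_injective (ha : IsSMulRegular M a) (j : ℕ) (hvan : Subsingleton (H I j M)) :
    Function.Injective (δ' I M a ha j) :=
  δH_injective I j (ses3 M a ha) hvan

/-- `H^j(M/aM) ≃ H^{j+1}(M)[a]` when `H^j(M) = 0` and `a` is `M`-regular -/
noncomputable def kerEquivδ (ha : IsSMulRegular M a) (j : ℕ) (hvan : Subsingleton (H I j M)) :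
    H I j (QuotSMulTop a M) ≃ₗ[R] Submodule.torsionBy R (H I (j + 1) M) a :=
  LinearEquiv.ofBijective
    ((δ' I M a ha j).codRestrict _ (fun y => by
      rw [Submodule.mem_torsionBy_iff]; exact smul_δ' I M a ha j y))
    ⟨fun y y' h => δ'_injective I M a ha j hvan (congrArg Subtype.val h), by
      rintro ⟨x, hx⟩
      rw [Submodule.mem_torsionBy_iff] at hx
      obtain ⟨y, hy⟩ := exists_δ' I M a ha j x hx
      exact ⟨y, Subtype.ext hy⟩⟩

/-- `H^i(M/aM) = 0` when `H^i(M) = 0` and `H^{i+1}(M) = 0` -/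
lemma vanish_quot (ha : IsSMulRegular M a) (i : ℕ) (h1 : Subsingleton (H I i M))
    (h2 : Subsingleton (H I (i + 1) M)) : Subsingleton (H I i (QuotSMulTop a M)) := by
  refine ⟨fun y y' => ?_⟩
  apply δ'_injective I M a ha i h1
  exact h2.elim _ _

end A

section B

variable (L' : Type u) [AddCommGroup L'] [Module R L'] (E : Type u) [AddCommGroup E] [Module R E]
  (a : R)

/-- `Hom(L/aL, E) ≃ Hom(L, E)[a]` -/
noncomputable def dualKer :
    (QuotSMulTop a L' →ₗ[R] E) ≃ₗ[R] Submodule.torsionBy R (L' →ₗ[R] E) a :=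
  LinearEquiv.ofBijective
    ((LinearMap.lcomp R E (a • (⊤ : Submodule R L')).mkQ).codRestrict _ (fun ψ => by
      rw [Submodule.mem_torsionBy_iff]
      apply LinearMap.ext
      intro x
      show a • ψ (Submodule.Quotient.mk x) = 0
      rw [← map_smul, ← Submodule.Quotient.mk_smul,
        (Submodule.Quotient.mk_eq_zero _).mpr (Submodule.smul_mem_pointwise_smul x a ⊤ trivial),
        map_zero]))
    ⟨by
      intro ψ ψ' h
      apply LinearMap.ext
      intro z
      obtain ⟨x, rfl⟩ := Submodule.Quotient.mk_surjective _ z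
      exact LinearMap.congr_fun (congrArg Subtype.val h) x, by
      rintro ⟨φ, hφ⟩
      rw [Submodule.mem_torsionBy_iff] at hφ
      have hle : a • (⊤ : Submodule R L') ≤ LinearMap.ker φ := by
        intro y hy
        obtain ⟨x, -, rfl⟩ := (Submodule.mem_smul_pointwise_iff_exists _ _ _).mp hy
        rw [LinearMap.mem_ker, map_smul, ← LinearMap.smul_apply, hφ, LinearMap.zero_apply]
      refine ⟨(a • (⊤ : Submodule R L')).liftQ φ hle, ?_⟩
      apply Subtype.ext
      apply LinearMap.ext
      intro x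
      rfl⟩

/-- transport of `a`-torsion along a linear equivalence -/
noncomputable def torsionCongr {X Y : Type u} [AddCommGroup X] [Module R X] [AddCommGroup Y]
    [Module R Y] (e : X ≃ₗ[R] Y) :
    Submodule.torsionBy R X a ≃ₗ[R] Submodule.torsionBy R Y a :=
  LinearEquiv.ofBijective
    ((e.toLinearMap ∘ₗ (Submodule.torsionBy R X a).subtype).codRestrict _ (fun x => by
      rw [Submodule.mem_torsionBy_iff]
      show a • e x.1 = 0
      rw [← map_smul, (Submodule.mem_torsionBy_iff _ _).mp x.2, map_zero]))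
    ⟨by
      intro x x' h
      apply Subtype.ext
      apply e.injective
      exact congrArg Subtype.val h, by
      rintro ⟨y, hy⟩
      rw [Submodule.mem_torsionBy_iff] at hy
      refine ⟨⟨e.symm y, ?_⟩, ?_⟩
      · rw [Submodule.mem_torsionBy_iff, ← map_smul, hy, map_zero]
      · apply Subtype.ext
        exact e.apply_symm_apply y⟩

end B

section Top

variable (I : Ideal R) (M : Type u) [AddCommGroup M] [Module R M] (a : R)

omit [IsNoetherianRing R] in
/-- `a` kills `H^e_I(M/aM)` -/
lemma smul_H_quot (e : ℕ) (y : H I e (QuotSMulTop a M)) : a • y = 0 := by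
  have h0 : a • (𝟙 (ModuleCat.of R (QuotSMulTop a M))) =
      (0 : R) • 𝟙 (ModuleCat.of R (QuotSMulTop a M)) := by
    apply ModuleCat.hom_ext
    apply LinearMap.ext
    intro z
    show a • z = (0 : R) • z
    rw [zero_smul]
    obtain ⟨x, rfl⟩ := Submodule.Quotient.mk_surjective _ z
    rw [← Submodule.Quotient.mk_smul, Submodule.Quotient.mk_eq_zero]
    exact Submodule.smul_mem_pointwise_smul x a ⊤ trivial
  have h1 := H_map_smul_id I e (ModuleCat.of R (QuotSMulTop a M)) a y
  rw [h0, H_map_smul_id, zero_smul] at h1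
  exact h1.symm

variable [Module.Finite R M]

/-- if `a` is surjective on `H^e_I(M)` and `dim M ≤ e` then `H^e_I(M/aM) = 0` -/
theorem top_vanish_of_smul_surjective (e : ℕ) (hM : Module.supportDim R M ≤ (e : WithBot ℕ∞))
    (hs : ∀ y : H I e M, ∃ x : H I e M, a • x = y) : Subsingleton (H I e (QuotSMulTop a M)) := by
  have hv1 : Subsingleton (H I (e + 1) (a • (⊤ : Submodule R M) : Submodule R M)) := by
    apply Groth.Agent.Lib.helper19.LCGroth.vanish I _ (e + 1)
    refine lt_of_le_of_lt ((Module.supportDim_le_of_injective _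
      (Submodule.injective_subtype _)).trans hM) ?_
    exact_mod_cast Nat.lt_succ_self e
  have hsurj := H_surjective_of_vanish I e (ses2 M a) hv1
  have key : ∀ y : H I e (QuotSMulTop a M), y = 0 := by
    intro y
    obtain ⟨x, hx⟩ := hsurj y
    obtain ⟨x', rfl⟩ := hs x
    have h2 : ((localCohomology I e).map (ModuleCat.ofHom (a • (⊤ : Submodule R M)).mkQ)).hom
        (a • x') = a • ((localCohomology I e).map
          (ModuleCat.ofHom (a • (⊤ : Submodule R M)).mkQ)).hom x' := map_smul _ a x'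
    have h3 : ((localCohomology I e).map (ModuleCat.ofHom (a • (⊤ : Submodule R M)).mkQ)).hom
        (a • x') = y := hx
    rw [← h3, h2]
    exact smul_H_quot I M a e _
  exact ⟨fun y y' => (key y).trans (key y').symm⟩

end Top

section Pair

variable [IsLocalRing R] (E : Type u) [AddCommGroup E] [Module R E]
  (f : ResidueField R →ₗ[R] E) (hf : InjHull.IsInjectiveHull f)

/-- a duality pair: `M` Cohen–Macaulay of dimension `e` and `Hom(L, E) ≃ H^e_m(M)` -/
structure Pair (M L' : Type u) [AddCommGroup M] [Module R M] [AddCommGroup L'] [Module R L']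
    (e : ℕ) : Prop where
  cm : IsCohenMacaulayModule R M
  dim : Module.supportDim R M = (e : WithBot ℕ∞)
  dual : Nonempty ((L' →ₗ[R] E) ≃ₗ[R] H (maximalIdeal R) e M)

variable {E}
variable {M L' : Type u} [AddCommGroup M] [Module R M] [Module.Finite R M] [AddCommGroup L']
  [Module R L']

include hf in
theorem regular_L_of_regular_M {e : ℕ} (hP : Pair (R := R) E M L' e) (a : R) (ha : a ∈ maximalIdeal R)
    (hreg : IsSMulRegular M a) : IsSMulRegular L' a := by
  obtain ⟨eL⟩ := hP.dual
  have hdim := Module.supportDim_quotSMulTop_succ_eq_supportDim hreg ha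
  rw [hP.dim] at hdim
  have hq : Module.supportDim R (QuotSMulTop a M) < (e : WithBot ℕ∞) :=
    lt_of_add_one_le' _ e (le_of_eq hdim)
  have hsurjH := smul_surjective (maximalIdeal R) M a e (le_of_eq hP.dim) hq
  have hregK : ∀ x : L', a • x = 0 → x = 0 := by
    intro x hx
    by_contra hx0
    obtain ⟨ψ, hψ⟩ := Groth.Agent.S7701.exists_map R E f hf L' x hx0
    obtain ⟨y, hy⟩ := hsurjH (eL ψ)
    have hφ : a • eL.symm y = ψ := by
      apply eL.injective
      rw [map_smul, eL.apply_symm_apply, hy]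
    apply Groth.Agent.S7701.f_one_ne R E f hf
    rw [← hψ, ← hφ, LinearMap.smul_apply, ← map_smul, hx, map_zero]
  intro x y hxy
  have : a • (x - y) = 0 := by rw [smul_sub]; exact sub_eq_zero.mpr hxy
  exact sub_eq_zero.mp (hregK _ this)

include hf in
theorem regular_M_of_regular_L {e : ℕ} (hP : Pair (R := R) E M L' e) (a : R) (ha : a ∈ maximalIdeal R)
    (hreg : IsSMulRegular L' a) : IsSMulRegular M a := by
  obtain ⟨eL⟩ := hP.dual
  haveI : Module.Injective R E := hf.isInjective
  have hsurjD : ∀ ψ : L' →ₗ[R] E, ∃ φ : L' →ₗ[R] E, a • φ = ψ := by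
    intro ψ
    obtain ⟨φ, hφ⟩ := Module.Injective.out (a • (LinearMap.id : L' →ₗ[R] L'))
      (fun _ _ h => hreg h) ψ
    refine ⟨φ, LinearMap.ext fun x => ?_⟩
    rw [LinearMap.smul_apply, ← map_smul]
    exact hφ x
  have hsurjH : ∀ y : H (maximalIdeal R) e M, ∃ x : H (maximalIdeal R) e M, a • x = y := by
    intro y
    obtain ⟨φ, hφ⟩ := hsurjD (eL.symm y)
    refine ⟨eL φ, ?_⟩
    rw [← map_smul, hφ, eL.apply_symm_apply]
  have hvan := top_vanish_of_smul_surjective (maximalIdeal R) M a e (le_of_eq hP.dim) hsurjH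
  have hne : Module.supportDim R (QuotSMulTop a M) ≠ (e : WithBot ℕ∞) := by
    intro h
    have := Groth.Agent.Lib.helper2.GNV.nontrivial_H_supportDim e (QuotSMulTop a M) h
    exact not_subsingleton _ hvan
  have hle : Module.supportDim R (QuotSMulTop a M) ≤ (e : WithBot ℕ∞) := by
    rw [← hP.dim]
    exact Module.supportDim_le_of_surjective _ (Submodule.mkQ_surjective _)
  have h1 := add_one_le_of_lt' _ e (lt_of_le_of_ne hle hne)
  have h2 := Module.supportDim_le_supportDim_quotSMulTop_succ (M := M) ha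
  have hdim : Module.supportDim R (QuotSMulTop a M) + 1 = Module.supportDim R M := by
    rw [hP.dim] at h2 ⊢
    exact le_antisymm h1 h2
  exact Groth.Agent.Lib.helper26.Depth.isSMulRegular_of_supportDim_quotSMulTop M hP.cm a hdim

theorem pair_quot {j : ℕ} (hP : Pair (R := R) E M L' (j + 1)) (a : R) (ha : a ∈ maximalIdeal R)
    (hreg : IsSMulRegular M a) : Pair (R := R) E (QuotSMulTop a M) (QuotSMulTop a L') j := by
  obtain ⟨eL⟩ := hP.dual
  have hdim := Module.supportDim_quotSMulTop_succ_eq_supportDim hreg ha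
  obtain ⟨hcm, -⟩ := Groth.Agent.Lib.helper26.Depth.isCohenMacaulayModule_quotSMulTop M hP.cm a ha hdim
  rw [hP.dim] at hdim
  have hdimq := eq_of_add_one_eq _ j hdim
  have hdM : LocCoh.idealDepth (maximalIdeal R) M = ((j + 1 : ℕ) : ℕ∞) := by
    have h1 : Module.supportDim R M = ((LocCoh.depth R M : ℕ∞) : WithBot ℕ∞) := hP.cm
    rw [hP.dim] at h1
    have h2 : (((j + 1 : ℕ) : ℕ∞) : WithBot ℕ∞) = ((LocCoh.depth R M : ℕ∞) : WithBot ℕ∞) := by
      rw [← h1]; rfl
    exact (WithBot.coe_injective h2).symm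
  have hvan : Subsingleton (H (maximalIdeal R) j M) := by
    apply Groth.Agent.S0318.H_vanish_below (maximalIdeal R) M j
    rw [hdM]
    exact_mod_cast Nat.lt_succ_self j
  exact ⟨hcm, hdimq, ⟨(dualKer L' E a).trans ((torsionCongr a eL).trans
    (kerEquivδ (maximalIdeal R) M a hreg j hvan).symm)⟩⟩

omit [Module.Finite R M] in
theorem exists_succ_of_dim (e : ℕ) (x : WithBot ℕ∞) (hx : x ≠ ⊥)
    (h : x + 1 = (e : WithBot ℕ∞)) : ∃ j, e = j + 1 := by
  cases e with
  | zero =>
    exfalso
    induction x using WithBot.recBotCoe with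
    | bot => exact hx rfl
    | coe b =>
      have h' : b + 1 = ((0 : ℕ) : ℕ∞) := by exact_mod_cast h
      simp at h'
  | succ j => exact ⟨j, rfl⟩

open RingTheory.Sequence in
include hf in
theorem main (as : List R) : ∀ (M L' : Type u) [AddCommGroup M] [Module R M] [Module.Finite R M]
    [AddCommGroup L'] [Module R L'] (e d : ℕ), Pair (R := R) E M L' e →
    (∀ x ∈ as, x ∈ maximalIdeal R) →
    (IsWeaklyRegular M as ↔ IsWeaklyRegular L' as) ∧
    (IsWeaklyRegular M as → d + as.length = e →
      Nonempty (((L' ⧸ (Ideal.ofList as • ⊤ : Submodule R L')) →ₗ[R] E) ≃ₗ[R]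
        H (maximalIdeal R) d (M ⧸ (Ideal.ofList as • ⊤ : Submodule R M)))) := by
  induction as with
  | nil =>
    intro M L' _ _ _ _ _ e d hP _
    refine ⟨⟨fun _ => IsWeaklyRegular.nil R L', fun _ => IsWeaklyRegular.nil R M⟩, ?_⟩
    intro _ hd
    have hde : d = e := by simpa using hd
    subst hde
    obtain ⟨eL⟩ := hP.dual
    have hbotL : (Ideal.ofList ([] : List R) • ⊤ : Submodule R L') = ⊥ := by
      rw [Ideal.ofList_nil, Submodule.bot_smul]
    have hbotM : (Ideal.ofList ([] : List R) • ⊤ : Submodule R M) = ⊥ := by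
      rw [Ideal.ofList_nil, Submodule.bot_smul]
    let e1 : (L' ⧸ (Ideal.ofList ([] : List R) • ⊤ : Submodule R L')) ≃ₗ[R] L' :=
      Submodule.quotEquivOfEqBot _ hbotL
    let e2 : (M ⧸ (Ideal.ofList ([] : List R) • ⊤ : Submodule R M)) ≃ₗ[R] M :=
      Submodule.quotEquivOfEqBot _ hbotM
    exact ⟨(LinearEquiv.congrLeft E R e1).trans (eL.trans
      ((localCohomology (maximalIdeal R) d).mapIso e2.toModuleIso).symm.toLinearEquiv)⟩
  | cons a as ih =>
    intro M L' _ _ _ _ _ e d hP hmem
    have ha : a ∈ maximalIdeal R := hmem a List.mem_cons_self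
    have hmem' : ∀ x ∈ as, x ∈ maximalIdeal R := fun x hx => hmem x (List.mem_cons_of_mem _ hx)
    rw [isWeaklyRegular_cons_iff, isWeaklyRegular_cons_iff]
    have key : IsSMulRegular M a →
        (IsWeaklyRegular (QuotSMulTop a M) as ↔ IsWeaklyRegular (QuotSMulTop a L') as) ∧
        (IsWeaklyRegular (QuotSMulTop a M) as → d + (a :: as).length = e →
          Nonempty (((L' ⧸ (Ideal.ofList (a :: as) • ⊤ : Submodule R L')) →ₗ[R] E) ≃ₗ[R]
            H (maximalIdeal R) d (M ⧸ (Ideal.ofList (a :: as) • ⊤ : Submodule R M)))) := by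
      intro hreg
      have hdim := Module.supportDim_quotSMulTop_succ_eq_supportDim hreg ha
      rw [hP.dim] at hdim
      haveI := Groth.Agent.Lib.helper26.Depth.nontrivial_of_isCohenMacaulayModule M hP.cm
      haveI := Groth.Agent.Lib.helper26.Depth.nontrivial_quotSMulTop a M ha
      obtain ⟨j, rfl⟩ := exists_succ_of_dim e _
        (Module.supportDim_ne_bot_of_nontrivial R (QuotSMulTop a M)) hdim
      have hP' := pair_quot hP a ha hreg
      obtain ⟨h1, h2⟩ := ih (QuotSMulTop a M) (QuotSMulTop a L') j d hP' hmem'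
      refine ⟨h1, fun hw hd => ?_⟩
      obtain ⟨e3⟩ := h2 hw (by rw [List.length_cons] at hd; omega)
      let eLq := Submodule.quotOfListConsSMulTopEquivQuotSMulTopInner L' a as
      let eMq := Submodule.quotOfListConsSMulTopEquivQuotSMulTopInner M a as
      exact ⟨(LinearEquiv.congrLeft E R eLq).trans (e3.trans
        ((localCohomology (maximalIdeal R) d).mapIso eMq.toModuleIso).symm.toLinearEquiv)⟩
    constructor
    · constructor
      · rintro ⟨hreg, hw⟩
        exact ⟨regular_L_of_regular_M f hf hP a ha hreg, (key hreg).1.mp hw⟩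
      · rintro ⟨hregL, hw⟩
        have hreg := regular_M_of_regular_L f hf hP a ha hregL
        exact ⟨hreg, (key hreg).1.mpr hw⟩
    · rintro ⟨hreg, hw⟩ hd
      exact (key hreg).2 hw hd

end Pair

end Groth.Agent.Lib.helper19.PairDuality
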