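import Mathlib
import Groth.Agent.S7692
import Groth.Agent.S7701
import Groth.Agent.S0341
import Groth.Agent.Lib.Helper19.CanMod7
import Groth.Agent.Lib.Helper2.DepthLC
import Groth.Agent.Lib.Helper2.GNV4
import Groth.Agent.Lib.Helper19.LCLes2
import Groth.Agent.Lib.Helper19.ExtLoc1
import Groth.Agent.Lib.Helper26.CMLci

/-!
# Canonical modules (helper19), part 8: the canonical module of a Cohen–Macaulay local domain

* `isSMulRegular_of_ne_zero` : canonical modules of Noetherian local domains are torsion-free.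
* `nonempty_localization_bot_equiv` : they have rank one (over quotients of Gorenstein rings).
* `exists_ideal_equiv` : they are isomorphic to an ideal.
* `height_eq_one_of_mem_associatedPrimes` : over a CM local domain, an ideal isomorphic to the canonical
  module is unmixed of height one.
* `ext_equiv_self_or_unmixed` : `Ext^r_B(B/p, B)` for a CM quotient `B/p` of a regular local ring.
-/

set_option autoImplicit false
universe u

namespace Groth.Agent.Lib.helper19.CanMod
open TensorProduct IsLocalRing CategoryTheory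

section Domain
variable (A : Type u) [CommRing A] [IsLocalRing A] [IsNoetherianRing A] [IsDomain A]

omit [IsLocalRing A] [IsNoetherianRing A] in
/-- nonzero primes of a domain have positive height -/
lemma one_le_height_of_ne_bot (q : Ideal A) [q.IsPrime] (hq : q ≠ ⊥) : 1 ≤ q.height := by
  by_contra hlt
  have h0 : q.height = 0 := by
    have : q.height < 1 := not_le.mp hlt
    exact Order.lt_one_iff.mp this
  rw [Ideal.height_eq_zero_iff] at h0
  have : q ∈ minimalPrimes A := h0
  rw [IsDomain.minimalPrimes_eq_singleton_bot] at this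
  exact hq this

/-- canonical modules of a Noetherian local domain are torsion-free -/
theorem isSMulRegular_of_ne_zero (n : ℕ) (hn : ringKrullDim A = n) (E : Type u) [AddCommGroup E]
    [Module A E] (f : ResidueField A →ₗ[A] E) (hf : InjHull.IsInjectiveHull f)
    (K : Type u) [AddCommGroup K] [Module A K] [Module.Finite A K]
    (eK : (K →ₗ[A] E) ≃ₗ[A] LocCoh.H (maximalIdeal A) n A) (a : A) (ha : a ≠ 0) :
    IsSMulRegular K a := by
  classical
  rcases Nat.eq_zero_or_pos n with h0 | hpos
  · subst h0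
    haveI : Ring.KrullDimLE 0 A := by rw [Ring.krullDimLE_iff, hn]
    have hF : IsField A := Ring.KrullDimLE.isField_of_isDomain
    obtain ⟨b, hb⟩ := hF.mul_inv_cancel ha
    intro x y hxy
    have h1 : b • (a • x) = b • (a • y) := congrArg (b • ·) hxy
    rwa [smul_smul, smul_smul, mul_comm, hb, one_smul, one_smul] at h1
  · by_contra hreg
    have hz : a ∈ { r : A | ∃ x : K, x ≠ 0 ∧ r • x = 0 } := by
      by_contra hx
      apply hreg
      intro y z hyz
      by_contra hne
      apply hx
      refine ⟨y - z, sub_ne_zero.mpr hne, ?_⟩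
      rw [smul_sub]
      exact sub_eq_zero.mpr hyz
    rw [← biUnion_associatedPrimes_eq_zero_divisors A K] at hz
    obtain ⟨q, hq, haq⟩ := Set.mem_iUnion₂.mp hz
    rw [Groth.Agent.S7692.result A n hn E f hf K eK hpos] at hq
    obtain ⟨hqp, hqdim⟩ := hq
    haveI := hqp
    have hqbot : q ≠ ⊥ := by
      rintro rfl
      exact ha ((Submodule.mem_bot A).mp haq)
    obtain ⟨h, hh⟩ : ∃ h : ℕ, q.height = h :=
      ENat.ne_top_iff_exists.1 (Ideal.height_ne_top hqp.ne_top) |>.imp fun _ h => h.symm
    have h1 := one_le_height_of_ne_bot A q hqbot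
    rw [hh] at h1
    have h1' : 1 ≤ h := by exact_mod_cast h1
    have := height_add_dim_quot_le A q h n n hh hqdim hn
    omega

/-- the canonical module of a local domain (quotient of a Gorenstein ring) has rank one -/
theorem nonempty_localization_bot_equiv (n : ℕ) (hn : ringKrullDim A = n) (E : Type u)
    [AddCommGroup E] [Module A E] (f : ResidueField A →ₗ[A] E) (hf : InjHull.IsInjectiveHull f)
    (K : Type u) [AddCommGroup K] [Module A K] [Module.Finite A K]
    (eK : (K →ₗ[A] E) ≃ₗ[A] LocCoh.H (maximalIdeal A) n A)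
    (R' : Type u) [CommRing R'] [LocCoh.IsGorensteinLocalRing R'] (g : R' →+* A)
    (hg : Function.Surjective g) :
    Nonempty (LocalizedModule (⊥ : Ideal A).primeCompl K ≃ₗ[Localization.AtPrime (⊥ : Ideal A)]
      Localization.AtPrime (⊥ : Ideal A)) := by
  classical
  have hsupp : Nontrivial (LocalizedModule (⊥ : Ideal A).primeCompl K) := by
    have h1 := mem_support_iff A n hn E f hf K eK ⟨⊥, inferInstance⟩
    rw [Module.mem_support_iff] at h1
    apply h1.mpr
    show (((⊥ : Ideal A).height : ℕ∞) : WithBot ℕ∞) + ringKrullDim (A ⧸ (⊥ : Ideal A)) = n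
    rw [Ideal.height_bot, ringKrullDim_eq_of_ringEquiv (RingEquiv.quotientBot A), hn]
    simp
  have hdimL : ringKrullDim (Localization.AtPrime (⊥ : Ideal A)) = (0 : ℕ) := by
    rw [IsLocalization.AtPrime.ringKrullDim_eq_height (⊥ : Ideal A), Ideal.height_bot]; rfl
  obtain ⟨E', _, _, f', hf'⟩ := Groth.Agent.S0299.result (Localization.AtPrime (⊥ : Ideal A))
    (ResidueField (Localization.AtPrime (⊥ : Ideal A)))
  obtain ⟨eloc⟩ := Groth.Agent.S7697.result A n hn E f hf K eK R' g hg ⊥ hsupp 0 hdimL E' f' hf'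
  haveI : Ring.KrullDimLE 0 (Localization.AtPrime (⊥ : Ideal A)) := by
    rw [Ring.krullDimLE_iff, hdimL]
  have hF : IsField (Localization.AtPrime (⊥ : Ideal A)) := Ring.KrullDimLE.isField_of_isDomain
  haveI := hF.isPrincipalIdealRing
  haveI : IsRegularLocalRing (Localization.AtPrime (⊥ : Ideal A)) := inferInstance
  haveI hG : LocCoh.IsGorensteinLocalRing (Localization.AtPrime (⊥ : Ideal A)) :=
    Groth.Agent.S0342.result _
  haveI hCM : LocCoh.IsCohenMacaulayLocalRing (Localization.AtPrime (⊥ : Ideal A)) :=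
    Groth.Agent.S0341.result _
  exact (Groth.Agent.S7701.result (Localization.AtPrime (⊥ : Ideal A)) 0 hdimL E' f' hf'
    (LocalizedModule (⊥ : Ideal A).primeCompl K) eloc).mp hG

/-- the canonical module of a local domain (quotient of a Gorenstein ring) is isomorphic to an ideal -/
theorem exists_ideal_equiv (n : ℕ) (hn : ringKrullDim A = n) (E : Type u)
    [AddCommGroup E] [Module A E] (f : ResidueField A →ₗ[A] E) (hf : InjHull.IsInjectiveHull f)
    (K : Type u) [AddCommGroup K] [Module A K] [Module.Finite A K]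
    (eK : (K →ₗ[A] E) ≃ₗ[A] LocCoh.H (maximalIdeal A) n A)
    (R' : Type u) [CommRing R'] [LocCoh.IsGorensteinLocalRing R'] (g : R' →+* A)
    (hg : Function.Surjective g) :
    ∃ J : Ideal A, Nonempty (K ≃ₗ[A] J) := by
  classical
  obtain ⟨ε⟩ := nonempty_localization_bot_equiv A n hn E f hf K eK R' g hg
  have hreg := isSMulRegular_of_ne_zero A n hn E f hf K eK
  let j : K →ₗ[A] Localization.AtPrime (⊥ : Ideal A) :=
    (ε.restrictScalars A).toLinearMap ∘ₗ LocalizedModule.mkLinearMap (⊥ : Ideal A).primeCompl K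
  have hj : Function.Injective j := by
    rw [← LinearMap.ker_eq_bot, eq_bot_iff]
    intro x hx
    rw [LinearMap.mem_ker] at hx
    have h1 : LocalizedModule.mkLinearMap (⊥ : Ideal A).primeCompl K x = 0 :=
      ε.injective (by rw [map_zero]; exact hx)
    obtain ⟨c, hc⟩ := (IsLocalizedModule.eq_zero_iff (⊥ : Ideal A).primeCompl
      (LocalizedModule.mkLinearMap (⊥ : Ideal A).primeCompl K)).mp h1
    have hc0 : (c : A) ≠ 0 := fun h0 => c.2 (by rw [h0]; exact Submodule.zero_mem _)
    have : (c : A) • x = (c : A) • (0 : K) := by rw [smul_zero]; exact hc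
    rw [Submodule.mem_bot]
    exact hreg c hc0 this
  obtain ⟨G, hG⟩ := (Module.Finite.fg_top : (⊤ : Submodule A K).FG)
  obtain ⟨b, hb⟩ := IsLocalization.exist_integer_multiples_of_finset (⊥ : Ideal A).primeCompl
    (G.image j)
  have hb0 : (b : A) ≠ 0 := fun h0 => b.2 (by rw [h0]; exact Submodule.zero_mem _)
  let j' : K →ₗ[A] Localization.AtPrime (⊥ : Ideal A) := (b : A) • j
  have hinjL : Function.Injective (Algebra.linearMap A (Localization.AtPrime (⊥ : Ideal A))) :=
    IsLocalization.injective (Localization.AtPrime (⊥ : Ideal A))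
      (M := (⊥ : Ideal A).primeCompl) (fun x hx => by
        rw [mem_nonZeroDivisors_iff_ne_zero]
        rintro rfl
        exact hx (Submodule.zero_mem _))
  have hj' : Function.Injective j' := by
    intro x y hxy
    apply hj
    have h1 : (b : A) • j x = (b : A) • j y := hxy
    rw [Algebra.smul_def, Algebra.smul_def] at h1
    have hb1 : algebraMap A (Localization.AtPrime (⊥ : Ideal A)) (b : A) ≠ 0 := by
      intro h0
      apply hb0
      apply hinjL
      rw [map_zero]
      exact h0
    exact mul_left_cancel₀ hb1 h1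
  have hrange : LinearMap.range j' ≤
      LinearMap.range (Algebra.linearMap A (Localization.AtPrime (⊥ : Ideal A))) := by
    rw [LinearMap.range_eq_map, ← hG, Submodule.map_span, Submodule.span_le]
    rintro _ ⟨x, hx, rfl⟩
    obtain ⟨a, ha⟩ := hb (j x) (Finset.mem_image_of_mem j hx)
    exact ⟨a, ha⟩
  let e0 := LinearEquiv.ofInjective (Algebra.linearMap A (Localization.AtPrime (⊥ : Ideal A))) hinjL
  let g1 : K →ₗ[A] A := e0.symm.toLinearMap ∘ₗ
    (LinearMap.codRestrict _ j' (fun x => hrange ⟨x, rfl⟩))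
  have hg1 : Function.Injective g1 := by
    intro x y hxy
    apply hj'
    have h1 := e0.symm.injective hxy
    exact congrArg Subtype.val h1
  exact ⟨LinearMap.range g1, ⟨LinearEquiv.ofInjective g1 hg1⟩⟩

end Domain

section Unmixed
variable (A : Type u) [CommRing A] [LocCoh.IsCohenMacaulayLocalRing A] [IsDomain A]

/-- an ideal of a Cohen–Macaulay local domain which is isomorphic to the canonical module is unmixed of
height one -/
theorem height_eq_one_of_mem_associatedPrimes (n : ℕ) (hn : ringKrullDim A = n) (E : Type u)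
    [AddCommGroup E] [Module A E] (f : ResidueField A →ₗ[A] E) (hf : InjHull.IsInjectiveHull f)
    (K : Type u) [AddCommGroup K] [Module A K] [Module.Finite A K]
    (eK : (K →ₗ[A] E) ≃ₗ[A] LocCoh.H (maximalIdeal A) n A)
    (J : Ideal A) (e : K ≃ₗ[A] J) (q : Ideal A)
    (hq : q ∈ associatedPrimes A (A ⧸ J)) : q.height = 1 := by
  classical
  -- `K ≠ 0`, hence `J ≠ ⊥`
  have hHnt : Nontrivial (LocCoh.H (maximalIdeal A) n A) :=
    Groth.Agent.Lib.helper2.GNV.nontrivial_H_supportDim n A
      (by rw [Module.supportDim_self_eq_ringKrullDim, hn])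
  have hKnt : Nontrivial K := by
    by_contra hcon
    rw [not_nontrivial_iff_subsingleton] at hcon
    have : Subsingleton (K →ₗ[A] E) :=
      ⟨fun a b => LinearMap.ext fun x => by rw [hcon.elim x 0, map_zero, map_zero]⟩
    have : Subsingleton (LocCoh.H (maximalIdeal A) n A) := eK.symm.toEquiv.subsingleton
    exact not_subsingleton _ this
  have hJbot : J ≠ ⊥ := by
    rintro rfl
    have : Subsingleton K := e.toEquiv.subsingleton
    exact not_subsingleton K this
  -- depths
  obtain ⟨-, -, hCMK, hKdim⟩ := Groth.Agent.S7700.result A n hn E f hf K eK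
  have hdK : LocCoh.depth A K = n := by
    have h1 : Module.supportDim A K = ((LocCoh.depth A K : ℕ∞) : WithBot ℕ∞) := hCMK
    rw [hKdim] at h1
    have h2 : ((n : ℕ∞) : WithBot ℕ∞) = ((LocCoh.depth A K : ℕ∞) : WithBot ℕ∞) := by
      rw [← h1]; rfl
    exact (WithBot.coe_injective h2).symm
  have hdJ : LocCoh.idealDepth (maximalIdeal A) J = n := by
    rw [← hdK]
    exact (Groth.Agent.Lib.helper26.Depth.idealDepth_congr (I := maximalIdeal A) e).symm
  have hdA : LocCoh.idealDepth (maximalIdeal A) A = n := by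
    have h1 := LocCoh.IsCohenMacaulayLocalRing.supportDim_eq_depth (R := A)
    rw [Module.supportDim_self_eq_ringKrullDim, hn] at h1
    have h2 : ((n : ℕ∞) : WithBot ℕ∞) = ((LocCoh.depth A A : ℕ∞) : WithBot ℕ∞) := by
      rw [← h1]; rfl
    exact (WithBot.coe_injective h2).symm
  have hvJ := (Groth.Agent.Lib.helper2.DepthLC.vanish_iff_le_idealDepth (maximalIdeal A) J n).mpr
    (le_of_eq hdJ.symm)
  have hvA := (Groth.Agent.Lib.helper2.DepthLC.vanish_iff_le_idealDepth (maximalIdeal A) A n).mpr
    (le_of_eq hdA.symm)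
  -- the short exact sequence
  have hex : Function.Exact (Submodule.subtype J) (Submodule.mkQ J) :=
    LinearMap.exact_subtype_mkQ J
  have hS := Groth.Agent.Lib.helper19.ExtLoc.sc_shortExact (Submodule.subtype J) (Submodule.mkQ J)
    (Submodule.injective_subtype J) (Submodule.mkQ_surjective J) hex
  have hvQ : ∀ i : ℕ, i < n - 1 → Subsingleton (LocCoh.H (maximalIdeal A) i (A ⧸ J)) := by
    intro i hi
    have h2 : Subsingleton (LocCoh.H (maximalIdeal A) i A) := hvA i (by omega)
    have h3 : Subsingleton (LocCoh.H (maximalIdeal A) (i + 1) J) := hvJ (i + 1) (by omega)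
    have hinj := Groth.Agent.Lib.helper19.LCLes2.δH_injective (maximalIdeal A) i hS h2
    exact hinj.subsingleton
  have hdQ := (Groth.Agent.Lib.helper2.DepthLC.vanish_iff_le_idealDepth (maximalIdeal A) (A ⧸ J)
    (n - 1)).mp hvQ
  -- the associated prime
  have hqp : q.IsPrime := hq.isPrime
  have hle := Groth.Agent.Lib.helper26.Depth.depth_le_ringKrullDim_quotient_of_mem_associatedPrimes
    (A ⧸ J) q hq
  obtain ⟨e', he'⟩ := Groth.Agent.Lib.helper19.Gor.exists_dim_quot A q
  have h1 : n - 1 ≤ e' := by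
    rw [he'] at hle
    have h2 : (((n - 1 : ℕ) : ℕ∞) : WithBot ℕ∞) ≤ ((e' : ℕ∞) : WithBot ℕ∞) :=
      le_trans (by exact_mod_cast hdQ) hle
    exact_mod_cast h2
  have hJq : J ≤ q := by
    have := IsAssociatedPrime.annihilator_le hq
    rwa [Submodule.annihilator_top, Ideal.annihilator_quotient] at this
  have hqbot : q ≠ ⊥ := by
    rintro rfl
    exact hJbot (le_bot_iff.mp hJq)
  obtain ⟨h, hh⟩ : ∃ h : ℕ, q.height = h :=
    ENat.ne_top_iff_exists.1 (Ideal.height_ne_top hqp.ne_top) |>.imp fun _ h => h.symm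
  have h3 := one_le_height_of_ne_bot A q hqbot
  rw [hh] at h3 ⊢
  have h3' : 1 ≤ h := by exact_mod_cast h3
  have h4 := height_add_dim_quot_le A q h e' n hh he' hn
  have : h = 1 := by omega
  rw [this]; rfl

end Unmixed

section Main
open Opposite

/-- `Ext^r_B(B/p, B)` for a Cohen–Macaulay quotient `B/p` of a regular local ring -/
theorem ext_equiv_self_or_unmixed (B : Type u) [CommRing B] [IsRegularLocalRing B] (p : Ideal B)
    [p.IsPrime] [LocCoh.IsCohenMacaulayLocalRing (B ⧸ p)] (r : ℕ) (hr : p.height = r) :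
    Nonempty (Abelian.Ext.{u} (ModuleCat.of B (B ⧸ p)) (ModuleCat.of B B) r ≃ₗ[B] (B ⧸ p)) ∨
      ∃ I : Ideal (B ⧸ p), I ≠ ⊤ ∧
        (∀ q ∈ associatedPrimes (B ⧸ p) ((B ⧸ p) ⧸ I), q.height = 1) ∧
        Nonempty (Abelian.Ext.{u} (ModuleCat.of B (B ⧸ p)) (ModuleCat.of B B) r ≃ₗ[B] I) := by
  classical
  haveI hG : LocCoh.IsGorensteinLocalRing B := Groth.Agent.S0342.result B
  haveI hCMB : LocCoh.IsCohenMacaulayLocalRing B := Groth.Agent.S0341.result B
  have hπ : Function.Surjective (algebraMap B (B ⧸ p)) := Ideal.Quotient.mk_surjective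
  obtain ⟨d, hd⟩ := Groth.Agent.Lib.helper19.Gor.exists_dim B
  obtain ⟨n, hn⟩ := Groth.Agent.Lib.helper19.Gor.exists_dim_quot B p
  have hdn : d - n = r := by
    have h1 := Groth.Agent.Lib.helper26.Unmixed.ringKrullDim_eq_quotient_add_height B p
      (Ideal.IsPrime.ne_top inferInstance)
    rw [hd, hn, hr] at h1
    have h2 : (d : ℕ) = n + r := by exact_mod_cast h1
    omega
  subst hdn
  haveI : Module.Finite B (B ⧸ p) := Module.Finite.of_surjective (Algebra.linearMap B (B ⧸ p)) hπ
  let KA := Abelian.Ext.{u} (ModuleCat.of B (B ⧸ p)) (ModuleCat.of B B) (d - n)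
  have hKfin : Module.Finite B KA := ModuleCat.finite_ext B _ _ (d - n)
  have hkill : ∀ a ∈ RingHom.ker (algebraMap B (B ⧸ p)), ∀ x : KA, a • x = 0 := by
    intro a ha x
    apply Groth.Agent.Lib.helper19.LCBridge.ext_smul_eq_zero a
    apply ModuleCat.hom_ext
    apply LinearMap.ext
    intro y
    show a • y = 0
    rw [Algebra.smul_def, (RingHom.mem_ker).mp ha, zero_mul]
  obtain ⟨instK, hK⟩ := Groth.Agent.S7708.exists_module_of_surjective (algebraMap B (B ⧸ p)) hπ KA
    hkill
  letI := instK
  haveI hTower : IsScalarTower B (B ⧸ p) KA := IsScalarTower.of_algebraMap_smul (fun a x => hK a x)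
  haveI : Module.Finite (B ⧸ p) KA := Module.Finite.of_restrictScalars_finite B (B ⧸ p) KA
  obtain ⟨E, _, _, f, hf⟩ := Groth.Agent.S0299.result (B ⧸ p) (ResidueField (B ⧸ p))
  obtain ⟨eKA⟩ := canonical_of_ext B (B ⧸ p) hπ n d hn hd E f hf KA
    (LinearEquiv.refl B KA)
  obtain ⟨J, ⟨eJ⟩⟩ := exists_ideal_equiv (B ⧸ p) n hn E f hf KA eKA B (algebraMap B (B ⧸ p)) hπ
  by_cases hJ : J = ⊤
  · left
    subst hJ
    exact ⟨(eJ.trans Submodule.topEquiv).restrictScalars B⟩
  · right
    refine ⟨J, hJ, fun q hq => ?_, ⟨eJ.restrictScalars B⟩⟩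
    exact height_eq_one_of_mem_associatedPrimes (B ⧸ p) n hn E f hf KA eKA J eJ q hq

end Main

end Groth.Agent.Lib.helper19.CanMod
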