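import Mathlib
import Groth.Agent.Lib.Helper19.CanMod8
import Groth.Agent.S7708

/-!
# Canonical modules (helper19), part 9: Murthy's theorem

* `nonempty_equiv_self_of_ufd` : over a Cohen–Macaulay local UFD (quotient of a Gorenstein ring) the
  canonical module is free of rank one.
* `gor_of_ufd` : a Cohen–Macaulay UFD quotient `B/p` of a regular local ring is Gorenstein.
-/

set_option autoImplicit false
universe u

namespace Groth.Agent.Lib.helper19.CanMod
open TensorProduct IsLocalRing CategoryTheory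

section UFD
variable (A : Type u) [CommRing A] [LocCoh.IsCohenMacaulayLocalRing A] [IsDomain A]
  [UniqueFactorizationMonoid A]

/-- over a Cohen–Macaulay local UFD (quotient of a Gorenstein ring) the canonical module is free of rank
one -/
theorem nonempty_equiv_self_of_ufd (n : ℕ) (hn : ringKrullDim A = n) (E : Type u)
    [AddCommGroup E] [Module A E] (f : ResidueField A →ₗ[A] E) (hf : InjHull.IsInjectiveHull f)
    (K : Type u) [AddCommGroup K] [Module A K] [Module.Finite A K]
    (eK : (K →ₗ[A] E) ≃ₗ[A] LocCoh.H (maximalIdeal A) n A)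
    (R' : Type u) [CommRing R'] [LocCoh.IsGorensteinLocalRing R'] (g : R' →+* A)
    (hg : Function.Surjective g) : Nonempty (K ≃ₗ[A] A) := by
  classical
  let S : Set (Ideal A) := {J | Nonempty (K ≃ₗ[A] J)}
  have hne : S.Nonempty := by
    obtain ⟨J, hJ⟩ := exists_ideal_equiv A n hn E f hf K eK R' g hg
    exact ⟨J, hJ⟩
  obtain ⟨J, ⟨eJ⟩, hmax⟩ := set_has_maximal_iff_noetherian.mpr
    (inferInstance : IsNoetherian A A) S hne
  -- `K ≠ 0`, hence `J ≠ ⊥`
  have hHnt : Nontrivial (LocCoh.H (maximalIdeal A) n A) :=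
    Groth.Agent.Lib.helper2.GNV.nontrivial_H_supportDim n A
      (by rw [Module.supportDim_self_eq_ringKrullDim, hn])
  have hKnt : Nontrivial K := by
    by_contra hcon
    rw [not_nontrivial_iff_subsingleton] at hcon
    have : Subsingleton (K →ₗ[A] E) :=
      ⟨fun a b => LinearMap.ext fun x => by rw [hcon.elim x 0, map_zero, map_zero]⟩
    have : Subsingleton (LocCoh.H (maximalIdeal A) n A) := eK.symm.toEquiv.subsingleton
    exact not_subsingleton _ this
  have hJbot : J ≠ ⊥ := by
    rintro rfl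
    have : Subsingleton K := eJ.toEquiv.subsingleton
    exact not_subsingleton K this
  suffices hJtop : J = ⊤ by
    subst hJtop
    exact ⟨eJ.trans Submodule.topEquiv⟩
  by_contra hJ
  haveI : Nontrivial (A ⧸ J) := Ideal.Quotient.nontrivial_iff.mpr hJ
  obtain ⟨q, hq⟩ := associatedPrimes.nonempty A (A ⧸ J)
  have hq1 := height_eq_one_of_mem_associatedPrimes A n hn E f hf K eK J eJ q hq
  have hqp : q.IsPrime := hq.isPrime
  have hJq : J ≤ q := by
    have := IsAssociatedPrime.annihilator_le hq
    rwa [Submodule.annihilator_top, Ideal.annihilator_quotient] at this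
  have hqbot : q ≠ ⊥ := by
    rintro rfl
    exact hJbot (le_bot_iff.mp hJq)
  obtain ⟨π, hπq, hπ⟩ := Ideal.IsPrime.exists_mem_prime_of_ne_bot hqp hqbot
  have hπ0 : π ≠ 0 := hπ.ne_zero
  haveI hsp : (Ideal.span {π}).IsPrime := (Ideal.span_singleton_prime hπ0).mpr hπ
  have hsq : Ideal.span {π} = q := by
    have hle : Ideal.span {π} ≤ q := (Ideal.span_singleton_le_iff_mem q).mpr hπq
    by_contra hne'
    have hlt : Ideal.span {π} < q := lt_of_le_of_ne hle hne'
    have h1 := Ideal.height_strict_mono_of_isPrime hlt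
    rw [hq1] at h1
    have h0 : (Ideal.span {π}).height = 0 := Order.lt_one_iff.mp h1
    rw [Ideal.height_eq_zero_iff] at h0
    have : Ideal.span {π} ∈ minimalPrimes A := h0
    rw [IsDomain.minimalPrimes_eq_singleton_bot] at this
    have : Ideal.span {π} = ⊥ := this
    rw [Ideal.span_singleton_eq_bot] at this
    exact hπ0 this
  -- the ideal `J' = (J : π)`
  let J' : Ideal A := Submodule.comap (LinearMap.mulLeft A π) J
  have hJ' : ∀ a, a ∈ J' ↔ π * a ∈ J := fun a => Iff.rfl
  have hJJ' : J ≤ J' := fun a ha => (hJ' a).mpr (Ideal.mul_mem_left J π ha)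
  let μ : J' →ₗ[A] J := (LinearMap.mulLeft A π).restrict (fun a ha => ha)
  have hμ : Function.Bijective μ := by
    constructor
    · intro a b hab
      have h1 : π * (a : A) = π * (b : A) := congrArg Subtype.val hab
      exact Subtype.ext (mul_left_cancel₀ hπ0 h1)
    · intro y
      have hy : (y : A) ∈ Ideal.span {π} := by rw [hsq]; exact hJq y.2
      obtain ⟨a, ha⟩ := Ideal.mem_span_singleton'.mp hy
      refine ⟨⟨a, ?_⟩, ?_⟩
      · rw [hJ', mul_comm, ha]; exact y.2
      · apply Subtype.ext
        show π * a = y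
        rw [mul_comm, ha]
  have hJ'S : J' ∈ S := ⟨eJ.trans (LinearEquiv.ofBijective μ hμ).symm⟩
  have hJeq : J' = J := by
    by_contra hne'
    exact hmax J' hJ'S (lt_of_le_of_ne hJJ' (Ne.symm hne'))
  -- Nakayama
  have hle : J ≤ Ideal.span {π} • J := by
    intro y hy
    have hy' : y ∈ Ideal.span {π} := by rw [hsq]; exact hJq hy
    obtain ⟨a, ha⟩ := Ideal.mem_span_singleton'.mp hy'
    have haJ : a ∈ J := by
      rw [← hJeq, hJ', mul_comm, ha]; exact hy
    rw [← ha, mul_comm]
    exact Submodule.smul_mem_smul (Ideal.mem_span_singleton_self π) haJ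
  have hjac : Ideal.span {π} ≤ Ideal.jacobson ⊥ := by
    rw [IsLocalRing.jacobson_eq_maximalIdeal ⊥ bot_ne_top, hsq]
    exact IsLocalRing.le_maximalIdeal hqp.ne_top
  exact hJbot (Submodule.eq_bot_of_le_smul_of_le_jacobson_bot (Ideal.span {π}) J
    (IsNoetherian.noetherian J) hle hjac)

end UFD

section Murthy

/-- a Cohen–Macaulay quotient of a regular local ring by a prime which is a UFD is Gorenstein -/
theorem gor_of_ufd (B : Type u) [CommRing B] [IsRegularLocalRing B] (p : Ideal B) [p.IsPrime]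
    [UniqueFactorizationMonoid (B ⧸ p)] [LocCoh.IsCohenMacaulayLocalRing (B ⧸ p)] :
    LocCoh.IsGorensteinLocalRing (B ⧸ p) := by
  classical
  haveI hG : LocCoh.IsGorensteinLocalRing B := Groth.Agent.S0342.result B
  have hπ : Function.Surjective (algebraMap B (B ⧸ p)) := Ideal.Quotient.mk_surjective
  obtain ⟨n, hn⟩ := Groth.Agent.Lib.helper19.Gor.exists_dim_quot B p
  obtain ⟨E, _, _, f, hf⟩ := Groth.Agent.S0299.result (B ⧸ p) (ResidueField (B ⧸ p))
  obtain ⟨K, hfin, ⟨eK⟩⟩ := Groth.Agent.S7708.result (B ⧸ p) n hn E f hf B (algebraMap B (B ⧸ p)) hπ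
  haveI := hfin
  have h1 := nonempty_equiv_self_of_ufd (B ⧸ p) n hn E f hf K eK B (algebraMap B (B ⧸ p)) hπ
  exact (Groth.Agent.S7701.result (B ⧸ p) n hn E f hf K eK).mpr h1

end Murthy

end Groth.Agent.Lib.helper19.CanMod
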