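import Mathlib
import Groth.Prelude.Def_GrLC
import Groth.Agent.Lib.Helper19.GrLes8
import Groth.Agent.S13215
import Groth.Agent.S13224
import Groth.Agent.S13225

/-!
# Local-cohomological regularity of graded modules (helper19), part 1

* `Hgr_indep`, `ses_mid`, `ses_right`, `ses_left_zero`, `ses_left` : consequences of the long exact sequence
  for the vanishing of single graded pieces
* `freeGr 𝒜 e` : the grading of `Fin n → R` with the `b`-th basis vector in degree `e b`, with its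
  `Decomposition` and `GradedSMul` instances
* `LCReg a 𝒩 c` : `H^j_a(N)_g = 0` for `g > c - j` (for all *injective resolutions)
-/

set_option autoImplicit false
universe u

namespace Groth.Agent.Lib.helper19.GrReg

open GrLC Groth.Agent.Lib.helper19.GrMod Groth.Agent.Lib.helper19.GrLes Groth.Agent.Lib.helper19.GrShift

section Ses

variable {R : Type u} [CommRing R] [IsNoetherianRing R] {𝒜 : ℤ → AddSubgroup R} [GradedRing 𝒜]
variable {M' : Type u} [AddCommGroup M'] [Module R M'] {ℳ' : ℤ → AddSubgroup M'}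
  [DirectSum.Decomposition ℳ'] [SetLike.GradedSMul 𝒜 ℳ']
variable {M : Type u} [AddCommGroup M] [Module R M] {ℳ : ℤ → AddSubgroup M}
  [DirectSum.Decomposition ℳ] [SetLike.GradedSMul 𝒜 ℳ]
variable {M'' : Type u} [AddCommGroup M''] [Module R M''] {ℳ'' : ℤ → AddSubgroup M''}
  [DirectSum.Decomposition ℳ''] [SetLike.GradedSMul 𝒜 ℳ'']

/-- vanishing of a graded piece of local cohomology does not depend on the resolution -/
theorem Hgr_indep (E F : StarInjRes 𝒜 ℳ) (a : HomogeneousIdeal 𝒜) (n : ℕ) (g : ℤ) :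
    E.Hgr a n g = ⊥ ↔ F.Hgr a n g = ⊥ :=
  Hgr_eq_bot_iff_of_bijective E F LinearMap.id (fun _ _ h => h) Function.bijective_id a n g

variable (i : M' →ₗ[R] M) (p : M →ₗ[R] M'') (hi : IsGrHom ℳ' ℳ i) (hp : IsGrHom ℳ ℳ'' p)
  (hinj : Function.Injective i) (hsurj : Function.Surjective p)
  (hex : LinearMap.ker p = LinearMap.range i)
  (E' : StarInjRes 𝒜 ℳ') (E : StarInjRes 𝒜 ℳ) (E'' : StarInjRes 𝒜 ℳ'') (a : HomogeneousIdeal 𝒜)

include hi hp hinj hsurj hex

theorem ses_mid (n : ℕ) (g : ℤ) (h' : E'.Hgr a n g = ⊥) (h'' : E''.Hgr a n g = ⊥) :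
    E.Hgr a n g = ⊥ := by
  classical
  obtain ⟨φ⟩ := exists_cmap E' E i hi
  obtain ⟨ψ⟩ := exists_cmap E E'' p hp
  obtain ⟨δ, hδ, hφ0, hψ, hδk, hφk⟩ := les i p hi hp hinj hsurj hex E' E E'' φ ψ a
  rw [eq_bot_iff]
  intro y hy
  have h1 : ψ.Hmap a n y ∈ E''.Hgr a n g := ψ.Hmap_isGrHom a n g y hy
  rw [h'', AddSubgroup.mem_bot] at h1
  have h2 : y ∈ LinearMap.range (φ.Hmap a n) := by
    rw [← hψ n]
    exact h1
  obtain ⟨y', hy'⟩ := h2
  obtain ⟨y'', hy''g, hy''⟩ := exists_mem_of_isGrHom (E'.Hgr a n) (E.Hgr a n)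
    (Groth.Agent.S13225.result R 𝒜 a M' ℳ' E' n) (Groth.Agent.S13225.result R 𝒜 a M ℳ E n)
    (φ.Hmap a n) (φ.Hmap_isGrHom a n) hy y' hy'
  rw [h', AddSubgroup.mem_bot] at hy''g
  rw [AddSubgroup.mem_bot, ← hy'', hy''g, map_zero]

theorem ses_right (n : ℕ) (g : ℤ) (h : E.Hgr a n g = ⊥) (h' : E'.Hgr a (n + 1) g = ⊥) :
    E''.Hgr a n g = ⊥ := by
  classical
  obtain ⟨φ⟩ := exists_cmap E' E i hi
  obtain ⟨ψ⟩ := exists_cmap E E'' p hp
  obtain ⟨δ, hδ, hφ0, hψ, hδk, hφk⟩ := les i p hi hp hinj hsurj hex E' E E'' φ ψ a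
  rw [eq_bot_iff]
  intro y hy
  have h1 : δ n y ∈ E'.Hgr a (n + 1) g := hδ n g y hy
  rw [h', AddSubgroup.mem_bot] at h1
  have h2 : y ∈ LinearMap.range (ψ.Hmap a n) := by
    rw [← hδk n]
    exact h1
  obtain ⟨y', hy'⟩ := h2
  obtain ⟨y'', hy''g, hy''⟩ := exists_mem_of_isGrHom (E.Hgr a n) (E''.Hgr a n)
    (Groth.Agent.S13225.result R 𝒜 a M ℳ E n) (Groth.Agent.S13225.result R 𝒜 a M'' ℳ'' E'' n)
    (ψ.Hmap a n) (ψ.Hmap_isGrHom a n) hy y' hy'
  rw [h, AddSubgroup.mem_bot] at hy''g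
  rw [AddSubgroup.mem_bot, ← hy'', hy''g, map_zero]

theorem ses_left_zero (g : ℤ) (h : E.Hgr a 0 g = ⊥) : E'.Hgr a 0 g = ⊥ := by
  classical
  obtain ⟨E''⟩ := Groth.Agent.S13215.result R 𝒜 M'' ℳ''
  obtain ⟨φ⟩ := exists_cmap E' E i hi
  obtain ⟨ψ⟩ := exists_cmap E E'' p hp
  obtain ⟨δ, hδ, hφ0, hψ, hδk, hφk⟩ := les i p hi hp hinj hsurj hex E' E E'' φ ψ a
  rw [eq_bot_iff]
  intro y hy
  have h1 : φ.Hmap a 0 y ∈ E.Hgr a 0 g := φ.Hmap_isGrHom a 0 g y hy
  rw [h, AddSubgroup.mem_bot] at h1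
  rw [AddSubgroup.mem_bot]
  apply hφ0
  rw [h1, map_zero]

theorem ses_left (n : ℕ) (g : ℤ) (h'' : E''.Hgr a n g = ⊥) (h : E.Hgr a (n + 1) g = ⊥) :
    E'.Hgr a (n + 1) g = ⊥ := by
  classical
  obtain ⟨φ⟩ := exists_cmap E' E i hi
  obtain ⟨ψ⟩ := exists_cmap E E'' p hp
  obtain ⟨δ, hδ, hφ0, hψ, hδk, hφk⟩ := les i p hi hp hinj hsurj hex E' E E'' φ ψ a
  rw [eq_bot_iff]
  intro y hy
  have h1 : φ.Hmap a (n + 1) y ∈ E.Hgr a (n + 1) g := φ.Hmap_isGrHom a (n + 1) g y hy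
  rw [h, AddSubgroup.mem_bot] at h1
  have h2 : y ∈ LinearMap.range (δ n) := by
    rw [← hφk n]
    exact h1
  obtain ⟨y', hy'⟩ := h2
  obtain ⟨y'', hy''g, hy''⟩ := exists_mem_of_isGrHom (E''.Hgr a n) (E'.Hgr a (n + 1))
    (Groth.Agent.S13225.result R 𝒜 a M'' ℳ'' E'' n) (Groth.Agent.S13225.result R 𝒜 a M' ℳ' E' (n + 1))
    (δ n) (hδ n) hy y' hy'
  rw [h'', AddSubgroup.mem_bot] at hy''g
  rw [AddSubgroup.mem_bot, ← hy'', hy''g, map_zero]

end Ses

section Free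

variable {R : Type u} [CommRing R] (𝒜 : ℤ → AddSubgroup R) [GradedRing 𝒜] {n : ℕ} (e : Fin n → ℤ)

/-- the grading of the free module `Fin n → R` whose `b`-th basis vector has degree `e b` -/
def freeGr (g : ℤ) : AddSubgroup (Fin n → R) where
  carrier := {v | ∀ b, v b ∈ 𝒜 (g - e b)}
  zero_mem' := fun _ => zero_mem _
  add_mem' := fun hv hw b => add_mem (hv b) (hw b)
  neg_mem' := fun hv b => neg_mem (hv b)

omit [GradedRing 𝒜] in
theorem mem_freeGr {g : ℤ} {v : Fin n → R} : v ∈ freeGr 𝒜 e g ↔ ∀ b, v b ∈ 𝒜 (g - e b) := Iff.rfl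

omit [GradedRing 𝒜] in
theorem single_mem_freeGr (b : Fin n) {j : ℤ} {x : R} (hx : x ∈ 𝒜 j) :
    (Pi.single b x : Fin n → R) ∈ freeGr 𝒜 e (j + e b) := by
  intro b'
  by_cases h : b' = b
  · subst h
    rw [Pi.single_eq_same, add_sub_cancel_right]
    exact hx
  · rw [Pi.single_eq_of_ne h]
    exact zero_mem _

/-- the `b`-th coordinate embedding on pieces -/
def singlePiece (b : Fin n) (j : ℤ) : 𝒜 j →+ freeGr 𝒜 e (j + e b) where
  toFun x := ⟨Pi.single b (x : R), single_mem_freeGr 𝒜 e b x.2⟩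
  map_zero' := Subtype.ext (Pi.single_zero b)
  map_add' x y := Subtype.ext (by
    show (Pi.single b ((x + y : 𝒜 j) : R) : Fin n → R) = _
    rw [AddSubgroup.coe_add, Pi.single_add]
    rfl)

noncomputable def coordDec (b : Fin n) : R →+ DirectSum ℤ (fun g => freeGr 𝒜 e g) :=
  (DirectSum.toAddMonoid (fun j => (DirectSum.of (fun g => freeGr 𝒜 e g) (j + e b)).comp
    (singlePiece 𝒜 e b j))).comp (DirectSum.decomposeAddEquiv 𝒜).toAddMonoidHom

theorem coordDec_of_mem (b : Fin n) {j : ℤ} {x : R} (hx : x ∈ 𝒜 j) :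
    coordDec 𝒜 e b x = DirectSum.of (fun g => freeGr 𝒜 e g) (j + e b)
      ⟨Pi.single b x, single_mem_freeGr 𝒜 e b hx⟩ := by
  simp only [coordDec, AddMonoidHom.coe_comp, Function.comp_apply, AddEquiv.toAddMonoidHom_eq_coe,
    AddMonoidHom.coe_coe, DirectSum.decomposeAddEquiv_apply]
  rw [DirectSum.decompose_of_mem 𝒜 hx, DirectSum.toAddMonoid_of, AddMonoidHom.comp_apply]
  rfl

theorem coe_coordDec (b : Fin n) (x : R) :
    DirectSum.coeAddMonoidHom (freeGr 𝒜 e) (coordDec 𝒜 e b x) = Pi.single b x := by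
  induction x using DirectSum.Decomposition.inductionOn 𝒜 with
  | zero => rw [map_zero, map_zero, Pi.single_zero]
  | @homogeneous j y => rw [coordDec_of_mem 𝒜 e b y.2, DirectSum.coeAddMonoidHom_of]
  | add x y hx hy => rw [map_add, map_add, hx, hy, Pi.single_add]

noncomputable def freeDecHom : (Fin n → R) →+ DirectSum ℤ (fun g => freeGr 𝒜 e g) :=
  ∑ b, (coordDec 𝒜 e b).comp (Pi.evalAddMonoidHom (fun _ => R) b)

theorem freeDecHom_apply (v : Fin n → R) : freeDecHom 𝒜 e v = ∑ b, coordDec 𝒜 e b (v b) := by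
  simp only [freeDecHom, AddMonoidHom.coe_finsetSum, Finset.sum_apply, AddMonoidHom.coe_comp,
    Function.comp_apply, Pi.evalAddMonoidHom_apply]

omit [GradedRing 𝒜] in
theorem of_congr {j g : ℤ} (h : j = g) (x : Fin n → R) (hj : x ∈ freeGr 𝒜 e j) (hg : x ∈ freeGr 𝒜 e g) :
    DirectSum.of (fun g => freeGr 𝒜 e g) j ⟨x, hj⟩ = DirectSum.of (fun g => freeGr 𝒜 e g) g ⟨x, hg⟩ := by
  subst h
  rfl

noncomputable instance freeDecomposition : DirectSum.Decomposition (freeGr 𝒜 e) where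
  decompose' := freeDecHom 𝒜 e
  left_inv v := by
    rw [freeDecHom_apply, map_sum]
    simp only [coe_coordDec]
    exact Finset.univ_sum_single v
  right_inv z := by
    induction z using DirectSum.induction_on with
    | zero => simp
    | of g w =>
      rw [DirectSum.coeAddMonoidHom_of, freeDecHom_apply]
      have h1 : ∀ b, coordDec 𝒜 e b ((w : Fin n → R) b) = DirectSum.of (fun g => freeGr 𝒜 e g) g
          ⟨Pi.single b ((w : Fin n → R) b), by
            have := single_mem_freeGr 𝒜 e b (w.2 b)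
            rwa [sub_add_cancel] at this⟩ := by
        intro b
        rw [coordDec_of_mem 𝒜 e b (w.2 b)]
        exact of_congr 𝒜 e (sub_add_cancel g (e b)) _ _ _
      rw [Finset.sum_congr rfl (fun b _ => h1 b), ← map_sum]
      congr 1
      apply Subtype.ext
      rw [AddSubgroup.val_finsetSum]
      exact Finset.univ_sum_single (w : Fin n → R)
    | add x y hx hy => rw [map_add, map_add, hx, hy]

instance free_gradedSMul : SetLike.GradedSMul 𝒜 (freeGr 𝒜 e) where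
  smul_mem := by
    intro i j r v hr hv b
    have h1 : r * v b ∈ 𝒜 (i + (j - e b)) := SetLike.GradedMul.mul_mem hr (hv b)
    have h2 : i + (j - e b) = i + j - e b := by ring
    rw [h2] at h1
    exact h1

end Free

section LCReg

variable {R : Type u} [CommRing R] {𝒜 : ℤ → AddSubgroup R} [GradedRing 𝒜]

/-- local-cohomological regularity at most `c`: `H^j_a(N)_g = 0` for `g > c - j`, for every
*injective resolution -/
def LCReg (a : HomogeneousIdeal 𝒜) {N : Type u} [AddCommGroup N] [Module R N] (𝒩 : ℤ → AddSubgroup N)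
    [DirectSum.Decomposition 𝒩] [SetLike.GradedSMul 𝒜 𝒩] (c : ℤ) : Prop :=
  ∀ (E : StarInjRes 𝒜 𝒩) (j : ℕ) (g : ℤ), c - j < g → E.Hgr a j g = ⊥

theorem LCReg.mono {a : HomogeneousIdeal 𝒜} {N : Type u} [AddCommGroup N] [Module R N]
    {𝒩 : ℤ → AddSubgroup N} [DirectSum.Decomposition 𝒩] [SetLike.GradedSMul 𝒜 𝒩] {c c' : ℤ}
    (h : LCReg a 𝒩 c) (hc : c ≤ c') : LCReg a 𝒩 c' :=
  fun E j g hg => h E j g (by omega)

end LCReg

end Groth.Agent.Lib.helper19.GrReg
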