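import Mathlib
import Groth.Prelude.Def_GrLC
import Groth.Prelude.Def_GrSyz
import Groth.Agent.Lib.Helper19.GrReg1
import Groth.Agent.Lib.Helper19.GrFin3
import Groth.Agent.Lib.Helper19.LCGroth
import Groth.Agent.Lib.Helper7.GrSyzBasic

/-!
# Local-cohomological regularity of graded modules (helper19), part 2

* `lcreg_of_bijective`, `lcreg_of_subsingleton`, `lcreg_shift`, `lcreg_free`
* for a graded free resolution `F` (matrix form, `GrSyz.FreeRes`) over gradings by additive subgroups: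
  `augLin_isGrHom`, `dLin_isGrHom`, the first syzygy module `syzGr F` and the resolution `tail F` of it
-/

set_option autoImplicit false
universe u

namespace Groth.Agent.Lib.helper19.GrReg

open GrLC Groth.Agent.Lib.helper19.GrMod Groth.Agent.Lib.helper19.GrLes Groth.Agent.Lib.helper19.GrShift

section Basic

variable {R : Type u} [CommRing R] [IsNoetherianRing R] {𝒜 : ℤ → AddSubgroup R} [GradedRing 𝒜]
  (a : HomogeneousIdeal 𝒜)
variable {M : Type u} [AddCommGroup M] [Module R M] {ℳ : ℤ → AddSubgroup M}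
  [DirectSum.Decomposition ℳ] [SetLike.GradedSMul 𝒜 ℳ]
variable {N : Type u} [AddCommGroup N] [Module R N] {𝒩 : ℤ → AddSubgroup N}
  [DirectSum.Decomposition 𝒩] [SetLike.GradedSMul 𝒜 𝒩]

theorem lcreg_of_bijective (π : M →ₗ[R] N) (hπ : IsGrHom ℳ 𝒩 π) (hbij : Function.Bijective π) (c : ℤ)
    (h : LCReg a ℳ c) : LCReg a 𝒩 c := by
  intro F j g hg
  obtain ⟨E⟩ := Groth.Agent.S13215.result R 𝒜 M ℳ
  exact (Hgr_eq_bot_iff_of_bijective E F π hπ hbij a j g).1 (h E j g hg)

theorem Hgr_eq_bot_of_subsingleton [Subsingleton M] (E : StarInjRes 𝒜 ℳ) (j : ℕ) (g : ℤ) :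
    E.Hgr a j g = ⊥ := by
  obtain ⟨e⟩ := Groth.Agent.S13224.result R 𝒜 a M ℳ E j
  have : Subsingleton (LocCoh.H a.toIdeal j M) :=
    Groth.Agent.Lib.helper19.LCGroth.H_subsingleton_of_subsingleton a.toIdeal j M
  haveI : Subsingleton (E.H a j) := e.toEquiv.subsingleton
  exact eq_bot_of_subsingleton E a j g

theorem lcreg_of_subsingleton [Subsingleton M] (c : ℤ) : LCReg a ℳ c :=
  fun E j g _ => Hgr_eq_bot_of_subsingleton a E j g

theorem lcreg_shift (e : ℤ) [DirectSum.Decomposition (shiftPiece ℳ (-e))]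
    [SetLike.GradedSMul 𝒜 (shiftPiece ℳ (-e))] (c : ℤ) (h : LCReg a ℳ c) :
    LCReg a (shiftPiece ℳ (-e)) (c + e) := by
  intro F j g hg
  obtain ⟨E⟩ := Groth.Agent.S13215.result R 𝒜 M ℳ
  rw [Hgr_indep F (shiftRes E (-e)) a j g]
  have h1 := h E j (g + -e) (by omega)
  rw [eq_bot_iff] at h1 ⊢
  intro y hy
  have h2 : y ∈ E.Hgr a j (g + -e) := (mem_shiftRes_Hgr a E (-e) j g y).1 hy
  exact h1 h2

end Basic

section FreeReg

variable {R : Type u} [CommRing R] [IsNoetherianRing R] {𝒜 : ℤ → AddSubgroup R} [GradedRing 𝒜]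
  (a : HomogeneousIdeal 𝒜)

/-- graded free modules with generators in degrees `≤ c` have regularity `≤ c` when the ring has
regularity `≤ 0` -/
theorem lcreg_free (hR : LCReg a 𝒜 0) : ∀ (n : ℕ) (e : Fin n → ℤ) (c : ℤ), (∀ b, e b ≤ c) →
    LCReg a (freeGr 𝒜 e) c := by
  intro n
  induction n with
  | zero =>
    intro e c _
    exact lcreg_of_subsingleton a c
  | succ n ih =>
    intro e c he
    letI : DirectSum.Decomposition (shiftPiece 𝒜 (-(e 0))) := shiftDecomposition 𝒜 (-(e 0))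
    haveI : SetLike.GradedSMul 𝒜 (shiftPiece 𝒜 (-(e 0))) := shift_gradedSMul 𝒜 𝒜 (-(e 0))
    let i : R →ₗ[R] (Fin (n + 1) → R) := LinearMap.single R (fun _ : Fin (n + 1) => R) 0
    let p : (Fin (n + 1) → R) →ₗ[R] (Fin n → R) := LinearMap.funLeft R R Fin.succ
    have hi : IsGrHom (shiftPiece 𝒜 (-(e 0))) (freeGr 𝒜 e) i := by
      intro g x hx
      have hx' : x ∈ 𝒜 (g + -(e 0)) := hx
      have h1 := single_mem_freeGr 𝒜 e 0 hx'
      rw [neg_add_cancel_right] at h1
      exact h1
    have hp : IsGrHom (freeGr 𝒜 e) (freeGr 𝒜 (fun b => e b.succ)) p := by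
      intro g v hv b
      exact hv b.succ
    have hinj : Function.Injective i := by
      intro x y hxy
      have h1 := congrFun hxy 0
      simpa [i] using h1
    have hsurj : Function.Surjective p := by
      intro w
      refine ⟨Fin.cons 0 w, ?_⟩
      funext b
      show (Fin.cons 0 w : Fin (n + 1) → R) b.succ = w b
      rw [Fin.cons_succ]
    have hex : LinearMap.ker p = LinearMap.range i := by
      ext v
      rw [LinearMap.mem_ker, LinearMap.mem_range]
      constructor
      · intro hv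
        refine ⟨v 0, ?_⟩
        funext b
        refine Fin.cases ?_ (fun b' => ?_) b
        · show (Pi.single 0 (v 0) : Fin (n + 1) → R) 0 = v 0
          rw [Pi.single_eq_same]
        · show (Pi.single 0 (v 0) : Fin (n + 1) → R) b'.succ = v b'.succ
          rw [Pi.single_eq_of_ne (Fin.succ_ne_zero b')]
          exact (congrFun hv b').symm
      · rintro ⟨x, rfl⟩
        funext b
        show (Pi.single 0 x : Fin (n + 1) → R) b.succ = 0
        rw [Pi.single_eq_of_ne (Fin.succ_ne_zero b)]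
    intro E j g hg
    obtain ⟨E'⟩ := Groth.Agent.S13215.result R 𝒜 R (shiftPiece 𝒜 (-(e 0)))
    obtain ⟨E''⟩ := Groth.Agent.S13215.result R 𝒜 (Fin n → R) (freeGr 𝒜 (fun b => e b.succ))
    have h' : LCReg a (shiftPiece 𝒜 (-(e 0))) c :=
      (lcreg_shift a (e 0) 0 hR).mono (by have := he 0; omega)
    exact ses_mid i p hi hp hinj hsurj hex E' E E'' a j g (h' E' j g hg)
      (ih (fun b => e b.succ) c (fun b => he b.succ) E'' j g hg)

end FreeReg

section Res

variable {R : Type u} [CommRing R] {𝒜 : ℤ → AddSubgroup R} [GradedRing 𝒜]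
variable {M : Type u} [AddCommGroup M] [Module R M] {ℳ : ℤ → AddSubgroup M}
  [DirectSum.Decomposition ℳ] [SetLike.GradedSMul 𝒜 ℳ]
variable (F : GrSyz.FreeRes 𝒜 ℳ)

theorem augLin_isGrHom : IsGrHom (freeGr 𝒜 (F.deg 0)) ℳ F.augLin := by
  intro g v hv
  show Fintype.linearCombination R F.aug v ∈ ℳ g
  rw [Fintype.linearCombination_apply]
  apply sum_mem
  intro b _
  have h1 := smul_mem_add 𝒜 ℳ (hv b) (F.aug_mem b)
  rwa [sub_add_cancel] at h1

theorem dLin_isGrHom (i : ℕ) : IsGrHom (freeGr 𝒜 (F.deg (i + 1))) (freeGr 𝒜 (F.deg i)) (F.dLin i) := by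
  intro g v hv b'
  show (F.d i).mulVec v b' ∈ 𝒜 (g - F.deg i b')
  rw [Matrix.mulVec, dotProduct]
  apply sum_mem
  intro b _
  have h1 : F.d i b' b * v b ∈ 𝒜 (F.deg (i + 1) b - F.deg i b' + (g - F.deg (i + 1) b)) :=
    SetLike.GradedMul.mul_mem (F.d_mem i b' b) (hv b)
  have h2 : F.deg (i + 1) b - F.deg i b' + (g - F.deg (i + 1) b) = g - F.deg i b' := by ring
  rwa [h2] at h1

/-- the grading of the first syzygy module -/
def syzGr : ℤ → AddSubgroup (LinearMap.ker F.augLin) :=
  subPiece (freeGr 𝒜 (F.deg 0)) (LinearMap.ker F.augLin)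

theorem mem_syzGr {g : ℤ} {z : LinearMap.ker F.augLin} :
    z ∈ syzGr F g ↔ (z : Fin (F.rk 0) → R) ∈ freeGr 𝒜 (F.deg 0) g := Iff.rfl

theorem ker_aug_isHomogeneous : (LinearMap.ker F.augLin).IsHomogeneous (freeGr 𝒜 (F.deg 0)) :=
  ker_isHomogeneous (freeGr 𝒜 (F.deg 0)) ℳ F.augLin (augLin_isGrHom F)

noncomputable instance syzDecomposition : DirectSum.Decomposition (syzGr F) :=
  subDecomposition (freeGr 𝒜 (F.deg 0)) (LinearMap.ker F.augLin) (ker_aug_isHomogeneous F)

instance syzGradedSMul : SetLike.GradedSMul 𝒜 (syzGr F) :=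
  sub_gradedSMul 𝒜 (freeGr 𝒜 (F.deg 0)) (LinearMap.ker F.augLin)

theorem subtype_syz_isGrHom : IsGrHom (syzGr F) (freeGr 𝒜 (F.deg 0)) (LinearMap.ker F.augLin).subtype :=
  fun _ _ hz => hz

theorem dLin_single_mem_ker (b : Fin (F.rk 1)) : F.dLin 0 (Pi.single b 1) ∈ LinearMap.ker F.augLin := by
  rw [F.exact_zero]
  exact ⟨_, rfl⟩

/-- the images of the basis vectors of `F_1` in the first syzygy module -/
noncomputable def tailAug (b : Fin (F.rk 1)) : LinearMap.ker F.augLin :=
  ⟨F.dLin 0 (Pi.single b 1), dLin_single_mem_ker F b⟩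

theorem subtype_comp_tailAug : (LinearMap.ker F.augLin).subtype ∘ₗ
    Fintype.linearCombination R (tailAug F) = F.dLin 0 := by
  ext b b'
  simp only [LinearMap.coe_comp, Function.comp_apply, LinearMap.coe_single,
    Fintype.linearCombination_apply_single, one_smul, Submodule.coe_subtype]
  rfl

theorem coe_linearCombination_tailAug (w : Fin (F.rk 1) → R) :
    ((Fintype.linearCombination R (tailAug F) w : LinearMap.ker F.augLin) : Fin (F.rk 0) → R) =
      F.dLin 0 w :=
  LinearMap.congr_fun (subtype_comp_tailAug F) w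

/-- the tail of a graded free resolution: a graded free resolution of the first syzygy module -/
noncomputable def tail : GrSyz.FreeRes 𝒜 (syzGr F) where
  rk i := F.rk (i + 1)
  deg i := F.deg (i + 1)
  d i := F.d (i + 1)
  aug := tailAug F
  d_mem i := F.d_mem (i + 1)
  aug_mem b := by
    show F.dLin 0 (Pi.single b 1) ∈ freeGr 𝒜 (F.deg 0) (F.deg 1 b)
    apply dLin_isGrHom F 0
    have h1 := single_mem_freeGr 𝒜 (F.deg (0 + 1)) b (SetLike.GradedOne.one_mem (A := 𝒜))
    have h2 : (0 : ℤ) + F.deg (0 + 1) b = F.deg (0 + 1) b := zero_add _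
    rw [h2] at h1
    exact h1
  aug_surjective := by
    rintro ⟨v, hv⟩
    have hv' : v ∈ LinearMap.range (F.dLin 0) := by
      rw [← F.exact_zero]
      exact hv
    obtain ⟨w, rfl⟩ := hv'
    exact ⟨w, Subtype.ext (coe_linearCombination_tailAug F w)⟩
  exact_zero := by
    rw [← F.exact_succ 0]
    ext w
    rw [LinearMap.mem_ker, LinearMap.mem_ker, ← coe_linearCombination_tailAug F w]
    constructor
    · intro h
      rw [h]
      rfl
    · intro h
      exact Subtype.ext h
  exact_succ i := F.exact_succ (i + 1)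

theorem tail_deg (i : ℕ) (b : Fin (F.rk (i + 1))) : (tail F).deg i b = F.deg (i + 1) b := rfl

theorem tail_isGenLE {d : ℤ} (h : F.IsGenLE d) : (tail F).IsGenLE (d + 1) := by
  intro i b
  have h1 := h (i + 1) b
  show F.deg (i + 1) b ≤ d + 1 + i
  push_cast at h1
  omega

theorem tail_isMinimal {𝔪 : Ideal R} (h : F.IsMinimal 𝔪) : (tail F).IsMinimal 𝔪 :=
  fun i a b => h (i + 1) a b

end Res

end Groth.Agent.Lib.helper19.GrReg
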