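import Mathlib
import Groth.Prelude.Def_GrLC
import Groth.Agent.Lib.Helper19.GrMod
import Groth.Agent.Lib.Helper19.GrShift
import Groth.Agent.Lib.Helper19.GrLes1

/-!
# Koszul-type cones of complexes of graded modules (helper19), part 1

`PCx 𝒜` : a (pre-)complex of bundled graded modules `X 0 → X 1 → ⋯`; spot `0` is a padding term (zero
module), so the cohomology at spot `n+1` is the `n`-th cohomology.
`Hv Y 𝔞 n g` : the degree-`g` piece of the `n`-th cohomology of `Γ_𝔞(Y)` vanishes.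
`cone Y x k` : the (shifted) mapping cone of `x : Y → Y(k)`, i.e. `Y ⊗ K^•(x)`, with terms
`Y^n × Y^{n-1}(k)` and differential `(a, b) ↦ (da, xa - db)`.
The long exact sequence of the cone at the level of graded pieces (`les1_zero`, `les1_succ`, `les2`),
and null-homotopies of multiplications on the cone.
-/

set_option autoImplicit false
universe u

namespace Groth.Agent.Lib.helper19.Kz

open GrLC Groth.Agent.Lib.helper19.GrMod Groth.Agent.Lib.helper19.GrShift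
  Groth.Agent.Lib.helper19.GrLes

section Basic

variable {ι : Type} [AddCommGroup ι] [DecidableEq ι]
variable {R : Type u} [CommRing R] {𝒜 : ι → AddSubgroup R} [GradedRing 𝒜]

/-- the product of two bundled graded modules -/
noncomputable def prodGMod (A B : GMod.{u} 𝒜) : GMod.{u} 𝒜 :=
  { carrier := A.carrier × B.carrier
    gr := prodPiece A.gr B.gr }

/-- pre-complex of graded modules (spot 0 is a padding term) -/
structure PCx (𝒜 : ι → AddSubgroup R) [GradedRing 𝒜] : Type (u + 1) where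
  /-- the terms -/
  X : ℕ → GMod.{u} 𝒜
  /-- the differentials -/
  d : ∀ n : ℕ, (X n).carrier →ₗ[R] (X (n + 1)).carrier

namespace PCx

variable (Y : PCx 𝒜)

/-- `d ∘ d = 0` -/
def IsCx : Prop := ∀ (n : ℕ) (z : (Y.X n).carrier), Y.d (n + 1) (Y.d n z) = 0

/-- the differentials are homogeneous -/
def IsGr : Prop := ∀ n : ℕ, IsGrHom (Y.X n).gr (Y.X (n + 1)).gr (Y.d n)

/-- the padding term is zero -/
def Pad : Prop := Subsingleton (Y.X 0).carrier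

/-- all terms are *injective -/
def StarInj : Prop := ∀ n : ℕ, IsStarInj 𝒜 (Y.X n).gr

/-- vanishing of the degree-`g` piece of the `n`-th cohomology of `Γ_𝔞(Y)` (computed at spot `n+1`) -/
def Hv (𝔞 : Ideal R) (n : ℕ) (g : ι) : Prop :=
  ∀ z : (Y.X (n + 1)).carrier, z ∈ (Y.X (n + 1)).gr g → z ∈ gam 𝔞 (Y.X (n + 1)).carrier →
    Y.d (n + 1) z = 0 →
    ∃ w : (Y.X n).carrier, w ∈ (Y.X n).gr g ∧ w ∈ gam 𝔞 (Y.X n).carrier ∧ Y.d n w = z

/-- multiplication by `x` is null-homotopic -/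
def NullH (x : R) : Prop :=
  ∃ h : ∀ n : ℕ, (Y.X (n + 1)).carrier →ₗ[R] (Y.X n).carrier,
    ∀ (n : ℕ) (z : (Y.X (n + 1)).carrier), x • z = Y.d n (h n z) + h (n + 1) (Y.d (n + 1) z)

/-- the terms of the complex `Y[-1](k)` -/
noncomputable def shX (k : ι) : ℕ → GMod.{u} 𝒜
  | 0 => Y.X 0
  | n + 1 => shiftGMod 𝒜 (Y.X n) k

/-- the differentials of the complex `Y[-1](k)` -/
noncomputable def shd (k : ι) : ∀ n : ℕ, (Y.shX k n).carrier →ₗ[R] (Y.shX k (n + 1)).carrier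
  | 0 => 0
  | n + 1 => Y.d n

/-- multiplication by `x` as a map `Y^n → Y[-1](k)^{n+1} = Y^n` -/
noncomputable def mulTo (x : R) (k : ι) (n : ℕ) : (Y.X n).carrier →ₗ[R] (Y.shX k (n + 1)).carrier :=
  x • (LinearMap.id : (Y.X n).carrier →ₗ[R] (Y.X n).carrier)

/-- the cone `Y ⊗ K^•(x)` -/
noncomputable def cone (x : R) (k : ι) : PCx 𝒜 where
  X n := prodGMod (Y.X n) (Y.shX k n)
  d n := LinearMap.prod ((Y.d n) ∘ₗ LinearMap.fst R (Y.X n).carrier (Y.shX k n).carrier)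
    ((Y.mulTo x k n) ∘ₗ LinearMap.fst R (Y.X n).carrier (Y.shX k n).carrier -
      (Y.shd k n) ∘ₗ LinearMap.snd R (Y.X n).carrier (Y.shX k n).carrier)

/-- an element of the spot-`0` term of the cone -/
def mk0 (x : R) (k : ι) (a b : (Y.X 0).carrier) : ((Y.cone x k).X 0).carrier := (a, b)

/-- an element of the spot-`n+1` term of the cone -/
def mkS (x : R) (k : ι) (n : ℕ) (a : (Y.X (n + 1)).carrier) (b : (Y.X n).carrier) :
    ((Y.cone x k).X (n + 1)).carrier := (a, b)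

/-- first component -/
def fstC (x : R) (k : ι) (n : ℕ) (z : ((Y.cone x k).X n).carrier) : (Y.X n).carrier := z.1

/-- second component at spot `n+1` -/
def sndS (x : R) (k : ι) (n : ℕ) (z : ((Y.cone x k).X (n + 1)).carrier) : (Y.X n).carrier := z.2

/-- second component at spot `0` -/
def snd0 (x : R) (k : ι) (z : ((Y.cone x k).X 0).carrier) : (Y.X 0).carrier := z.2

theorem mkS_fstC_sndS (x : R) (k : ι) (n : ℕ) (z : ((Y.cone x k).X (n + 1)).carrier) :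
    Y.mkS x k n (Y.fstC x k (n + 1) z) (Y.sndS x k n z) = z := rfl

theorem mk0_fstC_snd0 (x : R) (k : ι) (z : ((Y.cone x k).X 0).carrier) :
    Y.mk0 x k (Y.fstC x k 0 z) (Y.snd0 x k z) = z := rfl

theorem fstC_mkS (x : R) (k : ι) (n : ℕ) (a : (Y.X (n + 1)).carrier) (b : (Y.X n).carrier) :
    Y.fstC x k (n + 1) (Y.mkS x k n a b) = a := rfl

theorem sndS_mkS (x : R) (k : ι) (n : ℕ) (a : (Y.X (n + 1)).carrier) (b : (Y.X n).carrier) :
    Y.sndS x k n (Y.mkS x k n a b) = b := rfl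

theorem mkS_eq_zero_iff (x : R) (k : ι) (n : ℕ) (a : (Y.X (n + 1)).carrier) (b : (Y.X n).carrier) :
    Y.mkS x k n a b = 0 ↔ a = 0 ∧ b = 0 := by
  constructor
  · intro h
    exact ⟨congrArg (Y.fstC x k (n + 1)) h, congrArg (Y.sndS x k n) h⟩
  · rintro ⟨rfl, rfl⟩
    rfl

theorem mkS_inj (x : R) (k : ι) (n : ℕ) {a a' : (Y.X (n + 1)).carrier} {b b' : (Y.X n).carrier}
    (h : Y.mkS x k n a b = Y.mkS x k n a' b') : a = a' ∧ b = b' :=
  ⟨congrArg (Y.fstC x k (n + 1)) h, congrArg (Y.sndS x k n) h⟩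

theorem cone_d_zero (x : R) (k : ι) (a b : (Y.X 0).carrier) :
    (Y.cone x k).d 0 (Y.mk0 x k a b) = Y.mkS x k 0 (Y.d 0 a) (x • a) := by
  apply Prod.ext
  · rfl
  · show x • a - (0 : (Y.X 0).carrier) = x • a
    rw [sub_zero]

theorem cone_d_succ (x : R) (k : ι) (n : ℕ) (a : (Y.X (n + 1)).carrier) (b : (Y.X n).carrier) :
    (Y.cone x k).d (n + 1) (Y.mkS x k n a b) = Y.mkS x k (n + 1) (Y.d (n + 1) a) (x • a - Y.d n b) := rfl

theorem mem_gr_mk0 (x : R) (k : ι) (g : ι) (a b : (Y.X 0).carrier) :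
    Y.mk0 x k a b ∈ ((Y.cone x k).X 0).gr g ↔ a ∈ (Y.X 0).gr g ∧ b ∈ (Y.X 0).gr g := Iff.rfl

theorem mem_gr_mkS (x : R) (k : ι) (n : ℕ) (g : ι) (a : (Y.X (n + 1)).carrier) (b : (Y.X n).carrier) :
    Y.mkS x k n a b ∈ ((Y.cone x k).X (n + 1)).gr g ↔ a ∈ (Y.X (n + 1)).gr g ∧ b ∈ (Y.X n).gr (g + k) :=
  Iff.rfl

theorem mem_gam_mk0 (x : R) (k : ι) (𝔞 : Ideal R) (a b : (Y.X 0).carrier) :
    Y.mk0 x k a b ∈ gam 𝔞 ((Y.cone x k).X 0).carrier ↔
      a ∈ gam 𝔞 (Y.X 0).carrier ∧ b ∈ gam 𝔞 (Y.X 0).carrier :=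
  gam_prod_iff 𝔞 (X := (Y.X 0).carrier) (Y := (Y.X 0).carrier) (a, b)

theorem mem_gam_mkS (x : R) (k : ι) (n : ℕ) (𝔞 : Ideal R) (a : (Y.X (n + 1)).carrier)
    (b : (Y.X n).carrier) :
    Y.mkS x k n a b ∈ gam 𝔞 ((Y.cone x k).X (n + 1)).carrier ↔
      a ∈ gam 𝔞 (Y.X (n + 1)).carrier ∧ b ∈ gam 𝔞 (Y.X n).carrier :=
  gam_prod_iff 𝔞 (X := (Y.X (n + 1)).carrier) (Y := (Y.X n).carrier) (a, b)

theorem cone_isCx (x : R) (k : ι) (hY : Y.IsCx) : (Y.cone x k).IsCx := by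
  intro n z
  cases n with
  | zero =>
    rw [← Y.mk0_fstC_snd0 x k z, cone_d_zero, cone_d_succ, mkS_eq_zero_iff]
    refine ⟨hY 0 _, ?_⟩
    rw [map_smul, sub_self]
  | succ m =>
    rw [← Y.mkS_fstC_sndS x k m z, cone_d_succ, cone_d_succ, mkS_eq_zero_iff]
    refine ⟨hY (m + 1) _, ?_⟩
    rw [map_sub, map_smul, hY m, sub_zero, sub_self]

theorem cone_pad (x : R) (k : ι) (hY : Y.Pad) : (Y.cone x k).Pad := by
  have : Subsingleton (Y.X 0).carrier := hY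
  show Subsingleton ((Y.X 0).carrier × (Y.X 0).carrier)
  infer_instance

omit [DecidableEq ι] in
theorem smul_mem_add_right {M : Type u} [AddCommGroup M] [Module R M] (ℳ : ι → AddSubgroup M)
    [SetLike.GradedSMul 𝒜 ℳ] {x : R} {k g : ι} (hx : x ∈ 𝒜 k) {m : M} (hm : m ∈ ℳ g) :
    x • m ∈ ℳ (g + k) := by
  have h := smul_mem_add 𝒜 ℳ hx hm
  rwa [add_comm k g] at h

theorem cone_isGr {x : R} {k : ι} (hx : x ∈ 𝒜 k) (hY : Y.IsGr) : (Y.cone x k).IsGr := by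
  intro n g z hz
  cases n with
  | zero =>
    rw [← Y.mk0_fstC_snd0 x k z] at hz ⊢
    rw [mem_gr_mk0] at hz
    rw [cone_d_zero, mem_gr_mkS]
    exact ⟨hY 0 g _ hz.1, smul_mem_add_right (Y.X 0).gr hx hz.1⟩
  | succ m =>
    rw [← Y.mkS_fstC_sndS x k m z] at hz ⊢
    rw [mem_gr_mkS] at hz
    rw [cone_d_succ, mem_gr_mkS]
    exact ⟨hY (m + 1) g _ hz.1,
      sub_mem (smul_mem_add_right (Y.X (m + 1)).gr hx hz.1) (hY m (g + k) _ hz.2)⟩

/-- first exactness property of the cone sequence, in cohomological degree `0` -/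
theorem les1_zero (x : R) (k : ι) (hP : Y.Pad) (𝔞 : Ideal R) (g : ι) (h1 : Y.Hv 𝔞 0 g) :
    (Y.cone x k).Hv 𝔞 0 g := by
  have : Subsingleton (Y.X 0).carrier := hP
  intro z hz hzΓ hdz
  rw [← Y.mkS_fstC_sndS x k 0 z] at hz hzΓ hdz ⊢
  rw [mem_gr_mkS] at hz
  rw [mem_gam_mkS] at hzΓ
  rw [cone_d_succ, mkS_eq_zero_iff] at hdz
  obtain ⟨a', ha', ha'Γ, ha'd⟩ := h1 _ hz.1 hzΓ.1 hdz.1
  refine ⟨Y.mk0 x k a' 0, ?_, ?_, ?_⟩
  · rw [mem_gr_mk0]
    exact ⟨ha', zero_mem _⟩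
  · rw [mem_gam_mk0]
    exact ⟨ha'Γ, zero_mem _⟩
  · rw [cone_d_zero, ha'd]
    congr 1
    exact Subsingleton.elim _ _

/-- first exactness property of the cone sequence, in positive cohomological degrees -/
theorem les1_succ {x : R} {k : ι} (hx : x ∈ 𝒜 k) (𝔞 : Ideal R) (m : ℕ) (g : ι)
    (h1 : Y.Hv 𝔞 (m + 1) g) (h2 : Y.Hv 𝔞 m (g + k)) : (Y.cone x k).Hv 𝔞 (m + 1) g := by
  intro z hz hzΓ hdz
  rw [← Y.mkS_fstC_sndS x k (m + 1) z] at hz hzΓ hdz ⊢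
  generalize Y.fstC x k (m + 1 + 1) z = a at hz hzΓ hdz ⊢
  generalize Y.sndS x k (m + 1) z = b at hz hzΓ hdz ⊢
  rw [mem_gr_mkS] at hz
  rw [mem_gam_mkS] at hzΓ
  rw [cone_d_succ, mkS_eq_zero_iff] at hdz
  obtain ⟨hd1, hd2⟩ := hdz
  obtain ⟨a', ha', ha'Γ, ha'd⟩ := h1 a hz.1 hzΓ.1 hd1
  have hxa' : x • a' ∈ (Y.X (m + 1)).gr (g + k) := smul_mem_add_right (Y.X (m + 1)).gr hx ha'
  have hb' : b - x • a' ∈ (Y.X (m + 1)).gr (g + k) := sub_mem hz.2 hxa'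
  have hb'Γ : b - x • a' ∈ gam 𝔞 (Y.X (m + 1)).carrier :=
    sub_mem hzΓ.2 (Submodule.smul_mem _ _ ha'Γ)
  have hb'd : Y.d (m + 1) (b - x • a') = 0 := by
    rw [map_sub, map_smul, ha'd]
    rw [sub_eq_zero] at hd2
    rw [hd2, sub_self]
  obtain ⟨b'', hb'', hb''Γ, hb''d⟩ := h2 _ hb' hb'Γ hb'd
  refine ⟨Y.mkS x k m a' (-b''), ?_, ?_, ?_⟩
  · rw [mem_gr_mkS]
    exact ⟨ha', neg_mem hb''⟩
  · rw [mem_gam_mkS]
    exact ⟨ha'Γ, neg_mem hb''Γ⟩
  · rw [cone_d_succ, ha'd, map_neg, hb''d]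
    congr 1
    abel

/-- second exactness property of the cone sequence -/
theorem les2 {x : R} {k : ι} (hx : x ∈ 𝒜 k) (𝔞 : Ideal R) (n : ℕ) (g : ι)
    (h1 : Y.Hv 𝔞 n g) (h2 : (Y.cone x k).Hv 𝔞 (n + 1) g) : Y.Hv 𝔞 n (g + k) := by
  intro b hb hbΓ hdb
  have hz : Y.mkS x k (n + 1) 0 b ∈ ((Y.cone x k).X (n + 2)).gr g := by
    rw [mem_gr_mkS]
    exact ⟨zero_mem _, hb⟩
  have hzΓ : Y.mkS x k (n + 1) 0 b ∈ gam 𝔞 ((Y.cone x k).X (n + 2)).carrier := by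
    rw [mem_gam_mkS]
    exact ⟨zero_mem _, hbΓ⟩
  have hdz : (Y.cone x k).d (n + 2) (Y.mkS x k (n + 1) 0 b) = 0 := by
    rw [cone_d_succ, mkS_eq_zero_iff]
    refine ⟨map_zero _, ?_⟩
    rw [smul_zero, hdb, sub_zero]
  obtain ⟨w, hw, hwΓ, hwd⟩ := h2 _ hz hzΓ hdz
  rw [← Y.mkS_fstC_sndS x k n w] at hw hwΓ hwd
  generalize Y.fstC x k (n + 1) w = a' at hw hwΓ hwd
  generalize Y.sndS x k n w = b' at hw hwΓ hwd
  rw [mem_gr_mkS] at hw
  rw [mem_gam_mkS] at hwΓ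
  rw [cone_d_succ] at hwd
  obtain ⟨hd1, hd2⟩ := Y.mkS_inj x k (n + 1) hwd
  obtain ⟨a'', ha'', ha''Γ, ha''d⟩ := h1 a' hw.1 hwΓ.1 hd1
  have hxa'' : x • a'' ∈ (Y.X n).gr (g + k) := smul_mem_add_right (Y.X n).gr hx ha''
  refine ⟨x • a'' - b', sub_mem hxa'' hw.2, sub_mem (Submodule.smul_mem _ _ ha''Γ) hwΓ.2, ?_⟩
  rw [map_sub, map_smul, ha''d, hd2]

/-- multiplication by `x` is null-homotopic on the cone of `x` -/
theorem cone_nullH_self (x : R) (k : ι) : (Y.cone x k).NullH x := by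
  refine ⟨fun n => LinearMap.prod
    (LinearMap.snd R (Y.X (n + 1)).carrier (Y.X n).carrier) 0, ?_⟩
  intro n z
  rw [← Y.mkS_fstC_sndS x k n z]
  generalize Y.fstC x k (n + 1) z = a
  generalize Y.sndS x k n z = b
  rw [cone_d_succ]
  cases n with
  | zero =>
    show x • Y.mkS x k 0 a b = (Y.cone x k).d 0 (Y.mk0 x k b 0) + Y.mkS x k 0 (x • a - Y.d 0 b) 0
    rw [cone_d_zero]
    apply Prod.ext
    · show x • a = Y.d 0 b + (x • a - Y.d 0 b)
      abel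
    · show x • b = x • b + 0
      rw [add_zero]
  | succ m =>
    show x • Y.mkS x k (m + 1) a b =
      (Y.cone x k).d (m + 1) (Y.mkS x k m b 0) + Y.mkS x k (m + 1) (x • a - Y.d (m + 1) b) 0
    rw [cone_d_succ]
    apply Prod.ext
    · show x • a = Y.d (m + 1) b + (x • a - Y.d (m + 1) b)
      abel
    · show x • b = (x • b - Y.d m 0) + 0
      rw [map_zero, sub_zero, add_zero]

/-- a null-homotopy of `y` on `Y` induces one on the cone -/
theorem cone_nullH_of (x : R) (k : ι) (hP : Y.Pad) {y : R} (hy : Y.NullH y) : (Y.cone x k).NullH y := by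
  have : Subsingleton (Y.X 0).carrier := hP
  obtain ⟨h, hh⟩ := hy
  let hs : ∀ n : ℕ, (Y.shX k (n + 1)).carrier →ₗ[R] (Y.shX k n).carrier := fun n =>
    match n with
    | 0 => 0
    | m + 1 => h m
  refine ⟨fun n => LinearMap.prod
    ((h n) ∘ₗ LinearMap.fst R (Y.X (n + 1)).carrier (Y.shX k (n + 1)).carrier)
    (-((hs n) ∘ₗ LinearMap.snd R (Y.X (n + 1)).carrier (Y.shX k (n + 1)).carrier)), ?_⟩
  intro n z
  rw [← Y.mkS_fstC_sndS x k n z]
  generalize Y.fstC x k (n + 1) z = a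
  generalize Y.sndS x k n z = b
  rw [cone_d_succ]
  cases n with
  | zero =>
    show y • Y.mkS x k 0 a b = (Y.cone x k).d 0 (Y.mk0 x k (h 0 a) (-0)) +
      Y.mkS x k 0 (h 1 (Y.d 1 a)) (-(h 0 (x • a - Y.d 0 b)))
    rw [cone_d_zero]
    apply Prod.ext
    · show y • a = Y.d 0 (h 0 a) + h 1 (Y.d 1 a)
      exact hh 0 a
    · exact Subsingleton.elim (α := (Y.X 0).carrier) _ _
  | succ m =>
    show y • Y.mkS x k (m + 1) a b = (Y.cone x k).d (m + 1) (Y.mkS x k m (h (m + 1) a) (-(h m b))) +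
      Y.mkS x k (m + 1) (h (m + 2) (Y.d (m + 2) a)) (-(h (m + 1) (x • a - Y.d (m + 1) b)))
    rw [cone_d_succ]
    apply Prod.ext
    · show y • a = Y.d (m + 1) (h (m + 1) a) + h (m + 2) (Y.d (m + 2) a)
      exact hh (m + 1) a
    · show y • b = (x • h (m + 1) a - Y.d m (-(h m b))) + -(h (m + 1) (x • a - Y.d (m + 1) b))
      rw [map_neg, map_sub, map_smul, hh m b]
      abel

end PCx

end Basic

end Groth.Agent.Lib.helper19.Kz
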