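import Mathlib
import Groth.Prelude.Def_GrLC
import Groth.Agent.Lib.Helper19.GrMod
import Groth.Agent.Lib.Helper19.GrShift
import Groth.Agent.Lib.Helper19.GrLes1
import Groth.Agent.Lib.Helper19.Kz1
import Groth.Agent.Lib.Helper19.Kz2
import Groth.Agent.Lib.Helper19.LCGroth

/-!
# Koszul machinery (helper19), part 3: `Γ_a(T) → T` is a quasi-isomorphism when the generators of `a`
are null-homotopic on the complex `T` of *injectives

* `exact_of_torsionFree` : a padded complex of *injective modules on which a set `S` acts faithfully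
  (no element killed by all of `S`) and such that `S` kills the cohomology is exact.
* `quotCx T a` : the quotient complex `T/Γ_a(T)`.
* `QEx T a n` : exactness of `T/Γ_a(T)` at spot `n+1`, phrased inside `T`; `qex`.
* `cmp1_zero`, `cmp1_succ`, `cmp2` : comparison of the cohomology of `Γ_a(T)` and of `T`.
-/

set_option autoImplicit false
universe u

namespace Groth.Agent.Lib.helper19.Kz

open GrLC Groth.Agent.Lib.helper19.GrMod Groth.Agent.Lib.helper19.GrShift
  Groth.Agent.Lib.helper19.GrLes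

section Exact

variable {ι : Type} [AddCommGroup ι] [DecidableEq ι]
variable {R : Type u} [CommRing R] {𝒜 : ι → AddSubgroup R} [GradedRing 𝒜]

theorem exact_of_torsionFree (J : PCx 𝒜) (hcx : J.IsCx) (hgr : J.IsGr) (hpad : J.Pad)
    (hinj : J.StarInj) (S : Set R)
    (hS : ∀ (n : ℕ) (z : (J.X (n + 1)).carrier), (∀ x ∈ S, x • z = 0) → z = 0)
    (hnull : ∀ (n : ℕ) (z : (J.X (n + 1)).carrier), J.d (n + 1) z = 0 →
      ∀ x ∈ S, ∃ w, J.d n w = x • z) :
    ∀ (n : ℕ) (z : (J.X (n + 1)).carrier), J.d (n + 1) z = 0 → ∃ w, J.d n w = z := by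
  classical
  have : Subsingleton (J.X 0).carrier := hpad
  -- the inductive statement: the boundaries at spot `n+1` are a graded direct summand
  have exact_of : ∀ (n : ℕ) (ρ : (J.X (n + 1)).carrier →ₗ[R] (J.X (n + 1)).carrier),
      (∀ w, ρ (J.d n w) = J.d n w) → (∀ y, ∃ w, J.d n w = ρ y) →
      ∀ z : (J.X (n + 1)).carrier, J.d (n + 1) z = 0 → ∃ w, J.d n w = z := by
    intro n ρ hρ1 hρ2 z hz
    obtain ⟨w0, hw0⟩ := hρ2 z
    have hz' : J.d (n + 1) (z - ρ z) = 0 := by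
      rw [map_sub, hz, ← hw0, hcx n w0, sub_zero]
    have hρz' : ρ (z - ρ z) = 0 := by
      rw [map_sub, ← hw0, hρ1 w0, hw0, sub_self]
    have h0 : z - ρ z = 0 := by
      apply hS n
      intro x hx
      obtain ⟨w1, hw1⟩ := hnull n _ hz' x hx
      have h1 : ρ (x • (z - ρ z)) = x • (z - ρ z) := by rw [← hw1, hρ1]
      rw [← h1, map_smul, hρz', smul_zero]
    refine ⟨w0, ?_⟩
    rw [hw0]
    exact (sub_eq_zero.1 h0).symm
  have key : ∀ n : ℕ, ∃ ρ : (J.X (n + 1)).carrier →ₗ[R] (J.X (n + 1)).carrier,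
      IsGrHom (J.X (n + 1)).gr (J.X (n + 1)).gr ρ ∧ (∀ w, ρ (J.d n w) = J.d n w) ∧
        (∀ y, ∃ w, J.d n w = ρ y) := by
    intro n
    induction n with
    | zero =>
      refine ⟨0, fun g x _ => zero_mem _, fun w => ?_, fun y => ⟨0, by rw [map_zero]; rfl⟩⟩
      rw [Subsingleton.elim w 0, map_zero]
      rfl
    | succ n ih =>
      obtain ⟨ρ, hρgr, hρ1, hρ2⟩ := ih
      have hex := exact_of n ρ hρ1 hρ2
      have hC : (LinearMap.ker ρ).IsHomogeneous (J.X (n + 1)).gr :=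
        ker_isHomogeneous (J.X (n + 1)).gr (J.X (n + 1)).gr ρ hρgr
      letI : DirectSum.Decomposition (subPiece (J.X (n + 1)).gr (LinearMap.ker ρ)) :=
        subDecomposition (J.X (n + 1)).gr _ hC
      letI : SetLike.GradedSMul 𝒜 (subPiece (J.X (n + 1)).gr (LinearMap.ker ρ)) :=
        sub_gradedSMul 𝒜 (J.X (n + 1)).gr _
      have hfinj : Function.Injective ((J.d (n + 1)) ∘ₗ (LinearMap.ker ρ).subtype) := by
        rw [← LinearMap.ker_eq_bot, eq_bot_iff]
        intro c hc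
        rw [Submodule.mem_bot]
        have hc1 : J.d (n + 1) (c : (J.X (n + 1)).carrier) = 0 := hc
        obtain ⟨w, hw⟩ := hex _ hc1
        have hc2 : ρ (c : (J.X (n + 1)).carrier) = 0 := c.2
        rw [← hw, hρ1, hw] at hc2
        exact Subtype.ext hc2
      obtain ⟨h, hhgr, hh⟩ := hinj (n + 1)
        (GMod.of 𝒜 ↥(LinearMap.ker ρ) (subPiece (J.X (n + 1)).gr (LinearMap.ker ρ)))
        (J.X (n + 2)) ((J.d (n + 1)) ∘ₗ (LinearMap.ker ρ).subtype)
        (fun g c hc => hgr (n + 1) g _ hc) hfinj (LinearMap.ker ρ).subtype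
        (subtype_isGrHom _ _)
      have hh' : ∀ c : ↥(LinearMap.ker ρ), h (J.d (n + 1) (c : (J.X (n + 1)).carrier)) = c :=
        fun c => LinearMap.congr_fun hh c
      refine ⟨(J.d (n + 1)) ∘ₗ (LinearMap.id - ρ) ∘ₗ h, ?_, ?_, ?_⟩
      · intro g y hy
        have h1 := hhgr g y hy
        exact hgr (n + 1) g _ (sub_mem h1 (hρgr g _ h1))
      · intro u
        obtain ⟨w, hw⟩ := hρ2 u
        have hρρ : ρ (ρ u) = ρ u := by rw [← hw, hρ1]
        have hcmem : u - ρ u ∈ LinearMap.ker ρ := by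
          rw [LinearMap.mem_ker, map_sub, hρρ, sub_self]
        have hdu : J.d (n + 1) u = J.d (n + 1) (u - ρ u) := by
          rw [map_sub, ← hw, hcx n w, sub_zero]
        show J.d (n + 1) (h (J.d (n + 1) u) - ρ (h (J.d (n + 1) u))) = J.d (n + 1) u
        have h2 := hh' ⟨u - ρ u, hcmem⟩
        rw [hdu]
        have h3 : h (J.d (n + 1) (u - ρ u)) = u - ρ u := h2
        rw [h3]
        have h4 : ρ (u - ρ u) = 0 := hcmem
        rw [h4, sub_zero]
      · intro y
        exact ⟨_, rfl⟩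
  intro n z hz
  obtain ⟨ρ, -, hρ1, hρ2⟩ := key n
  exact exact_of n ρ hρ1 hρ2 z hz

end Exact

section Quot

variable {ι : Type} [AddCommGroup ι] [DecidableEq ι]
variable {R : Type u} [CommRing R] [IsNoetherianRing R] {𝒜 : ι → AddSubgroup R} [GradedRing 𝒜]

/-- if `a y ⊆ Γ_a(X)` then `y ∈ Γ_a(X)` -/
theorem mem_gam_of_smul_mem (𝔞 : Ideal R) {X : Type u} [AddCommGroup X] [Module R X] (y : X)
    (h : ∀ r ∈ 𝔞, r • y ∈ gam 𝔞 X) : y ∈ gam 𝔞 X := by
  have h0 := Groth.Agent.Lib.helper19.LCGroth.torsionSub_quotient_eq_bot 𝔞 X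
  have h1 : (DRing.torsionSub 𝔞 X).mkQ y ∈ DRing.torsionSub 𝔞 (X ⧸ DRing.torsionSub 𝔞 X) := by
    refine ⟨1, fun r hr => ?_⟩
    rw [pow_one] at hr
    rw [← map_smul]
    exact (Submodule.Quotient.mk_eq_zero _).2 (h r hr)
  rw [h0, Submodule.mem_bot] at h1
  exact (Submodule.Quotient.mk_eq_zero _).1 h1

/-- the quotient complex `T/Γ_a(T)` -/
noncomputable def quotCx (T : PCx 𝒜) (a : HomogeneousIdeal 𝒜) : PCx 𝒜 where
  X n :=
    { carrier := (T.X n).carrier ⧸ gam a.toIdeal (T.X n).carrier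
      gr := quotPiece (T.X n).gr (gam a.toIdeal (T.X n).carrier)
      dec := quotDecomposition (T.X n).gr _ (gam_isHomogeneous 𝒜 a (T.X n).gr)
      gsmul := quot_gradedSMul 𝒜 (T.X n).gr _ }
  d n := (gam a.toIdeal (T.X n).carrier).mapQ (gam a.toIdeal (T.X (n + 1)).carrier) (T.d n)
    (fun _ hz => gam_map a.toIdeal (T.d n) hz)

theorem quotCx_d_mk (T : PCx 𝒜) (a : HomogeneousIdeal 𝒜) (n : ℕ) (z : (T.X n).carrier) :
    (quotCx T a).d n ((gam a.toIdeal (T.X n).carrier).mkQ z) =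
      (gam a.toIdeal (T.X (n + 1)).carrier).mkQ (T.d n z) := rfl

/-- exactness of `T/Γ_a(T)` at spot `n+1`, phrased inside `T` -/
def QEx (T : PCx 𝒜) (a : HomogeneousIdeal 𝒜) (n : ℕ) : Prop :=
  ∀ z : (T.X (n + 1)).carrier, T.d (n + 1) z ∈ gam a.toIdeal (T.X (n + 2)).carrier →
    ∃ w : (T.X n).carrier, z - T.d n w ∈ gam a.toIdeal (T.X (n + 1)).carrier

/-- `T/Γ_a(T)` is exact if the generators of `a` are null-homotopic on the complex `T` of *injectives -/
theorem qex (T : PCx 𝒜) (a : HomogeneousIdeal 𝒜) (hcx : T.IsCx) (hgr : T.IsGr) (hpad : T.Pad)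
    (hinj : T.StarInj) (S : Set R) (hS : a.toIdeal = Ideal.span S) (hnull : ∀ x ∈ S, T.NullH x)
    (n : ℕ) : QEx T a n := by
  classical
  have hcx' : (quotCx T a).IsCx := by
    intro m q
    obtain ⟨z, rfl⟩ := Submodule.mkQ_surjective _ q
    rw [quotCx_d_mk, quotCx_d_mk, hcx m z, map_zero]
    rfl
  have hgr' : (quotCx T a).IsGr := by
    rintro m g q ⟨y, hy, rfl⟩
    exact ⟨T.d m y, hgr m g y hy, rfl⟩
  have hpad' : (quotCx T a).Pad := by
    have : Subsingleton (T.X 0).carrier := hpad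
    show Subsingleton ((T.X 0).carrier ⧸ gam a.toIdeal (T.X 0).carrier)
    infer_instance
  have hinj' : (quotCx T a).StarInj := by
    intro m
    letI : DirectSum.Decomposition (quotPiece (T.X m).gr (gam a.toIdeal (T.X m).carrier)) :=
      quotDecomposition (T.X m).gr _ (gam_isHomogeneous 𝒜 a (T.X m).gr)
    letI : SetLike.GradedSMul 𝒜 (quotPiece (T.X m).gr (gam a.toIdeal (T.X m).carrier)) :=
      quot_gradedSMul 𝒜 (T.X m).gr _
    exact quot_gam_isStarInj (hinj m) a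
  have hS' : ∀ (m : ℕ) (q : ((quotCx T a).X (m + 1)).carrier), (∀ x ∈ S, x • q = 0) → q = 0 := by
    intro m q hq
    obtain ⟨y, rfl⟩ := Submodule.mkQ_surjective _ q
    apply (Submodule.Quotient.mk_eq_zero _).2
    apply mem_gam_of_smul_mem
    intro r hr
    rw [hS] at hr
    refine Submodule.span_induction (p := fun r _ => r • y ∈ gam a.toIdeal (T.X (m + 1)).carrier)
      ?_ ?_ ?_ ?_ hr
    · intro x hx
      have h3 : (gam a.toIdeal (T.X (m + 1)).carrier).mkQ (x • y) = 0 := by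
        rw [map_smul]
        exact hq x hx
      exact (Submodule.Quotient.mk_eq_zero _).1 h3
    · rw [zero_smul]
      exact zero_mem _
    · intro r1 r2 _ _ h1 h2
      rw [add_smul]
      exact add_mem h1 h2
    · intro c r1 _ h1
      rw [smul_eq_mul, mul_smul]
      exact Submodule.smul_mem _ _ h1
  have hnull' : ∀ (m : ℕ) (q : ((quotCx T a).X (m + 1)).carrier), (quotCx T a).d (m + 1) q = 0 →
      ∀ x ∈ S, ∃ w, (quotCx T a).d m w = x • q := by
    intro m q hq x hx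
    obtain ⟨z, rfl⟩ := Submodule.mkQ_surjective _ q
    rw [quotCx_d_mk] at hq
    have hz : T.d (m + 1) z ∈ gam a.toIdeal (T.X (m + 2)).carrier :=
      (Submodule.Quotient.mk_eq_zero _).1 hq
    obtain ⟨h, hh⟩ := hnull x hx
    refine ⟨(gam a.toIdeal (T.X m).carrier).mkQ (h m z), ?_⟩
    have h1 : (gam a.toIdeal (T.X (m + 1)).carrier).mkQ (h (m + 1) (T.d (m + 1) z)) = 0 :=
      (Submodule.Quotient.mk_eq_zero _).2 (gam_map a.toIdeal (h (m + 1)) hz)
    have h2 : (gam a.toIdeal (T.X (m + 1)).carrier).mkQ (x • z) =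
        (gam a.toIdeal (T.X (m + 1)).carrier).mkQ (T.d m (h m z)) := by
      rw [hh m z, map_add, h1, add_zero]
    rw [quotCx_d_mk, ← h2, map_smul]
    rfl
  have hex := exact_of_torsionFree (quotCx T a) hcx' hgr' hpad' hinj' S hS' hnull' n
  intro z hz
  have h1 : (quotCx T a).d (n + 1) ((gam a.toIdeal (T.X (n + 1)).carrier).mkQ z) = 0 := by
    rw [quotCx_d_mk]
    exact (Submodule.Quotient.mk_eq_zero _).2 hz
  obtain ⟨w', hw'⟩ := hex _ h1
  obtain ⟨w, rfl⟩ := Submodule.mkQ_surjective _ w'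
  refine ⟨w, ?_⟩
  rw [quotCx_d_mk] at hw'
  have h2 : (gam a.toIdeal (T.X (n + 1)).carrier).mkQ (z - T.d n w) = 0 := by
    rw [map_sub, hw', sub_self]
  exact (Submodule.Quotient.mk_eq_zero _).1 h2

end Quot

section Cmp

variable {ι : Type} [AddCommGroup ι] [DecidableEq ι]
variable {R : Type u} [CommRing R] {𝒜 : ι → AddSubgroup R} [GradedRing 𝒜]

theorem mem_gam_bot {X : Type u} [AddCommGroup X] [Module R X] (z : X) : z ∈ gam (⊥ : Ideal R) X := by
  refine ⟨1, fun r hr => ?_⟩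
  rw [pow_one, Ideal.mem_bot] at hr
  rw [hr, zero_smul]

/-- degree-`0` comparison: cohomology of `T` vanishing implies that of `Γ_a(T)` -/
theorem cmp1_zero (T : PCx 𝒜) (a : HomogeneousIdeal 𝒜) (hpad : T.Pad) (g : ι)
    (h : T.Hv ⊥ 0 g) : T.Hv a.toIdeal 0 g := by
  have : Subsingleton (T.X 0).carrier := hpad
  intro z hz _ hdz
  obtain ⟨w, hw, -, hwd⟩ := h z hz (mem_gam_bot z) hdz
  refine ⟨w, hw, ?_, hwd⟩
  rw [Subsingleton.elim w 0]
  exact zero_mem _

/-- comparison in positive degrees: cohomology of `T` vanishing implies that of `Γ_a(T)` -/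
theorem cmp1_succ (T : PCx 𝒜) (a : HomogeneousIdeal 𝒜) (hcx : T.IsCx) (hgr : T.IsGr) (m : ℕ) (g : ι)
    (hq : QEx T a m) (h : T.Hv ⊥ (m + 1) g) : T.Hv a.toIdeal (m + 1) g := by
  classical
  intro z hz hzΓ hdz
  obtain ⟨w, hw, -, hwd⟩ := h z hz (mem_gam_bot z) hdz
  have h1 : T.d (m + 1) w ∈ gam a.toIdeal (T.X (m + 2)).carrier := by rw [hwd]; exact hzΓ
  obtain ⟨v, hv⟩ := hq w h1
  -- take the component of degree `g`
  have h2 := gam_isHomogeneous 𝒜 a (T.X (m + 1)).gr g hv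
  rw [DirectSum.decompose_sub, DirectSum.sub_apply, AddSubgroup.coe_sub,
    DirectSum.decompose_of_mem_same _ hw,
    grHom_decompose (T.X m).gr (T.X (m + 1)).gr (T.d m) (hgr m)] at h2
  refine ⟨w - T.d m ((DirectSum.decompose (T.X m).gr v g : (T.X m).gr g) : (T.X m).carrier),
    sub_mem hw (hgr m g _ (SetLike.coe_mem _)), h2, ?_⟩
  rw [map_sub, hcx m, sub_zero, hwd]

/-- comparison: cohomology of `Γ_a(T)` vanishing implies that of `T` -/
theorem cmp2 (T : PCx 𝒜) (a : HomogeneousIdeal 𝒜) (hcx : T.IsCx) (hgr : T.IsGr) (n : ℕ) (g : ι)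
    (hq : QEx T a n) (h : T.Hv a.toIdeal n g) : T.Hv ⊥ n g := by
  classical
  intro z hz _ hdz
  have h1 : T.d (n + 1) z ∈ gam a.toIdeal (T.X (n + 2)).carrier := by rw [hdz]; exact zero_mem _
  obtain ⟨v, hv⟩ := hq z h1
  have h2 := gam_isHomogeneous 𝒜 a (T.X (n + 1)).gr g hv
  rw [DirectSum.decompose_sub, DirectSum.sub_apply, AddSubgroup.coe_sub,
    DirectSum.decompose_of_mem_same _ hz,
    grHom_decompose (T.X n).gr (T.X (n + 1)).gr (T.d n) (hgr n)] at h2
  have h3 : z - T.d n ((DirectSum.decompose (T.X n).gr v g : (T.X n).gr g) : (T.X n).carrier) ∈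
      (T.X (n + 1)).gr g := sub_mem hz (hgr n g _ (SetLike.coe_mem _))
  have h4 : T.d (n + 1)
      (z - T.d n ((DirectSum.decompose (T.X n).gr v g : (T.X n).gr g) : (T.X n).carrier)) = 0 := by
    rw [map_sub, hcx n, sub_zero, hdz]
  obtain ⟨w, hw, -, hwd⟩ := h _ h3 h2 h4
  refine ⟨w + ((DirectSum.decompose (T.X n).gr v g : (T.X n).gr g) : (T.X n).carrier),
    add_mem hw (SetLike.coe_mem _), mem_gam_bot _, ?_⟩
  rw [map_add, hwd]
  abel

end Cmp

end Groth.Agent.Lib.helper19.Kz
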