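import Mathlib
import Groth.Prelude.Def_GrLC
import Groth.Agent.Lib.Helper19.GrMod
import Groth.Agent.Lib.Helper19.GrShift
import Groth.Agent.Lib.Helper19.GrLes3
import Groth.Agent.Lib.Helper19.Kz1
import Groth.Agent.Lib.Helper19.Kz2
import Groth.Agent.Lib.Helper19.Kz3

/-!
# Koszul machinery (helper19), part 4: the tower of cones over a *injective resolution

* `baseCx E` : the (padded) complex of a *injective resolution `E`;
  `baseCx_Hv_iff` : `(baseCx E).Hv a n g ↔ E.Hgr a n g = ⊥`.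
* `tower B ps` : the iterated cone of `B` along the list `ps` of (element, degree) pairs.
* `tower_Hv_gam` : for `a = (xs)`, the cohomology of `Γ_a(tower)` vanishes in degrees `> length`.
* `mumford` : Mumford's lemma: if `a` is generated by elements of degree one and
  `H^i_a(M)_{r+1-i} = 0` for all `i ≥ l ≥ 1`, then `H^i_a(M)_{r+2-i} = 0` for all `i ≥ l`.
-/

set_option autoImplicit false
universe u

namespace Groth.Agent.Lib.helper19.Kz

open GrLC Groth.Agent.Lib.helper19.GrMod Groth.Agent.Lib.helper19.GrShift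
  Groth.Agent.Lib.helper19.GrLes

section Base

variable {ι : Type} [AddCommGroup ι] [DecidableEq ι]
variable {R : Type u} [CommRing R] {𝒜 : ι → AddSubgroup R} [GradedRing 𝒜]

omit [AddCommGroup ι] in
theorem bot_isHomogeneous {X : Type u} [AddCommGroup X] [Module R X] (𝒳 : ι → AddSubgroup X)
    [DirectSum.Decomposition 𝒳] : (⊥ : Submodule R X).IsHomogeneous 𝒳 := by
  intro i x hx
  rw [Submodule.mem_bot] at hx
  rw [hx, DirectSum.decompose_zero]
  exact zero_mem _

/-- the zero graded module -/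
noncomputable def zeroGMod (A : GMod.{u} 𝒜) : GMod.{u} 𝒜 :=
  { carrier := ↥(⊥ : Submodule R A.carrier)
    gr := subPiece A.gr ⊥
    dec := subDecomposition A.gr ⊥ (bot_isHomogeneous A.gr)
    gsmul := sub_gradedSMul 𝒜 A.gr ⊥ }

instance (A : GMod.{u} 𝒜) : Subsingleton (zeroGMod A).carrier :=
  ⟨fun x y => Subtype.ext (((Submodule.mem_bot R).1 x.2).trans ((Submodule.mem_bot R).1 y.2).symm)⟩

theorem zeroGMod_isStarInj (A : GMod.{u} 𝒜) : IsStarInj 𝒜 (zeroGMod A).gr := by
  intro C D f _ _ g _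
  refine ⟨0, fun _ _ _ => zero_mem _, ?_⟩
  ext x
  exact Subsingleton.elim _ _

variable {M : Type u} [AddCommGroup M] [Module R M] {ℳ : ι → AddSubgroup M}
  [DirectSum.Decomposition ℳ] [SetLike.GradedSMul 𝒜 ℳ]

/-- terms of the padded complex of a resolution -/
noncomputable def baseX (E : StarInjRes 𝒜 ℳ) : ℕ → GMod.{u} 𝒜
  | 0 => zeroGMod (E.X 0)
  | n + 1 => E.X n

/-- differentials of the padded complex of a resolution -/
noncomputable def based (E : StarInjRes 𝒜 ℳ) : ∀ n : ℕ, (baseX E n).carrier →ₗ[R] (baseX E (n + 1)).carrier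
  | 0 => 0
  | n + 1 => E.d n

/-- the padded complex of a resolution -/
noncomputable def baseCx (E : StarInjRes 𝒜 ℳ) : PCx 𝒜 := ⟨baseX E, based E⟩

theorem d_d (E : StarInjRes 𝒜 ℳ) (n : ℕ) (z : (E.X n).carrier) : E.d (n + 1) (E.d n z) = 0 := by
  have h : E.d n z ∈ LinearMap.ker (E.d (n + 1)) := by
    rw [E.exact_succ n]
    exact ⟨z, rfl⟩
  exact h

theorem baseCx_isCx (E : StarInjRes 𝒜 ℳ) : (baseCx E).IsCx := by
  intro n z
  cases n with
  | zero => exact map_zero _
  | succ m => exact d_d E m z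

theorem baseCx_isGr (E : StarInjRes 𝒜 ℳ) : (baseCx E).IsGr := by
  intro n
  cases n with
  | zero => exact fun g z _ => zero_mem _
  | succ m => exact E.d_grHom m

theorem baseCx_pad (E : StarInjRes 𝒜 ℳ) : (baseCx E).Pad := by
  show Subsingleton (zeroGMod (E.X 0)).carrier
  infer_instance

theorem baseCx_starInj (E : StarInjRes 𝒜 ℳ) : (baseCx E).StarInj := by
  intro n
  cases n with
  | zero => exact zeroGMod_isStarInj (E.X 0)
  | succ m => exact E.starInj m

/-- the resolution is exact in positive degrees -/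
theorem baseCx_Hv_bot (E : StarInjRes 𝒜 ℳ) (m : ℕ) (g : ι) : (baseCx E).Hv ⊥ (m + 1) g := by
  classical
  intro z hz _ hdz
  have h1 : z ∈ LinearMap.ker (E.d (m + 1)) := hdz
  rw [E.exact_succ m] at h1
  obtain ⟨w, hw⟩ := h1
  refine ⟨((DirectSum.decompose (E.X m).gr w g : (E.X m).gr g) : (E.X m).carrier),
    SetLike.coe_mem _, mem_gam_bot _, ?_⟩
  show E.d m _ = z
  rw [← grHom_decompose (E.X m).gr (E.X (m + 1)).gr (E.d m) (E.d_grHom m), hw]
  exact DirectSum.decompose_of_mem_same _ hz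

/-- the dictionary between graded local cohomology and the complex `Γ_a(baseCx E)` -/
theorem baseCx_Hv_iff (E : StarInjRes 𝒜 ℳ) (a : HomogeneousIdeal 𝒜) (n : ℕ) (g : ι) :
    (baseCx E).Hv a.toIdeal n g ↔ E.Hgr a n g = ⊥ := by
  classical
  constructor
  · intro h
    rw [eq_bot_iff]
    rintro y ⟨z, hz, rfl⟩
    rw [AddSubgroup.mem_bot]
    obtain ⟨w, hw, hwΓ, hwd⟩ := h (z : (E.X n).carrier) hz z.2.1 z.2.2
    rw [toH_eq_zero_iff]
    cases n with
    | zero =>
      rw [mem_cobdy_zero, ← hwd]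
      rfl
    | succ m =>
      rw [mem_cobdy_succ]
      exact ⟨w, hwΓ, hwd⟩
  · intro h z hz hzΓ hdz
    have hzc : z ∈ E.cocyc a n := ⟨hzΓ, hdz⟩
    have h1 : E.toH a n ⟨z, hzc⟩ ∈ E.Hgr a n g := ⟨⟨z, hzc⟩, hz, rfl⟩
    rw [h, AddSubgroup.mem_bot, toH_eq_zero_iff] at h1
    cases n with
    | zero =>
      rw [mem_cobdy_zero] at h1
      refine ⟨0, zero_mem _, zero_mem _, ?_⟩
      rw [map_zero]
      exact h1.symm
    | succ m =>
      rw [mem_cobdy_succ] at h1
      obtain ⟨w, hwΓ, hwd⟩ := h1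
      refine ⟨((DirectSum.decompose (E.X m).gr w g : (E.X m).gr g) : (E.X m).carrier),
        SetLike.coe_mem _, gam_isHomogeneous 𝒜 a (E.X m).gr g hwΓ, ?_⟩
      show E.d m _ = z
      rw [← grHom_decompose (E.X m).gr (E.X (m + 1)).gr (E.d m) (E.d_grHom m), hwd]
      exact DirectSum.decompose_of_mem_same _ hz

end Base

section Tower

variable {ι : Type} [AddCommGroup ι] [DecidableEq ι]
variable {R : Type u} [CommRing R] {𝒜 : ι → AddSubgroup R} [GradedRing 𝒜]

theorem cone_starInj (Y : PCx 𝒜) (x : R) (k : ι) (hY : Y.StarInj) : (Y.cone x k).StarInj := by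
  intro n
  cases n with
  | zero =>
    exact starInj_prod 𝒜 (Y.X 0).gr (Y.X 0).gr (hY 0) (hY 0)
  | succ m =>
    letI : DirectSum.Decomposition (shiftPiece (Y.X m).gr k) := shiftDecomposition (Y.X m).gr k
    letI : SetLike.GradedSMul 𝒜 (shiftPiece (Y.X m).gr k) := shift_gradedSMul 𝒜 (Y.X m).gr k
    exact starInj_prod 𝒜 (Y.X (m + 1)).gr (shiftPiece (Y.X m).gr k) (hY (m + 1))
      (starInj_shift 𝒜 (Y.X m).gr (hY m) k)

/-- the iterated cone -/
noncomputable def tower (B : PCx 𝒜) : List (R × ι) → PCx 𝒜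
  | [] => B
  | p :: ps => (tower B ps).cone p.1 p.2

theorem tower_isCx (B : PCx 𝒜) (hB : B.IsCx) (ps : List (R × ι)) : (tower B ps).IsCx := by
  induction ps with
  | nil => exact hB
  | cons p ps ih => exact PCx.cone_isCx _ _ _ ih

theorem tower_pad (B : PCx 𝒜) (hB : B.Pad) (ps : List (R × ι)) : (tower B ps).Pad := by
  induction ps with
  | nil => exact hB
  | cons p ps ih => exact PCx.cone_pad _ _ _ ih

theorem tower_starInj (B : PCx 𝒜) (hB : B.StarInj) (ps : List (R × ι)) : (tower B ps).StarInj := by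
  induction ps with
  | nil => exact hB
  | cons p ps ih => exact cone_starInj _ _ _ ih

theorem tower_isGr (B : PCx 𝒜) (hB : B.IsGr) (ps : List (R × ι)) (hps : ∀ p ∈ ps, p.1 ∈ 𝒜 p.2) :
    (tower B ps).IsGr := by
  induction ps with
  | nil => exact hB
  | cons p ps ih =>
    exact PCx.cone_isGr _ (hps p List.mem_cons_self) (ih (fun q hq => hps q (List.mem_cons_of_mem _ hq)))

theorem tower_nullH (B : PCx 𝒜) (hB : B.Pad) (ps : List (R × ι)) :
    ∀ p ∈ ps, (tower B ps).NullH p.1 := by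
  induction ps with
  | nil => intro p hp; exact absurd hp List.not_mem_nil
  | cons q ps ih =>
    intro p hp
    rcases List.mem_cons.1 hp with rfl | hp'
    · exact PCx.cone_nullH_self _ _ _
    · exact PCx.cone_nullH_of _ _ _ (tower_pad B hB ps) (ih p hp')

/-- the cohomology of the tower vanishes in degrees above its height -/
theorem tower_Hv_bot (B : PCx 𝒜) (hB : ∀ (m : ℕ) (g : ι), B.Hv ⊥ (m + 1) g) (ps : List (R × ι))
    (hps : ∀ p ∈ ps, p.1 ∈ 𝒜 p.2) :
    ∀ (n : ℕ), ps.length < n → ∀ g : ι, (tower B ps).Hv ⊥ n g := by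
  induction ps with
  | nil =>
    intro n hn g
    obtain ⟨m, rfl⟩ : ∃ m, n = m + 1 := ⟨n - 1, by rw [List.length_nil] at hn; omega⟩
    exact hB m g
  | cons p ps ih =>
    intro n hn g
    rw [List.length_cons] at hn
    obtain ⟨m, rfl⟩ : ∃ m, n = m + 1 := ⟨n - 1, by omega⟩
    have ih' := ih (fun q hq => hps q (List.mem_cons_of_mem _ hq))
    exact PCx.les1_succ _ (hps p List.mem_cons_self) ⊥ m g (ih' (m + 1) (by omega) g)
      (ih' m (by omega) (g + p.2))

end Tower

section Mumford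

variable {R : Type u} [CommRing R] [IsNoetherianRing R] {𝒜 : ℤ → AddSubgroup R} [GradedRing 𝒜]
variable {M : Type u} [AddCommGroup M] [Module R M] {ℳ : ℤ → AddSubgroup M}
  [DirectSum.Decomposition ℳ] [SetLike.GradedSMul 𝒜 ℳ]

/-- the cohomology of `Γ_a` of the tower over a resolution vanishes above the height, when the tower is
built on generators of `a` -/
theorem tower_Hv_gam (E : StarInjRes 𝒜 ℳ) (a : HomogeneousIdeal 𝒜) (ps : List (R × ℤ))
    (hps : ∀ p ∈ ps, p.1 ∈ 𝒜 p.2) (ha : a.toIdeal = Ideal.span {x | x ∈ ps.map Prod.fst})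
    (n : ℕ) (hn : ps.length < n) (g : ℤ) : (tower (baseCx E) ps).Hv a.toIdeal n g := by
  have hcx := tower_isCx (baseCx E) (baseCx_isCx E) ps
  have hgr := tower_isGr (baseCx E) (baseCx_isGr E) ps hps
  have hpad := tower_pad (baseCx E) (baseCx_pad E) ps
  have hinj := tower_starInj (baseCx E) (baseCx_starInj E) ps
  have hnull : ∀ x ∈ {x | x ∈ ps.map Prod.fst}, (tower (baseCx E) ps).NullH x := by
    intro x hx
    obtain ⟨p, hp, rfl⟩ := List.mem_map.1 hx
    exact tower_nullH (baseCx E) (baseCx_pad E) ps p hp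
  obtain ⟨m, rfl⟩ : ∃ m, n = m + 1 := ⟨n - 1, by omega⟩
  have hq := qex (tower (baseCx E) ps) a hcx hgr hpad hinj _ ha hnull m
  exact cmp1_succ _ a hcx hgr m g hq (tower_Hv_bot (baseCx E) (baseCx_Hv_bot E) ps hps (m + 1) hn g)

/-- Mumford's lemma -/
theorem mumford (E : StarInjRes 𝒜 ℳ) (a : HomogeneousIdeal 𝒜) (xs : List R)
    (hxs : ∀ x ∈ xs, x ∈ 𝒜 1) (ha : a.toIdeal = Ideal.span {x | x ∈ xs})
    (r : ℤ) (l : ℕ) (hl : 1 ≤ l) (hvan : ∀ i : ℕ, l ≤ i → E.Hgr a i (r + 1 - i) = ⊥) :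
    ∀ i : ℕ, l ≤ i → E.Hgr a i (r + 2 - i) = ⊥ := by
  classical
  have hmap : ∀ ys : List R, (ys.map (fun x => (x, (1 : ℤ)))).map Prod.fst = ys := by
    intro ys
    rw [List.map_map]
    exact List.map_id _
  have hdeg : ∀ ys : List R, (∀ x ∈ ys, x ∈ 𝒜 1) → ∀ p ∈ ys.map (fun x => (x, (1 : ℤ))), p.1 ∈ 𝒜 p.2 := by
    intro ys hys p hp
    obtain ⟨x, hx, rfl⟩ := List.mem_map.1 hp
    exact hys x hx
  -- the inductive claim along the tower
  have claim : ∀ ys : List R, (∀ x ∈ ys, x ∈ 𝒜 1) →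
      (∀ i : ℕ, l + ys.length ≤ i →
        (tower (baseCx E) (ys.map (fun x => (x, (1 : ℤ))))).Hv a.toIdeal i (r + 1 - i)) ∧
      ((∀ i : ℕ, l + ys.length ≤ i →
        (tower (baseCx E) (ys.map (fun x => (x, (1 : ℤ))))).Hv a.toIdeal i (r + 2 - i)) →
        ∀ i : ℕ, l ≤ i → (baseCx E).Hv a.toIdeal i (r + 2 - i)) := by
    intro ys
    induction ys with
    | nil =>
      intro _
      refine ⟨fun i hi => ?_, fun h i hi => h i (by simpa using hi)⟩
      exact (baseCx_Hv_iff E a i _).2 (hvan i (by simpa using hi))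
    | cons y ys ih =>
      intro hys
      obtain ⟨ihP, ihQ⟩ := ih (fun x hx => hys x (List.mem_cons_of_mem _ hx))
      have hy : y ∈ 𝒜 1 := hys y List.mem_cons_self
      have hP : ∀ i : ℕ, l + (y :: ys).length ≤ i →
          (tower (baseCx E) ((y :: ys).map (fun x => (x, (1 : ℤ))))).Hv a.toIdeal i (r + 1 - i) := by
        intro i hi
        rw [List.length_cons] at hi
        obtain ⟨m, rfl⟩ : ∃ m, i = m + 1 := ⟨i - 1, by omega⟩
        have h1 := ihP (m + 1) (by omega)
        have h2 := ihP m (by omega)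
        have e : r + 1 - ((m + 1 : ℕ) : ℤ) + 1 = r + 1 - (m : ℤ) := by push_cast; ring
        rw [← e] at h2
        exact PCx.les1_succ _ hy a.toIdeal m _ h1 h2
      refine ⟨hP, fun hQ => ihQ (fun i hi => ?_)⟩
      have h1 := ihP i hi
      have h2 := hQ (i + 1) (by rw [List.length_cons]; omega)
      have e : r + 2 - ((i + 1 : ℕ) : ℤ) = r + 1 - (i : ℤ) := by push_cast; ring
      rw [e] at h2
      have h3 := PCx.les2 _ hy a.toIdeal i _ h1 h2
      have e' : r + 1 - (i : ℤ) + 1 = r + 2 - (i : ℤ) := by ring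
      rw [e'] at h3
      exact h3
  have ha' : a.toIdeal = Ideal.span {x | x ∈ (xs.map (fun x => (x, (1 : ℤ)))).map Prod.fst} := by
    rw [hmap]
    exact ha
  have hQ : ∀ i : ℕ, l + xs.length ≤ i →
      (tower (baseCx E) (xs.map (fun x => (x, (1 : ℤ))))).Hv a.toIdeal i (r + 2 - i) := by
    intro i hi
    exact tower_Hv_gam E a _ (hdeg xs hxs) ha' i (by rw [List.length_map]; omega) _
  intro i hi
  exact (baseCx_Hv_iff E a i _).1 ((claim xs hxs).2 hQ i hi)

end Mumford

end Groth.Agent.Lib.helper19.Kz
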