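import Mathlib
import Groth.Prelude.Def_GrLC
import Groth.Agent.Lib.Helper19.GrMod
import Groth.Agent.Lib.Helper19.GrShift
import Groth.Agent.Lib.Helper19.GrLes3
import Groth.Agent.Lib.Helper19.Kz4

/-!
# Koszul machinery (helper19), part 5: the top Koszul cohomology and generation in low degrees

* `exact_of_Hv_bot` : vanishing of all graded pieces of a cohomology gives ungraded exactness.
* `top_mem` : if the top cohomology `H^s(tower (baseCx E) ps)` vanishes in degree `g`, then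
  `M_{g + Σ deg} ⊆ (ps) M`.
* `gen_of_vanish` : if `a` is generated by elements of degree one and `H^i_a(M)_{e-i} = 0` for all `i`,
  then `M_e ⊆ a M`.
-/

set_option autoImplicit false
universe u

namespace Groth.Agent.Lib.helper19.Kz

open GrLC Groth.Agent.Lib.helper19.GrMod Groth.Agent.Lib.helper19.GrShift
  Groth.Agent.Lib.helper19.GrLes

section Exact

variable {ι : Type} [AddCommGroup ι] [DecidableEq ι]
variable {R : Type u} [CommRing R] {𝒜 : ι → AddSubgroup R} [GradedRing 𝒜]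

theorem exact_of_Hv_bot (T : PCx 𝒜) (hgr : T.IsGr) (n : ℕ) (h : ∀ g : ι, T.Hv ⊥ n g)
    (z : (T.X (n + 1)).carrier) (hz : T.d (n + 1) z = 0) : ∃ w, T.d n w = z := by
  classical
  have h1 : ∀ g : ι, ∃ w : (T.X n).carrier,
      T.d n w = ((DirectSum.decompose (T.X (n + 1)).gr z g : (T.X (n + 1)).gr g) : (T.X (n + 1)).carrier) := by
    intro g
    have hd : T.d (n + 1)
        ((DirectSum.decompose (T.X (n + 1)).gr z g : (T.X (n + 1)).gr g) : (T.X (n + 1)).carrier) = 0 := by
      rw [← grHom_decompose (T.X (n + 1)).gr (T.X (n + 2)).gr (T.d (n + 1)) (hgr (n + 1)), hz,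
        DirectSum.decompose_zero]
      rfl
    obtain ⟨w, -, -, hw⟩ := h g _ (SetLike.coe_mem _) (mem_gam_bot _) hd
    exact ⟨w, hw⟩
  choose w hw using h1
  refine ⟨∑ g ∈ (DirectSum.decompose (T.X (n + 1)).gr z).support, w g, ?_⟩
  rw [map_sum]
  conv_rhs => rw [← DirectSum.sum_support_decompose (T.X (n + 1)).gr z]
  exact Finset.sum_congr rfl (fun g _ => hw g)

end Exact

section Top

variable {R : Type u} [CommRing R] {𝒜 : ℤ → AddSubgroup R} [GradedRing 𝒜]
variable {M : Type u} [AddCommGroup M] [Module R M] {ℳ : ℤ → AddSubgroup M}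
  [DirectSum.Decomposition ℳ] [SetLike.GradedSMul 𝒜 ℳ]

/-- the inductive step for `topData` -/
theorem topData_step (T : PCx 𝒜) (j : ℕ) {x : R} {k : ℤ} (L : Submodule R M)
    (θ : M →ₗ[R] (T.X (j + 1)).carrier) (σ : ℤ)
    (hθgr : ∀ (g : ℤ) (m : M), m ∈ ℳ (g + σ) → θ m ∈ (T.X (j + 1)).gr g)
    (hθd : ∀ m, T.d (j + 1) (θ m) = 0)
    (hθsur : ∀ z, T.d (j + 1) z = 0 → ∃ (m : M) (c : (T.X j).carrier), z = θ m + T.d j c)
    (hθinj : ∀ m, (∃ w, T.d j w = θ m) → m ∈ L)
    (hTex : ∀ z : (T.X (j + 2)).carrier, T.d (j + 2) z = 0 → ∃ w, T.d (j + 1) w = z) :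
    ∃ θ' : M →ₗ[R] ((T.cone x k).X (j + 1 + 1)).carrier,
      (∀ (g : ℤ) (m : M), m ∈ ℳ (g + (k + σ)) → θ' m ∈ ((T.cone x k).X (j + 1 + 1)).gr g) ∧
      (∀ m, (T.cone x k).d (j + 1 + 1) (θ' m) = 0) ∧
      (∀ z, (T.cone x k).d (j + 1 + 1) z = 0 →
        ∃ (m : M) (c : ((T.cone x k).X (j + 1)).carrier), z = θ' m + (T.cone x k).d (j + 1) c) ∧
      (∀ m, (∃ w, (T.cone x k).d (j + 1) w = θ' m) →
        m ∈ Ideal.span {x} • (⊤ : Submodule R M) ⊔ L) := by
  classical
  let θ' : M →ₗ[R] ((T.cone x k).X (j + 1 + 1)).carrier :=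
    { toFun := fun m => T.mkS x k (j + 1) 0 (θ m)
      map_add' := by
        intro m m'
        apply Prod.ext
        · exact (add_zero _).symm
        · exact map_add θ m m'
      map_smul' := by
        intro r m
        apply Prod.ext
        · exact (smul_zero _).symm
        · exact map_smul θ r m }
  have hθ' : ∀ m, θ' m = T.mkS x k (j + 1) 0 (θ m) := fun m => rfl
  refine ⟨θ', ?_, ?_, ?_, ?_⟩
  · intro g m hm
    rw [hθ', PCx.mem_gr_mkS]
    refine ⟨zero_mem _, hθgr (g + k) m ?_⟩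
    have e : g + k + σ = g + (k + σ) := by ring
    rw [e]
    exact hm
  · intro m
    rw [hθ', PCx.cone_d_succ, PCx.mkS_eq_zero_iff]
    refine ⟨map_zero _, ?_⟩
    rw [smul_zero, hθd m, sub_zero]
  · intro z hz
    rw [← T.mkS_fstC_sndS x k (j + 1) z] at hz ⊢
    generalize T.fstC x k (j + 1 + 1) z = a at hz ⊢
    generalize T.sndS x k (j + 1) z = b at hz ⊢
    rw [PCx.cone_d_succ, PCx.mkS_eq_zero_iff] at hz
    obtain ⟨hz1, hz2⟩ := hz
    obtain ⟨a'', ha''⟩ := hTex a hz1
    have hb1 : T.d (j + 1) (b - x • a'') = 0 := by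
      rw [map_sub, map_smul, ha'']
      rw [sub_eq_zero] at hz2
      rw [hz2, sub_self]
    obtain ⟨m', c, hmc⟩ := hθsur _ hb1
    refine ⟨m', T.mkS x k j a'' (-c), ?_⟩
    rw [hθ', PCx.cone_d_succ, ha'', map_neg]
    apply Prod.ext
    · show a = 0 + a
      rw [zero_add]
    · show b = θ m' + (x • a'' - -(T.d j c))
      rw [sub_neg_eq_add, ← add_assoc, add_comm (θ m') (x • a''), add_assoc, ← hmc]
      abel
  · rintro m ⟨w, hw⟩
    rw [← T.mkS_fstC_sndS x k j w] at hw
    generalize T.fstC x k (j + 1) w = a' at hw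
    generalize T.sndS x k j w = b' at hw
    rw [PCx.cone_d_succ, hθ'] at hw
    obtain ⟨hw1, hw2⟩ := T.mkS_inj x k (j + 1) hw
    obtain ⟨m', c, hmc⟩ := hθsur a' hw1
    have h1 : ∃ w0, T.d j w0 = θ (m - x • m') := by
      refine ⟨x • c - b', ?_⟩
      rw [map_sub, map_smul, map_sub, map_smul, ← hw2, hmc, smul_add]
      abel
    have h2 := hθinj _ h1
    have h3 : m = x • m' + (m - x • m') := by abel
    rw [h3]
    refine Submodule.add_mem_sup ?_ h2
    exact Submodule.smul_mem_smul (Ideal.mem_span_singleton_self x) Submodule.mem_top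

/-- the class map `M → H^s(tower)` with its properties -/
theorem topData (E : StarInjRes 𝒜 ℳ) (ps : List (R × ℤ)) (hps : ∀ p ∈ ps, p.1 ∈ 𝒜 p.2) :
    ∃ θ : M →ₗ[R] ((tower (baseCx E) ps).X (ps.length + 1)).carrier,
      (∀ (g : ℤ) (m : M), m ∈ ℳ (g + (ps.map Prod.snd).sum) →
        θ m ∈ ((tower (baseCx E) ps).X (ps.length + 1)).gr g) ∧
      (∀ m, (tower (baseCx E) ps).d (ps.length + 1) (θ m) = 0) ∧
      (∀ z, (tower (baseCx E) ps).d (ps.length + 1) z = 0 →
        ∃ (m : M) (c : ((tower (baseCx E) ps).X ps.length).carrier),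
          z = θ m + (tower (baseCx E) ps).d ps.length c) ∧
      (∀ m, (∃ w, (tower (baseCx E) ps).d ps.length w = θ m) →
        m ∈ Ideal.span {x | x ∈ ps.map Prod.fst} • (⊤ : Submodule R M)) := by
  classical
  induction ps with
  | nil =>
    refine ⟨E.ε, ?_, ?_, ?_, ?_⟩
    · intro g m hm
      have h1 : m ∈ ℳ g := by simpa using hm
      exact E.ε_grHom g m h1
    · intro m
      have h1 : E.ε m ∈ LinearMap.ker (E.d 0) := by
        rw [E.exact_zero]
        exact ⟨m, rfl⟩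
      exact h1
    · intro z hz
      have h1 : z ∈ LinearMap.ker (E.d 0) := hz
      rw [E.exact_zero] at h1
      obtain ⟨m, rfl⟩ := h1
      refine ⟨m, 0, ?_⟩
      rw [map_zero, add_zero]
      rfl
    · rintro m ⟨w, hw⟩
      have h1 : E.ε m = 0 := hw.symm
      have h2 : m = 0 := E.ε_injective (by rw [h1, map_zero])
      rw [h2]
      exact zero_mem _
  | cons p ps ih =>
    obtain ⟨x, k⟩ := p
    have hps' : ∀ q ∈ ps, q.1 ∈ 𝒜 q.2 := fun q hq => hps q (List.mem_cons_of_mem _ hq)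
    obtain ⟨θ, hθgr, hθd, hθsur, hθinj⟩ := ih hps'
    have hTgr := tower_isGr (baseCx E) (baseCx_isGr E) ps hps'
    have hTex : ∀ z : ((tower (baseCx E) ps).X (ps.length + 2)).carrier,
        (tower (baseCx E) ps).d (ps.length + 2) z = 0 →
        ∃ w, (tower (baseCx E) ps).d (ps.length + 1) w = z := by
      intro z hz
      exact exact_of_Hv_bot _ hTgr (ps.length + 1)
        (fun g => tower_Hv_bot (baseCx E) (baseCx_Hv_bot E) ps hps' (ps.length + 1) (Nat.lt_succ_self _) g)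
        z hz
    obtain ⟨θ', h1, h2, h3, h4⟩ := topData_step (x := x) (k := k) (tower (baseCx E) ps) ps.length
      (Ideal.span {x | x ∈ ps.map Prod.fst} • (⊤ : Submodule R M)) θ (ps.map Prod.snd).sum
      hθgr hθd hθsur hθinj hTex
    refine ⟨θ', ?_, h2, h3, ?_⟩
    · intro g m hm
      rw [List.map_cons, List.sum_cons] at hm
      exact h1 g m hm
    · intro m hm
      have h5 := h4 m hm
      rw [List.map_cons]
      have h6 : {y | y ∈ x :: ps.map Prod.fst} = insert x {y | y ∈ ps.map Prod.fst} := by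
        ext y
        simp
      rw [h6, Ideal.span_insert, Submodule.sup_smul]
      exact h5

/-- if the top cohomology of the tower vanishes in degree `g` then `M_{g + Σ deg} ⊆ (ps) M` -/
theorem top_mem (E : StarInjRes 𝒜 ℳ) (ps : List (R × ℤ)) (hps : ∀ p ∈ ps, p.1 ∈ 𝒜 p.2) (g : ℤ)
    (h : (tower (baseCx E) ps).Hv ⊥ ps.length g) (m : M) (hm : m ∈ ℳ (g + (ps.map Prod.snd).sum)) :
    m ∈ Ideal.span {x | x ∈ ps.map Prod.fst} • (⊤ : Submodule R M) := by
  obtain ⟨θ, hθgr, hθd, -, hθinj⟩ := topData E ps hps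
  obtain ⟨w, -, -, hw⟩ := h (θ m) (hθgr g m hm) (mem_gam_bot _) (hθd m)
  exact hθinj m ⟨w, hw⟩

end Top

section Gen

variable {R : Type u} [CommRing R] [IsNoetherianRing R] {𝒜 : ℤ → AddSubgroup R} [GradedRing 𝒜]
variable {M : Type u} [AddCommGroup M] [Module R M] {ℳ : ℤ → AddSubgroup M}
  [DirectSum.Decomposition ℳ] [SetLike.GradedSMul 𝒜 ℳ]

/-- if `a` is generated by elements of degree one and `H^i_a(M)_{e-i} = 0` for all `i`, then
`M_e ⊆ a M` -/
theorem gen_of_vanish (E : StarInjRes 𝒜 ℳ) (a : HomogeneousIdeal 𝒜) (xs : List R)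
    (hxs : ∀ x ∈ xs, x ∈ 𝒜 1) (ha : a.toIdeal = Ideal.span {x | x ∈ xs}) (e : ℤ)
    (hvan : ∀ i : ℕ, E.Hgr a i (e - i) = ⊥) (m : M) (hm : m ∈ ℳ e) :
    m ∈ a.toIdeal • (⊤ : Submodule R M) := by
  classical
  have hmap : ∀ ys : List R, (ys.map (fun x => (x, (1 : ℤ)))).map Prod.fst = ys := by
    intro ys
    rw [List.map_map]
    exact List.map_id _
  have hsum : ∀ ys : List R, ((ys.map (fun x => (x, (1 : ℤ)))).map Prod.snd).sum = (ys.length : ℤ) := by
    intro ys
    induction ys with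
    | nil => rfl
    | cons y ys ih =>
      rw [List.map_cons, List.map_cons, List.sum_cons, ih, List.length_cons]
      push_cast
      ring
  have hdeg : ∀ ys : List R, (∀ x ∈ ys, x ∈ 𝒜 1) → ∀ p ∈ ys.map (fun x => (x, (1 : ℤ))), p.1 ∈ 𝒜 p.2 := by
    intro ys hys p hp
    obtain ⟨x, hx, rfl⟩ := List.mem_map.1 hp
    exact hys x hx
  have claim : ∀ ys : List R, (∀ x ∈ ys, x ∈ 𝒜 1) → ∀ i : ℕ,
      (tower (baseCx E) (ys.map (fun x => (x, (1 : ℤ))))).Hv a.toIdeal i (e - i) := by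
    intro ys
    induction ys with
    | nil =>
      intro _ i
      exact (baseCx_Hv_iff E a i _).2 (hvan i)
    | cons y ys ih =>
      intro hys i
      have ih' := ih (fun x hx => hys x (List.mem_cons_of_mem _ hx))
      have hy : y ∈ 𝒜 1 := hys y List.mem_cons_self
      cases i with
      | zero =>
        exact PCx.les1_zero _ y 1 (tower_pad (baseCx E) (baseCx_pad E) _) a.toIdeal _ (ih' 0)
      | succ j =>
        have h1 := ih' (j + 1)
        have h2 := ih' j
        have e1 : e - ((j + 1 : ℕ) : ℤ) + 1 = e - (j : ℤ) := by push_cast; ring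
        rw [← e1] at h2
        exact PCx.les1_succ _ hy a.toIdeal j _ h1 h2
  set ps := xs.map (fun x => (x, (1 : ℤ))) with hps
  have hpsdeg := hdeg xs hxs
  have ha' : a.toIdeal = Ideal.span {x | x ∈ ps.map Prod.fst} := by
    rw [hps, hmap]
    exact ha
  have hcx := tower_isCx (baseCx E) (baseCx_isCx E) ps
  have hgr := tower_isGr (baseCx E) (baseCx_isGr E) ps hpsdeg
  have hpad := tower_pad (baseCx E) (baseCx_pad E) ps
  have hinj := tower_starInj (baseCx E) (baseCx_starInj E) ps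
  have hnull : ∀ x ∈ {x | x ∈ ps.map Prod.fst}, (tower (baseCx E) ps).NullH x := by
    intro x hx
    obtain ⟨p, hp, rfl⟩ := List.mem_map.1 hx
    exact tower_nullH (baseCx E) (baseCx_pad E) ps p hp
  have hq := qex (tower (baseCx E) ps) a hcx hgr hpad hinj _ ha' hnull ps.length
  have h1 := cmp2 _ a hcx hgr ps.length _ hq (claim xs hxs ps.length)
  have h2 := top_mem E ps hpsdeg _ h1 m (by
    rw [hps, hsum, List.length_map]
    have e2 : e - (xs.length : ℤ) + (xs.length : ℤ) = e := by ring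
    rw [e2]
    exact hm)
  rw [ha']
  exact h2

end Gen

end Groth.Agent.Lib.helper19.Kz
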