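import Mathlib
import Groth.Prelude.Def_GrLC
import Groth.Prelude.Def_GrSyz
import Groth.Agent.Lib.Helper19.GrReg2
import Groth.Agent.Lib.Helper19.Kz5

/-!
# Local-cohomological regularity of graded modules (helper19), part 3

For a Noetherian ℤ-graded ring `R` (graded by additive subgroups) of regularity `≤ 0` with respect to a
proper homogeneous ideal `a` generated by finitely many elements of degree one, and a graded free
resolution `F` of a finite graded module `M` that is minimal with respect to `a`: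
`F.IsGenLE d ↔ LCReg a ℳ d` (`isGenLE_iff_lcreg`).
-/

set_option autoImplicit false
universe u

namespace Groth.Agent.Lib.helper19.GrReg

open GrLC Groth.Agent.Lib.helper19.GrMod Groth.Agent.Lib.helper19.GrLes Groth.Agent.Lib.helper19.GrShift

section Main

variable {R : Type u} [CommRing R] [IsNoetherianRing R] {𝒜 : ℤ → AddSubgroup R} [GradedRing 𝒜]
  (a : HomogeneousIdeal 𝒜)

/-- syzygy regularity bounds the local-cohomological regularity -/
theorem hgr_of_isGenLE (hR : LCReg a 𝒜 0) (T : Finset R) (hT : Ideal.span (T : Set R) = a.toIdeal) :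
    ∀ (t : ℕ) (M : Type u) [AddCommGroup M] [Module R M] (ℳ : ℤ → AddSubgroup M)
      [DirectSum.Decomposition ℳ] [SetLike.GradedSMul 𝒜 ℳ] (F : GrSyz.FreeRes 𝒜 ℳ) (d : ℤ),
      F.IsGenLE d → ∀ (E : StarInjRes 𝒜 ℳ) (j : ℕ) (g : ℤ), T.card + 1 ≤ j + t → d - j < g →
      E.Hgr a j g = ⊥ := by
  intro t
  induction t with
  | zero =>
    intro M _ _ ℳ _ _ F d _ E j g hj _
    have h2 := Groth.Agent.Lib.helper19.GrFin.vanish_of_card_lt T M j (by omega)
    rw [hT] at h2
    have h1 : Subsingleton (LocCoh.H a.toIdeal j M) := h2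
    obtain ⟨e⟩ := Groth.Agent.S13224.result R 𝒜 a M ℳ E j
    haveI : Subsingleton (E.H a j) := e.toEquiv.subsingleton
    exact eq_bot_of_subsingleton E a j g
  | succ t ih =>
    intro M _ _ ℳ _ _ F d hF E j g hj hg
    obtain ⟨E₀⟩ := Groth.Agent.S13215.result R 𝒜 (Fin (F.rk 0) → R) (freeGr 𝒜 (F.deg 0))
    obtain ⟨E₁⟩ := Groth.Agent.S13215.result R 𝒜 (LinearMap.ker F.augLin) (syzGr F)
    have h0 : E₀.Hgr a j g = ⊥ :=
      lcreg_free a hR (F.rk 0) (F.deg 0) d (fun b => by have := hF 0 b; simpa using this) E₀ j g hg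
    have h1 : E₁.Hgr a (j + 1) g = ⊥ :=
      ih (LinearMap.ker F.augLin) (syzGr F) (tail F) (d + 1) (tail_isGenLE F hF) E₁ (j + 1) g
        (by omega) (by push_cast; omega)
    exact ses_right (LinearMap.ker F.augLin).subtype F.augLin (subtype_syz_isGrHom F)
      (augLin_isGrHom F) Subtype.val_injective F.aug_surjective
      (by rw [Submodule.range_subtype]) E₁ E₀ E a j g h0 h1

theorem lcreg_of_isGenLE (hR : LCReg a 𝒜 0) (T : Finset R) (hT : Ideal.span (T : Set R) = a.toIdeal)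
    {M : Type u} [AddCommGroup M] [Module R M] {ℳ : ℤ → AddSubgroup M}
    [DirectSum.Decomposition ℳ] [SetLike.GradedSMul 𝒜 ℳ] (F : GrSyz.FreeRes 𝒜 ℳ) (d : ℤ)
    (hF : F.IsGenLE d) : LCReg a ℳ d :=
  fun E j g hg => hgr_of_isGenLE a hR T hT (T.card + 1) M ℳ F d hF E j g (by omega) hg

/-- the generators of a module of regularity `≤ d` have degrees `≤ d` (minimal resolution) -/
theorem deg_zero_le (xs : List R) (hxs : ∀ x ∈ xs, x ∈ 𝒜 1) (ha : a.toIdeal = Ideal.span {x | x ∈ xs})
    (hone : (1 : R) ∉ a.toIdeal)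
    {M : Type u} [AddCommGroup M] [Module R M] {ℳ : ℤ → AddSubgroup M}
    [DirectSum.Decomposition ℳ] [SetLike.GradedSMul 𝒜 ℳ] (F : GrSyz.FreeRes 𝒜 ℳ)
    (hF : F.IsMinimal a.toIdeal) (d : ℤ) (h : LCReg a ℳ d) (b : Fin (F.rk 0)) : F.deg 0 b ≤ d := by
  classical
  by_contra hcon
  push Not at hcon
  obtain ⟨E⟩ := Groth.Agent.S13215.result R 𝒜 M ℳ
  have hvan : ∀ i : ℕ, E.Hgr a i (F.deg 0 b - i) = ⊥ := fun i => h E i (F.deg 0 b - i) (by omega)
  have h1 := Groth.Agent.Lib.helper19.Kz.gen_of_vanish E a xs hxs ha (F.deg 0 b) hvan (F.aug b)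
    (F.aug_mem b)
  have hmap : a.toIdeal • (⊤ : Submodule R M) =
      (a.toIdeal • (⊤ : Submodule R (Fin (F.rk 0) → R))).map F.augLin := by
    rw [Submodule.map_smul'', Submodule.map_top, LinearMap.range_eq_top.2 F.aug_surjective]
  rw [hmap] at h1
  obtain ⟨w, hw, hwb⟩ := h1
  have hw' : ∀ b', w b' ∈ a.toIdeal := by
    intro b'
    have hle : a.toIdeal • (⊤ : Submodule R (Fin (F.rk 0) → R)) ≤
        Submodule.comap (LinearMap.proj b' : (Fin (F.rk 0) → R) →ₗ[R] R)
          (a.toIdeal : Submodule R R) := by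
      rw [Submodule.smul_le]
      intro r hr v _
      show r * v b' ∈ a.toIdeal
      exact Ideal.mul_mem_right _ _ hr
    exact hle hw
  have hker : (Pi.single b 1 - w : Fin (F.rk 0) → R) ∈ LinearMap.ker F.augLin := by
    rw [LinearMap.mem_ker, map_sub, hwb]
    show Fintype.linearCombination R F.aug (Pi.single b 1) - F.aug b = 0
    rw [Fintype.linearCombination_apply_single, one_smul, sub_self]
  rw [F.exact_zero] at hker
  obtain ⟨u, hu⟩ := hker
  have h2 := Groth.Agent.Lib.helper7.GrSyzBasic.dLin_apply_mem F hF 0 u b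
  have h3 : F.dLin 0 u b = 1 - w b := by
    have := congrFun hu b
    rw [this, Pi.sub_apply, Pi.single_eq_same]
  rw [h3] at h2
  apply hone
  have h4 : (1 : R) = (1 - w b) + w b := by ring
  rw [h4]
  exact Ideal.add_mem _ h2 (hw' b)

/-- the local-cohomological regularity bounds the syzygy regularity (minimal resolution) -/
theorem deg_le_of_lcreg (hR : LCReg a 𝒜 0) (xs : List R) (hxs : ∀ x ∈ xs, x ∈ 𝒜 1)
    (ha : a.toIdeal = Ideal.span {x | x ∈ xs}) (hone : (1 : R) ∉ a.toIdeal) :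
    ∀ (i : ℕ) (M : Type u) [AddCommGroup M] [Module R M] (ℳ : ℤ → AddSubgroup M)
      [DirectSum.Decomposition ℳ] [SetLike.GradedSMul 𝒜 ℳ] (F : GrSyz.FreeRes 𝒜 ℳ),
      F.IsMinimal a.toIdeal → ∀ d : ℤ, LCReg a ℳ d → ∀ b : Fin (F.rk i), F.deg i b ≤ d + i := by
  intro i
  induction i with
  | zero =>
    intro M _ _ ℳ _ _ F hF d h b
    have := deg_zero_le a xs hxs ha hone F hF d h b
    simpa using this
  | succ i ih =>
    intro M _ _ ℳ _ _ F hF d h b
    have h0 : ∀ b, F.deg 0 b ≤ d := deg_zero_le a xs hxs ha hone F hF d h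
    have hfree : LCReg a (freeGr 𝒜 (F.deg 0)) d := lcreg_free a hR (F.rk 0) (F.deg 0) d h0
    have hsyz : LCReg a (syzGr F) (d + 1) := by
      intro E₁ j g hg
      obtain ⟨E₀⟩ := Groth.Agent.S13215.result R 𝒜 (Fin (F.rk 0) → R) (freeGr 𝒜 (F.deg 0))
      obtain ⟨E⟩ := Groth.Agent.S13215.result R 𝒜 M ℳ
      cases j with
      | zero =>
        exact ses_left_zero (LinearMap.ker F.augLin).subtype F.augLin (subtype_syz_isGrHom F)
          (augLin_isGrHom F) Subtype.val_injective F.aug_surjective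
          (by rw [Submodule.range_subtype]) E₁ E₀ a g (hfree E₀ 0 g (by push_cast at hg ⊢; omega))
      | succ j =>
        exact ses_left (LinearMap.ker F.augLin).subtype F.augLin (subtype_syz_isGrHom F)
          (augLin_isGrHom F) Subtype.val_injective F.aug_surjective
          (by rw [Submodule.range_subtype]) E₁ E₀ E a j g (h E j g (by push_cast at hg ⊢; omega))
          (hfree E₀ (j + 1) g (by push_cast at hg ⊢; omega))
    have h1 := ih (LinearMap.ker F.augLin) (syzGr F) (tail F) (tail_isMinimal F hF) (d + 1) hsyz b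
    rw [tail_deg] at h1
    push_cast
    omega

theorem isGenLE_iff_lcreg (hR : LCReg a 𝒜 0) (xs : List R) (hxs : ∀ x ∈ xs, x ∈ 𝒜 1)
    (ha : a.toIdeal = Ideal.span {x | x ∈ xs}) (hone : (1 : R) ∉ a.toIdeal)
    {M : Type u} [AddCommGroup M] [Module R M] {ℳ : ℤ → AddSubgroup M}
    [DirectSum.Decomposition ℳ] [SetLike.GradedSMul 𝒜 ℳ] (F : GrSyz.FreeRes 𝒜 ℳ)
    (hF : F.IsMinimal a.toIdeal) (d : ℤ) : F.IsGenLE d ↔ LCReg a ℳ d := by
  classical
  constructor
  · intro h
    refine lcreg_of_isGenLE a hR xs.toFinset ?_ F d h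
    rw [ha]
    congr 1
    ext x
    simp
  · intro h i b
    exact deg_le_of_lcreg a hR xs hxs ha hone i M ℳ F hF d h b

end Main

end Groth.Agent.Lib.helper19.GrReg
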