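import Mathlib
import Groth.Prelude.Def_GrLC
import Groth.Prelude.Def_GrSyz
import Groth.Agent.Lib.Helper19.GrReg3

/-!
# Graded Auslander–Buchsbaum via local cohomology (helper19), part 1

* `cmapZero`, `cmapAdd`, `exists_cmap_sum` : additivity of the maps induced on graded local cohomology
* `mulShift` : multiplication by a homogeneous element between shifts of a resolution
* `free_Hgr_eq_bot` : `H^j_a(F)_g = 0` for a graded free module as soon as `H^j_a(R)_{g - e_b} = 0` for all `b`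
* `H_subsingleton_iff` : `H^j_a(M) = 0` iff all its graded pieces vanish
* `exists_socle` : a nonzero `a`-torsion module element killed by `a`
-/

set_option autoImplicit false
universe u

namespace Groth.Agent.Lib.helper19.GrAB

open GrLC Groth.Agent.Lib.helper19.GrMod Groth.Agent.Lib.helper19.GrLes Groth.Agent.Lib.helper19.GrShift
  Groth.Agent.Lib.helper19.GrReg

section CMapAdd

variable {ι : Type} [AddCommGroup ι] [DecidableEq ι]
variable {R : Type u} [CommRing R] {𝒜 : ι → AddSubgroup R} [GradedRing 𝒜]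
variable {M : Type u} [AddCommGroup M] [Module R M] {ℳ : ι → AddSubgroup M}
  [DirectSum.Decomposition ℳ] [SetLike.GradedSMul 𝒜 ℳ]
variable {N : Type u} [AddCommGroup N] [Module R N] {𝒩 : ι → AddSubgroup N}
  [DirectSum.Decomposition 𝒩] [SetLike.GradedSMul 𝒜 𝒩]
variable {E : StarInjRes 𝒜 ℳ} {F : StarInjRes 𝒜 𝒩}

/-- the zero chain map -/
def cmapZero (E : StarInjRes 𝒜 ℳ) (F : StarInjRes 𝒜 𝒩) : CMap E F (0 : M →ₗ[R] N) where
  φ := fun _ => 0
  gr := fun _ _ _ _ => zero_mem _
  aug := by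
    ext m
    simp
  comm := fun n => by
    ext x
    simp

/-- the sum of two chain maps -/
def cmapAdd {f f' : M →ₗ[R] N} (c : CMap E F f) (c' : CMap E F f') : CMap E F (f + f') where
  φ := fun n => c.φ n + c'.φ n
  gr := fun n g x hx => add_mem (c.gr n g x hx) (c'.gr n g x hx)
  aug := by
    ext m
    show c.φ 0 (E.ε m) + c'.φ 0 (E.ε m) = F.ε (f m + f' m)
    rw [c.aug_apply, c'.aug_apply, map_add]
  comm := fun n => by
    ext x
    show c.φ (n + 1) (E.d n x) + c'.φ (n + 1) (E.d n x) = F.d n (c.φ n x + c'.φ n x)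
    rw [c.comm_apply, c'.comm_apply, map_add]

variable (a : HomogeneousIdeal 𝒜)

theorem Hmap_cmapZero (n : ℕ) (y : E.H a n) : (cmapZero E F).Hmap a n y = 0 := by
  obtain ⟨z, rfl⟩ := Submodule.mkQ_surjective _ y
  have h1 : (cmapZero E F).cocycMap a n z = 0 := Subtype.ext rfl
  show F.toH a n ((cmapZero E F).cocycMap a n z) = 0
  rw [h1, map_zero]

theorem Hmap_cmapAdd {f f' : M →ₗ[R] N} (c : CMap E F f) (c' : CMap E F f') (n : ℕ) (y : E.H a n) :
    (cmapAdd c c').Hmap a n y = c.Hmap a n y + c'.Hmap a n y := by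
  obtain ⟨z, rfl⟩ := Submodule.mkQ_surjective _ y
  have h1 : (cmapAdd c c').cocycMap a n z = c.cocycMap a n z + c'.cocycMap a n z := Subtype.ext rfl
  show F.toH a n ((cmapAdd c c').cocycMap a n z) =
    F.toH a n (c.cocycMap a n z) + F.toH a n (c'.cocycMap a n z)
  rw [h1, map_add]

theorem exists_cmap_sum {κ : Type} (s : Finset κ) (f : κ → M →ₗ[R] N) (c : ∀ i, CMap E F (f i)) (n : ℕ) :
    ∃ C : CMap E F (∑ i ∈ s, f i), ∀ y, C.Hmap a n y = ∑ i ∈ s, (c i).Hmap a n y := by
  classical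
  induction s using Finset.induction_on with
  | empty =>
    refine ⟨(cmapZero E F).ofEq (Finset.sum_empty).symm, fun y => ?_⟩
    rw [CMap.Hmap_ofEq, Hmap_cmapZero, Finset.sum_empty]
  | insert i s hi ih =>
    obtain ⟨C, hC⟩ := ih
    refine ⟨(cmapAdd (c i) C).ofEq (Finset.sum_insert hi).symm, fun y => ?_⟩
    rw [CMap.Hmap_ofEq, Hmap_cmapAdd, hC, Finset.sum_insert hi]

/-- multiplication by a homogeneous element between two shifts of a resolution -/
noncomputable def mulShift (E : StarInjRes 𝒜 ℳ) (x : R) (e e' : ι) (hx : x ∈ 𝒜 (e - e'))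
    [DirectSum.Decomposition (shiftPiece ℳ (-e))] [SetLike.GradedSMul 𝒜 (shiftPiece ℳ (-e))]
    [DirectSum.Decomposition (shiftPiece ℳ (-e'))] [SetLike.GradedSMul 𝒜 (shiftPiece ℳ (-e'))] :
    CMap (shiftRes E (-e)) (shiftRes E (-e')) (x • (LinearMap.id : M →ₗ[R] M)) where
  φ := fun n => x • (LinearMap.id : (E.X n).carrier →ₗ[R] (E.X n).carrier)
  gr := fun n g y hy => by
    have hy' : y ∈ (E.X n).gr (g + -e) := hy
    have h1 := smul_mem_add 𝒜 (E.X n).gr hx hy'
    have h2 : e - e' + (g + -e) = g + -e' := by abel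
    rw [h2] at h1
    exact h1
  aug := by
    ext m
    show x • E.ε m = E.ε (x • m)
    rw [map_smul]
  comm := fun n => LinearMap.ext fun y => ((E.d n).map_smul x y).symm

theorem mulShift_Hmap (E : StarInjRes 𝒜 ℳ) (x : R) (e e' : ι) (hx : x ∈ 𝒜 (e - e'))
    [DirectSum.Decomposition (shiftPiece ℳ (-e))] [SetLike.GradedSMul 𝒜 (shiftPiece ℳ (-e))]
    [DirectSum.Decomposition (shiftPiece ℳ (-e'))] [SetLike.GradedSMul 𝒜 (shiftPiece ℳ (-e'))]
    (n : ℕ) (y : E.H a n) :
    (mulShift E x e e' hx).Hmap a n (show (shiftRes E (-e)).H a n from y) = x • y := by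
  obtain ⟨z, rfl⟩ := Submodule.mkQ_surjective _ y
  rfl

end CMapAdd

section Internal

variable {R : Type u} [CommRing R] [IsNoetherianRing R] {𝒜 : ℤ → AddSubgroup R} [GradedRing 𝒜]
variable {M : Type u} [AddCommGroup M] [Module R M] {ℳ : ℤ → AddSubgroup M}
  [DirectSum.Decomposition ℳ] [SetLike.GradedSMul 𝒜 ℳ]

theorem H_subsingleton_iff (E : StarInjRes 𝒜 ℳ) (a : HomogeneousIdeal 𝒜) (j : ℕ) :
    (∀ g : ℤ, E.Hgr a j g = ⊥) ↔ Subsingleton (E.H a j) := by
  classical
  constructor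
  · intro h
    have hint := Groth.Agent.S13225.result R 𝒜 a M ℳ E j
    have hz : ∀ y : E.H a j, y = 0 := by
      intro y
      obtain ⟨w, rfl⟩ := hint.2 y
      rw [DirectSum.coeAddMonoidHom_eq_dfinsuppSum]
      apply Finset.sum_eq_zero
      intro g _
      have h1 : ((w g : E.Hgr a j g) : E.H a j) ∈ E.Hgr a j g := (w g).2
      have h2 : ∀ v ∈ E.Hgr a j g, v = 0 := by
        intro v hv
        rw [h g, AddSubgroup.mem_bot] at hv
        exact hv
      exact h2 _ h1
    exact ⟨fun x y => by rw [hz x, hz y]⟩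
  · intro h g
    exact eq_bot_of_subsingleton E a j g

/-- a nonzero socle element of a nonzero local cohomology module -/
theorem exists_socle (E : StarInjRes 𝒜 ℳ) (a : HomogeneousIdeal 𝒜) (j : ℕ) [Nontrivial (E.H a j)] :
    ∃ η : E.H a j, η ≠ 0 ∧ ∀ x ∈ a.toIdeal, x • η = 0 := by
  classical
  obtain ⟨y, hy⟩ := exists_ne (0 : E.H a j)
  have hex : ∃ N : ℕ, ∀ r ∈ a.toIdeal ^ N, r • y = 0 := exists_pow_smul_eq_zero a E j y
  have hN := Nat.find_spec hex
  have hN0 : Nat.find hex ≠ 0 := by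
    intro h0
    have := hN 1 (by rw [h0, pow_zero, Ideal.one_eq_top]; trivial)
    rw [one_smul] at this
    exact hy this
  obtain ⟨N', hN'⟩ : ∃ N', Nat.find hex = N' + 1 := ⟨Nat.find hex - 1, by omega⟩
  have hmin : ¬ ∀ r ∈ a.toIdeal ^ N', r • y = 0 := Nat.find_min hex (by omega)
  push Not at hmin
  obtain ⟨r, hr, hry⟩ := hmin
  refine ⟨r • y, hry, fun x hx => ?_⟩
  rw [smul_smul]
  apply hN
  rw [hN', pow_succ']
  exact Ideal.mul_mem_mul hx hr

end Internal

end Groth.Agent.Lib.helper19.GrAB
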