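import Mathlib
import Groth.Prelude.Def_GrLC
import Groth.Agent.Lib.Helper19.GrMod
import Groth.Agent.Lib.Helper19.GrShift
import Groth.Agent.Lib.Helper19.GrLes6
import Groth.Agent.Lib.Helper19.GrLes7
import Groth.Agent.Lib.Helper19.GrAB1
import Groth.Agent.S13225

/-!
# Top graded local cohomology of a graded ring whose *maximal ideal is generated by a homogeneous
regular sequence (helper19), part 1: the inductive step

* `exists_factor` : factoring a linear map through a surjection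
* `les_regular_full` : the long exact sequence of a homogeneous regular element (all elements)
* `smul_H_eq_zero` : a homogeneous element killing `M` kills `H^n_a(M)`
* `exists_extension` : the extension lemma (`H[x] ≅ E'[J + x]` extends to `H ≅ E'[J]`)
* `step` : the inductive step `M/xM ⇝ M`
-/

set_option autoImplicit false
universe u

namespace Groth.Agent.Lib.helper19.CanPoly

open GrLC Groth.Agent.Lib.helper19.GrMod Groth.Agent.Lib.helper19.GrLes
  Groth.Agent.Lib.helper19.GrShift Groth.Agent.Lib.helper19.GrAB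

section Factor

/-- factor a linear map through a surjection -/
theorem exists_factor {R : Type*} [CommRing R] {A B P : Type*} [AddCommGroup A] [AddCommGroup B]
    [AddCommGroup P] [Module R A] [Module R B] [Module R P] (π : A →ₗ[R] B)
    (hπ : Function.Surjective π) (f : A →ₗ[R] P) (h : LinearMap.ker π ≤ LinearMap.ker f) :
    ∃ ρ : B →ₗ[R] P, ∀ a, ρ (π a) = f a := by
  refine ⟨(LinearMap.ker π).liftQ f h ∘ₗ (π.quotKerEquivOfSurjective hπ).symm.toLinearMap,
    fun a => ?_⟩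
  have h1 : (π.quotKerEquivOfSurjective hπ).symm (π a) = Submodule.Quotient.mk a := by
    rw [LinearEquiv.symm_apply_eq]
    rfl
  rw [LinearMap.comp_apply, LinearEquiv.coe_coe, h1, Submodule.liftQ_apply]

end Factor

section Les

variable {ι : Type} [AddCommGroup ι] [DecidableEq ι]
variable {R : Type u} [CommRing R] {𝒜 : ι → AddSubgroup R} [GradedRing 𝒜]
variable {M : Type u} [AddCommGroup M] [Module R M] {ℳ : ι → AddSubgroup M}
  [DirectSum.Decomposition ℳ] [SetLike.GradedSMul 𝒜 ℳ]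
variable {N : Type u} [AddCommGroup N] [Module R N] {𝒩 : ι → AddSubgroup N}
  [DirectSum.Decomposition 𝒩] [SetLike.GradedSMul 𝒜 𝒩]

/-- the long exact sequence of graded local cohomology for a homogeneous `M`-regular element `x` of
degree `k` and `N = M/xM`: exactness for all elements, `δ` of degree `-k` -/
theorem les_regular_full (E : StarInjRes 𝒜 ℳ) (F : StarInjRes 𝒜 𝒩) (x : R) (k : ι) (hx : x ∈ 𝒜 k)
    (hreg : IsSMulRegular M x) (π : M →ₗ[R] N) (hπ : IsGrHom ℳ 𝒩 π) (hsurj : Function.Surjective π)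
    (hker : LinearMap.ker π = LinearMap.range (x • (LinearMap.id : M →ₗ[R] M)))
    (a : HomogeneousIdeal 𝒜) :
    ∃ (ψ : ∀ n, E.H a n →ₗ[R] F.H a n) (δ : ∀ n, F.H a n →ₗ[R] E.H a (n + 1)),
      (∀ n g w, w ∈ F.Hgr a n g → δ n w ∈ E.Hgr a (n + 1) (g - k)) ∧
      (∀ y : E.H a 0, x • y = 0 → y = 0) ∧
      (∀ n (y : E.H a n), ψ n y = 0 → ∃ z : E.H a n, x • z = y) ∧
      (∀ n (w : F.H a n), δ n w = 0 → ∃ y, ψ n y = w) ∧
      (∀ n (y : E.H a (n + 1)), x • y = 0 → ∃ w, δ n w = y) ∧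
      (∀ n (w : F.H a n), x • δ n w = 0) := by
  classical
  letI : DirectSum.Decomposition (shiftPiece ℳ (-k)) := shiftDecomposition ℳ (-k)
  letI : SetLike.GradedSMul 𝒜 (shiftPiece ℳ (-k)) := shift_gradedSMul 𝒜 ℳ (-k)
  have hi : IsGrHom (shiftPiece ℳ (-k)) ℳ (x • (LinearMap.id : M →ₗ[R] M)) := by
    intro g m hm
    have hm' : m ∈ ℳ (g + -k) := hm
    have h1 := smul_mem_add 𝒜 ℳ hx hm'
    have h2 : k + (g + -k) = g := by abel
    rw [h2] at h1
    exact h1
  have hinj : Function.Injective (x • (LinearMap.id : M →ₗ[R] M)) := hreg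
  obtain ⟨ψc⟩ := exists_cmap E F π hπ
  obtain ⟨δ, hδgr, h0, h1, h2, h3⟩ := les (x • (LinearMap.id : M →ₗ[R] M)) π hi hπ hinj hsurj hker
    (shiftRes E (-k)) E F (mulCMap E x k hx) ψc a
  have hmul : ∀ n (y : E.H a n), (mulCMap E x k hx).Hmap a n y = x • y :=
    fun n y => mulCMap_Hmap a E x k hx n y
  refine ⟨fun n => ψc.Hmap a n, δ, ?_, ?_, ?_, ?_, ?_, ?_⟩
  · intro n g w hw
    have h4 := hδgr n g w hw
    have h5 : δ n w ∈ E.Hgr a (n + 1) (g + -k) := h4
    rw [sub_eq_add_neg]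
    exact h5
  · intro y hy
    rw [← hmul] at hy
    exact h0 (hy.trans (map_zero _).symm)
  · intro n y hψ
    have h4 : y ∈ LinearMap.ker (ψc.Hmap a n) := hψ
    rw [h1 n] at h4
    obtain ⟨z, hz⟩ := h4
    refine ⟨z, ?_⟩
    rw [← hmul]
    exact hz
  · intro n w hδ
    have h4 : w ∈ LinearMap.ker (δ n) := hδ
    rw [h2 n] at h4
    exact h4
  · intro n y hxy
    have h4 : (mulCMap E x k hx).Hmap a (n + 1) y = 0 := by rw [hmul]; exact hxy
    have h5 : (show (shiftRes E (-k)).H a (n + 1) from y) ∈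
        LinearMap.ker ((mulCMap E x k hx).Hmap a (n + 1)) := h4
    rw [h3 n] at h5
    exact h5
  · intro n w
    have h4 : δ n w ∈ LinearMap.range (δ n) := ⟨w, rfl⟩
    rw [← h3 n] at h4
    have h5 : (mulCMap E x k hx).Hmap a (n + 1) (δ n w) = 0 := h4
    rw [← hmul]
    exact h5

/-- a homogeneous element killing `M` kills the graded local cohomology of `M` -/
theorem smul_H_eq_zero (E : StarInjRes 𝒜 ℳ) (a : HomogeneousIdeal 𝒜) (n : ℕ) (x : R) (k : ι)
    (hx : x ∈ 𝒜 k) (hkill : ∀ m : M, x • m = 0) (y : E.H a n) : x • y = 0 := by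
  classical
  letI : DirectSum.Decomposition (shiftPiece ℳ (-k)) := shiftDecomposition ℳ (-k)
  letI : SetLike.GradedSMul 𝒜 (shiftPiece ℳ (-k)) := shift_gradedSMul 𝒜 ℳ (-k)
  have h0 : (x • (LinearMap.id : M →ₗ[R] M)) = 0 := by
    ext m
    exact hkill m
  rw [← mulCMap_Hmap a E x k hx n y,
    Hmap_eq' (mulCMap E x k hx) (cmapZero (shiftRes E (-k)) E) h0 a n, Hmap_cmapZero]

/-- an ideal generated by homogeneous elements killing `M` kills the graded local cohomology -/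
theorem ideal_smul_H_eq_zero (E : StarInjRes 𝒜 ℳ) (a : HomogeneousIdeal 𝒜) (n : ℕ) (S : Set R)
    (hS : ∀ s ∈ S, ∃ k, s ∈ 𝒜 k) (hkill : ∀ s ∈ S, ∀ m : M, s • m = 0) (r : R)
    (hr : r ∈ Ideal.span S) (y : E.H a n) : r • y = 0 := by
  induction hr using Submodule.span_induction with
  | mem s hs =>
    obtain ⟨k, hk⟩ := hS s hs
    exact smul_H_eq_zero E a n s k hk (hkill s hs) y
  | zero => exact zero_smul _ _
  | add p q _ _ hp hq => rw [add_smul, hp, hq, add_zero]
  | smul c p _ hp => rw [smul_eq_mul, mul_smul, hp, smul_zero]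

end Les

section Ext

variable {ι : Type} [AddCommGroup ι] [DecidableEq ι]
variable {R : Type u} [CommRing R] {𝒜 : ι → AddSubgroup R} [GradedRing 𝒜]
variable {K : Type u} [AddCommGroup K] [Module R K] (𝒦 : ι → AddSubgroup K)
  [DirectSum.Decomposition 𝒦] [SetLike.GradedSMul 𝒜 𝒦]
variable {H : Type u} [AddCommGroup H] [Module R H] (ℋ : ι → AddSubgroup H)
  [DirectSum.Decomposition ℋ] [SetLike.GradedSMul 𝒜 ℋ]
variable {E' : Type u} [AddCommGroup E'] [Module R E'] (𝓔 : ι → AddSubgroup E')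
  [DirectSum.Decomposition 𝓔] [SetLike.GradedSMul 𝒜 𝓔]

/-- the extension lemma: if `H` is `x`-power torsion with `x` surjective, killed by `J`, and the
`x`-torsion `K ≅ H[x]` (via `δ`, of degree `-w`) is identified (via `θ'`, of degree `s`) with
`E'[J + x]`, where `E'` is *injective and `E'[J]` is `x`-power torsion, then `H ≅ E'[J]` by a map of
degree `w + s` extending `θ'`. -/
theorem exists_extension (hE : IsStarInj 𝒜 𝓔) (x : R) (w s : ι) (J : Ideal R)
    (htors : ∀ y : H, ∃ t : ℕ, x ^ t • y = 0)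
    (hsurj : ∀ y : H, ∃ y' : H, x • y' = y)
    (hJ : ∀ r ∈ J, ∀ y : H, r • y = 0)
    (htorsE : ∀ u : E', (∀ r ∈ J, r • u = 0) → ∃ t : ℕ, x ^ t • u = 0)
    (δ : K →ₗ[R] H) (hδgr : ∀ g k, k ∈ 𝒦 g → δ k ∈ ℋ (g - w)) (hδinj : Function.Injective δ)
    (hδker : ∀ y : H, x • y = 0 → ∃ k, δ k = y)
    (θ' : K →ₗ[R] E') (hθ'gr : IsGrHomDeg 𝒦 𝓔 θ' s) (hθ'inj : Function.Injective θ')
    (hθ'surj : ∀ u : E', (∀ r ∈ J, r • u = 0) → x • u = 0 → ∃ k, θ' k = u) :
    ∃ θ : H →ₗ[R] E', Function.Injective θ ∧ IsGrHomDeg ℋ 𝓔 θ (w + s) ∧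
      (∀ u : E', (∀ r ∈ J, r • u = 0) → ∃ y, θ y = u) ∧ ∀ k, θ (δ k) = θ' k := by
  classical
  letI : DirectSum.Decomposition (shiftPiece 𝓔 (w + s)) := shiftDecomposition 𝓔 (w + s)
  letI : SetLike.GradedSMul 𝒜 (shiftPiece 𝓔 (w + s)) := shift_gradedSMul 𝒜 𝓔 (w + s)
  have hE' : IsStarInj 𝒜 (shiftPiece 𝓔 (w + s)) := starInj_shift 𝒜 𝓔 hE (w + s)
  let A : GMod.{u} 𝒜 := shiftGMod 𝒜 (GMod.of 𝒜 K 𝒦) w
  let B : GMod.{u} 𝒜 := GMod.of 𝒜 H ℋ
  have hδ' : IsGrHom A.gr B.gr δ := by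
    intro g k hk
    have hk' : k ∈ 𝒦 (g + w) := hk
    have h1 := hδgr (g + w) k hk'
    rwa [add_sub_cancel_right] at h1
  have hθ'' : IsGrHom A.gr (shiftPiece 𝓔 (w + s)) θ' := by
    intro g k hk
    have hk' : k ∈ 𝒦 (g + w) := hk
    have h1 := hθ'gr (g + w) k hk'
    show θ' k ∈ 𝓔 (g + (w + s))
    rwa [add_assoc] at h1
  obtain ⟨θ0, hθgr, hθ⟩ := hE' A B δ hδ' hδinj θ' hθ''
  obtain ⟨θ, hθ0⟩ : ∃ θ : H →ₗ[R] E', θ = θ0 := ⟨θ0, rfl⟩
  have hθδ : ∀ k, θ (δ k) = θ' k := fun k => by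
    rw [hθ0]
    exact LinearMap.congr_fun hθ k
  refine ⟨θ, ?_, by rw [hθ0]; exact hθgr, ?_, hθδ⟩
  · rw [injective_iff_map_eq_zero]
    have key : ∀ t : ℕ, ∀ y : H, x ^ t • y = 0 → θ y = 0 → y = 0 := by
      intro t
      induction t with
      | zero =>
        intro y hy _
        simpa using hy
      | succ t ih =>
        intro y hy hθy
        have h1 : x • (x ^ t • y) = 0 := by
          rw [smul_smul, ← pow_succ']
          exact hy
        obtain ⟨k, hk⟩ := hδker _ h1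
        have h2 : θ' k = 0 := by
          rw [← hθδ, hk, map_smul, hθy, smul_zero]
        have h3 : k = 0 := hθ'inj (h2.trans (map_zero _).symm)
        rw [h3, map_zero] at hk
        exact ih y hk.symm hθy
    intro y hy
    obtain ⟨t, ht⟩ := htors y
    exact key t y ht hy
  · have key : ∀ t : ℕ, ∀ u : E', (∀ r ∈ J, r • u = 0) → x ^ t • u = 0 → ∃ y, θ y = u := by
      intro t
      induction t with
      | zero =>
        intro u _ hu
        refine ⟨0, ?_⟩
        rw [map_zero]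
        simpa using hu.symm
      | succ t ih =>
        intro u hJu hu
        have h1 : ∀ r ∈ J, r • (x • u) = 0 := fun r hr => by
          rw [smul_comm, hJu r hr, smul_zero]
        have h2 : x ^ t • (x • u) = 0 := by
          rw [smul_smul, ← pow_succ]
          exact hu
        obtain ⟨y', hy'⟩ := ih (x • u) h1 h2
        obtain ⟨y'', hy''⟩ := hsurj y'
        have h3 : x • (θ y'' - u) = 0 := by
          rw [smul_sub, ← map_smul, hy'', hy', sub_self]
        have h4 : ∀ r ∈ J, r • (θ y'' - u) = 0 := fun r hr => by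
          rw [smul_sub, ← map_smul, hJ r hr, map_zero, hJu r hr, sub_zero]
        obtain ⟨k, hk⟩ := hθ'surj _ h4 h3
        refine ⟨y'' - δ k, ?_⟩
        rw [map_sub, hθδ, hk]
        abel
    intro u hu
    obtain ⟨t, ht⟩ := htorsE u hu
    exact key t u hu ht

end Ext

section Step

variable {ι : Type} [AddCommGroup ι] [DecidableEq ι] [Module.Free ℤ ι] [Module.Finite ℤ ι]
variable {R : Type u} [CommRing R] [IsNoetherianRing R] {𝒜 : ι → AddSubgroup R} [GradedRing 𝒜]
variable {M : Type u} [AddCommGroup M] [Module R M] {ℳ : ι → AddSubgroup M}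
  [DirectSum.Decomposition ℳ] [SetLike.GradedSMul 𝒜 ℳ]
variable {N : Type u} [AddCommGroup N] [Module R N] {𝒩 : ι → AddSubgroup N}
  [DirectSum.Decomposition 𝒩] [SetLike.GradedSMul 𝒜 𝒩]
variable {E' : Type u} [AddCommGroup E'] [Module R E'] (𝓔 : ι → AddSubgroup E')
  [DirectSum.Decomposition 𝓔] [SetLike.GradedSMul 𝒜 𝓔]

/-- the inductive step: if `x` is a homogeneous `M`-regular element of degree `w` in `a`,
`N = M/xM` has `H^j_a(N) = 0` for `j ≠ n` and `H^n_a(N) ≅ E'[(x, S)]` (degree `s`), where `S` is a set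
of homogeneous elements killing `M`, then `H^j_a(M) = 0` for `j ≠ n + 1` and
`H^{n+1}_a(M) ≅ E'[S]` (degree `w + s`). -/
theorem step (E : StarInjRes 𝒜 ℳ) (F : StarInjRes 𝒜 𝒩) (x : R) (w : ι) (hx : x ∈ 𝒜 w)
    (a : HomogeneousIdeal 𝒜) (hxa : x ∈ a.toIdeal)
    (hreg : IsSMulRegular M x) (π : M →ₗ[R] N) (hπ : IsGrHom ℳ 𝒩 π) (hsurj : Function.Surjective π)
    (hker : LinearMap.ker π = LinearMap.range (x • (LinearMap.id : M →ₗ[R] M)))
    (S : Set R) (hS : ∀ s ∈ S, ∃ k, s ∈ 𝒜 k) (hkill : ∀ s ∈ S, ∀ m : M, s • m = 0)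
    (hE : IsStarInj 𝒜 𝓔) (htorsE : ∀ u : E', ∃ t : ℕ, x ^ t • u = 0)
    (n : ℕ) (s : ι)
    (hvan : ∀ j, j ≠ n → Subsingleton (F.H a j))
    (θ' : F.H a n →ₗ[R] E') (hθ'inj : Function.Injective θ')
    (hθ'gr : IsGrHomDeg (F.Hgr a n) 𝓔 θ' s)
    (hθ'surj : ∀ u : E', (∀ r ∈ Ideal.span (insert x S), r • u = 0) → ∃ k, θ' k = u) :
    (∀ j, j ≠ n + 1 → Subsingleton (E.H a j)) ∧
    ∃ θ : E.H a (n + 1) →ₗ[R] E', Function.Injective θ ∧
      IsGrHomDeg (E.Hgr a (n + 1)) 𝓔 θ (w + s) ∧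
      ∀ u : E', (∀ r ∈ Ideal.span S, r • u = 0) → ∃ y, θ y = u := by
  classical
  obtain ⟨ψ, δ, hδgr, hx0, hexE, hexF, hexδ, hxδ⟩ :=
    les_regular_full E F x w hx hreg π hπ hsurj hker a
  -- `x` is injective on `H^j(M)` for `j ≠ n + 1`
  have hinj : ∀ j, j ≠ n + 1 → ∀ y : E.H a j, x • y = 0 → y = 0 := by
    intro j hj y hy
    cases j with
    | zero => exact hx0 y hy
    | succ j =>
      obtain ⟨w', hw'⟩ := hexδ j y hy
      haveI := hvan j (fun h => hj (by rw [h]))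
      rw [← hw', Subsingleton.elim w' 0, map_zero]
  have hvanE : ∀ j, j ≠ n + 1 → Subsingleton (E.H a j) := by
    intro j hj
    have key : ∀ t : ℕ, ∀ y : E.H a j, x ^ t • y = 0 → y = 0 := by
      intro t
      induction t with
      | zero =>
        intro y hy
        simpa using hy
      | succ t ih =>
        intro y hy
        have h1 : x • (x ^ t • y) = 0 := by
          rw [smul_smul, ← pow_succ']
          exact hy
        exact ih y (hinj j hj _ h1)
    refine ⟨fun y y' => ?_⟩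
    have h0 : ∀ y : E.H a j, y = 0 := fun y => by
      obtain ⟨t, ht⟩ := exists_pow_smul_eq_zero' a E j y x hxa
      exact key t y ht
    rw [h0 y, h0 y']
  refine ⟨hvanE, ?_⟩
  -- gradings on the cohomology modules
  letI : DirectSum.Decomposition (E.Hgr a (n + 1)) :=
    (Groth.Agent.S13225.result R 𝒜 a M ℳ E (n + 1)).chooseDecomposition
  letI : DirectSum.Decomposition (F.Hgr a n) :=
    (Groth.Agent.S13225.result R 𝒜 a N 𝒩 F n).chooseDecomposition
  haveI : SetLike.GradedSMul 𝒜 (E.Hgr a (n + 1)) :=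
    ⟨fun {i j r y} hr hy => smul_mem_Hgr E a (n + 1) hr hy⟩
  haveI : SetLike.GradedSMul 𝒜 (F.Hgr a n) :=
    ⟨fun {i j r y} hr hy => smul_mem_Hgr F a n hr hy⟩
  have hsurjx : ∀ y : E.H a (n + 1), ∃ y' : E.H a (n + 1), x • y' = y := by
    intro y
    haveI := hvan (n + 1) (by omega)
    exact hexE (n + 1) y (Subsingleton.elim _ _)
  have hδinj : Function.Injective (δ n) := by
    rw [injective_iff_map_eq_zero]
    intro w' hw'
    obtain ⟨y, hy⟩ := hexF n w' hw'
    haveI := hvanE n (by omega)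
    rw [← hy, Subsingleton.elim y 0, map_zero]
  have hθ'surj' : ∀ u : E', (∀ r ∈ Ideal.span S, r • u = 0) → x • u = 0 → ∃ k, θ' k = u := by
    intro u hu hxu
    apply hθ'surj u
    intro r hr
    induction hr using Submodule.span_induction with
    | mem s hs =>
      rcases hs with rfl | hs
      · exact hxu
      · exact hu s (Ideal.subset_span hs)
    | zero => exact zero_smul _ _
    | add p q _ _ hp hq => rw [add_smul, hp, hq, add_zero]
    | smul c p _ hp => rw [smul_eq_mul, mul_smul, hp, smul_zero]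
  obtain ⟨θ, hθinj, hθgr, hθsurj, -⟩ := exists_extension (𝒜 := 𝒜) (F.Hgr a n) (E.Hgr a (n + 1)) 𝓔 hE
    x w s (Ideal.span S)
    (fun y => exists_pow_smul_eq_zero' a E (n + 1) y x hxa) hsurjx
    (fun r hr y => ideal_smul_H_eq_zero E a (n + 1) S hS hkill r hr y)
    (fun u _ => htorsE u) (δ n) (hδgr n) hδinj (hexδ n) θ' hθ'gr hθ'inj hθ'surj'
  exact ⟨θ, hθinj, hθgr, hθsurj⟩

end Step

end Groth.Agent.Lib.helper19.CanPoly
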