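import Mathlib
import Groth.Prelude.Def_GrLC
import Groth.Agent.Lib.Helper19.CanPoly1
import Groth.Agent.Lib.Helper19.GrFin3
import Groth.Agent.Lib.Helper19.LCGroth
import Groth.Agent.Lib.Helper19.HullTools
import Groth.Agent.S13224
import Groth.Agent.S13215
import Groth.Agent.S18637

/-!
# Top graded local cohomology of a graded ring whose *maximal ideal is generated by a homogeneous
regular sequence (helper19), part 2: the base case and the induction

* `socle_le_range` : the socle of an essential extension of `R/m` (`m` maximal) is `R/m`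
* `base` : `H^j_m(R/m) = 0` for `j ≠ 0`, `H^0_m(R/m) ≅ E'[m]`
* `main` : `H^N_m(R) ≅ E'(w_0 + ⋯ + w_{N-1})` when `m = (x_0, …, x_{N-1})` is generated by a
  homogeneous regular sequence of degrees `w_i`
-/

set_option autoImplicit false
universe u

namespace Groth.Agent.Lib.helper19.CanPoly

open GrLC Groth.Agent.Lib.helper19.GrMod Groth.Agent.Lib.helper19.GrLes
  Groth.Agent.Lib.helper19.GrShift Groth.Agent.Lib.helper19.GrAB Groth.Agent.Lib.helper19.GrFin

section Socle

variable {R : Type u} [CommRing R] {E' : Type u} [AddCommGroup E'] [Module R E']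

theorem socle_le_range (m : Ideal R) [hm : m.IsMaximal] (e : (R ⧸ m) →ₗ[R] E')
    (he : InjHull.IsEssentialInj e) (u : E') (hu : ∀ r ∈ m, r • u = 0) : ∃ q, e q = u := by
  by_cases h0 : u = 0
  · exact ⟨0, by rw [map_zero, h0]⟩
  have hN : (Submodule.span R {u} : Submodule R E') ≠ ⊥ := by
    intro h
    apply h0
    have : u ∈ (Submodule.span R {u} : Submodule R E') := Submodule.subset_span rfl
    rw [h] at this
    exact (Submodule.mem_bot R).1 this
  have h1 := he.essential _ hN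
  obtain ⟨v, hv, hv0⟩ := Submodule.exists_mem_ne_zero_of_ne_bot h1
  obtain ⟨hv1, q, hq⟩ := hv
  obtain ⟨r, hr⟩ := Submodule.mem_span_singleton.1 hv1
  have hrm : r ∉ m := by
    intro h
    apply hv0
    rw [← hr, hu r h]
  obtain ⟨y, i, hi, hyi⟩ := hm.exists_inv hrm
  refine ⟨y • q, ?_⟩
  rw [map_smul, hq, ← hr, smul_smul]
  have : u = (y * r + i) • u := by rw [hyi, one_smul]
  rw [add_smul, hu i hi, add_zero] at this
  exact this.symm

end Socle

section Base

variable {R : Type u} [CommRing R] [IsNoetherianRing R] {𝒜 : ℤ → AddSubgroup R} [GradedRing 𝒜]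
variable {M : Type u} [AddCommGroup M] [Module R M] {ℳ : ℤ → AddSubgroup M}
  [DirectSum.Decomposition ℳ] [SetLike.GradedSMul 𝒜 ℳ]
variable {E' : Type u} [AddCommGroup E'] [Module R E'] (𝓔 : ℤ → AddSubgroup E')
  [DirectSum.Decomposition 𝓔] [SetLike.GradedSMul 𝒜 𝓔]

/-- the base case: `M ≅ R/m` -/
theorem base (m : HomogeneousIdeal 𝒜) [hmax : m.toIdeal.IsMaximal]
    (e : (R ⧸ m.toIdeal) →ₗ[R] E') (he : IsStarInjHull 𝒜 (quotGr 𝒜 m) 𝓔 e)
    (π : R →ₗ[R] M) (hπ : IsGrHom 𝒜 ℳ π) (hsurj : Function.Surjective π)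
    (hker : LinearMap.ker π = m.toIdeal) (F : StarInjRes 𝒜 ℳ) :
    (∀ j, j ≠ 0 → Subsingleton (F.H m j)) ∧
    ∃ θ : F.H m 0 →ₗ[R] E', Function.Injective θ ∧ IsGrHomDeg (F.Hgr m 0) 𝓔 θ 0 ∧
      ∀ u : E', (∀ r ∈ m.toIdeal, r • u = 0) → ∃ y, θ y = u := by
  classical
  have hull := Groth.Agent.S18637.result R 𝒜 m E' 𝓔 e he
  constructor
  · intro j hj
    obtain ⟨eq⟩ := Groth.Agent.S13224.result R 𝒜 m M ℳ F j
    have hq : LinearMap.ker (Submodule.mkQ m.toIdeal) ≤ LinearMap.ker π := by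
      rw [Submodule.ker_mkQ, hker]
    have h1 : Module.supportDim R M ≤ 0 := by
      have h2 : Function.Surjective (m.toIdeal.liftQ π (le_of_eq hker.symm)) := by
        intro y
        obtain ⟨r, rfl⟩ := hsurj y
        exact ⟨Submodule.Quotient.mk r, rfl⟩
      refine (Module.supportDim_le_of_surjective _ h2).trans ?_
      rw [Module.supportDim_quotient_eq_ringKrullDim]
      exact le_of_eq (ringKrullDim_eq_zero_of_isField
        ((Ideal.Quotient.maximal_ideal_iff_isField_quotient _).1 hmax))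
    have h3 : Module.supportDim R M < (j : WithBot ℕ∞) := by
      refine lt_of_le_of_lt h1 ?_
      have : 0 < j := Nat.pos_of_ne_zero hj
      exact_mod_cast this
    have := Groth.Agent.Lib.helper19.LCGroth.vanish m.toIdeal M j h3
    exact eq.toEquiv.subsingleton
  · obtain ⟨ρ, hρ⟩ := exists_factor π hsurj (Submodule.mkQ m.toIdeal)
      (by rw [Submodule.ker_mkQ, hker])
    have hρinj : Function.Injective ρ := by
      rw [injective_iff_map_eq_zero]
      intro y hy
      obtain ⟨r, rfl⟩ := hsurj y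
      rw [hρ] at hy
      have : r ∈ LinearMap.ker π := by
        rw [hker]
        exact (Submodule.Quotient.mk_eq_zero _).1 hy
      exact this
    refine ⟨e ∘ₗ ρ ∘ₗ H0toM F m, ?_, ?_, ?_⟩
    · exact he.injective.comp (hρinj.comp (H0toM_injective F m))
    · intro g y hy
      have h1 := H0toM_mem_piece F m hy
      obtain ⟨r, hr, hr'⟩ := exists_mem_of_isGrHom (R := R) 𝒜 ℳ
        (DirectSum.Decomposition.isInternal 𝒜) (DirectSum.Decomposition.isInternal ℳ) π hπ h1
        (hsurj (H0toM F m y)).choose (hsurj (H0toM F m y)).choose_spec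
      show e (ρ (H0toM F m y)) ∈ 𝓔 (g + 0)
      rw [add_zero, ← hr', hρ]
      apply he.grHom g
      exact ⟨r, hr, rfl⟩
    · intro u hu
      obtain ⟨q, hq⟩ := socle_le_range m.toIdeal e hull.toIsEssentialInj u hu
      obtain ⟨r, rfl⟩ := Submodule.mkQ_surjective _ q
      have hz : F.ε (π r) ∈ F.cocyc m 0 := by
        refine ⟨⟨1, fun a ha => ?_⟩, ?_⟩
        · rw [pow_one] at ha
          rw [← map_smul, ← map_smul, smul_eq_mul]
          have : a * r ∈ LinearMap.ker π := by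
            rw [hker]
            exact Ideal.mul_mem_right _ _ ha
          rw [LinearMap.mem_ker.1 this, map_zero]
        · rw [F.exact_zero]
          exact ⟨_, rfl⟩
      refine ⟨F.toH m 0 ⟨F.ε (π r), hz⟩, ?_⟩
      have h1 : H0toM F m (F.toH m 0 ⟨F.ε (π r), hz⟩) = π r := by
        apply F.ε_injective
        rw [ε_H0toM]
      show e (ρ (H0toM F m (F.toH m 0 ⟨F.ε (π r), hz⟩))) = u
      rw [h1, hρ]
      exact hq

end Base

section Main

variable {R : Type u} [CommRing R] [IsNoetherianRing R] {𝒜 : ℤ → AddSubgroup R} [GradedRing 𝒜]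
variable {E' : Type u} [AddCommGroup E'] [Module R E'] (𝓔 : ℤ → AddSubgroup E')
  [DirectSum.Decomposition 𝓔] [SetLike.GradedSMul 𝒜 𝓔]

theorem image_Iio_succ (x : ℕ → R) (i : ℕ) :
    x '' Set.Iio (i + 1) = insert (x i) (x '' Set.Iio i) := by
  ext r
  constructor
  · rintro ⟨l, hl, rfl⟩
    rcases Nat.lt_succ_iff_lt_or_eq.1 hl with h | h
    · exact Or.inr ⟨l, h, rfl⟩
    · exact Or.inl (by rw [h])
  · rintro (rfl | ⟨l, hl, rfl⟩)
    · exact ⟨i, Nat.lt_succ_self i, rfl⟩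
    · exact ⟨l, Nat.lt_succ_of_lt hl, rfl⟩

theorem main_aux (m : HomogeneousIdeal 𝒜) [hmax : m.toIdeal.IsMaximal]
    (e : (R ⧸ m.toIdeal) →ₗ[R] E') (he : IsStarInjHull 𝒜 (quotGr 𝒜 m) 𝓔 e)
    (N : ℕ) (x : ℕ → R) (w : ℕ → ℤ) (hx : ∀ i < N, x i ∈ 𝒜 (w i))
    (hm : m.toIdeal = Ideal.span (x '' Set.Iio N))
    (hreg : ∀ i < N, ∀ r : R, x i * r ∈ Ideal.span (x '' Set.Iio i) →
      r ∈ Ideal.span (x '' Set.Iio i)) :
    ∀ t ≤ N, ∀ (M : Type u) [AddCommGroup M] [Module R M] (ℳ : ℤ → AddSubgroup M)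
      [DirectSum.Decomposition ℳ] [SetLike.GradedSMul 𝒜 ℳ] (π : R →ₗ[R] M), IsGrHom 𝒜 ℳ π →
      Function.Surjective π → LinearMap.ker π = Ideal.span (x '' Set.Iio (N - t)) →
      ∀ F : StarInjRes 𝒜 ℳ,
      (∀ j, j ≠ t → Subsingleton (F.H m j)) ∧
      ∃ θ : F.H m t →ₗ[R] E', Function.Injective θ ∧
        IsGrHomDeg (F.Hgr m t) 𝓔 θ (∑ l ∈ Finset.Ico (N - t) N, w l) ∧
        ∀ u : E', (∀ r ∈ Ideal.span (x '' Set.Iio (N - t)), r • u = 0) → ∃ y, θ y = u := by
  classical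
  have hull := Groth.Agent.S18637.result R 𝒜 m E' 𝓔 e he
  have htorsE : ∀ r ∈ m.toIdeal, ∀ u : E', ∃ t : ℕ, r ^ t • u = 0 := by
    intro r hr u
    have hM : LocCoh.IsPowerTorsion m.toIdeal (R ⧸ m.toIdeal) := by
      intro q
      refine ⟨1, fun a ha => ?_⟩
      rw [pow_one] at ha
      obtain ⟨b, rfl⟩ := Submodule.mkQ_surjective _ q
      rw [← map_smul, smul_eq_mul]
      exact (Submodule.Quotient.mk_eq_zero _).2 (Ideal.mul_mem_right _ _ ha)
    obtain ⟨n, hn⟩ := Groth.Agent.Lib.helper19.HullTools.isPowerTorsion_of_hull R m.toIdeal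
      (R ⧸ m.toIdeal) E' hM e hull u
    exact ⟨n, hn _ (Ideal.pow_mem_pow hr n)⟩
  intro t
  induction t with
  | zero =>
    intro _ M _ _ ℳ _ _ π hπ hsurj hker F
    rw [Nat.sub_zero, ← hm] at hker
    obtain ⟨h1, θ, h2, h3, h4⟩ := base 𝓔 m e he π hπ hsurj hker F
    refine ⟨h1, θ, h2, ?_, ?_⟩
    · rw [Nat.sub_zero, Finset.Ico_self, Finset.sum_empty]
      exact h3
    · rw [Nat.sub_zero, ← hm]
      exact h4
  | succ t ih =>
    intro htN M _ _ ℳ _ _ π hπ hsurj hker F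
    obtain ⟨i, hi⟩ : ∃ i, i = N - (t + 1) := ⟨_, rfl⟩
    have hi1 : N - t = i + 1 := by omega
    have hiN : i < N := by omega
    rw [← hi] at hker ⊢
    -- the quotient module `R / J_{i+1}`
    set J' : Ideal R := Ideal.span (x '' Set.Iio (i + 1)) with hJ'
    have hJ'hom : (J' : Submodule R R).IsHomogeneous 𝒜 := by
      apply Ideal.homogeneous_span
      rintro _ ⟨l, hl, rfl⟩
      exact ⟨w l, hx l (lt_of_lt_of_le hl (by omega))⟩
    letI : DirectSum.Decomposition (quotPiece 𝒜 J') := quotDecomposition 𝒜 J' hJ'hom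
    haveI : SetLike.GradedSMul 𝒜 (quotPiece 𝒜 J') := quot_gradedSMul 𝒜 𝒜 J'
    obtain ⟨F'⟩ := Groth.Agent.S13215.result R 𝒜 (R ⧸ J') (quotPiece 𝒜 J')
    have hker' : LinearMap.ker (Submodule.mkQ J') = Ideal.span (x '' Set.Iio (N - t)) := by
      rw [Submodule.ker_mkQ, hi1]
    obtain ⟨hvan, θ', hθ'inj, hθ'gr, hθ'surj⟩ := ih (by omega) (R ⧸ J') (quotPiece 𝒜 J')
      (Submodule.mkQ J') (mkQ_isGrHom 𝒜 J') (Submodule.mkQ_surjective J') hker' F'
    -- the map `M → R / J_{i+1}`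
    have hle : Ideal.span (x '' Set.Iio i) ≤ J' :=
      Ideal.span_mono (Set.image_mono (fun l hl => lt_trans hl (Nat.lt_succ_self i)))
    obtain ⟨ρ, hρ⟩ := exists_factor π hsurj (Submodule.mkQ J') (by
      rw [Submodule.ker_mkQ, hker]
      exact hle)
    have hρgr : IsGrHom ℳ (quotPiece 𝒜 J') ρ := by
      intro g y hy
      obtain ⟨r, hr, hr'⟩ := exists_mem_of_isGrHom (R := R) 𝒜 ℳ
        (DirectSum.Decomposition.isInternal 𝒜) (DirectSum.Decomposition.isInternal ℳ) π hπ hy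
        (hsurj y).choose (hsurj y).choose_spec
      rw [← hr', hρ]
      exact ⟨r, hr, rfl⟩
    have hρsurj : Function.Surjective ρ := by
      intro q
      obtain ⟨r, rfl⟩ := Submodule.mkQ_surjective _ q
      exact ⟨π r, hρ r⟩
    have hxi : x i ∈ J' := Ideal.subset_span ⟨i, Nat.lt_succ_self i, rfl⟩
    have hρker : LinearMap.ker ρ = LinearMap.range (x i • (LinearMap.id : M →ₗ[R] M)) := by
      ext y
      constructor
      · intro hy
        obtain ⟨r, rfl⟩ := hsurj y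
        rw [LinearMap.mem_ker, hρ, Submodule.mkQ_apply, Submodule.Quotient.mk_eq_zero, hJ',
          image_Iio_succ, Ideal.span_insert] at hy
        obtain ⟨a, ha, b, hb, rfl⟩ := Submodule.mem_sup.1 hy
        obtain ⟨c, rfl⟩ := Ideal.mem_span_singleton'.1 ha
        refine ⟨π c, ?_⟩
        have hb' : π b = 0 := by
          have : b ∈ LinearMap.ker π := by rw [hker]; exact hb
          exact this
        rw [LinearMap.smul_apply, LinearMap.id_apply, map_add, hb', add_zero, ← map_smul,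
          smul_eq_mul, mul_comm]
      · rintro ⟨y', rfl⟩
        obtain ⟨r, rfl⟩ := hsurj y'
        rw [LinearMap.mem_ker, LinearMap.smul_apply, LinearMap.id_apply, ← map_smul, hρ,
          Submodule.mkQ_apply, Submodule.Quotient.mk_eq_zero, smul_eq_mul]
        exact Ideal.mul_mem_right _ _ hxi
    have hregM : IsSMulRegular M (x i) := by
      intro y y' hyy'
      obtain ⟨r, rfl⟩ := hsurj y
      obtain ⟨r', rfl⟩ := hsurj y'
      have h1 : x i • π r = x i • π r' := hyy'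
      rw [← map_smul, ← map_smul, ← sub_eq_zero, ← map_sub, smul_eq_mul, smul_eq_mul,
        ← mul_sub] at h1
      have h2 : x i * (r - r') ∈ LinearMap.ker π := h1
      rw [hker] at h2
      have h3 := hreg i hiN _ h2
      rw [← hker] at h3
      have h4 : π (r - r') = 0 := h3
      rw [map_sub, sub_eq_zero] at h4
      exact h4
    have hS : ∀ s ∈ x '' Set.Iio i, ∃ k, s ∈ 𝒜 k := by
      rintro _ ⟨l, hl, rfl⟩
      exact ⟨w l, hx l (lt_trans hl hiN)⟩
    have hkill : ∀ s ∈ x '' Set.Iio i, ∀ y : M, s • y = 0 := by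
      intro s hs y
      obtain ⟨r, rfl⟩ := hsurj y
      rw [← map_smul, smul_eq_mul]
      have : s * r ∈ LinearMap.ker π := by
        rw [hker]
        exact Ideal.mul_mem_right _ _ (Ideal.subset_span hs)
      exact this
    have hxm : x i ∈ m.toIdeal := by
      rw [hm]
      exact Ideal.subset_span ⟨i, hiN, rfl⟩
    have hθ'surj' : ∀ u : E', (∀ r ∈ Ideal.span (insert (x i) (x '' Set.Iio i)), r • u = 0) →
        ∃ k, θ' k = u := by
      intro u hu
      apply hθ'surj u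
      rw [hi1, image_Iio_succ]
      exact hu
    have hθ'gr' : IsGrHomDeg (F'.Hgr m t) 𝓔 θ' (∑ l ∈ Finset.Ico (i + 1) N, w l) := by
      rw [hi1] at hθ'gr
      exact hθ'gr
    obtain ⟨h1, θ, h2, h3, h4⟩ := step 𝓔 F F' (x i) (w i) (hx i hiN) m hxm hregM ρ hρgr hρsurj
      hρker (x '' Set.Iio i) hS hkill he.starInj (htorsE (x i) hxm) t _ hvan θ' hθ'inj hθ'gr'
      hθ'surj'
    refine ⟨h1, θ, h2, ?_, h4⟩
    rw [Finset.sum_eq_sum_Ico_succ_bot hiN]
    exact h3

/-- **Top local cohomology of a graded ring whose maximal homogeneous ideal is generated by a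
homogeneous regular sequence** `x_0, …, x_{N-1}` of degrees `w_i`: `H^N_m(R) ≅ *E(R/m)` by a
bijective `R`-linear map homogeneous of degree `w_0 + ⋯ + w_{N-1}`, and `H^j_m(R) = 0` for `j ≠ N`. -/
theorem main (m : HomogeneousIdeal 𝒜) [hmax : m.toIdeal.IsMaximal]
    (e : (R ⧸ m.toIdeal) →ₗ[R] E') (he : IsStarInjHull 𝒜 (quotGr 𝒜 m) 𝓔 e)
    (N : ℕ) (x : ℕ → R) (w : ℕ → ℤ) (hx : ∀ i < N, x i ∈ 𝒜 (w i))
    (hm : m.toIdeal = Ideal.span (x '' Set.Iio N))
    (hreg : ∀ i < N, ∀ r : R, x i * r ∈ Ideal.span (x '' Set.Iio i) →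
      r ∈ Ideal.span (x '' Set.Iio i)) (I : StarInjRes 𝒜 𝒜) :
    (∀ j, j ≠ N → Subsingleton (I.H m j)) ∧
    ∃ θ : I.H m N →ₗ[R] E', Function.Bijective θ ∧
      IsGrHomDeg (I.Hgr m N) 𝓔 θ (∑ l ∈ Finset.range N, w l) := by
  have h0 : Ideal.span (x '' Set.Iio (N - N)) = ⊥ := by
    rw [Nat.sub_self]
    have : Set.Iio (0 : ℕ) = ∅ := by
      ext l
      simp
    rw [this, Set.image_empty, Ideal.span_empty]
  obtain ⟨h1, θ, h2, h3, h4⟩ := main_aux 𝓔 m e he N x w hx hm hreg N le_rfl R 𝒜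
    (LinearMap.id : R →ₗ[R] R) (fun g r hr => hr) Function.surjective_id
    (by rw [h0]; exact LinearMap.ker_id) I
  refine ⟨h1, θ, ⟨h2, fun u => h4 u (fun r hr => ?_)⟩, ?_⟩
  · rw [h0] at hr
    rw [(Submodule.mem_bot R).1 hr, zero_smul]
  · rw [Nat.sub_self, ← Finset.range_eq_Ico] at h3
    exact h3

end Main

end Groth.Agent.Lib.helper19.CanPoly
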