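import Mathlib

/-!
# Positively ℤ-graded rings with a unique maximal homogeneous ideal; Artinian graded modules

* `isMaximal_of_isCoatom`: over a positively ℤ-graded ring a maximal homogeneous ideal is maximal.
* `exists_eq_bot_of_le`: an Artinian module with an independent family of pieces `ℋ n` compatible with the
  grading of a positively graded ring has `ℋ n = ⊥` for `n ≫ 0`.
* `isArtinian_piece`: each piece is Artinian over the degree zero subring.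
-/

namespace Groth.Agent.Lib.helper19.StarLocalArt

universe u
open DirectSum

section Max
variable {R : Type u} [CommRing R] (𝒜 : ℤ → AddSubgroup R) [GradedRing 𝒜]

theorem coe_decompose_eq_zero_of_neg (hpos : ∀ n : ℤ, n < 0 → 𝒜 n = ⊥) (r : R) {k : ℤ} (hk : k < 0) :
    ((decompose 𝒜 r k : 𝒜 k) : R) = 0 := by
  have h2 : ∀ y ∈ 𝒜 k, y = 0 := by
    rw [hpos k hk]; intro y hy; exact AddSubgroup.mem_bot.1 hy
  exact h2 _ (SetLike.coe_mem _)

theorem coe_decompose_congr' (x : R) {i j : ℤ} (h : i = j) :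
    ((decompose 𝒜 x i : 𝒜 i) : R) = ((decompose 𝒜 x j : 𝒜 j) : R) := by
  subst h; rfl

theorem pos_mem_of_coatom (hpos : ∀ n : ℤ, n < 0 → 𝒜 n = ⊥) (m : HomogeneousIdeal 𝒜) (hm : IsCoatom m)
    {n : ℤ} (hn : 0 < n) {s : R} (hs : s ∈ 𝒜 n) : s ∈ m.toIdeal := by
  by_contra hsm
  let S : HomogeneousIdeal 𝒜 :=
    ⟨Ideal.span {s}, Ideal.homogeneous_span 𝒜 _ (by rintro x (rfl : x = s); exact ⟨n, hs⟩)⟩
  have hlt : m < m ⊔ S := by
    refine lt_of_le_of_ne le_sup_left ?_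
    intro h
    apply hsm
    have h2 : S ≤ m := by rw [h]; exact le_sup_right
    exact h2 (Ideal.subset_span rfl)
  have htop := hm.2 _ hlt
  have h1 : (1 : R) ∈ m.toIdeal ⊔ Ideal.span {s} := by
    have h3 : (m ⊔ S).toIdeal = ⊤ := by rw [htop]; rfl
    rw [HomogeneousIdeal.toIdeal_sup] at h3
    change m.toIdeal ⊔ Ideal.span {s} = ⊤ at h3
    rw [h3]; exact Submodule.mem_top
  obtain ⟨a, ha, b, hb, hab⟩ := Submodule.mem_sup.1 h1
  obtain ⟨r, rfl⟩ := Ideal.mem_span_singleton'.1 hb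
  have h0 : ((decompose 𝒜 (1 : R) 0 : 𝒜 0) : R) = 1 :=
    decompose_of_mem_same 𝒜 SetLike.GradedOne.one_mem
  have h2 : ((decompose 𝒜 (r * s) 0 : 𝒜 0) : R) = 0 := by
    have h4 := DirectSum.coe_decompose_mul_add_of_right_mem 𝒜 (a := r) (b := s) (i := -n) (j := n) hs
    rw [coe_decompose_eq_zero_of_neg 𝒜 hpos r (by omega : -n < 0), zero_mul] at h4
    have h5 : (-n + n : ℤ) = 0 := by omega
    rw [← h4]
    exact coe_decompose_congr' 𝒜 _ h5.symm
  have h6 : ((decompose 𝒜 a 0 : 𝒜 0) : R) = 1 := by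
    rw [← h0, ← hab, decompose_add, DirectSum.add_apply, AddSubgroup.coe_add, h2, add_zero]
  have h7 : (1 : R) ∈ m.toIdeal := by rw [← h6]; exact m.isHomogeneous 0 ha
  exact hm.1 (HomogeneousIdeal.toIdeal_injective ((Ideal.eq_top_iff_one _).2 h7))

theorem sub_decompose_zero_mem (hpos : ∀ n : ℤ, n < 0 → 𝒜 n = ⊥) (m : HomogeneousIdeal 𝒜)
    (hm : IsCoatom m) (x : R) : x - ((decompose 𝒜 x 0 : 𝒜 0) : R) ∈ m.toIdeal := by
  classical
  rw [← Ideal.Quotient.eq]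
  conv_lhs => rw [← DirectSum.sum_support_decompose 𝒜 x, map_sum]
  apply Finset.sum_eq_single 0
  · intro k _ hk
    rcases lt_or_gt_of_ne hk with h | h
    · rw [coe_decompose_eq_zero_of_neg 𝒜 hpos x h, map_zero]
    · exact Ideal.Quotient.eq_zero_iff_mem.2 (pos_mem_of_coatom 𝒜 hpos m hm h (SetLike.coe_mem _))
  · intro h0
    rw [DFinsupp.notMem_support_iff.1 h0]; simp

theorem isMaximal_of_isCoatom (hpos : ∀ n : ℤ, n < 0 → 𝒜 n = ⊥) (m : HomogeneousIdeal 𝒜)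
    (hm : IsCoatom m) : m.toIdeal.IsMaximal := by
  rw [Ideal.isMaximal_iff]
  refine ⟨fun h1 => hm.1 (HomogeneousIdeal.toIdeal_injective ((Ideal.eq_top_iff_one _).2 h1)), ?_⟩
  intro J x hmJ hxm hxJ
  have hx0 := sub_decompose_zero_mem 𝒜 hpos m hm x
  set x0 : R := ((decompose 𝒜 x 0 : 𝒜 0) : R) with hx0def
  have hx0J : x0 ∈ J := by
    have : x0 = x - (x - x0) := by ring
    rw [this]; exact J.sub_mem hxJ (hmJ hx0)
  have hx0m : x0 ∉ m.toIdeal := by
    intro h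
    apply hxm
    have : x = (x - x0) + x0 := by ring
    rw [this]; exact m.toIdeal.add_mem hx0 h
  let S : HomogeneousIdeal 𝒜 :=
    ⟨Ideal.span {x0}, Ideal.homogeneous_span 𝒜 _ (by rintro y (rfl : y = x0); exact ⟨0, SetLike.coe_mem _⟩)⟩
  have hlt : m < m ⊔ S := by
    refine lt_of_le_of_ne le_sup_left ?_
    intro h
    apply hx0m
    have h2 : S ≤ m := by rw [h]; exact le_sup_right
    exact h2 (Ideal.subset_span rfl)
  have htop := hm.2 _ hlt
  have h3 : (m ⊔ S).toIdeal = ⊤ := by rw [htop]; rfl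
  rw [HomogeneousIdeal.toIdeal_sup] at h3
  change m.toIdeal ⊔ Ideal.span {x0} = ⊤ at h3
  have h4 : m.toIdeal ⊔ Ideal.span {x0} ≤ J :=
    sup_le hmJ ((Ideal.span_singleton_le_iff_mem J).2 hx0J)
  rw [h3] at h4
  exact h4 Submodule.mem_top

end Max

section Mod
variable {R : Type u} [CommRing R] (𝒜 : ℤ → AddSubgroup R) [GradedRing 𝒜]
  {H : Type u} [AddCommGroup H] [Module R H] (ℋ : ℤ → AddSubgroup H)

/-- the tail `⨁_{j ≥ l} ℋ j` as an additive subgroup -/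
def tailAdd (l : ℤ) : AddSubgroup H := ⨆ j : {j : ℤ // l ≤ j}, ℋ j

theorem mem_tailAdd_of_mem {l j : ℤ} (hlj : l ≤ j) {h : H} (hh : h ∈ ℋ j) : h ∈ tailAdd ℋ l :=
  AddSubgroup.mem_iSup_of_mem (⟨j, hlj⟩ : {j : ℤ // l ≤ j}) hh

theorem tailAdd_antitone {l l' : ℤ} (h : l ≤ l') : tailAdd ℋ l' ≤ tailAdd ℋ l :=
  iSup_le fun j => le_iSup_of_le (⟨j.1, le_trans h j.2⟩ : {j : ℤ // l ≤ j}) le_rfl

variable (hpos : ∀ n : ℤ, n < 0 → 𝒜 n = ⊥)
  (hsmul : ∀ (k j : ℤ) (r : R) (h : H), r ∈ 𝒜 k → h ∈ ℋ j → r • h ∈ ℋ (k + j))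

include hpos hsmul in
theorem smul_mem_tailAdd_of_mem {l j : ℤ} (hlj : l ≤ j) (r : R) {h : H} (hh : h ∈ ℋ j) :
    r • h ∈ tailAdd ℋ l := by
  classical
  rw [← DirectSum.sum_support_decompose 𝒜 r, Finset.sum_smul]
  refine AddSubgroup.sum_mem _ fun k _ => ?_
  rcases lt_or_ge k 0 with hk | hk
  · rw [coe_decompose_eq_zero_of_neg 𝒜 hpos r hk, zero_smul]; exact zero_mem _
  · exact mem_tailAdd_of_mem ℋ (by omega : l ≤ k + j) (hsmul k j _ h (SetLike.coe_mem _) hh)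

include hpos hsmul in
/-- if the degree zero component of `r` vanishes, `r • h` lies in the strictly higher tail -/
theorem smul_mem_tailAdd_succ_of_mem {j : ℤ} (r : R)
    (hr : ((decompose 𝒜 r 0 : 𝒜 0) : R) = 0) {h : H} (hh : h ∈ ℋ j) :
    r • h ∈ tailAdd ℋ (j + 1) := by
  classical
  rw [← DirectSum.sum_support_decompose 𝒜 r, Finset.sum_smul]
  refine AddSubgroup.sum_mem _ fun k _ => ?_
  rcases lt_trichotomy k 0 with hk | hk | hk
  · rw [coe_decompose_eq_zero_of_neg 𝒜 hpos r hk, zero_smul]; exact zero_mem _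
  · subst hk; rw [hr, zero_smul]; exact zero_mem _
  · exact mem_tailAdd_of_mem ℋ (by omega : j + 1 ≤ k + j) (hsmul k j _ h (SetLike.coe_mem _) hh)

include hpos hsmul in
theorem smul_mem_tailAdd (l : ℤ) (r : R) {x : H} (hx : x ∈ tailAdd ℋ l) : r • x ∈ tailAdd ℋ l := by
  refine AddSubgroup.iSup_induction (fun j : {j : ℤ // l ≤ j} => ℋ j) (C := fun x => r • x ∈ tailAdd ℋ l)
    hx ?_ ?_ ?_
  · intro j y hy
    exact smul_mem_tailAdd_of_mem 𝒜 ℋ hpos hsmul j.2 r hy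
  · rw [smul_zero]; exact zero_mem _
  · intro y z hy hz
    rw [smul_add]; exact add_mem hy hz

/-- the tail as an `R`-submodule -/
def tail (l : ℤ) : Submodule R H where
  carrier := tailAdd ℋ l
  add_mem' := add_mem
  zero_mem' := zero_mem _
  smul_mem' r _ hx := smul_mem_tailAdd 𝒜 ℋ hpos hsmul l r hx

theorem mem_tail {l : ℤ} {x : H} : x ∈ tail 𝒜 ℋ hpos hsmul l ↔ x ∈ tailAdd ℋ l := Iff.rfl

omit [GradedRing 𝒜] in
theorem disjoint_tailAdd_succ (hind : iSupIndep ℋ) (n : ℤ) {x : H} (hx : x ∈ ℋ n)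
    (hx' : x ∈ tailAdd ℋ (n + 1)) : x = 0 := by
  have h1 : tailAdd ℋ (n + 1) ≤ ⨆ (j : ℤ) (_ : j ≠ n), ℋ j :=
    iSup_le fun j => le_iSup₂_of_le j.1 (by have := j.2; omega) le_rfl
  have h2 := (hind n).le_bot (show x ∈ ℋ n ⊓ ⨆ (j : ℤ) (_ : j ≠ n), ℋ j from ⟨hx, h1 hx'⟩)
  exact h2

include hpos hsmul in
/-- the pieces of an Artinian graded module over a positively graded ring vanish in high degrees -/
theorem exists_eq_bot_of_le [IsArtinian R H] (hind : iSupIndep ℋ) :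
    ∃ N : ℤ, ∀ n : ℤ, N ≤ n → ℋ n = ⊥ := by
  let f : ℕ →o (Submodule R H)ᵒᵈ :=
    ⟨fun k => OrderDual.toDual (tail 𝒜 ℋ hpos hsmul (k : ℤ)), fun a b hab =>
      tailAdd_antitone ℋ (by exact_mod_cast hab)⟩
  obtain ⟨N, hN⟩ := IsArtinian.monotone_stabilizes f
  refine ⟨(N : ℤ), fun n hn => ?_⟩
  obtain ⟨k, rfl⟩ := Int.eq_ofNat_of_zero_le (le_trans (Int.natCast_nonneg N) hn)
  have hk : N ≤ k := by exact_mod_cast hn
  have e1 : tail 𝒜 ℋ hpos hsmul (k : ℤ) = tail 𝒜 ℋ hpos hsmul ((k + 1 : ℕ) : ℤ) := by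
    have a1 := hN k hk
    have a2 := hN (k + 1) (by omega)
    exact congrArg OrderDual.ofDual (a1.symm.trans a2)
  rw [eq_bot_iff]
  intro x hx
  have h1 : x ∈ tail 𝒜 ℋ hpos hsmul (k : ℤ) := mem_tailAdd_of_mem ℋ le_rfl hx
  rw [e1] at h1
  have h2 : x ∈ tailAdd ℋ ((k : ℤ) + 1) := by
    have : ((k + 1 : ℕ) : ℤ) = (k : ℤ) + 1 := by push_cast; ring
    rw [← this]; exact h1
  exact AddSubgroup.mem_bot.2 (disjoint_tailAdd_succ ℋ hind _ hx h2)

/-- `N + ⨁_{j > n} ℋ j` as an `R`-submodule, for an `R_0`-submodule `N` of the degree `n` piece -/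
def thicken (n : ℤ) (P : Submodule (SetLike.GradeZero.subring 𝒜) H) (hP : P.toAddSubgroup = ℋ n)
    (N : Submodule (SetLike.GradeZero.subring 𝒜) P) : Submodule R H where
  carrier := {y | ∃ x : P, x ∈ N ∧ ∃ w ∈ tailAdd ℋ (n + 1), y = (x : H) + w}
  add_mem' := by
    rintro _ _ ⟨x, hx, w, hw, rfl⟩ ⟨x', hx', w', hw', rfl⟩
    exact ⟨x + x', N.add_mem hx hx', w + w', add_mem hw hw', by rw [Submodule.coe_add]; abel⟩
  zero_mem' := ⟨0, N.zero_mem, 0, zero_mem _, by simp⟩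
  smul_mem' := by
    rintro r _ ⟨x, hx, w, hw, rfl⟩
    have hxn : (x : H) ∈ ℋ n := by rw [← hP]; exact x.2
    let r0 : SetLike.GradeZero.subring 𝒜 := ⟨((decompose 𝒜 r 0 : 𝒜 0) : R), SetLike.coe_mem _⟩
    have h0 : ((decompose 𝒜 (r - (r0 : R)) 0 : 𝒜 0) : R) = 0 := by
      rw [decompose_sub, DirectSum.sub_apply, AddSubgroup.coe_sub,
        decompose_of_mem_same 𝒜 (SetLike.coe_mem (decompose 𝒜 r 0)), sub_self]
    refine ⟨r0 • x, N.smul_mem r0 hx, (r - (r0 : R)) • (x : H) + r • w,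
      add_mem (smul_mem_tailAdd_succ_of_mem 𝒜 ℋ hpos hsmul _ h0 hxn)
        (smul_mem_tailAdd 𝒜 ℋ hpos hsmul _ r hw), ?_⟩
    have : ((r0 • x : P) : H) = (r0 : R) • (x : H) := rfl
    rw [this, smul_add, sub_smul]; abel

include hpos hsmul in
/-- each piece of an Artinian graded module over a positively graded ring is Artinian over `R_0` -/
theorem isArtinian_piece [IsArtinian R H] (hind : iSupIndep ℋ) (n : ℤ)
    (P : Submodule (SetLike.GradeZero.subring 𝒜) H) (hP : P.toAddSubgroup = ℋ n) :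
    IsArtinian (SetLike.GradeZero.subring 𝒜) P := by
  have hmono : StrictMono (thicken 𝒜 ℋ hpos hsmul n P hP) := by
    intro N N' hlt
    refine lt_of_le_of_ne ?_ ?_
    · rintro _ ⟨x, hx, w, hw, rfl⟩
      exact ⟨x, hlt.le hx, w, hw, rfl⟩
    · intro heq
      apply not_le_of_gt hlt
      intro x hx
      have h1 : (x : H) ∈ thicken 𝒜 ℋ hpos hsmul n P hP N' := ⟨x, hx, 0, zero_mem _, by simp⟩
      rw [← heq] at h1
      obtain ⟨x', hx', w, hw, hxw⟩ := h1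
      have h2 : ((x - x' : P) : H) = w := by rw [Submodule.coe_sub, hxw]; abel
      have h3 : ((x - x' : P) : H) ∈ ℋ n := by rw [← hP]; exact (x - x').2
      have h4 := disjoint_tailAdd_succ ℋ hind n h3 (by rw [h2]; exact hw)
      have h5 : x = x' := by
        have : x - x' = 0 := Subtype.ext h4
        exact sub_eq_zero.1 this
      rw [h5]; exact hx'
  exact hmono.wellFoundedLT

end Mod

end Groth.Agent.Lib.helper19.StarLocalArt
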