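import Mathlib
import Groth.Prelude.Def_GrLC
import Groth.Agent.Lib.Helper19.CanPoly2
import Groth.Agent.Lib.Helper19.StarLocalArt

/-!
# From the top graded local cohomology to the *canonical module (helper19), part 3

Over a positively graded Noetherian domain `R` with `m = R_+` maximal: if
`Hom_R(C, E') ≅ E'(d)` (e.g. because `Hom_R(C, E') ≅ H^n_m(R) ≅ E'(d)`) for a finitely generated
graded module `C`, where `E' = *E(R/m)`, then `C ≅ R(-d)`.

* `decompose_zero_of_mem_pos` : elements of `R_+` have no degree zero component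
* `graded_nakayama` : graded Nakayama lemma
* `exists_bijective_of_hom_equiv` : the main statement
* `exists_bijective_of_canonical` : the version for `GrLC.IsStarCanonical`
-/

set_option autoImplicit false
universe u

namespace Groth.Agent.Lib.helper19.CanPoly

open GrLC Groth.Agent.Lib.helper19.GrMod Groth.Agent.Lib.helper19.GrShift
  Groth.Agent.Lib.helper19.StarLocalArt

section Pos

variable {R : Type u} [CommRing R] (𝒜 : ℤ → AddSubgroup R) [GradedRing 𝒜]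

theorem decompose_zero_of_mem_pos (hpos : ∀ n : ℤ, n < 0 → 𝒜 n = ⊥) {a : R}
    (ha : a ∈ Ideal.span (⋃ n ∈ Set.Ioi (0 : ℤ), (𝒜 n : Set R))) :
    ((DirectSum.decompose 𝒜 a 0 : 𝒜 0) : R) = 0 := by
  have key : ∀ r : R, ((DirectSum.decompose 𝒜 (r * a) 0 : 𝒜 0) : R) = 0 := by
    induction ha using Submodule.span_induction with
    | mem s hs =>
      intro r
      simp only [Set.mem_iUnion, Set.mem_Ioi] at hs
      obtain ⟨n, hn, hs⟩ := hs
      have h4 := DirectSum.coe_decompose_mul_add_of_right_mem 𝒜 (a := r) (b := s) (i := -n) (j := n) hs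
      rw [coe_decompose_eq_zero_of_neg 𝒜 hpos r (by omega : -n < 0), zero_mul] at h4
      rw [← h4]
      exact coe_decompose_congr' 𝒜 _ (by omega)
    | zero =>
      intro r
      simp
    | add p q _ _ hp hq =>
      intro r
      rw [mul_add, DirectSum.decompose_add, DirectSum.add_apply, AddSubgroup.coe_add, hp, hq,
        add_zero]
    | smul c p _ hp =>
      intro r
      rw [smul_eq_mul, ← mul_assoc]
      exact hp (r * c)
  simpa using key 1

variable {C : Type u} [AddCommGroup C] [Module R C] (𝒞 : ℤ → AddSubgroup C)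
  [DirectSum.Decomposition 𝒞] [SetLike.GradedSMul 𝒜 𝒞]

/-- graded Nakayama: `I` an ideal all of whose elements have zero degree-zero component -/
theorem graded_nakayama (I : Ideal R)
    (hI : ∀ a ∈ I, ((DirectSum.decompose 𝒜 a 0 : 𝒜 0) : R) = 0)
    [Module.Finite R C] (N : Submodule R C) (hN : N.IsHomogeneous 𝒞)
    (h : N ⊔ I • (⊤ : Submodule R C) = ⊤) : N = ⊤ := by
  classical
  have h1 : (⊤ : Submodule R (C ⧸ N)) ≤ I • (⊤ : Submodule R (C ⧸ N)) := by
    have h2 : Submodule.map N.mkQ (N ⊔ I • (⊤ : Submodule R C)) = ⊤ := by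
      rw [h, Submodule.map_top, Submodule.range_mkQ]
    rw [Submodule.map_sup, Submodule.map_smul'', Submodule.map_top, Submodule.range_mkQ] at h2
    have h3 : Submodule.map N.mkQ N = ⊥ := by
      rw [eq_bot_iff]
      rintro _ ⟨y, hy, rfl⟩
      rw [Submodule.mem_bot, Submodule.mkQ_apply, Submodule.Quotient.mk_eq_zero]
      exact hy
    rw [h3, bot_sup_eq] at h2
    rw [h2]
  obtain ⟨r, hr1, hr2⟩ := Submodule.exists_sub_one_mem_and_smul_eq_zero_of_fg_of_le_smul I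
    (⊤ : Submodule R (C ⧸ N)) Module.Finite.fg_top h1
  have h2 : ∀ c : C, r • c ∈ N := fun c => by
    have h3 := hr2 (N.mkQ c) trivial
    rwa [← map_smul, Submodule.mkQ_apply, Submodule.Quotient.mk_eq_zero] at h3
  have hr0 : ((DirectSum.decompose 𝒜 r 0 : 𝒜 0) : R) = 1 := by
    have h3 : r = (r - 1) + 1 := by ring
    rw [h3, DirectSum.decompose_add, DirectSum.add_apply, AddSubgroup.coe_add, hI _ hr1, zero_add]
    exact DirectSum.decompose_of_mem_same 𝒜 SetLike.GradedOne.one_mem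
  have h3 : ∀ g, ∀ c ∈ 𝒞 g, c ∈ N := by
    intro g c hc
    have h4 := hN g (h2 c)
    rw [decompose_smul_apply' 𝒜 𝒞 r hc g] at h4
    have h5 : ((DirectSum.decompose 𝒜 r (g - g) : 𝒜 (g - g)) : R) = 1 := by
      rw [coe_decompose_congr' 𝒜 r (sub_self g)]
      exact hr0
    rwa [h5, one_smul] at h4
  rw [eq_top_iff]
  intro c _
  rw [← DirectSum.sum_support_decompose 𝒞 c]
  exact Submodule.sum_mem _ (fun g _ => h3 g _ (SetLike.coe_mem _))

end Pos

section Canon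

variable {R : Type u} [CommRing R] [IsNoetherianRing R] [IsDomain R]
  {𝒜 : ℤ → AddSubgroup R} [GradedRing 𝒜]
variable {E' : Type u} [AddCommGroup E'] [Module R E'] (𝓔 : ℤ → AddSubgroup E')
  [DirectSum.Decomposition 𝓔] [SetLike.GradedSMul 𝒜 𝓔]
variable {C : Type u} [AddCommGroup C] [Module R C] (𝒞 : ℤ → AddSubgroup C)
  [DirectSum.Decomposition 𝒞] [SetLike.GradedSMul 𝒜 𝒞]

/-- if `Hom_R(C, E') ≅ E'(d)` for a finitely generated graded `C` then `C ≅ R(-d)` -/
theorem exists_bijective_of_hom_equiv (hpos : ∀ n : ℤ, n < 0 → 𝒜 n = ⊥)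
    (m : HomogeneousIdeal 𝒜) [hmax : m.toIdeal.IsMaximal]
    (hmsp : m.toIdeal = Ideal.span (⋃ n ∈ Set.Ioi (0 : ℤ), (𝒜 n : Set R)))
    (e : (R ⧸ m.toIdeal) →ₗ[R] E') (he : IsStarInjHull 𝒜 (quotGr 𝒜 m) 𝓔 e)
    [Module.Finite R C] (d : ℤ)
    (Φ : (C →ₗ[R] E') →ₗ[R] E') (hΦ : Function.Bijective Φ)
    (hΦgr : ∀ g (ψ : C →ₗ[R] E'), IsGrHomDeg 𝒞 𝓔 ψ g → Φ ψ ∈ 𝓔 (g + d)) :
    ∃ f : R →ₗ[R] C, Function.Bijective f ∧ IsGrHomDeg 𝒜 𝒞 f d := by
  classical
  have hull := Groth.Agent.S18637.result R 𝒜 m E' 𝓔 e he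
  have hm0 : ∀ a ∈ m.toIdeal, ((DirectSum.decompose 𝒜 a 0 : 𝒜 0) : R) = 0 := fun a ha =>
    decompose_zero_of_mem_pos 𝒜 hpos (hmsp ▸ ha)
  obtain ⟨σ, hσ⟩ : ∃ σ : E', σ = e (m.toIdeal.mkQ 1) := ⟨_, rfl⟩
  have hσ0 : σ ≠ 0 := by
    intro h
    rw [hσ] at h
    have h1 : m.toIdeal.mkQ (1 : R) = 0 := he.injective (h.trans (map_zero e).symm)
    rw [Submodule.mkQ_apply, Submodule.Quotient.mk_eq_zero] at h1
    exact hmax.ne_top ((Ideal.eq_top_iff_one _).2 h1)
  have heq : ∀ r : R, e (m.toIdeal.mkQ r) = r • σ := by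
    intro r
    rw [hσ, ← map_smul, ← map_smul, smul_eq_mul, mul_one]
  have hσm : ∀ a ∈ m.toIdeal, a • σ = 0 := by
    intro a ha
    rw [← heq, Submodule.mkQ_apply, (Submodule.Quotient.mk_eq_zero _).2 ha, map_zero]
  have hσgr : σ ∈ 𝓔 0 := by
    rw [hσ]
    exact he.grHom 0 _ ⟨1, (SetLike.GradedOne.one_mem : (1 : R) ∈ 𝒜 0), rfl⟩
  -- `C ≠ mC`
  have hCne : (m.toIdeal • ⊤ : Submodule R C) ≠ ⊤ := by
    intro h
    have h1 : (⊥ : Submodule R C) = ⊤ := graded_nakayama 𝒜 𝒞 m.toIdeal hm0 ⊥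
      (fun i x hx => by
        rw [(Submodule.mem_bot R).1 hx, DirectSum.decompose_zero]
        exact zero_mem _) (by rw [bot_sup_eq, h])
    have h2 : ∀ ψ : C →ₗ[R] E', ψ = 0 := fun ψ => by
      ext c
      have h3 : c ∈ (⊥ : Submodule R C) := h1 ▸ Submodule.mem_top
      rw [(Submodule.mem_bot R).1 h3, map_zero, map_zero]
    obtain ⟨ψ, hψ⟩ := hΦ.2 σ
    rw [h2 ψ, map_zero] at hψ
    exact hσ0 hψ.symm
  obtain ⟨g0, c, hc, hcm⟩ : ∃ g0, ∃ c ∈ 𝒞 g0, c ∉ (m.toIdeal • ⊤ : Submodule R C) := by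
    by_contra hcon
    push Not at hcon
    apply hCne
    rw [eq_top_iff]
    intro c' _
    rw [← DirectSum.sum_support_decompose 𝒞 c']
    exact Submodule.sum_mem _ (fun g _ => hcon g _ (SetLike.coe_mem _))
  -- functionals
  have hfun : ∀ (N2 : Submodule R C), m.toIdeal • ⊤ ≤ N2 → ∀ c1 : C, c1 ∉ N2 →
      ∃ ψ : C →ₗ[R] E', ψ c1 = σ ∧ ∀ y ∈ N2, ψ y = 0 := by
    intro N2 hN2 c1 hc1
    let g1 : R →ₗ[R] (C ⧸ N2) := LinearMap.toSpanSingleton R (C ⧸ N2) (N2.mkQ c1)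
    have hg1 : m.toIdeal ≤ LinearMap.ker g1 := by
      intro a ha
      rw [LinearMap.mem_ker, LinearMap.toSpanSingleton_apply, ← map_smul, Submodule.mkQ_apply,
        Submodule.Quotient.mk_eq_zero]
      exact hN2 (Submodule.smul_mem_smul ha Submodule.mem_top)
    have hg1' : LinearMap.ker g1 ≠ ⊤ := by
      intro h
      have h1 : (1 : R) ∈ LinearMap.ker g1 := h ▸ Submodule.mem_top
      rw [LinearMap.mem_ker, LinearMap.toSpanSingleton_apply, one_smul, Submodule.mkQ_apply,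
        Submodule.Quotient.mk_eq_zero] at h1
      exact hc1 h1
    have hg1'' : m.toIdeal = LinearMap.ker g1 := hmax.eq_of_le hg1' hg1
    have hρ0 : Function.Injective (Submodule.liftQ m.toIdeal g1 hg1) := by
      rw [← LinearMap.ker_eq_bot]
      exact Submodule.ker_liftQ_eq_bot _ _ _ (le_of_eq hg1''.symm)
    obtain ⟨h, hh⟩ := hull.isInjective.out (Submodule.liftQ m.toIdeal g1 hg1) hρ0 e
    refine ⟨h ∘ₗ N2.mkQ, ?_, ?_⟩
    · have h1 : Submodule.liftQ m.toIdeal g1 hg1 (m.toIdeal.mkQ 1) = N2.mkQ c1 := by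
        rw [Submodule.mkQ_apply, Submodule.liftQ_apply, LinearMap.toSpanSingleton_apply, one_smul]
      rw [LinearMap.comp_apply, ← h1, hh, hσ]
    · intro y hy
      rw [LinearMap.comp_apply, Submodule.mkQ_apply, (Submodule.Quotient.mk_eq_zero _).2 hy,
        map_zero]
  have hmψ : ∀ (ψ : C →ₗ[R] E'), (∀ y ∈ (m.toIdeal • ⊤ : Submodule R C), ψ y = 0) →
      ∀ a ∈ m.toIdeal, a • Φ ψ = 0 := by
    intro ψ hψ a ha
    rw [← map_smul]
    have h1 : a • ψ = 0 := by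
      ext y
      rw [LinearMap.smul_apply, ← map_smul, LinearMap.zero_apply]
      exact hψ _ (Submodule.smul_mem_smul ha Submodule.mem_top)
    rw [h1, map_zero]
  -- dichotomy
  have hdich : ∀ c1 c2 : C, c1 ∈ Submodule.span R {c2} ⊔ m.toIdeal • (⊤ : Submodule R C) ∨
      c2 ∈ Submodule.span R {c1} ⊔ m.toIdeal • (⊤ : Submodule R C) := by
    intro c1 c2
    by_contra hcon
    push Not at hcon
    obtain ⟨h1, h2⟩ := hcon
    obtain ⟨ψ1, hψ1, hψ1'⟩ := hfun _ le_sup_right c1 h1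
    obtain ⟨ψ2, hψ2, hψ2'⟩ := hfun _ le_sup_right c2 h2
    obtain ⟨q1, hq1⟩ := socle_le_range m.toIdeal e hull.toIsEssentialInj (Φ ψ1)
      (hmψ ψ1 (fun y hy => hψ1' y (Submodule.mem_sup_right hy)))
    obtain ⟨q2, hq2⟩ := socle_le_range m.toIdeal e hull.toIsEssentialInj (Φ ψ2)
      (hmψ ψ2 (fun y hy => hψ2' y (Submodule.mem_sup_right hy)))
    obtain ⟨b1, rfl⟩ := Submodule.mkQ_surjective _ q1
    obtain ⟨b2, rfl⟩ := Submodule.mkQ_surjective _ q2
    have hb1 : b1 ∉ m.toIdeal := by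
      intro hb
      have h3 : Φ ψ1 = 0 := by
        rw [← hq1, Submodule.mkQ_apply, (Submodule.Quotient.mk_eq_zero _).2 hb, map_zero]
      have h4 : ψ1 = 0 := hΦ.1 (h3.trans (map_zero Φ).symm)
      rw [h4, LinearMap.zero_apply] at hψ1
      exact hσ0 hψ1.symm
    obtain ⟨y, i, hi, hyi⟩ := hmax.exists_inv hb1
    have h3 : Φ ((b2 * y) • ψ1 - ψ2) = 0 := by
      rw [map_sub, map_smul, ← hq1, ← hq2, ← map_smul, ← map_sub]
      have h4 : (b2 * y) • (m.toIdeal.mkQ b1) - m.toIdeal.mkQ b2 = 0 := by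
        rw [← map_smul, ← map_sub, Submodule.mkQ_apply, Submodule.Quotient.mk_eq_zero, smul_eq_mul]
        have h5 : b2 * y * b1 - b2 = -(b2 * i) := by linear_combination b2 * hyi
        rw [h5]
        exact neg_mem (Ideal.mul_mem_left _ _ hi)
      rw [h4, map_zero]
    have h4 : (b2 * y) • ψ1 = ψ2 := sub_eq_zero.1 (hΦ.1 (h3.trans (map_zero Φ).symm))
    have h5 := LinearMap.congr_fun h4 c2
    rw [LinearMap.smul_apply, hψ1' c2 (Submodule.mem_sup_left (Submodule.mem_span_singleton_self c2)),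
      smul_zero, hψ2] at h5
    exact hσ0 h5.symm
  -- `C = R c`
  have hgen : (Submodule.span R {c} : Submodule R C) = ⊤ := by
    apply graded_nakayama 𝒜 𝒞 m.toIdeal hm0 _ (span_singleton_isHomogeneous 𝒜 𝒞 hc)
    rw [eq_top_iff]
    intro c2 _
    rcases hdich c c2 with h | h
    · obtain ⟨a, ha, μ, hμ, hsum⟩ := Submodule.mem_sup.1 h
      obtain ⟨r, rfl⟩ := Submodule.mem_span_singleton.1 ha
      have hr : r ∉ m.toIdeal := by
        intro hr
        apply hcm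
        rw [← hsum]
        exact add_mem (Submodule.smul_mem_smul hr Submodule.mem_top) hμ
      obtain ⟨y, i, hi, hyi⟩ := hmax.exists_inv hr
      have h1 : c2 = y • c + (i • c2 - y • μ) := by
        have h2 : c2 = (y * r + i) • c2 := by rw [hyi, one_smul]
        have h3 : r • c2 = c - μ := by rw [← hsum]; abel
        rw [add_smul, mul_smul, h3, smul_sub] at h2
        calc c2 = y • c - y • μ + i • c2 := h2
          _ = y • c + (i • c2 - y • μ) := by abel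
      rw [h1]
      exact add_mem (Submodule.mem_sup_left (Submodule.smul_mem _ _
        (Submodule.mem_span_singleton_self c))) (Submodule.mem_sup_right
        (sub_mem (Submodule.smul_mem_smul hi Submodule.mem_top) (Submodule.smul_mem _ _ hμ)))
    · exact h
  obtain ⟨f, hf⟩ : ∃ f : R →ₗ[R] C, ∀ r, f r = r • c :=
    ⟨LinearMap.toSpanSingleton R C c, fun r => LinearMap.toSpanSingleton_apply R C c r⟩
  have hfsurj : Function.Surjective f := by
    intro y
    have h1 : y ∈ Submodule.span R {c} := hgen ▸ Submodule.mem_top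
    obtain ⟨r, rfl⟩ := Submodule.mem_span_singleton.1 h1
    exact ⟨r, hf r⟩
  have hJE : ∀ r : R, r • c = 0 → ∀ u : E', r • u = 0 := by
    intro r hr u
    obtain ⟨ψ, rfl⟩ := hΦ.2 u
    rw [← map_smul]
    have h1 : r • ψ = 0 := by
      ext y
      obtain ⟨r', rfl⟩ := hfsurj y
      rw [LinearMap.smul_apply, ← map_smul, hf, smul_comm, hr, smul_zero, map_zero,
        LinearMap.zero_apply]
    rw [h1, map_zero]
  have hfaith : ∀ (g : ℤ) (s : R), s ∈ 𝒜 g → s ≠ 0 → ∃ u : E', s • u ≠ 0 := by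
    intro g s hs hs0
    obtain ⟨φ, hφ⟩ : ∃ φ : R →ₗ[R] R, ∀ r, φ r = s * r := ⟨LinearMap.mul R R s, fun r => rfl⟩
    obtain ⟨γ, hγ⟩ : ∃ γ : R →ₗ[R] E', ∀ r, γ r = e (m.toIdeal.mkQ r) :=
      ⟨e ∘ₗ m.toIdeal.mkQ, fun r => rfl⟩
    let A : GMod.{u} 𝒜 := GMod.of 𝒜 R 𝒜
    let B : GMod.{u} 𝒜 := shiftGMod 𝒜 (GMod.of 𝒜 R 𝒜) g
    have hφgr : IsGrHom A.gr B.gr φ := by
      intro h r hr
      show φ r ∈ 𝒜 (h + g)
      rw [hφ, add_comm]
      exact SetLike.GradedMul.mul_mem hs hr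
    have hφinj : Function.Injective φ := fun a b hab => by
      rw [hφ, hφ] at hab
      exact mul_left_cancel₀ hs0 hab
    have hγgr : IsGrHom A.gr 𝓔 γ := by
      intro h r hr
      rw [hγ]
      exact he.grHom h _ ⟨r, hr, rfl⟩
    obtain ⟨χ0, -, hχ0⟩ := he.starInj A B φ hφgr hφinj γ hγgr
    obtain ⟨χ, hχ⟩ : ∃ χ : R →ₗ[R] E', χ = χ0 := ⟨χ0, rfl⟩
    refine ⟨χ (1 : R), ?_⟩
    have h1 : χ (φ 1) = γ 1 := by
      rw [hχ]
      exact LinearMap.congr_fun hχ0 (1 : R)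
    rw [hφ, mul_one, hγ, ← hσ] at h1
    have h2 : χ s = s • χ (1 : R) := by
      conv_lhs => rw [← mul_one s, ← smul_eq_mul]
      exact χ.map_smul s (1 : R)
    rw [← h2, h1]
    exact hσ0
  have hfinj : Function.Injective f := by
    rw [injective_iff_map_eq_zero]
    intro r hr
    rw [hf] at hr
    have hcomp : ∀ g, ((DirectSum.decompose 𝒜 r g : 𝒜 g) : R) = 0 := by
      intro g
      by_contra hne
      obtain ⟨u, hu⟩ := hfaith g _ (SetLike.coe_mem _) hne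
      apply hu
      apply hJE
      have h1 := decompose_smul_apply' 𝒜 𝒞 r hc (g + g0)
      rw [hr, DirectSum.decompose_zero, DirectSum.zero_apply, ZeroMemClass.coe_zero,
        coe_decompose_congr' 𝒜 r (add_sub_cancel_right g g0)] at h1
      exact h1.symm
    rw [← DirectSum.sum_support_decompose 𝒜 r]
    exact Finset.sum_eq_zero (fun g _ => hcomp g)
  -- the degree
  obtain ⟨ψσ, hψσ⟩ := exists_factor f hfsurj (LinearMap.toSpanSingleton R E' σ) (by
    rw [LinearMap.ker_eq_bot.2 hfinj]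
    exact bot_le)
  have hψσ' : ∀ r, ψσ (f r) = r • σ := fun r => by
    rw [hψσ, LinearMap.toSpanSingleton_apply]
  have hψσgr : IsGrHomDeg 𝒞 𝓔 ψσ (-g0) := by
    intro h y hy
    obtain ⟨r, rfl⟩ := hfsurj y
    have h1 := decompose_smul_apply' 𝒜 𝒞 r hc h
    rw [← hf, DirectSum.decompose_of_mem_same 𝒞 hy, ← hf] at h1
    rw [h1, hψσ']
    have h4 := smul_mem_add 𝒜 𝓔 (SetLike.coe_mem (DirectSum.decompose 𝒜 r (h - g0))) hσgr
    rw [add_zero] at h4
    rwa [sub_eq_add_neg] at h4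
  have h6 := hΦgr (-g0) ψσ hψσgr
  have h7 : Φ ψσ ≠ 0 := by
    intro h
    have h8 : ψσ = 0 := hΦ.1 (h.trans (map_zero Φ).symm)
    have h9 := hψσ' 1
    rw [h8, one_smul, LinearMap.zero_apply] at h9
    exact hσ0 h9.symm
  have h8 : ∀ a ∈ m.toIdeal, a • Φ ψσ = 0 := by
    intro a ha
    rw [← map_smul]
    have h9 : a • ψσ = 0 := by
      ext y
      obtain ⟨r, rfl⟩ := hfsurj y
      rw [LinearMap.smul_apply, hψσ', smul_comm, hσm a ha, smul_zero, LinearMap.zero_apply]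
    rw [h9, map_zero]
  obtain ⟨q, hq⟩ := socle_le_range m.toIdeal e hull.toIsEssentialInj (Φ ψσ) h8
  obtain ⟨r, rfl⟩ := Submodule.mkQ_surjective _ q
  rw [heq] at hq
  have hd : -g0 + d = 0 := by
    by_contra hne
    apply h7
    have h9 := decompose_smul_apply' 𝒜 𝓔 r hσgr (-g0 + d)
    rw [hq, DirectSum.decompose_of_mem_same 𝓔 h6, sub_zero] at h9
    rw [h9]
    rcases lt_or_gt_of_ne hne with hlt | hgt
    · rw [coe_decompose_eq_zero_of_neg 𝒜 hpos r hlt, zero_smul]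
    · apply hσm
      rw [hmsp]
      apply Ideal.subset_span
      simp only [Set.mem_iUnion]
      exact ⟨_, hgt, SetLike.coe_mem _⟩
  have hg0 : g0 = d := by omega
  refine ⟨f, ⟨hfinj, hfsurj⟩, ?_⟩
  intro h r hr
  rw [hf, ← hg0]
  exact smul_mem_add 𝒜 𝒞 hr hc

/-- the version for `GrLC.IsStarCanonical`: if `H^n_m(R) ≅ E'(d)` then the *canonical module is
`R(-d)` -/
theorem exists_bijective_of_canonical (hpos : ∀ n : ℤ, n < 0 → 𝒜 n = ⊥)
    (m : HomogeneousIdeal 𝒜) [hmax : m.toIdeal.IsMaximal]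
    (hmsp : m.toIdeal = Ideal.span (⋃ n ∈ Set.Ioi (0 : ℤ), (𝒜 n : Set R)))
    (e : (R ⧸ m.toIdeal) →ₗ[R] E') (he : IsStarInjHull 𝒜 (quotGr 𝒜 m) 𝓔 e)
    (I : StarInjRes 𝒜 𝒜) (n : ℕ) (d : ℤ) (θ : I.H m n →ₗ[R] E') (hθ : Function.Bijective θ)
    (hθgr : IsGrHomDeg (I.Hgr m n) 𝓔 θ d) (hC : IsStarCanonical 𝒜 𝒞 𝓔 m n I) :
    ∃ f : R →ₗ[R] C, Function.Bijective f ∧ IsGrHomDeg 𝒜 𝒞 f d := by
  obtain ⟨hfin, φ, hφ⟩ := hC
  haveI := hfin
  refine exists_bijective_of_hom_equiv 𝓔 𝒞 hpos m hmsp e he d (θ ∘ₗ φ.toLinearMap)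
    (hθ.comp φ.bijective) ?_
  intro g ψ hψ
  exact hθgr g _ (hφ g ψ hψ)

end Canon

end Groth.Agent.Lib.helper19.CanPoly
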