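import Mathlib
import Groth.Agent.Lib.Helper19.Conn5
import Groth.Agent.S11667

set_option autoImplicit false
universe u
open IsLocalRing CategoryTheory PrimeSpectrum

namespace Groth.Agent.Lib.helper19.Conn

section Punct
variable (R : Type u) [CommRing R] [IsDomain R] [IsNoetherianRing R] [IsLocalRing R]

/-- for a local domain `c(R) = sdim R = dim R` (lower bounds) -/
lemma le_min_connDim_subdim_of_domain (d : ℕ) (hd : ringKrullDim R = d) :
    (d : WithBot ℕ∞) ≤ min (LocCoh.connDim (PrimeSpectrum R) + 1)
      (LocCoh.subdim (PrimeSpectrum R)) := by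
  have hsub : (d : WithBot ℕ∞) ≤ LocCoh.subdim (PrimeSpectrum R) := by
    apply le_iInf₂
    intro Z hZ
    rw [← PrimeSpectrum.zeroLocus_minimalPrimes] at hZ
    obtain ⟨p, hp, rfl⟩ := hZ
    rw [IsDomain.minimalPrimes_eq_singleton_bot, Set.mem_singleton_iff] at hp
    subst hp
    show _ ≤ topologicalKrullDim (zeroLocus ((⊥ : Ideal R) : Set R))
    rw [topologicalKrullDim_zeroLocus, ← hd]
    exact (ringKrullDim_eq_of_ringEquiv (RingEquiv.quotientBot R)).ge
  have hfin : topologicalKrullDim (PrimeSpectrum R) < ⊤ := by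
    rw [PrimeSpectrum.topologicalKrullDim_eq_ringKrullDim]
    exact ringKrullDim_lt_top
  have h := (Groth.Agent.S11667.result (PrimeSpectrum R) hfin).2.2 inferInstance
  refine le_min ?_ hsub
  rw [h]
  exact hsub.trans (le_add_of_nonneg_right zero_le_one)

/-- the punctured spectrum of `R ⧸ I` is connected when `c(R ⧸ I) ≥ 1` -/
lemma isConnected_punctured_of_connDim {S : Type u} [CommRing S] [IsLocalRing S]
    (h : (1 : WithBot ℕ∞) ≤ LocCoh.connDim (PrimeSpectrum S)) :
    _root_.IsConnected ({closedPoint S}ᶜ : Set (PrimeSpectrum S)) := by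
  by_contra hcon
  have h1 : LocCoh.connDim (PrimeSpectrum S) ≤
      topologicalKrullDim ({closedPoint S} : Set (PrimeSpectrum S)) :=
    iInf₂_le ({closedPoint S} : Set (PrimeSpectrum S)) ⟨isClosed_singleton_closedPoint S, hcon⟩
  have h2 : topologicalKrullDim ({closedPoint S} : Set (PrimeSpectrum S)) ≤ 0 :=
    topologicalKrullDim_zero_of_discreteTopology _
  have := h.trans (h1.trans h2)
  norm_num at this

variable [IsAdicComplete (maximalIdeal R) R]

/-- Brodmann–Sharp 19.2.11: connectedness of the punctured spectrum -/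
theorem isConnected_punctured (d : ℕ) (hd : ringKrullDim R = d) (t : ℕ) (ht : t + 2 ≤ d)
    (f : Fin t → R) (I : Ideal R) (hItop : I ≠ ⊤)
    (hI : I.radical = (Ideal.span (Set.range f)).radical) :
    _root_.IsConnected {x : PrimeSpectrum R | I ≤ x.asIdeal ∧ x.asIdeal ≠ maximalIdeal R} := by
  classical
  haveI := isLocalRing_quot I hItop
  have hs : (Ideal.span ((Finset.univ.image f : Finset R) : Set R)).radical = I.radical := by
    rw [Finset.coe_image, Finset.coe_univ, Set.image_univ, hI]
  have hmain := grothendieck_connectedness R I hItop (Finset.univ.image f) hs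
  have hcard : (Finset.univ.image f).card ≤ t := by
    refine Finset.card_image_le.trans ?_
    rw [Finset.card_univ, Fintype.card_fin]
  have hlow := le_min_connDim_subdim_of_domain R d hd
  obtain ⟨c, hc⟩ := exists_nat_connDim (R ⧸ I)
  rw [hc] at hmain
  have h1 : (d : WithBot ℕ∞) ≤ ((c + (Finset.univ.image f).card + 1 : ℕ) : WithBot ℕ∞) := by
    refine (hlow.trans hmain).trans ?_
    push_cast
    exact le_rfl
  have h2 : d ≤ c + (Finset.univ.image f).card + 1 := by exact_mod_cast h1
  have hc1 : (1 : WithBot ℕ∞) ≤ LocCoh.connDim (PrimeSpectrum (R ⧸ I)) := by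
    rw [hc]
    exact_mod_cast (by omega : 1 ≤ c)
  have hconn := isConnected_punctured_of_connDim hc1
  have hsurj : Function.Surjective (Ideal.Quotient.mk I) := Ideal.Quotient.mk_surjective
  have hclosed : (PrimeSpectrum.comap (Ideal.Quotient.mk I) (closedPoint (R ⧸ I))).asIdeal =
      maximalIdeal R := by
    have hmax : ((maximalIdeal (R ⧸ I)).comap (Ideal.Quotient.mk I)).IsMaximal :=
      Ideal.comap_isMaximal_of_surjective _ hsurj
    exact IsLocalRing.eq_maximalIdeal hmax
  have himage : PrimeSpectrum.comap (Ideal.Quotient.mk I) '' ({closedPoint (R ⧸ I)}ᶜ) =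
      {x : PrimeSpectrum R | I ≤ x.asIdeal ∧ x.asIdeal ≠ maximalIdeal R} := by
    ext x
    constructor
    · rintro ⟨y, hy, rfl⟩
      refine ⟨?_, fun h => hy ?_⟩
      · intro a ha
        show Ideal.Quotient.mk I a ∈ y.asIdeal
        rw [Ideal.Quotient.eq_zero_iff_mem.2 ha]
        exact zero_mem _
      · apply PrimeSpectrum.comap_injective_of_surjective _ hsurj
        apply PrimeSpectrum.ext
        rw [h, hclosed]
    · rintro ⟨hIx, hxm⟩
      have hx : x ∈ Set.range (PrimeSpectrum.comap (Ideal.Quotient.mk I)) := by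
        rw [_root_.range_comap_of_surjective _ _ hsurj, Ideal.mk_ker]
        exact (mem_zeroLocus _ _).2 hIx
      obtain ⟨y, rfl⟩ := hx
      refine ⟨y, fun hy => hxm ?_, rfl⟩
      rw [Set.mem_singleton_iff.1 hy, hclosed]
  rw [← himage]
  exact hconn.image _ (PrimeSpectrum.continuous_comap (Ideal.Quotient.mk I)).continuousOn

end Punct

end Groth.Agent.Lib.helper19.Conn
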