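import Mathlib

/-! # CoprodFilt (helper19)
`preservesCoproduct_of_finite_and_filtered`: a functor preserving finite coproducts and colimits of
shape `Finset (Discrete α)` preserves coproducts indexed by `α`. -/

set_option autoImplicit false
universe w v v' u u'
open CategoryTheory CategoryTheory.Limits Opposite

namespace Groth.Agent.Lib.helper19.CoprodFilt

open CoproductsFromFiniteFiltered

variable {C : Type u} [Category.{v} C] {D : Type u'} [Category.{v'} D] {α : Type w}
  [HasFiniteCoproducts C] [HasColimitsOfShape (Finset (Discrete α)) C]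

/-- a functor preserving finite coproducts and colimits of shape `Finset (Discrete α)` preserves
coproducts indexed by `α`. -/
theorem preservesCoproduct_of_finite_and_filtered (F : C ⥤ D) [PreservesFiniteCoproducts F]
    [PreservesColimitsOfShape (Finset (Discrete α)) F] (f : α → C) [HasCoproduct f] :
    PreservesColimit (Discrete.functor f) F := by
  classical
  have hc₀ : IsColimit (F.mapCocone (finiteSubcoproductsCocone f)) :=
    isColimitOfPreserves F (isColimitFiniteSubproductsCocone f)
  suffices hmain : Nonempty (IsColimit (Cofan.mk (F.obj (∐ f)) (fun j => F.map (Sigma.ι f j)) :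
      Cofan fun j => F.obj (f j))) by
    apply preservesColimit_of_preserves_colimit_cocone (coproductIsCoproduct f)
    exact (isColimitMapCoconeCofanMkEquiv _ _ _).symm hmain.some
  obtain ⟨inS, hι, hmap, hfin⟩ : ∃ inS : ∀ (S : Finset (Discrete α)) (x : S),
      f x.val.as ⟶ (liftToFinsetObj (Discrete.functor f)).obj S,
      (∀ (S : Finset (Discrete α)) (x : S), inS S x ≫ (finiteSubcoproductsCocone f).ι.app S = Sigma.ι f x.val.as) ∧
      (∀ (S S' : Finset (Discrete α)) (h : S ⟶ S') (x : S),
        inS S x ≫ (liftToFinsetObj (Discrete.functor f)).map h =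
          inS S' ⟨x.val, h.down.down x.2⟩) ∧
      (∀ S : Finset (Discrete α), Nonempty (IsColimit (Cofan.mk (F.obj ((liftToFinsetObj (Discrete.functor f)).obj S))
        (fun x : S => F.map (inS S x)) : Cofan fun x : S => F.obj (f x.val.as)))) := by
    refine ⟨fun S x => Sigma.ι (fun x : S => f x.val.as) x, ?_, ?_, ?_⟩
    · intro S x
      exact Sigma.ι_desc _ _
    · intro S S' h x
      exact Sigma.ι_desc _ _
    · intro S
      exact ⟨isColimitOfHasCoproductOfPreservesColimit F (fun x : S => f x.val.as)⟩
  have hfac : ∀ (S : Finset (Discrete α)) {A : D} (g : ∀ x : S, F.obj (f x.val.as) ⟶ A) (x : S),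
      F.map (inS S x) ≫ Cofan.IsColimit.desc (hfin S).some g = g x := fun S A g x =>
    Cofan.IsColimit.fac (hfin S).some g x
  let s' : ∀ s : Cofan (fun j => F.obj (f j)),
      Cocone (liftToFinsetObj (Discrete.functor f) ⋙ F) := fun s =>
    { pt := s.pt
      ι :=
        { app := fun S => Cofan.IsColimit.desc (hfin S).some (fun x => s.inj x.val.as)
          naturality := by
            intro S S' h
            apply Cofan.IsColimit.hom_ext (hfin S).some
            intro x
            change F.map (inS S x) ≫ F.map ((liftToFinsetObj (Discrete.functor f)).map h) ≫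
              Cofan.IsColimit.desc (hfin S').some (fun x => s.inj x.val.as) =
              F.map (inS S x) ≫ Cofan.IsColimit.desc (hfin S).some (fun x => s.inj x.val.as) ≫ 𝟙 _
            rw [Category.comp_id, ← Category.assoc, ← F.map_comp, hmap, hfac, hfac] } }
  have hs' : ∀ s S, (s' s).ι.app S =
      Cofan.IsColimit.desc (hfin S).some (fun x => s.inj x.val.as) := fun s S => rfl
  refine ⟨Cofan.IsColimit.mk _ (fun s => hc₀.desc (s' s)) ?_ ?_⟩
  · intro s j
    change F.map (Sigma.ι f j) ≫ _ = _
    have h1 : F.map (inS {⟨j⟩} ⟨⟨j⟩, Finset.mem_singleton_self _⟩) ≫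
        F.map ((finiteSubcoproductsCocone f).ι.app {⟨j⟩}) = F.map (Sigma.ι f j) :=
      (F.map_comp _ _).symm.trans
        (congrArg (fun t => F.map t) (hι {⟨j⟩} ⟨⟨j⟩, Finset.mem_singleton_self _⟩))
    have h2 := hc₀.fac (s' s) {⟨j⟩}
    change F.map ((finiteSubcoproductsCocone f).ι.app {⟨j⟩}) ≫ _ = _ at h2
    refine (congrArg (fun t => t ≫ hc₀.desc (s' s)) h1.symm).trans ?_
    refine (Category.assoc _ _ _).trans ?_
    refine (congrArg (fun t => F.map (inS {⟨j⟩} ⟨⟨j⟩, Finset.mem_singleton_self _⟩) ≫ t) h2).trans ?_
    rw [hs']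
    exact hfac _ _ _
  · intro s m hm
    apply hc₀.hom_ext
    intro S
    rw [hc₀.fac, hs']
    apply Cofan.IsColimit.hom_ext (hfin S).some
    intro x
    change F.map (inS S x) ≫ F.map ((finiteSubcoproductsCocone f).ι.app S) ≫ m =
      F.map (inS S x) ≫ _
    have h1 : F.map (inS S x) ≫ F.map ((finiteSubcoproductsCocone f).ι.app S) =
        F.map (Sigma.ι f x.val.as) :=
      (F.map_comp _ _).symm.trans (congrArg (fun t => F.map t) (hι S x))
    rw [hfac]
    refine (Category.assoc _ _ _).symm.trans ?_
    refine (congrArg (fun t => t ≫ m) h1).trans ?_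
    exact hm x.val.as

end Groth.Agent.Lib.helper19.CoprodFilt
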