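import Mathlib
import Groth.Agent.Lib.Helper26.FinRestr1
import Groth.Agent.Lib.Helper26.FinRestr4
import Groth.Agent.Lib.Helper26.DimFormula6
import Groth.Prelude.Def_DualLC

set_option autoImplicit false
universe u

namespace Groth.Agent.Lib.helper19.CutoffFinite
open Groth.Agent.Lib.helper26

section Height
variable {R : Type u} [CommRing R]

/-- height in the interval above `p` = height in the quotient. -/
theorem height_Ici_eq_height_map (p q : PrimeSpectrum R) (h : p ≤ q) :
    Order.height (⟨q, h⟩ : Set.Ici p) =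
      (q.asIdeal.map (Ideal.Quotient.mk p.asIdeal)).height := by
  have hset : PrimeSpectrum.zeroLocus (R := R) (p.asIdeal : Set R) = Set.Ici p := by
    ext x
    simp only [PrimeSpectrum.mem_zeroLocus, SetLike.coe_subset_coe, Set.mem_Ici]
    exact (PrimeSpectrum.asIdeal_le_asIdeal p x)
  let e : PrimeSpectrum (R ⧸ p.asIdeal) ≃o Set.Ici p :=
    (Ideal.primeSpectrumQuotientOrderIsoZeroLocus p.asIdeal).trans (OrderIso.setCongr _ _ hset)
  have hpq : p.asIdeal ≤ q.asIdeal := (PrimeSpectrum.asIdeal_le_asIdeal p q).2 h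
  haveI : (q.asIdeal.map (Ideal.Quotient.mk p.asIdeal)).IsPrime :=
    Ideal.map_isPrime_of_surjective Ideal.Quotient.mk_surjective (by rw [Ideal.mk_ker]; exact hpq)
  let x : PrimeSpectrum (R ⧸ p.asIdeal) := ⟨q.asIdeal.map (Ideal.Quotient.mk p.asIdeal), inferInstance⟩
  have hx : e x = ⟨q, h⟩ := by
    apply Subtype.ext
    apply PrimeSpectrum.ext
    change (q.asIdeal.map (Ideal.Quotient.mk p.asIdeal)).comap (Ideal.Quotient.mk p.asIdeal) = q.asIdeal
    rw [Ideal.comap_map_of_surjective _ Ideal.Quotient.mk_surjective, ← RingHom.ker_eq_comap_bot,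
      Ideal.mk_ker]
    exact sup_eq_left.mpr hpq
  rw [← hx, Order.height_orderIso]
  exact (PrimeSpectrum.height_eq_orderHeight x).symm

end Height

section Finite
variable (A B : Type u) [CommRing A] [CommRing B] [Algebra A B] [Module.Finite A B]

/-- heights of quotient primes agree along a finite extension of a universally catenary ring. -/
theorem height_map_eq_of_finite (hA : CAlg.IsUniversallyCatenary A) (P Q : Ideal B) [P.IsPrime]
    [Q.IsPrime] (hPQ : P ≤ Q) :
    (Q.map (Ideal.Quotient.mk P)).height =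
      ((Q.under A).map (Ideal.Quotient.mk (P.under A))).height := by
  haveI := hA.1
  haveI : (P.under A).IsPrime := Ideal.IsPrime.under A P
  haveI : IsDomain (A ⧸ P.under A) := Ideal.Quotient.isDomain _
  haveI : IsDomain (B ⧸ P) := Ideal.Quotient.isDomain _
  haveI : Algebra.IsIntegral A B := Algebra.IsIntegral.of_finite A B
  have hR : CAlg.IsUniversallyCatenary (A ⧸ P.under A) :=
    DimFormula.isUniversallyCatenary_of_finiteType (R := A) hA
  set 𝔮 : Ideal (B ⧸ P) := Q.map (Ideal.Quotient.mk P) with h𝔮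
  haveI : 𝔮.IsPrime :=
    Ideal.map_isPrime_of_surjective Ideal.Quotient.mk_surjective (by rw [Ideal.mk_ker]; exact hPQ)
  have hunder : 𝔮.under (A ⧸ P.under A) = (Q.under A).map (Ideal.Quotient.mk (P.under A)) := by
    ext x
    obtain ⟨a, rfl⟩ := Ideal.Quotient.mk_surjective x
    have hle : P.under A ≤ Q.under A := Ideal.comap_mono hPQ
    rw [Ideal.mem_quotient_iff_mem hle]
    change Ideal.Quotient.mk P (algebraMap A B a) ∈ Q.map (Ideal.Quotient.mk P) ↔ _
    rw [Ideal.mem_quotient_iff_mem hPQ]
    rfl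
  haveI : (𝔮.under (A ⧸ P.under A)).IsPrime := Ideal.IsPrime.under _ 𝔮
  have key := DimFormula.dimension_formula (A ⧸ P.under A) hR (B ⧸ P)
    (𝔮.under (A ⧸ P.under A)) 𝔮
  haveI : Algebra.IsAlgebraic (A ⧸ P.under A) (B ⧸ P) := Algebra.IsIntegral.isAlgebraic
  haveI : Algebra.IsAlgebraic ((A ⧸ P.under A) ⧸ 𝔮.under (A ⧸ P.under A)) ((B ⧸ P) ⧸ 𝔮) :=
    Algebra.IsIntegral.isAlgebraic
  rw [trdeg_eq_zero, trdeg_eq_zero, add_zero, add_zero] at key
  rw [← hunder]
  exact_mod_cast key

end Finite

section Main
open LocCoh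
variable (A B : Type u) [CommRing A] [CommRing B] [Algebra A B] [IsNoetherianRing A]
  [IsNoetherianRing B] [Module.Finite A B]

omit [IsNoetherianRing A] [IsNoetherianRing B] [Module.Finite A B] in
lemma comap_mono {p' q' : PrimeSpectrum B} (h' : p' ≤ q') :
    PrimeSpectrum.comap (algebraMap A B) p' ≤ PrimeSpectrum.comap (algebraMap A B) q' :=
  (PrimeSpectrum.asIdeal_le_asIdeal _ _).1
    (Ideal.comap_mono ((PrimeSpectrum.asIdeal_le_asIdeal p' q').2 h'))

omit [IsNoetherianRing A] [IsNoetherianRing B] in
theorem height_Ici_comap (hA : CAlg.IsUniversallyCatenary A) (p' q' : PrimeSpectrum B)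
    (h' : p' ≤ q') :
    Order.height (⟨q', h'⟩ : Set.Ici p') =
      Order.height (⟨PrimeSpectrum.comap (algebraMap A B) q', comap_mono A B h'⟩ :
        Set.Ici (PrimeSpectrum.comap (algebraMap A B) p')) := by
  rw [height_Ici_eq_height_map, height_Ici_eq_height_map]
  exact height_map_eq_of_finite A B hA p'.asIdeal q'.asIdeal
    ((PrimeSpectrum.asIdeal_le_asIdeal p' q').2 h')

theorem cutoff_eq (hA : CAlg.IsUniversallyCatenary A) (I : Ideal A)
    (M : Type u) [AddCommGroup M] [Module B M] [Module A M] [IsScalarTower A B M]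
    [Module.Finite B M] :
    Dual2.cutoff B (I.map (algebraMap A B)) M = Dual2.cutoff A I M := by
  classical
  haveI : Module.Finite A M := Module.Finite.trans B M
  let f : PrimeSpectrum B → PrimeSpectrum A := PrimeSpectrum.comap (algebraMap A B)
  have hF1 : ∀ p' : PrimeSpectrum B, I.map (algebraMap A B) ≤ p'.asIdeal ↔ I ≤ (f p').asIdeal :=
    fun p' => Ideal.map_le_iff_le_comap
  have hF3 := fun p : PrimeSpectrum A => FinRestr.depth_localization_eq_iInf A B M p.asIdeal
  apply le_antisymm
  · -- cutoff B ≤ cutoff A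
    unfold Dual2.cutoff
    refine le_iInf fun p => le_iInf fun q => le_iInf fun h => le_iInf fun hp => le_iInf fun hq => ?_
    by_cases htop : depth (Localization.AtPrime p.asIdeal)
        (LocalizedModule p.asIdeal.primeCompl M) = ⊤
    · rw [htop, top_add]; exact le_top
    · -- the infimum is attained
      have h3 := hF3 p
      rw [iInf_subtype'] at h3
      have hne : Nonempty {q : PrimeSpectrum B //
          q ∈ {q : PrimeSpectrum B | q.asIdeal.comap (algebraMap A B) = p.asIdeal ∧
            q ∈ Module.support B M}} := by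
        by_contra hcon
        rw [not_nonempty_iff] at hcon
        rw [iInf_of_empty] at h3
        exact htop h3
      obtain ⟨⟨p', hp'1, hp'2⟩, hp'eq⟩ := ciInf_mem (fun q : {q : PrimeSpectrum B //
          q ∈ {q : PrimeSpectrum B | q.asIdeal.comap (algebraMap A B) = p.asIdeal ∧
            q ∈ Module.support B M}} =>
          depth (Localization.AtPrime q.1.asIdeal) (LocalizedModule q.1.asIdeal.primeCompl M))
      rw [← h3] at hp'eq
      have hfp : f p' = p := PrimeSpectrum.ext hp'1
      -- going up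
      haveI : Algebra.IsIntegral A B := Algebra.IsIntegral.of_finite A B
      have hle : p'.asIdeal.comap (algebraMap A B) ≤ q.asIdeal := by
        rw [hp'1]; exact (PrimeSpectrum.asIdeal_le_asIdeal p q).2 h
      obtain ⟨Q, hQ1, hQ2, hQ3⟩ :=
        Ideal.exists_ideal_over_prime_of_isIntegral q.asIdeal p'.asIdeal hle
      let q' : PrimeSpectrum B := ⟨Q, hQ2⟩
      have hfq : f q' = q := PrimeSpectrum.ext hQ3
      have h' : p' ≤ q' := (PrimeSpectrum.asIdeal_le_asIdeal p' q').1 hQ1
      have hp'I : ¬ I.map (algebraMap A B) ≤ p'.asIdeal := by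
        rw [hF1, hfp]; exact hp
      have hq'I : I.map (algebraMap A B) ≤ q'.asIdeal := by
        rw [hF1, hfq]; exact hq
      refine iInf_le_of_le p' (iInf_le_of_le q' (iInf_le_of_le h' (iInf_le_of_le hp'I
        (iInf_le_of_le hq'I ?_))))
      have hht := height_Ici_comap A B hA p' q' h'
      rw [hht]
      have hp'eq' : depth (Localization.AtPrime p'.asIdeal)
          (LocalizedModule p'.asIdeal.primeCompl M) =
          depth (Localization.AtPrime p.asIdeal) (LocalizedModule p.asIdeal.primeCompl M) := hp'eq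
      rw [hp'eq']
      subst hfp
      subst hfq
      exact le_rfl
  · -- cutoff A ≤ cutoff B
    unfold Dual2.cutoff
    refine le_iInf fun p' => le_iInf fun q' => le_iInf fun h' => le_iInf fun hp' =>
      le_iInf fun hq' => ?_
    by_cases hsupp : p' ∈ Module.support B M
    · have hp : ¬ I ≤ (f p').asIdeal := by rw [← hF1]; exact hp'
      have hq : I ≤ (f q').asIdeal := by rw [← hF1]; exact hq'
      refine iInf_le_of_le (f p') (iInf_le_of_le (f q') (iInf_le_of_le (comap_mono A B h')
        (iInf_le_of_le hp (iInf_le_of_le hq ?_))))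
      rw [height_Ici_comap A B hA p' q' h']
      refine add_le_add_left ?_ _
      rw [hF3 (f p')]
      exact iInf₂_le p' ⟨rfl, hsupp⟩
    · rw [FinRestr.depth_eq_top_of_notMem_support B M p' hsupp, top_add]
      exact le_top

end Main

end Groth.Agent.Lib.helper19.CutoffFinite
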