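import Mathlib
import Groth.Prelude.Def_DRing3
import Groth.Agent.Lib.Helper13.DComp7
import Groth.Agent.Lib.Helper23.SplitTrunc
import Groth.Agent.Lib.Helper19.DHomLinear

/-!
# helper19: annihilators of identities in `D(A)` (for S8793/S8794), part 1

* `smul_id_of_triangle`: in a distinguished triangle, `a • 𝟙 X = 0`, `b • 𝟙 Z = 0` give `(a b) • 𝟙 Y = 0`.
* `smul_id_of_single_degree`, `pow_smul_id_eq_zero`: if `f` kills all cohomology modules of an
  object with cohomology in `[a, a + n]`, then `f ^ (n + 1) • 𝟙 X = 0`.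
* `smul_id_derivedCompletion`: `a • 𝟙 K = 0` implies `a • 𝟙 (K^∧) = 0`.
* `smul_homology_eq_zero`: `a • 𝟙 X = 0` kills the cohomology modules.
-/

set_option autoImplicit false
universe u
open CategoryTheory CategoryTheory.Limits DerivedCategory Pretriangulated

attribute [local instance] HasDerivedCategory.standard

namespace Groth.Agent.Lib.helper19.DCAnn1

open Groth.Agent.Lib.helper13.DComp Groth.Agent.Lib.helper23.SplitTrunc
  Groth.Agent.Lib.helper19.DHomLinear

variable {A : Type u} [CommRing A]

/-- P1: annihilators of the identity along a distinguished triangle -/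
lemma smul_id_of_triangle (T : Triangle (Dual.D A)) (hT : T ∈ distTriang _) (a b : A)
    (h1 : a • 𝟙 T.obj₁ = 0) (h3 : b • 𝟙 T.obj₃ = 0) : (a * b) • 𝟙 T.obj₂ = 0 := by
  have h0 : (b • 𝟙 T.obj₂) ≫ T.mor₂ = 0 := by
    rw [Linear.smul_comp, Category.id_comp, ← Category.comp_id T.mor₂, ← Linear.comp_smul, h3,
      comp_zero]
  obtain ⟨φ, hφ⟩ := Triangle.coyoneda_exact₂ _ hT (b • 𝟙 T.obj₂) h0
  have h2 : a • (φ ≫ T.mor₁) = (φ ≫ (a • 𝟙 T.obj₁)) ≫ T.mor₁ := by
    rw [Linear.comp_smul, Linear.smul_comp, Category.comp_id]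
  rw [mul_smul, hφ, h2, h1, comp_zero, zero_comp]

/-- an element killing a module kills its identity -/
lemma smul_id_single (M : ModuleCat.{u} A) (f : A) (h : ∀ m : M, f • m = 0) (n : ℤ) :
    f • 𝟙 ((singleFunctor (ModuleCat.{u} A) n).obj M) = 0 := by
  have h0 : f • 𝟙 M = 0 := by
    ext m
    exact h m
  rw [← CategoryTheory.Functor.map_id, ← Functor.map_smul, h0, Functor.map_zero]

/-- the single-degree case -/
lemma smul_id_of_single_degree (f : A) (X : Dual.D A) (a : ℤ)
    (h1 : ∀ j : ℤ, j < a → IsZero ((homologyFunctor (ModuleCat.{u} A) j).obj X))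
    (h2 : ∀ j : ℤ, a < j → IsZero ((homologyFunctor (ModuleCat.{u} A) j).obj X))
    (hf : ∀ x : ((homologyFunctor (ModuleCat.{u} A) a).obj X : ModuleCat.{u} A), f • x = 0) :
    f • 𝟙 X = 0 := by
  haveI : X.IsGE a := (isGE_iff X a).2 h1
  haveI : X.IsLE a := (isLE_iff X a).2 h2
  obtain ⟨M, ⟨e⟩⟩ := exists_iso_singleFunctor_obj_of_isGE_of_isLE X a
  let e2 : ((homologyFunctor (ModuleCat.{u} A) a).obj X : ModuleCat.{u} A) ≅ M :=
    (homologyFunctor (ModuleCat.{u} A) a).mapIso e ≪≫
      (singleFunctorCompHomologyFunctorIso (ModuleCat.{u} A) a).app M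
  have hM : ∀ m : M, f • m = 0 := by
    intro m
    have : m = e2.hom (e2.inv m) := (e2.toLinearEquiv.apply_symm_apply m).symm
    rw [this, ← map_smul, hf, map_zero]
  have h0 := smul_id_single M f hM a
  have : f • 𝟙 X = e.hom ≫ (f • 𝟙 _) ≫ e.inv := by
    rw [Linear.smul_comp, Linear.comp_smul, Category.id_comp, e.hom_inv_id]
  rw [this, h0, zero_comp, comp_zero]


lemma smul_eq_zero_of_iso {X Y : ModuleCat.{u} A} (e : X ≅ Y) (f : A) (h : ∀ y : Y, f • y = 0)
    (x : X) : f • x = 0 := by
  have h1 := h (e.hom x)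
  rw [← map_smul] at h1
  apply e.toLinearEquiv.injective
  rw [map_zero]
  exact h1

variable (A) in
/-- the canonical t-structure -/
noncomputable abbrev tA : Triangulated.TStructure (Dual.D A) := TStructure.t (C := ModuleCat.{u} A)

/-- P2: an element killing the cohomology of a bounded object kills a power of the identity -/
theorem pow_smul_id_eq_zero (f : A) : ∀ (n : ℕ) (X : Dual.D A) (a : ℤ),
    (∀ j : ℤ, j < a → IsZero ((homologyFunctor (ModuleCat.{u} A) j).obj X)) →
    (∀ j : ℤ, a + n < j → IsZero ((homologyFunctor (ModuleCat.{u} A) j).obj X)) →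
    (∀ (j : ℤ) (x : ((homologyFunctor (ModuleCat.{u} A) j).obj X : ModuleCat.{u} A)), f • x = 0) →
    f ^ (n + 1) • 𝟙 X = 0
  | 0, X, a, h1, h2, hf => by
    rw [zero_add, pow_one]
    exact smul_id_of_single_degree f X a h1 (fun j hj => h2 j (by simpa using hj)) (hf a)
  | n + 1, X, a, h1, h2, hf => by
    let T := ((tA A).triangleLTGE (a + 1)).obj X
    have hT : T ∈ distTriang _ := (tA A).triangleLTGE_distinguished (a + 1) X
    -- first vertex
    haveI h1LE : T.obj₁.IsLE (a + 1 - 1) := by
      dsimp [T]; infer_instance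
    have hA : f ^ (0 + 1) • 𝟙 T.obj₁ = 0 := by
      refine pow_smul_id_eq_zero f 0 T.obj₁ a (fun j hj => ?_) (fun j hj => ?_) (fun j x => ?_)
      · have hiso := isIso_homologyMap_truncLTι X (a + 1) j (by omega)
        exact (h1 j hj).of_iso (@asIso _ _ _ _ _ hiso)
      · exact isZero_of_isLE T.obj₁ (a + 1 - 1) j (by simp at hj; omega)
      · by_cases hj : j < a + 1
        · haveI := isIso_homologyMap_truncLTι X (a + 1) j hj
          exact smul_eq_zero_of_iso (asIso ((homologyFunctor (ModuleCat.{u} A) j).map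
            (((tA A).truncLTι (a + 1)).app X))) f (hf j) x
        · haveI : Subsingleton ((homologyFunctor (ModuleCat.{u} A) j).obj T.obj₁ : ModuleCat.{u} A) :=
            ModuleCat.subsingleton_of_isZero (isZero_of_isLE T.obj₁ (a + 1 - 1) j (by omega))
          exact Subsingleton.elim _ _
    -- third vertex
    haveI h3GE : T.obj₃.IsGE (a + 1) := by
      dsimp [T]; infer_instance
    have hB : f ^ (n + 1) • 𝟙 T.obj₃ = 0 := by
      refine pow_smul_id_eq_zero f n T.obj₃ (a + 1) (fun j hj => ?_) (fun j hj => ?_) (fun j x => ?_)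
      · exact isZero_of_isGE T.obj₃ (a + 1) j hj
      · haveI := isIso_homologyMap_truncGEπ X (a + 1) j (by omega)
        refine (h2 j ?_).of_iso (asIso ((homologyFunctor (ModuleCat.{u} A) j).map
          (((tA A).truncGEπ (a + 1)).app X))).symm
        push_cast
        omega
      · by_cases hj : a + 1 ≤ j
        · haveI := isIso_homologyMap_truncGEπ X (a + 1) j hj
          exact smul_eq_zero_of_iso (asIso ((homologyFunctor (ModuleCat.{u} A) j).map
            (((tA A).truncGEπ (a + 1)).app X))).symm f (hf j) x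
        · haveI : Subsingleton ((homologyFunctor (ModuleCat.{u} A) j).obj T.obj₃ : ModuleCat.{u} A) :=
            ModuleCat.subsingleton_of_isZero (isZero_of_isGE T.obj₃ (a + 1) j (by omega))
          exact Subsingleton.elim _ _
    have := smul_id_of_triangle T hT _ _ hA hB
    rw [← pow_add] at this
    have h3 : 0 + 1 + (n + 1) = n + 1 + 1 := by omega
    rw [h3] at this
    exact this

section Completion

variable (I : Ideal A) [DRing.HasDerivedCompletion I]

/-- P3: annihilators of the identity pass to the derived completion -/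
lemma smul_id_derivedCompletion (K : Dual.D A) (a : A) (h : a • 𝟙 K = 0) :
    a • 𝟙 ((DRing.derivedCompletion I).obj K).obj = 0 := by
  have hu := isUniv_toDerivedCompletion I K _ ((DRing.derivedCompletion I).obj K).property
  apply hu.1
  show DRing.toDerivedCompletion I K ≫ (a • 𝟙 _) = DRing.toDerivedCompletion I K ≫ 0
  rw [Linear.comp_smul, Category.comp_id, comp_zero,
    ← Category.id_comp (DRing.toDerivedCompletion I K), ← Linear.smul_comp, h, zero_comp]

/-- an element killing the identity kills the cohomology -/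
lemma smul_homology_eq_zero (X : Dual.D A) (a : A) (h : a • 𝟙 X = 0) (j : ℤ)
    (x : ((homologyFunctor (ModuleCat.{u} A) j).obj X : ModuleCat.{u} A)) : a • x = 0 := by
  have h1 : (homologyFunctor (ModuleCat.{u} A) j).map (a • 𝟙 X) = 0 := by
    rw [h, Functor.map_zero]
  rw [Functor.map_smul, CategoryTheory.Functor.map_id] at h1
  have h2 := congrArg (fun φ => (ModuleCat.Hom.hom φ) x) h1
  exact h2

end Completion

end Groth.Agent.Lib.helper19.DCAnn1
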