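import Mathlib
import Groth.Prelude.Def_DRing3
import Groth.Prelude.Def_Wider
import Groth.Agent.Lib.Helper13.DComp7
import Groth.Agent.Lib.Helper13.GM2
import Groth.Agent.Lib.Helper23.CechD7
import Groth.Agent.Lib.Helper23.LDual6
import Groth.Agent.Lib.Helper23.LDual8

/-!
# helper19: amplitude of the derived completion via cohomological dimension, part 2

* `cechCx_single_eq`, `isLE_Q_Cech`: the extended Čech complex of `A` on generators of `I` lies in
  `D^{≤ d}` if `cd(A, I) ≤ d`.
* `exactAt_homCx_Cech_of_isLE`, `isZero_homology_derivedCompletion_of_cdLE`: `K ∈ D^{≥ a}` implies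
  `K^∧ ∈ D^{≥ a - d}`.
* `epi_mono_completion_of_cdLE`.
-/

set_option autoImplicit false
universe u
open CategoryTheory CategoryTheory.Limits DerivedCategory Pretriangulated

attribute [local instance] HasDerivedCategory.standard

namespace Groth.Agent.Lib.helper19.DCAnn2

open Groth.Agent.Lib.helper13.DComp Groth.Agent.Lib.helper23.CechD Groth.Agent.Lib.helper23.LDual
  Groth.Agent.Lib.helper23

variable {A : Type u} [CommRing A]

lemma cechCx_single_eq (fs : List A) :
    cechCx ((HomologicalComplex.single (ModuleCat.{u} A) (ComplexShape.up ℤ) 0).obj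
      (ModuleCat.of A A)) fs = Cech fs := by
  induction fs with
  | nil => rfl
  | cons f fs ih =>
    show CochainComplex.mappingCocone (DerCA.locCxUnit (Submonoid.powers f) (cechCx _ fs)) =
      CochainComplex.mappingCocone (DerCA.locCxUnit (Submonoid.powers f) (Cech fs))
    rw [ih]

/-- the Čech complex has amplitude `≤ cd(A, I)` -/
theorem isLE_Q_Cech [IsNoetherianRing A] (I : Ideal A) (fs : List A)
    (hI : Ideal.span {x : A | x ∈ fs} = I) (d : ℕ) (hcd : LocCoh.CdLE A I d) :
    (Q.obj (Cech fs)).IsLE d := by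
  haveI : DRing.HasRgammaI I := CechD.hasRgammaI I
  rw [isLE_iff]
  intro j hj
  obtain ⟨e1⟩ := nonempty_RgammaI_iso_cechCx I fs hI
    ((HomologicalComplex.single (ModuleCat.{u} A) (ComplexShape.up ℤ) 0).obj (ModuleCat.of A A))
  rw [cechCx_single_eq] at e1
  let e2 : (singleFunctor (ModuleCat.{u} A) 0).obj (ModuleCat.of A A) ≅
      Q.obj ((HomologicalComplex.single (ModuleCat.{u} A) (ComplexShape.up ℤ) 0).obj
        (ModuleCat.of A A)) := (singleFunctorIsoCompQ (ModuleCat.{u} A) 0).app _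
  obtain ⟨e3⟩ := HD_RgammaI_equiv_HDI I
    ((singleFunctor (ModuleCat.{u} A) 0).obj (ModuleCat.of A A)) j
  obtain ⟨k, rfl⟩ : ∃ k : ℕ, j = k := ⟨j.toNat, by omega⟩
  have e4 := HEquivHDI I k (ModuleCat.of A A)
  haveI : Subsingleton (LocCoh.H I k A) := hcd A k (by exact_mod_cast hj)
  haveI : Subsingleton ((localCohomology I k).obj (ModuleCat.of A A)) :=
    inferInstanceAs (Subsingleton (LocCoh.H I k A))
  haveI h5 : Subsingleton (Dual.HD A ((DRing.RgammaI I).obj
      ((singleFunctor (ModuleCat.{u} A) 0).obj (ModuleCat.of A A))) k) :=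
    (e3.trans e4.symm).toEquiv.subsingleton
  have h6 : IsZero ((homologyFunctor (ModuleCat.{u} A) k).obj ((DRing.RgammaI I).obj
      ((singleFunctor (ModuleCat.{u} A) 0).obj (ModuleCat.of A A)))) :=
    ModuleCat.isZero_of_subsingleton _
  exact h6.of_iso ((homologyFunctor (ModuleCat.{u} A) k).mapIso
    (e1.symm ≪≫ (DRing.RgammaI I).mapIso e2.symm))


/-- `Hom•(Č(fs), J)` has amplitude `≥ a - d` when `J` has amplitude `≥ a` and `Č(fs)` has
amplitude `≤ d` -/
theorem exactAt_homCx_Cech_of_isLE (fs : List A) (d : ℤ) (hd : (Q.obj (Cech fs)).IsLE d)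
    (J : DRing.Cx A) [J.IsKInjective] (a : ℤ) (hJ : ∀ i : ℤ, i < a → J.ExactAt i) (i : ℤ)
    (hi : i + d < a) : (DRing.homCx (Cech fs) J).ExactAt i := by
  rw [exactAt_homCx_iff_hom_eq_zero]
  intro φ
  haveI h1 : (Q.obj J).IsGE a :=
    (isGE_iff _ _).2 (fun j hj => (exactAt_iff_isZero_homologyFunctor J j).1 (hJ j hj))
  haveI h2 : ((Q.obj J)⟦i⟧).IsGE (a - i) :=
    (TStructure.t (C := ModuleCat.{u} A)).isGE_shift _ a i (a - i) (by omega)
  let e0 : (Q.obj J)⟦i⟧ ≅ Q.obj (J⟦i⟧) := ((Q.commShiftIso i).app J).symm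
  haveI h3 : (Q.obj (J⟦i⟧)).IsGE (a - i) :=
    (TStructure.t (C := ModuleCat.{u} A)).isGE_of_iso e0 (a - i)
  exact (TStructure.t (C := ModuleCat.{u} A)).zero_of_isLE_of_isGE φ d (a - i) (by omega) hd h3

section Amp

variable [IsNoetherianRing A] (I : Ideal A) [DRing.HasDerivedCompletion I] (d : ℕ)
  (hcd : LocCoh.CdLE A I d)

include hcd

/-- **lower amplitude bound for the derived completion, via the cohomological dimension** -/
theorem isZero_homology_derivedCompletion_of_cdLE (K : Dual.D A) (a : ℤ)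
    (hK : ∀ j : ℤ, j < a → IsZero ((DerivedCategory.homologyFunctor (ModuleCat.{u} A) j).obj K))
    (i : ℤ) (hi : i + d < a) :
    IsZero ((DerivedCategory.homologyFunctor (ModuleCat.{u} A) i).obj
      ((DRing.derivedCompletion I).obj K).obj) := by
  obtain ⟨fs, hI⟩ := CechD.exists_list_span I
  have hd := isLE_Q_Cech I fs hI d hcd
  subst hI
  obtain ⟨J, hJ, ⟨e⟩⟩ := exists_kInjective_model K
  haveI := hJ
  obtain ⟨e', -⟩ := exists_derivedCompletion_iso_homCx_Cech fs J e
  refine IsZero.of_iso ?_ ((DerivedCategory.homologyFunctor (ModuleCat.{u} A) i).mapIso e')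
  rw [← exactAt_iff_isZero_homologyFunctor]
  refine exactAt_homCx_Cech_of_isLE fs d hd J a (fun j hj => ?_) i hi
  rw [exactAt_iff_isZero_homologyFunctor]
  exact IsZero.of_iso (hK j hj) ((DerivedCategory.homologyFunctor (ModuleCat.{u} A) j).mapIso e.symm)

/-- if `Hⁿ(φ)` is epi and `Hⁿ⁺¹(φ)` is mono for all `n < a`, the same holds for the completion of
`φ` for `n < a - d` -/
theorem epi_mono_completion_of_cdLE {K L : Dual.D A} (φ : K ⟶ L) (a : ℤ)
    (h : ∀ n : ℤ, n < a → Epi ((DerivedCategory.homologyFunctor (ModuleCat.{u} A) n).map φ) ∧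
      Mono ((DerivedCategory.homologyFunctor (ModuleCat.{u} A) (n + 1)).map φ))
    (n : ℤ) (hn : n + d < a) :
    Epi ((DerivedCategory.homologyFunctor (ModuleCat.{u} A) n).map
        ((DRing.derivedCompletion I).map φ).hom) ∧
      Mono ((DerivedCategory.homologyFunctor (ModuleCat.{u} A) (n + 1)).map
        ((DRing.derivedCompletion I).map φ).hom) := by
  obtain ⟨C, p, δ, hT⟩ := distinguished_cocone_triangle φ
  obtain ⟨C', p', δ', hT'⟩ := distinguished_cocone_triangle ((DRing.derivedCompletion I).map φ).hom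
  obtain ⟨e⟩ := nonempty_completion_cone_iso I φ p δ hT p' δ' hT'
  have hC : ∀ j : ℤ, j < a →
      IsZero ((DerivedCategory.homologyFunctor (ModuleCat.{u} A) j).obj C) :=
    fun j hj => (isZero_homology_obj₃_iff _ hT j).2 (h j hj)
  have hC' := isZero_homology_derivedCompletion_of_cdLE I d hcd C a hC n hn
  exact (isZero_homology_obj₃_iff _ hT' n).1
    (IsZero.of_iso hC' ((DerivedCategory.homologyFunctor (ModuleCat.{u} A) n).mapIso e.symm))

end Amp

end Groth.Agent.Lib.helper19.DCAnn2
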