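import Mathlib
import Groth.Prelude.Def_DRing3
import Groth.Prelude.Def_Wider
import Groth.Agent.Lib.Helper23.Falt15
import Groth.Agent.Lib.Helper23.LDual6
import Groth.Agent.Lib.Helper23.LDual8

/-!
# helper19: Faltings' annihilator theorem for `RΓ_𝔞(M)` in `D(A)`, part 3

* `subsingleton_HDI_inD_of_neg`, `isZero_HD_RgammaI_inD_of_neg`: no negative cohomology.
* `exists_kills_HD_RgammaI`: `Falt.exists_notMem_kills_H` transported to `H^j(RΓ_𝔞(M[0]))`.
-/

set_option autoImplicit false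
universe u
open CategoryTheory CategoryTheory.Limits DerivedCategory Pretriangulated

attribute [local instance] HasDerivedCategory.standard

namespace Groth.Agent.Lib.helper19.DCAnn3

open Groth.Agent.Lib.helper23.LDual Groth.Agent.Lib.helper23

variable {A : Type u} [CommRing A]

/-- `HDI` of a module vanishes in negative degrees -/
lemma subsingleton_HDI_inD_of_neg (𝔞 : Ideal A) (M : Type u) [AddCommGroup M] [Module A M]
    (j : ℤ) (hj : j < 0) : Subsingleton (Dual2.HDI A 𝔞 (Dual.inD A M) j : ModuleCat.{u + 1} A) := by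
  refine subsingleton_of_stages 𝔞 (Dual.inD A M) j (fun n => ?_)
  show Subsingleton (Dual.inD A (A ⧸ 𝔞 ^ n) ⟶ (Dual.inD A M)⟦j⟧)
  haveI h2 : ((Dual.inD A M)⟦j⟧).IsGE (-j) :=
    (TStructure.t (C := ModuleCat.{u} A)).isGE_shift _ 0 j (-j) (by omega)
  haveI h1 : (Dual.inD A (A ⧸ 𝔞 ^ n)).IsLE 0 := inferInstance
  refine ⟨fun φ ψ => ?_⟩
  rw [(TStructure.t (C := ModuleCat.{u} A)).zero_of_isLE_of_isGE φ 0 (-j) (by omega) h1 h2,
    (TStructure.t (C := ModuleCat.{u} A)).zero_of_isLE_of_isGE ψ 0 (-j) (by omega) h1 h2]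

lemma isZero_HD_RgammaI_inD_of_neg (𝔞 : Ideal A) [DRing.HasRgammaI 𝔞] (M : Type u)
    [AddCommGroup M] [Module A M] (j : ℤ) (hj : j < 0) :
    IsZero ((homologyFunctor (ModuleCat.{u} A) j).obj ((DRing.RgammaI 𝔞).obj (Dual.inD A M))) := by
  obtain ⟨e3⟩ := HD_RgammaI_equiv_HDI 𝔞 (Dual.inD A M) j
  haveI := subsingleton_HDI_inD_of_neg 𝔞 M j hj
  haveI : Subsingleton (Dual.HD A ((DRing.RgammaI 𝔞).obj (Dual.inD A M)) j) :=
    e3.toEquiv.subsingleton
  exact ModuleCat.isZero_of_subsingleton _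

/-- Faltings' annihilator theorem for `RΓ_𝔞(M)` -/
theorem exists_kills_HD_RgammaI [IsNoetherianRing A]
    (hA : ∃ ω : Dual.D A, Dual.IsDualizing A ω) (𝔞 : Ideal A)
    [DRing.HasRgammaI 𝔞] (M : Type u) [AddCommGroup M] [Module A M] [Module.Finite A M]
    (p : PrimeSpectrum A) (s : ℕ)
    (h : ∀ p' q : PrimeSpectrum A, p' ≤ p → 𝔞 ≤ q.asIdeal → p' ≤ q →
      (s : WithBot ℕ∞) < ((LocCoh.depth (Localization.AtPrime p'.asIdeal)
        (LocalizedModule p'.asIdeal.primeCompl M) : ℕ∞) : WithBot ℕ∞) +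
          Order.krullDim (Set.Icc p' q)) :
    ∃ f : A, f ∉ p.asIdeal ∧ ∀ j : ℤ, j ≤ s →
      ∀ x : Dual.HD A ((DRing.RgammaI 𝔞).obj (Dual.inD A M)) j, f • x = 0 := by
  obtain ⟨f, hf, hk⟩ := Falt.exists_notMem_kills_H hA 𝔞 M p s h
  refine ⟨f, hf, fun j hj x => ?_⟩
  by_cases hj0 : j < 0
  · haveI : Subsingleton (Dual.HD A ((DRing.RgammaI 𝔞).obj (Dual.inD A M)) j) :=
      ModuleCat.subsingleton_of_isZero (isZero_HD_RgammaI_inD_of_neg 𝔞 M j hj0)
    exact Subsingleton.elim _ _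
  · obtain ⟨k, rfl⟩ : ∃ k : ℕ, j = k := ⟨j.toNat, by omega⟩
    obtain ⟨e3⟩ := HD_RgammaI_equiv_HDI 𝔞 (Dual.inD A M) k
    have e4 := HEquivHDI 𝔞 k (ModuleCat.of A M)
    have h1 := hk k (by exact_mod_cast hj) (e4.symm (e3 x))
    rw [← map_smul, ← map_smul] at h1
    have h2 := e4.symm.injective (h1.trans (map_zero _).symm)
    exact e3.injective (h2.trans (map_zero _).symm)

end Groth.Agent.Lib.helper19.DCAnn3
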