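import Mathlib
import Groth.Prelude.Def_DRing3
import Groth.Prelude.Def_Wider
import Groth.Agent.Lib.Helper19.DCAnn1
import Groth.Agent.Lib.Helper19.DCAnn2
import Groth.Agent.Lib.Helper19.DCAnn3
import Groth.Agent.Lib.Helper13.RGam4
import Groth.Agent.Lib.Helper13.GM2
import Groth.Agent.Lib.Helper23.Falt15
import Groth.Agent.Lib.Helper23.DimFn21

/-!
# helper19: annihilators of `H^i((RΓ_J M)^∧)` (S8793, S8794), part 4

* `main`: `A` Noetherian with a dualizing complex, `cd(A, I) ≤ d`, and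
  `depth M_{p'} + dim [p', q] > d + s` for `p' ≤ p`, `q ∈ V(p') ∩ V(J + I)`: some `f ∉ p` kills
  `H^i` of the derived `I`-completion of `RΓ_J(M)` for `i ≤ s`.
* `depth_add_dim_mono`: `depth M_p + dim [p, q] ≤ depth M_{p'} + dim [p', q]` for `p' ≤ p ≤ q`.
* `ringKrullDim_quot_eq_krullDim_Icc`, `local_cond`: the local form of the condition.
-/

set_option autoImplicit false
universe u
open CategoryTheory CategoryTheory.Limits DerivedCategory Pretriangulated

attribute [local instance] HasDerivedCategory.standard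

namespace Groth.Agent.Lib.helper19.DCAnn4

section Main

open Groth.Agent.Lib.helper13.DComp Groth.Agent.Lib.helper23.SplitTrunc
  Groth.Agent.Lib.helper19.DCAnn1 Groth.Agent.Lib.helper19.DCAnn2 Groth.Agent.Lib.helper19.DCAnn3
  Groth.Agent.Lib.helper23 Groth.Agent.Lib.helper13.RGam Groth.Agent.Lib.helper13.GM

variable {A : Type u} [CommRing A] [IsNoetherianRing A]

/-- annihilators of the cohomology of the derived `I`-completion of `RΓ_J(M)` -/
theorem main (hdc : ∃ ω : Dual.D A, Dual.IsDualizing A ω) (I J : Ideal A) [DRing.HasRgammaI J]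
    [DRing.HasDerivedCompletion I] (M : Type u) [AddCommGroup M] [Module A M] [Module.Finite A M]
    (p : PrimeSpectrum A) (s d : ℕ) (h3 : LocCoh.CdLE A I d)
    (h : ∀ p' q : PrimeSpectrum A, p' ≤ p → J ⊔ I ≤ q.asIdeal → p' ≤ q →
      ((d + s : ℕ) : WithBot ℕ∞) < ((LocCoh.depth (Localization.AtPrime p'.asIdeal)
        (LocalizedModule p'.asIdeal.primeCompl M) : ℕ∞) : WithBot ℕ∞) +
          Order.krullDim (Set.Icc p' q)) :
    ∃ f : A, f ∉ p.asIdeal ∧ ∀ i : ℤ, i ≤ s →
      ∀ x : Dual.HD A ((DRing.derivedCompletion I).obj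
        ((DRing.RgammaI J).obj (Dual.inD A M))).obj i, f • x = 0 := by
  haveI : DRing.HasRgammaI I := CechD.hasRgammaI I
  haveI : DRing.HasRgammaI (J ⊔ I) := CechD.hasRgammaI _
  obtain ⟨f, hf, hk⟩ := exists_kills_HD_RgammaI hdc (J ⊔ I) M p (d + s) h
  obtain ⟨e1⟩ := (greenlees_may I ((DRing.RgammaI J).obj (Dual.inD A M))).2
  obtain ⟨e2⟩ := nonempty_RgammaI_comp_iso J I (Dual.inD A M)
  let L : Dual.D A := (DRing.RgammaI (J ⊔ I)).obj (Dual.inD A M)
  let e : ((DRing.derivedCompletion I).obj ((DRing.RgammaI J).obj (Dual.inD A M))).obj ≅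
      ((DRing.derivedCompletion I).obj L).obj :=
    (ObjectProperty.ι (DRing.IsDerivedComplete I)).mapIso
      (e1.symm ≪≫ (DRing.derivedCompletion I).mapIso e2)
  let n₀ : ℤ := ((d + s : ℕ) : ℤ)
  let L' : Dual.D A := ((tA A).truncLT (n₀ + 1)).obj L
  let φ : L' ⟶ L := ((tA A).truncLTι (n₀ + 1)).app L
  haveI hL'LE : L'.IsLE (n₀ + 1 - 1) := by
    dsimp [L']; infer_instance
  have hiso : ∀ j : ℤ, j < n₀ + 1 → IsIso ((homologyFunctor (ModuleCat.{u} A) j).map φ) :=
    fun j hj => isIso_homologyMap_truncLTι L (n₀ + 1) j hj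
  -- `f ^ N` kills the identity of `L'`
  have hL' : f ^ (d + s + 1) • 𝟙 L' = 0 := by
    refine pow_smul_id_eq_zero f (d + s) L' 0 (fun j hj => ?_) (fun j hj => ?_) (fun j x => ?_)
    · have := hiso j (by omega)
      exact (isZero_HD_RgammaI_inD_of_neg (J ⊔ I) M j hj).of_iso
        (@asIso _ _ _ _ _ this)
    · exact isZero_of_isLE L' (n₀ + 1 - 1) j (by simp only [zero_add] at hj; omega)
    · by_cases hj : j < n₀ + 1
      · have := hiso j hj
        exact smul_eq_zero_of_iso (@asIso _ _ _ _ _ this) f (hk j (by omega)) x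
      · haveI : Subsingleton ((homologyFunctor (ModuleCat.{u} A) j).obj L' : ModuleCat.{u} A) :=
          ModuleCat.subsingleton_of_isZero (isZero_of_isLE L' (n₀ + 1 - 1) j (by omega))
        exact Subsingleton.elim _ _
  have hL'c := smul_id_derivedCompletion I L' _ hL'
  -- surjectivity on cohomology of the completions
  have hepi : ∀ n : ℤ, n ≤ s → Epi ((homologyFunctor (ModuleCat.{u} A) n).map
      ((DRing.derivedCompletion I).map φ).hom) := by
    intro n hn
    refine (epi_mono_completion_of_cdLE I d h3 φ (n₀ + 1) (fun m hm => ?_) n (by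
      simp only [n₀]; push_cast; omega)).1
    have := hiso m hm
    refine ⟨inferInstance, ?_⟩
    by_cases hm' : m + 1 < n₀ + 1
    · have := hiso (m + 1) hm'
      infer_instance
    · have hz : IsZero ((homologyFunctor (ModuleCat.{u} A) (m + 1)).obj L') :=
        isZero_of_isLE L' (n₀ + 1 - 1) (m + 1) (by omega)
      exact ⟨fun a b _ => hz.eq_of_tgt a b⟩
  refine ⟨f ^ (d + s + 1), fun hmem => hf (p.2.mem_of_pow_mem _ hmem), fun i hi x => ?_⟩
  refine smul_eq_zero_of_iso ((homologyFunctor (ModuleCat.{u} A) i).mapIso e) _ (fun y => ?_) x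
  haveI := hepi i hi
  obtain ⟨z, rfl⟩ := (ModuleCat.epi_iff_surjective _).1 this y
  rw [← map_smul, smul_homology_eq_zero _ _ hL'c, map_zero]

end Main

section Cond

open Groth.Agent.Lib.helper23 Groth.Agent.Lib.helper23.FBC Groth.Agent.Lib.helper23.DimFn
  Groth.Agent.Lib.helper23.BassD Groth.Agent.Lib.helper23.Falt Groth.Agent.Lib.helper23.DualD

attribute [local instance 50] homModuleA

variable {A : Type u} [CommRing A] [IsNoetherianRing A]

/-- `depth M_p + dim [p, q] ≤ depth M_{p'} + dim [p', q]` for `p' ≤ p ≤ q` -/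
theorem depth_add_dim_mono (hdc : ∃ ω : Dual.D A, Dual.IsDualizing A ω) (M : Type u)
    [AddCommGroup M] [Module A M] [Module.Finite A M] (p' p q : PrimeSpectrum A) (h1 : p' ≤ p)
    (h2 : p ≤ q) :
    ((LocCoh.depth (Localization.AtPrime p.asIdeal)
        (LocalizedModule p.asIdeal.primeCompl M) : ℕ∞) : WithBot ℕ∞) +
          Order.krullDim (Set.Icc p q) ≤
    ((LocCoh.depth (Localization.AtPrime p'.asIdeal)
        (LocalizedModule p'.asIdeal.primeCompl M) : ℕ∞) : WithBot ℕ∞) +
          Order.krullDim (Set.Icc p' q) := by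
  obtain ⟨ω, hω⟩ := hdc
  obtain ⟨a, hGE, n, hn1, hn2, hsm⟩ := exists_dimFn ω hω
  haveI := hGE
  rw [krullDim_Icc_eq wellFounded_gt_primeSpectrum n hsm hn2 p q h2,
    krullDim_Icc_eq wellFounded_gt_primeSpectrum n hsm hn2 p' q (h1.trans h2)]
  have hnp : n p' ≤ n p := hsm.monotone h1
  have hnq : n p ≤ n q := hsm.monotone h2
  by_cases hp' : p' ∈ Module.support A M
  · have hp : p ∈ Module.support A M := Module.mem_support_mono h1 hp'
    obtain ⟨δ, e, hδ, -, -, hb, -, -⟩ := support_ext_bounds ω hω a p (n p) (hn1 p) M hp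
    obtain ⟨δ', e', hδ', -, -, -, hm', -⟩ := support_ext_bounds ω hω a p' (n p') (hn1 p') M hp'
    have h3 := (hb _ (Module.mem_support_mono h1 hm')).2
    rw [hδ, hδ', ← WithBot.coe_add, ← WithBot.coe_add]
    have h4 : δ + (n q - n p).toNat ≤ δ' + (n q - n p').toNat := by omega
    exact_mod_cast h4
  · haveI : Subsingleton (LocalizedModule p'.asIdeal.primeCompl M) :=
      Module.notMem_support_iff.1 hp'
    rw [depth_eq_top_of_subsingleton (Localization.AtPrime p'.asIdeal)
      (LocalizedModule p'.asIdeal.primeCompl M), ← WithBot.coe_add, ← WithBot.coe_add, top_add]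
    exact_mod_cast le_top


omit [IsNoetherianRing A] in
theorem ringKrullDim_quot_eq_krullDim_Icc [IsLocalRing A] (p : PrimeSpectrum A) :
    ringKrullDim (A ⧸ p.asIdeal) = Order.krullDim (Set.Icc p (IsLocalRing.closedPoint A)) := by
  unfold ringKrullDim
  let e1 := Ideal.primeSpectrumQuotientOrderIsoZeroLocus p.asIdeal
  have hset : PrimeSpectrum.zeroLocus (p.asIdeal : Set A) =
      Set.Icc p (IsLocalRing.closedPoint A) := by
    ext q
    rw [PrimeSpectrum.mem_zeroLocus, SetLike.coe_subset_coe, Set.mem_Icc]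
    exact ⟨fun h => ⟨h, IsLocalRing.le_maximalIdeal q.2.ne_top⟩, fun h => h.1⟩
  exact Order.krullDim_eq_of_orderIso (e1.trans (OrderIso.setCongr _ _ hset))

/-- the local form of the depth-plus-dimension condition -/
theorem local_cond [IsLocalRing A] (hdc : ∃ ω : Dual.D A, Dual.IsDualizing A ω) (I : Ideal A)
    (M : Type u) [AddCommGroup M] [Module A M] [Module.Finite A M] (p : PrimeSpectrum A) (t : ℕ)
    (h3 : ((t : ℕ∞) : WithBot ℕ∞) < ((LocCoh.depth (Localization.AtPrime p.asIdeal)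
      (LocalizedModule p.asIdeal.primeCompl M) : ℕ∞) : WithBot ℕ∞) +
        ringKrullDim (A ⧸ p.asIdeal))
    (p' q : PrimeSpectrum A) (hp' : p' ≤ p) (hq : IsLocalRing.maximalIdeal A ⊔ I ≤ q.asIdeal)
    (_ : p' ≤ q) :
    (t : WithBot ℕ∞) < ((LocCoh.depth (Localization.AtPrime p'.asIdeal)
        (LocalizedModule p'.asIdeal.primeCompl M) : ℕ∞) : WithBot ℕ∞) +
          Order.krullDim (Set.Icc p' q) := by
  have hq' : q = IsLocalRing.closedPoint A := by
    apply PrimeSpectrum.ext
    exact ((IsLocalRing.maximalIdeal.isMaximal A).eq_of_le q.2.ne_top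
      (le_sup_left.trans hq)).symm
  subst hq'
  have h1 := depth_add_dim_mono hdc M p' p (IsLocalRing.closedPoint A) hp'
    (IsLocalRing.le_maximalIdeal p.2.ne_top)
  rw [ringKrullDim_quot_eq_krullDim_Icc] at h3
  exact lt_of_lt_of_le (by exact_mod_cast h3) h1

end Cond

end Groth.Agent.Lib.helper19.DCAnn4
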