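import Mathlib

/-!
# helper19: dévissage of finite modules relative to an ideal

`devissage I P`: a property `P` of finite modules over a Noetherian ring which holds for modules
killed by `I`, is stable under extensions, and passes from `M/yM` to `M` for `M`-regular `y ∈ I`,
holds for all finite modules.
-/

set_option autoImplicit false
universe u
open CategoryTheory CategoryTheory.Limits

namespace Groth.Agent.Lib.helper19.DCB0

variable {A : Type u} [CommRing A] [IsNoetherianRing A]

/-- dévissage for finite modules, relative to an ideal `I`: a property of finite modules which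
holds for modules killed by `I`, is stable under extensions, and passes from `M/yM` to `M` for
`M`-regular `y ∈ I`, holds for all finite modules. -/
theorem devissage (I : Ideal A) (P : ModuleCat.{u} A → Prop)
    (ha : ∀ M : ModuleCat.{u} A, Module.Finite A M → (∀ y ∈ I, ∀ m : M, y • m = 0) → P M)
    (hb : ∀ S : ShortComplex (ModuleCat.{u} A), S.ShortExact → Module.Finite A S.X₂ →
      P S.X₁ → P S.X₃ → P S.X₂)
    (hc : ∀ (M M'' : ModuleCat.{u} A) (y : A) (_ : y ∈ I) (g : M ⟶ M'')
      (w : (y • 𝟙 M) ≫ g = 0), Module.Finite A M →
      (ShortComplex.mk (y • 𝟙 M) g w).ShortExact → P M'' → P M)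
    (M : Type u) [AddCommGroup M] [Module A M] [Module.Finite A M] : P (ModuleCat.of A M) := by
  haveI : IsNoetherian A M := isNoetherian_of_isNoetherianRing_of_finite A M
  have key : ∀ N : Submodule A M, P (ModuleCat.of A (M ⧸ N)) := by
    intro N
    induction N using IsNoetherian.induction with
    | hgt N ih =>
      by_cases hcase : ∀ y ∈ I, ∀ m : M ⧸ N, y • m = 0
      · exact ha _ (inferInstanceAs (Module.Finite A (M ⧸ N))) hcase
      · push Not at hcase
        obtain ⟨y, hy, mb, hmb⟩ := hcase
        let μ : M →ₗ[A] M := y • LinearMap.id
        let N₁ : Submodule A M := N ⊔ LinearMap.range μ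
        let N₂ : Submodule A M := N.comap μ
        have hN₁ : N < N₁ := by
          refine lt_of_le_of_ne le_sup_left (fun h => hmb ?_)
          obtain ⟨m, rfl⟩ := Submodule.Quotient.mk_surjective N mb
          rw [← Submodule.Quotient.mk_smul, Submodule.Quotient.mk_eq_zero, h]
          exact Submodule.mem_sup_right ⟨m, rfl⟩
        have hN₂ : N ≤ N₂ := fun n hn => N.smul_mem y hn
        let f : (M ⧸ N₂) →ₗ[A] (M ⧸ N) := Submodule.mapQ N₂ N μ le_rfl
        let g : (M ⧸ N) →ₗ[A] (M ⧸ N₁) := Submodule.mapQ N N₁ LinearMap.id
          (by rw [Submodule.comap_id]; exact hN₁.le)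
        have hg : Function.Surjective g := by
          intro z
          obtain ⟨m, rfl⟩ := Submodule.Quotient.mk_surjective N₁ z
          exact ⟨Submodule.Quotient.mk m, rfl⟩
        have hgker : ∀ z : M ⧸ N, g z = 0 ↔ ∃ w : M ⧸ N, y • w = z := by
          intro z
          obtain ⟨m, rfl⟩ := Submodule.Quotient.mk_surjective N z
          show Submodule.Quotient.mk m = (0 : M ⧸ N₁) ↔ _
          rw [Submodule.Quotient.mk_eq_zero]
          constructor
          · intro hm
            obtain ⟨n, hn, r, ⟨m', rfl⟩, rfl⟩ := Submodule.mem_sup.1 hm
            refine ⟨Submodule.Quotient.mk m', ?_⟩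
            rw [← Submodule.Quotient.mk_smul, eq_comm, ← sub_eq_zero, ← Submodule.Quotient.mk_sub,
              Submodule.Quotient.mk_eq_zero]
            show n + y • m' - y • m' ∈ N
            rw [add_sub_cancel_right]
            exact hn
          · rintro ⟨w, hw⟩
            obtain ⟨m', rfl⟩ := Submodule.Quotient.mk_surjective N w
            rw [← Submodule.Quotient.mk_smul, ← sub_eq_zero, ← Submodule.Quotient.mk_sub,
              Submodule.Quotient.mk_eq_zero] at hw
            have : m = y • m' - (y • m' - m) := by abel
            rw [this]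
            exact N₁.sub_mem (Submodule.mem_sup_right ⟨m', rfl⟩) (Submodule.mem_sup_left hw)
        by_cases h2 : N₂ = N
        · -- `y` is regular on `M ⧸ N`
          have hinj : Function.Injective (fun z : M ⧸ N => y • z) := by
            intro z z' hzz'
            have h0 : y • (z - z') = 0 := by rw [smul_sub]; exact sub_eq_zero.2 hzz'
            obtain ⟨m, hm⟩ := Submodule.Quotient.mk_surjective N (z - z')
            rw [← hm, ← Submodule.Quotient.mk_smul, Submodule.Quotient.mk_eq_zero] at h0
            have h1 : m ∈ N₂ := h0
            rw [h2, ← Submodule.Quotient.mk_eq_zero, hm] at h1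
            exact sub_eq_zero.1 h1
          have w : (y • 𝟙 (ModuleCat.of A (M ⧸ N))) ≫ ModuleCat.ofHom g = 0 := by
            apply ModuleCat.hom_ext
            apply LinearMap.ext
            intro z
            exact (hgker _).2 ⟨z, rfl⟩
          refine hc (ModuleCat.of A (M ⧸ N)) (ModuleCat.of A (M ⧸ N₁)) y hy (ModuleCat.ofHom g) w
            (inferInstanceAs (Module.Finite A (M ⧸ N))) ?_ (ih N₁ hN₁)
          refine ModuleCat.shortComplex_shortExact _ ?_ hinj hg
          intro z
          constructor
          · intro hz
            obtain ⟨w', hw'⟩ := (hgker z).1 hz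
            exact ⟨w', hw'⟩
          · rintro ⟨w', rfl⟩
            exact (hgker _).2 ⟨w', rfl⟩
        · have hN₂' : N < N₂ := lt_of_le_of_ne hN₂ (Ne.symm h2)
          have hf : Function.Injective f := by
            rw [injective_iff_map_eq_zero]
            intro z hz
            obtain ⟨m, rfl⟩ := Submodule.Quotient.mk_surjective N₂ z
            have h1 : (Submodule.Quotient.mk (μ m) : M ⧸ N) = 0 := hz
            rw [Submodule.Quotient.mk_eq_zero] at h1
            exact (Submodule.Quotient.mk_eq_zero N₂).2 h1
          have hfy : ∀ m : M, f (Submodule.Quotient.mk m) = y • (Submodule.Quotient.mk m : M ⧸ N) :=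
            fun m => rfl
          have hex : Function.Exact f g := by
            intro z
            constructor
            · intro hz
              obtain ⟨w', hw'⟩ := (hgker z).1 hz
              obtain ⟨m', rfl⟩ := Submodule.Quotient.mk_surjective N w'
              exact ⟨Submodule.Quotient.mk m', by rw [hfy, hw']⟩
            · rintro ⟨w', rfl⟩
              obtain ⟨m', rfl⟩ := Submodule.Quotient.mk_surjective N₂ w'
              rw [hfy]
              exact (hgker _).2 ⟨_, rfl⟩
          let S : ShortComplex (ModuleCat.{u} A) :=
            ShortComplex.mk (ModuleCat.ofHom f) (ModuleCat.ofHom g) (by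
              apply ModuleCat.hom_ext
              apply LinearMap.ext
              intro z
              exact hex.apply_apply_eq_zero z)
          have hS : S.ShortExact := ModuleCat.shortComplex_shortExact S hex hf hg
          exact hb S hS (inferInstanceAs (Module.Finite A (M ⧸ N))) (ih N₂ hN₂') (ih N₁ hN₁)
  -- from `M ⧸ ⊥` to `M`
  let S : ShortComplex (ModuleCat.{u} A) :=
    ShortComplex.mk (0 : ModuleCat.of A PUnit.{u + 1} ⟶ ModuleCat.of A M)
      (ModuleCat.ofHom (Submodule.mkQ (⊥ : Submodule A M))) (by simp)
  have hS : S.ShortExact := by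
    refine ModuleCat.shortComplex_shortExact S ?_ ?_ (Submodule.mkQ_surjective _)
    · intro z
      constructor
      · intro hz
        have : z ∈ LinearMap.ker (Submodule.mkQ (⊥ : Submodule A M)) := hz
        rw [Submodule.ker_mkQ, Submodule.mem_bot] at this
        exact ⟨0, this.symm⟩
      · rintro ⟨w', rfl⟩
        exact map_zero _
    · intro a b _
      exact Subsingleton.elim _ _
  refine hb S hS (inferInstanceAs (Module.Finite A M)) ?_ (key ⊥)
  exact ha _ (inferInstanceAs (Module.Finite A PUnit.{u + 1})) (fun y _ m => Subsingleton.elim _ _)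

end Groth.Agent.Lib.helper19.DCB0
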