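import Mathlib
import Groth.Prelude.Def_DRing3
import Groth.Prelude.Def_Wider
import Groth.Agent.Lib.Helper13.DComp7
import Groth.Agent.Lib.Helper13.GM3
import Groth.Agent.Lib.Helper13.RGam3

/-!
# helper19: linearity of `RΓ_J` and of derived completion; completion of triangles

* `RgammaI_map_smul`, `smul_id_RgammaI`: `RΓ_J` is `A`-linear.
* `cmp I`: derived `I`-completion as an endofunctor of `D(A)`; `cmp_map_smul`, `η_naturality`.
* `exists_distinguished_cmp`: derived completion preserves distinguished triangles.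
-/

set_option autoImplicit false
universe u
open CategoryTheory CategoryTheory.Limits DerivedCategory Pretriangulated

attribute [local instance] HasDerivedCategory.standard

namespace Groth.Agent.Lib.helper19.DCB1

open Groth.Agent.Lib.helper13.DComp Groth.Agent.Lib.helper13.RGam Groth.Agent.Lib.helper13.GM

variable {A : Type u} [CommRing A] [IsNoetherianRing A]

section RG

variable (J : Ideal A) [DRing.HasRgammaI J]

/-- `RΓ_J` is `A`-linear -/
lemma RgammaI_map_smul {K L : Dual.D A} (φ : K ⟶ L) (a : A) :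
    (DRing.RgammaI J).map (a • φ) = a • (DRing.RgammaI J).map φ := by
  have hb := bijective_postcomp_RgammaIε J (torsD_RgammaI J K) L
  apply hb.1
  show (DRing.RgammaI J).map (a • φ) ≫ (DRing.RgammaIε J).app L =
    (a • (DRing.RgammaI J).map φ) ≫ (DRing.RgammaIε J).app L
  have h1 := (DRing.RgammaIε J).naturality (a • φ)
  have h2 := (DRing.RgammaIε J).naturality φ
  simp only [Functor.id_map, Functor.id_obj] at h1 h2
  rw [h1, Linear.smul_comp, h2, Linear.comp_smul]

lemma smul_id_RgammaI (K : Dual.D A) (a : A) (h : a • 𝟙 K = 0) :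
    a • 𝟙 ((DRing.RgammaI J).obj K) = 0 := by
  have h0 : (DRing.RgammaI J).map (0 : K ⟶ K) = 0 := by
    have := RgammaI_map_smul J (𝟙 K) (0 : A)
    rw [zero_smul, zero_smul] at this
    exact this
  rw [← CategoryTheory.Functor.map_id, ← RgammaI_map_smul, h, h0]

end RG

section Cmp

variable (I : Ideal A) [DRing.HasDerivedCompletion I]

/-- derived completion as an endofunctor of `D(A)` -/
noncomputable abbrev cmp : Dual.D A ⥤ Dual.D A :=
  DRing.derivedCompletion I ⋙ ObjectProperty.ι (DRing.IsDerivedComplete I)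

omit [IsNoetherianRing A] in
lemma isDerivedComplete_cmp (K : Dual.D A) : DRing.IsDerivedComplete I ((cmp I).obj K) :=
  ((DRing.derivedCompletion I).obj K).property

omit [IsNoetherianRing A] in
lemma η_naturality {K L : Dual.D A} (φ : K ⟶ L) :
    DRing.toDerivedCompletion I K ≫ (cmp I).map φ = φ ≫ DRing.toDerivedCompletion I L :=
  toDerivedCompletion_naturality I φ

omit [IsNoetherianRing A] in
/-- derived completion is `A`-linear -/
lemma cmp_map_smul {K L : Dual.D A} (φ : K ⟶ L) (a : A) :
    (cmp I).map (a • φ) = a • (cmp I).map φ := by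
  apply (isUniv_toDerivedCompletion I K _ (isDerivedComplete_cmp I L)).1
  show DRing.toDerivedCompletion I K ≫ (cmp I).map (a • φ) =
    DRing.toDerivedCompletion I K ≫ (a • (cmp I).map φ)
  rw [η_naturality, Linear.comp_smul, η_naturality, Linear.smul_comp]

omit [IsNoetherianRing A] in
/-- the derived completion of a distinguished triangle is distinguished -/
theorem exists_distinguished_cmp (T : Triangle (Dual.D A)) (hT : T ∈ distTriang _) :
    ∃ δ : (cmp I).obj T.obj₃ ⟶ ((cmp I).obj T.obj₁)⟦(1 : ℤ)⟧,
      Triangle.mk ((cmp I).map T.mor₁) ((cmp I).map T.mor₂) δ ∈ distTriang _ := by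
  obtain ⟨C', p', δ', hT'⟩ := distinguished_cocone_triangle ((cmp I).map T.mor₁)
  obtain ⟨c, hc₂, hc₃⟩ := complete_distinguished_triangle_morphism _ _ hT hT'
    (DRing.toDerivedCompletion I T.obj₁) (DRing.toDerivedCompletion I T.obj₂)
    (η_naturality I T.mor₁).symm
  have hC' : DRing.IsDerivedComplete I C' :=
    isDerivedComplete_third I _ hT' (isDerivedComplete_cmp I T.obj₁) (isDerivedComplete_cmp I T.obj₂)
  have hu := isUniv_cone (DRing.IsDerivedComplete I)
    (fun M hM => isDerivedComplete_shift I M hM (-1)) _ _ hT hT'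
    (DRing.toDerivedCompletion I T.obj₁) (DRing.toDerivedCompletion I T.obj₂) c
    (η_naturality I T.mor₁).symm hc₂ hc₃
    (isUniv_toDerivedCompletion I T.obj₁) (isUniv_toDerivedCompletion I T.obj₂)
  obtain ⟨e, he⟩ := nonempty_derivedCompletion_iso I T.obj₃ C' c hC' hu
  have hp : (cmp I).map T.mor₂ ≫ e.hom = p' := by
    apply (isUniv_toDerivedCompletion I T.obj₂ C' hC').1
    show DRing.toDerivedCompletion I T.obj₂ ≫ (cmp I).map T.mor₂ ≫ e.hom =
      DRing.toDerivedCompletion I T.obj₂ ≫ p'
    rw [← Category.assoc, η_naturality, Category.assoc, he]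
    exact hc₂
  refine ⟨e.hom ≫ δ', isomorphic_distinguished _ hT' _ ?_⟩
  refine Triangle.isoMk _ _ (Iso.refl _) (Iso.refl _) e ?_ ?_ ?_
  · exact (Category.comp_id _).trans (Category.id_comp _).symm
  · exact hp.trans (Category.id_comp _).symm
  · show (e.hom ≫ δ') ≫ (shiftFunctor (Dual.D A) (1 : ℤ)).map (𝟙 _) = e.hom ≫ δ'
    rw [CategoryTheory.Functor.map_id, Category.comp_id]

end Cmp

end Groth.Agent.Lib.helper19.DCB1
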