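import Mathlib
import Groth.Prelude.Def_DRing3
import Groth.Prelude.Def_Wider
import Groth.Agent.Lib.Helper19.DCB0
import Groth.Agent.Lib.Helper19.DCB1
import Groth.Agent.Lib.Helper19.DCAnn3
import Groth.Agent.Lib.Helper19.DHomLinear
import Groth.Agent.Lib.Helper13.GM1
import Groth.Agent.Lib.Helper23.DCompl9

/-!
# helper19: the functor `M ↦ (RΓ_J (M[0]))^∧` on modules

* `isDerivedComplete_of_smul_id`: an object whose identity is killed by `I` is derived complete.
* `isIso_η_of_complete`: the completion unit is an isomorphism on derived complete objects.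
* `subsingleton_of_seqC_of_surjective`: a derived `y`-complete module with `yH = H` vanishes.
* `FF I J`, `GG I`, `ψ I J`; `FF_map_smul`, `exists_distinguished_FF`, `exact_homology_FF`.
* `isZero_homology_FF_of_neg`: `H^i((RΓ_J M)^∧) = 0` for `i < 0`, `M` finite, `A` Noetherian.
-/

set_option autoImplicit false
universe u
open CategoryTheory CategoryTheory.Limits DerivedCategory Pretriangulated

attribute [local instance] HasDerivedCategory.standard

namespace Groth.Agent.Lib.helper19.DCB2

open Groth.Agent.Lib.helper13.DComp Groth.Agent.Lib.helper13.RGam Groth.Agent.Lib.helper13.GM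
  Groth.Agent.Lib.helper19.DCB0 Groth.Agent.Lib.helper19.DCB1 Groth.Agent.Lib.helper19.DCAnn3
  Groth.Agent.Lib.helper19.DHomLinear Groth.Agent.Lib.helper23

variable {A : Type u} [CommRing A]

section General

variable (I : Ideal A)

/-- an object whose identity is killed by `I` is derived `I`-complete -/
lemma isDerivedComplete_of_smul_id (K : Dual.D A) (h : ∀ y ∈ I, y • 𝟙 K = 0) :
    DRing.IsDerivedComplete I K := by
  intro f hf n
  refine ⟨fun φ ψ => ?_⟩
  suffices H : ∀ φ : Dual.inD A (Localization.Away f) ⟶ K⟦n⟧, φ = 0 by rw [H φ, H ψ]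
  intro φ
  -- multiplication by `f` is invertible on `A_f`
  have hbij : Function.Bijective (fun x : Localization.Away f => f • x) := by
    have h := IsLocalization.map_units (Localization.Away f)
      (⟨f, Submonoid.mem_powers f⟩ : Submonoid.powers f)
    have h' : IsUnit (algebraMap A (Localization.Away f) f) := h
    constructor
    · intro x x' hxx'
      have : algebraMap A (Localization.Away f) f * x = algebraMap A (Localization.Away f) f * x' := by
        simpa [Algebra.smul_def] using hxx'
      exact h'.mul_left_cancel this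
    · intro x
      obtain ⟨u, hu⟩ := h'
      refine ⟨(↑u⁻¹ : Localization.Away f) * x, ?_⟩
      show f • ((↑u⁻¹ : Localization.Away f) * x) = x
      rw [Algebra.smul_def, ← hu, ← mul_assoc, Units.mul_inv, one_mul]
  let m : ModuleCat.of A (Localization.Away f) ⟶ ModuleCat.of A (Localization.Away f) :=
    f • 𝟙 _
  haveI : IsIso m := by
    rw [ConcreteCategory.isIso_iff_bijective]
    exact hbij
  let u : Dual.inD A (Localization.Away f) ⟶ Dual.inD A (Localization.Away f) :=
    (singleFunctor (ModuleCat.{u} A) 0).map m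
  have hu : u = f • 𝟙 _ := by
    show (singleFunctor (ModuleCat.{u} A) 0).map (f • 𝟙 _) = _
    rw [Functor.map_smul, CategoryTheory.Functor.map_id]
  have h1 : u ≫ φ = 0 := by
    rw [hu, Linear.smul_comp, Category.id_comp, ← Category.comp_id φ, ← Linear.comp_smul]
    have : f • 𝟙 (K⟦n⟧) = 0 := by
      rw [← CategoryTheory.Functor.map_id, ← Functor.map_smul, h f hf, Functor.map_zero]
    rw [this, comp_zero]
  rw [← cancel_epi u, h1, comp_zero]

variable [DRing.HasDerivedCompletion I]

/-- the completion unit is an isomorphism on derived complete objects -/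
lemma isIso_η_of_complete (K : Dual.D A) (hK : DRing.IsDerivedComplete I K) :
    IsIso (DRing.toDerivedCompletion I K) := by
  obtain ⟨e, he⟩ := nonempty_derivedCompletion_iso I K K (𝟙 K) hK (fun M _ => by
    have : (fun ψ : K ⟶ M => 𝟙 K ≫ ψ) = id := by
      funext ψ
      exact Category.id_comp ψ
    rw [this]
    exact Function.bijective_id)
  have : DRing.toDerivedCompletion I K = e.inv := by
    rw [← cancel_mono e.hom, he, e.inv_hom_id]
  rw [this]
  infer_instance

end General

/-- a derived `y`-complete module on which `y` is surjective vanishes -/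
lemma subsingleton_of_seqC_of_surjective (y : A) (H : Type u) [AddCommGroup H] [Module A H]
    (h : DCompl.SeqC y H) (hs : Function.Surjective (fun x : H => y • x)) : Subsingleton H := by
  refine ⟨fun a b => ?_⟩
  suffices H0 : ∀ x : H, x = 0 by rw [H0 a, H0 b]
  intro x
  choose g hg using hs
  let z : ℕ → H := fun k => Nat.rec x (fun _ w => g w) k
  exact h.2 z (fun k => hg (z k))


section FF

variable [IsNoetherianRing A] (I J : Ideal A) [DRing.HasRgammaI J] [DRing.HasDerivedCompletion I]

/-- `M ↦ (RΓ_J (M[0]))^∧` -/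
noncomputable abbrev FF : ModuleCat.{u} A ⥤ Dual.D A :=
  singleFunctor (ModuleCat.{u} A) 0 ⋙ DRing.RgammaI J ⋙ cmp I

/-- `M ↦ (M[0])^∧` -/
noncomputable abbrev GG : ModuleCat.{u} A ⥤ Dual.D A :=
  singleFunctor (ModuleCat.{u} A) 0 ⋙ cmp I

/-- the comparison `(RΓ_J (M[0]))^∧ ⟶ (M[0])^∧` -/
noncomputable def ψ : FF I J ⟶ GG I :=
  Functor.whiskerLeft (singleFunctor (ModuleCat.{u} A) 0)
    (Functor.whiskerRight (DRing.RgammaIε J) (cmp I))

lemma ψ_app (M : ModuleCat.{u} A) :
    (ψ I J).app M = (cmp I).map ((DRing.RgammaIε J).app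
      ((singleFunctor (ModuleCat.{u} A) 0).obj M)) := rfl

lemma FF_map_smul {M N : ModuleCat.{u} A} (f : M ⟶ N) (a : A) :
    (FF I J).map (a • f) = a • (FF I J).map f := by
  show (cmp I).map ((DRing.RgammaI J).map ((singleFunctor (ModuleCat.{u} A) 0).map (a • f))) = _
  rw [Functor.map_smul, RgammaI_map_smul, cmp_map_smul]
  rfl

lemma FF_map_smul_id (M : ModuleCat.{u} A) (a : A) :
    (FF I J).map (a • 𝟙 M) = a • 𝟙 ((FF I J).obj M) := by
  rw [FF_map_smul, CategoryTheory.Functor.map_id]

lemma isDerivedComplete_FF (M : ModuleCat.{u} A) : DRing.IsDerivedComplete I ((FF I J).obj M) :=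
  isDerivedComplete_cmp I _

/-- `FF` sends short exact sequences to distinguished triangles -/
theorem exists_distinguished_FF (S : ShortComplex (ModuleCat.{u} A)) (hS : S.ShortExact) :
    ∃ δ : (FF I J).obj S.X₃ ⟶ ((FF I J).obj S.X₁)⟦(1 : ℤ)⟧,
      Triangle.mk ((FF I J).map S.f) ((FF I J).map S.g) δ ∈ distTriang _ := by
  have h1 := hS.singleTriangle_distinguished
  obtain ⟨δ₂, h2⟩ := exists_distinguished_RgammaI J _ h1
  obtain ⟨δ₃, h3⟩ := exists_distinguished_cmp I _ h2
  exact ⟨δ₃, h3⟩

theorem exists_distinguished_GG (S : ShortComplex (ModuleCat.{u} A)) (hS : S.ShortExact) :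
    ∃ δ : (GG I).obj S.X₃ ⟶ ((GG I).obj S.X₁)⟦(1 : ℤ)⟧,
      Triangle.mk ((GG I).map S.f) ((GG I).map S.g) δ ∈ distTriang _ := by
  have h1 := hS.singleTriangle_distinguished
  obtain ⟨δ₃, h3⟩ := exists_distinguished_cmp I _ h1
  exact ⟨δ₃, h3⟩

/-- exactness of `H^n(FF -)` in the middle -/
lemma exact_homology_FF (S : ShortComplex (ModuleCat.{u} A)) (hS : S.ShortExact) (n : ℤ) :
    Function.Exact ((homologyFunctor (ModuleCat.{u} A) n).map ((FF I J).map S.f)).hom
      ((homologyFunctor (ModuleCat.{u} A) n).map ((FF I J).map S.g)).hom := by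
  obtain ⟨δ, hT⟩ := exists_distinguished_FF I J S hS
  exact (ShortComplex.ShortExact.moduleCat_exact_iff_function_exact _).1
    (DerivedCategory.HomologySequence.exact₂ _ hT n)

lemma exact_homology_GG (S : ShortComplex (ModuleCat.{u} A)) (hS : S.ShortExact) (n : ℤ) :
    Function.Exact ((homologyFunctor (ModuleCat.{u} A) n).map ((GG I).map S.f)).hom
      ((homologyFunctor (ModuleCat.{u} A) n).map ((GG I).map S.g)).hom := by
  obtain ⟨δ, hT⟩ := exists_distinguished_GG I S hS
  exact (ShortComplex.ShortExact.moduleCat_exact_iff_function_exact _).1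
    (DerivedCategory.HomologySequence.exact₂ _ hT n)


lemma homology_FF_map_smul_id_apply (M : ModuleCat.{u} A) (y : A) (n : ℤ)
    (x : ((homologyFunctor (ModuleCat.{u} A) n).obj ((FF I J).obj M) : ModuleCat.{u} A)) :
    ((homologyFunctor (ModuleCat.{u} A) n).map ((FF I J).map (y • 𝟙 M))).hom x = y • x := by
  rw [FF_map_smul_id, Functor.map_smul, CategoryTheory.Functor.map_id]
  rfl

/-- **`(RΓ_J M)^∧` has no cohomology in negative degrees** (`M` a finite module) -/
theorem isZero_homology_FF_of_neg (M : Type u) [AddCommGroup M] [Module A M] [Module.Finite A M]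
    (i : ℤ) (hi : i < 0) :
    IsZero ((homologyFunctor (ModuleCat.{u} A) i).obj ((FF I J).obj (ModuleCat.of A M))) := by
  have key := devissage I (fun M => ∀ i : ℤ, i < 0 →
    IsZero ((homologyFunctor (ModuleCat.{u} A) i).obj ((FF I J).obj M))) ?_ ?_ ?_ M
  · exact key i hi
  · intro M _ hM i hi
    have h0 : ∀ y ∈ I, y • 𝟙 ((singleFunctor (ModuleCat.{u} A) 0).obj M) = 0 := by
      intro y hy
      have : y • 𝟙 M = 0 := by
        ext m
        exact hM y hy m
      rw [← CategoryTheory.Functor.map_id, ← Functor.map_smul, this, Functor.map_zero]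
    have h1 : ∀ y ∈ I, y • 𝟙 ((DRing.RgammaI J).obj
        ((singleFunctor (ModuleCat.{u} A) 0).obj M)) = 0 :=
      fun y hy => smul_id_RgammaI J _ y (h0 y hy)
    have hc := isDerivedComplete_of_smul_id I _ h1
    haveI := isIso_η_of_complete I _ hc
    refine IsZero.of_iso ?_ ((homologyFunctor (ModuleCat.{u} A) i).mapIso
      (asIso (DRing.toDerivedCompletion I ((DRing.RgammaI J).obj
        ((singleFunctor (ModuleCat.{u} A) 0).obj M)))).symm)
    exact isZero_HD_RgammaI_inD_of_neg J M i hi
  · intro S hS _ h1 h3 i hi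
    have hex := exact_homology_FF I J S hS i
    haveI := ModuleCat.subsingleton_of_isZero (h1 i hi)
    haveI := ModuleCat.subsingleton_of_isZero (h3 i hi)
    suffices H0 : ∀ x : ((homologyFunctor (ModuleCat.{u} A) i).obj ((FF I J).obj S.X₂) :
        ModuleCat.{u} A), x = 0 by
      haveI : Subsingleton ((homologyFunctor (ModuleCat.{u} A) i).obj ((FF I J).obj S.X₂) :
          ModuleCat.{u} A) := ⟨fun a b => by rw [H0 a, H0 b]⟩
      exact ModuleCat.isZero_of_subsingleton _
    intro x
    obtain ⟨x', rfl⟩ := (hex x).1 (Subsingleton.elim _ _)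
    rw [Subsingleton.elim x' 0, map_zero]
  · intro M M'' y hy g w _ hS h'' i hi
    have hex := exact_homology_FF I J (ShortComplex.mk (y • 𝟙 M) g w) hS i
    haveI := ModuleCat.subsingleton_of_isZero (h'' i hi)
    have hsurj : Function.Surjective (fun x : ((homologyFunctor (ModuleCat.{u} A) i).obj
        ((FF I J).obj M) : ModuleCat.{u} A) => y • x) := by
      intro x
      obtain ⟨x', hx'⟩ := (hex x).1 (Subsingleton.elim _ _)
      refine ⟨x', ?_⟩
      rw [← hx']
      exact (homology_FF_map_smul_id_apply I J M y i x').symm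
    have hseq := (DCompl.general_criterion y ((FF I J).obj M)).1
      (isDerivedComplete_FF I J M y hy) i
    haveI := subsingleton_of_seqC_of_surjective y _ hseq hsurj
    exact ModuleCat.isZero_of_subsingleton _

end FF

end Groth.Agent.Lib.helper19.DCB2
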