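import Mathlib
import Groth.Prelude.Def_DRing3
import Groth.Prelude.Def_Wider
import Groth.Agent.Lib.Helper19.DCB2
import Groth.Agent.Lib.Helper1.RhoGE
import Groth.Agent.Lib.Helper23.DC7

/-!
# helper19: `H^0((RΓ_J M)^∧) ⟶ H^0(M^∧)` is injective

* `torsD_single`, `isGE_RgammaI_single`, `injective_homology_ε` (`Γ_J(M) ⊆ M` on `H^0`).
* `isAdicComplete_of_finite`, `isDerivedComplete_single_of_finite`; `uu I M : M ⟶ H^0((M[0])^∧)`,
  natural, bijective for finite `M` over an `I`-adically complete Noetherian ring.
* `injective_homology_ψ`: injectivity of `H^0` of `(RΓ_J (M[0]))^∧ ⟶ (M[0])^∧` (by dévissage).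
-/

set_option autoImplicit false
universe u
open CategoryTheory CategoryTheory.Limits DerivedCategory Pretriangulated

attribute [local instance] HasDerivedCategory.standard

namespace Groth.Agent.Lib.helper19.DCB3

open Groth.Agent.Lib.helper13.DComp Groth.Agent.Lib.helper13.RGam Groth.Agent.Lib.helper13.GM
  Groth.Agent.Lib.helper19.DCB0 Groth.Agent.Lib.helper19.DCB1 Groth.Agent.Lib.helper19.DCB2
  Groth.Agent.Lib.helper19.DCAnn3
  Groth.Agent.Lib.helper19.DHomLinear Groth.Agent.Lib.helper23
  Groth.Agent.H1.SingleHom Groth.Agent.H1.RhoGE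

variable {A : Type u} [CommRing A]

/-- a module which is `J`-power torsion, in degree `0`, is a `J`-torsion object -/
lemma torsD_single (J : Ideal A) (N : ModuleCat.{u} A) (hN : LocCoh.IsPowerTorsion J N) :
    TorsD J ((singleFunctor (ModuleCat.{u} A) 0).obj N) := by
  intro i
  by_cases hi : i = 0
  · subst hi
    exact isPowerTorsion_of_linearEquiv J
      ((singleFunctorCompHomologyFunctorIso (ModuleCat.{u} A) 0).app N).symm.toLinearEquiv hN
  · have hz : IsZero ((homologyFunctor (ModuleCat.{u} A) i).obj
        ((singleFunctor (ModuleCat.{u} A) 0).obj N)) := by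
      rcases lt_or_gt_of_ne hi with h | h
      · exact isZero_of_isGE _ 0 i h
      · exact isZero_of_isLE _ 0 i h
    haveI := ModuleCat.subsingleton_of_isZero hz
    intro x
    exact ⟨0, fun a _ => Subsingleton.elim _ _⟩

section E0

variable [IsNoetherianRing A] (J : Ideal A) [DRing.HasRgammaI J]

lemma isGE_RgammaI_single (M : ModuleCat.{u} A) :
    ((DRing.RgammaI J).obj ((singleFunctor (ModuleCat.{u} A) 0).obj M)).IsGE 0 :=
  (isGE_iff _ _).2 (fun i hi => isZero_HD_RgammaI_inD_of_neg J M i hi)

/-- `H^0(RΓ_J (M[0])) ⟶ H^0(M[0])` is injective -/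
theorem injective_homology_ε (M : ModuleCat.{u} A) :
    Function.Injective ((homologyFunctor (ModuleCat.{u} A) 0).map
      ((DRing.RgammaIε J).app ((singleFunctor (ModuleCat.{u} A) 0).obj M))).hom := by
  rw [injective_iff_map_eq_zero]
  intro x hx
  obtain ⟨n, hn⟩ := torsD_RgammaI J ((singleFunctor (ModuleCat.{u} A) 0).obj M) 0 x
  let g₀ : A →ₗ[A] ((homologyFunctor (ModuleCat.{u} A) 0).obj
      ((DRing.RgammaI J).obj ((singleFunctor (ModuleCat.{u} A) 0).obj M)) : ModuleCat.{u} A) :=
    LinearMap.toSpanSingleton A _ x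
  have hg₀ : (J ^ n : Ideal A) ≤ LinearMap.ker g₀ := by
    intro a ha
    rw [LinearMap.mem_ker, LinearMap.toSpanSingleton_apply]
    exact hn a ha
  let g := Submodule.liftQ (J ^ n : Ideal A) g₀ hg₀
  let P : ModuleCat.{u} A := ModuleCat.of A (A ⧸ (J ^ n : Ideal A))
  haveI := isGE_RgammaI_single J M
  obtain ⟨σ, hσ⟩ := (rho_bijective_of_isGE P 0
    ((DRing.RgammaI J).obj ((singleFunctor (ModuleCat.{u} A) 0).obj M))).2 (ModuleCat.ofHom g)
  have h1 : rho (σ ≫ (DRing.RgammaIε J).app ((singleFunctor (ModuleCat.{u} A) 0).obj M)) = 0 := by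
    rw [rho_comp, hσ]
    apply ModuleCat.hom_ext
    apply LinearMap.ext
    intro z
    obtain ⟨a, rfl⟩ := Submodule.Quotient.mk_surjective _ z
    show ((homologyFunctor (ModuleCat.{u} A) 0).map
      ((DRing.RgammaIε J).app ((singleFunctor (ModuleCat.{u} A) 0).obj M))).hom (a • x) = 0
    rw [map_smul, hx, smul_zero]
  have h2 : σ ≫ (DRing.RgammaIε J).app ((singleFunctor (ModuleCat.{u} A) 0).obj M) = 0 :=
    (rho_bijective_of_isGE P 0 ((singleFunctor (ModuleCat.{u} A) 0).obj M)).1
      (h1.trans rho_zero.symm)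
  have hP : LocCoh.IsPowerTorsion J P := by
    intro z
    refine ⟨n, fun a ha => ?_⟩
    obtain ⟨b, rfl⟩ := Submodule.Quotient.mk_surjective _ z
    show a • (Submodule.Quotient.mk b : A ⧸ (J ^ n : Ideal A)) = 0
    rw [← Submodule.Quotient.mk_smul, Submodule.Quotient.mk_eq_zero]
    exact Ideal.mul_mem_right _ _ ha
  have h3 : σ = 0 :=
    (bijective_postcomp_RgammaIε J (torsD_single J P hP)
      ((singleFunctor (ModuleCat.{u} A) 0).obj M)).1 (h2.trans zero_comp.symm)
  have h4 : ModuleCat.ofHom g = 0 := by rw [← hσ, h3, rho_zero]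
  have h5 : g (Submodule.Quotient.mk 1) = 0 := by
    have := congrArg (fun φ => (ModuleCat.Hom.hom φ) (Submodule.Quotient.mk 1)) h4
    exact this
  have h6 : g (Submodule.Quotient.mk 1) = x := by
    show g₀ 1 = x
    rw [LinearMap.toSpanSingleton_apply, one_smul]
  rw [← h6, h5]

end E0


section G

variable [IsNoetherianRing A] (I : Ideal A) [DRing.HasDerivedCompletion I]

theorem isAdicComplete_of_finite [IsAdicComplete I A]
    (M : Type u) [AddCommGroup M] [Module A M] [Module.Finite A M] : IsAdicComplete I M := by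
  rw [← AdicCompletion.of_bijective_iff]
  have h1 := AdicCompletion.ofTensorProduct_bijective_of_finite_of_isNoetherian I M
  have h2 : Function.Bijective (LinearMap.rTensor M (AdicCompletion.of I A)) := by
    have hb : Function.Bijective (AdicCompletion.of I A) := AdicCompletion.of_bijective I A
    exact (LinearEquiv.rTensor M (LinearEquiv.ofBijective (AdicCompletion.of I A) hb)).bijective
  have hone : (AdicCompletion.of I A) 1 = 1 := rfl
  have h3 : ⇑(AdicCompletion.of I M) = (AdicCompletion.ofTensorProduct I M) ∘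
      (LinearMap.rTensor M (AdicCompletion.of I A)) ∘ (TensorProduct.lid A M).symm := by
    funext x
    simp [AdicCompletion.ofTensorProduct_tmul, hone]
  rw [h3]
  exact h1.comp (h2.comp (TensorProduct.lid A M).symm.bijective)

lemma isDerivedComplete_single_of_finite [IsAdicComplete I A] (M : ModuleCat.{u} A)
    [Module.Finite A M] :
    DRing.IsDerivedComplete I ((singleFunctor (ModuleCat.{u} A) 0).obj M) := by
  haveI := isAdicComplete_of_finite I M
  exact DC.isDerivedComplete_inD_of_isAdicComplete I M

/-- `M ⟶ H^0((M[0])^∧)` -/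
noncomputable def uu (M : ModuleCat.{u} A) :
    M ⟶ (homologyFunctor (ModuleCat.{u} A) 0).obj ((GG I).obj M) :=
  (singleFunctorCompHomologyFunctorIso (ModuleCat.{u} A) 0).inv.app M ≫
    (homologyFunctor (ModuleCat.{u} A) 0).map
      (DRing.toDerivedCompletion I ((singleFunctor (ModuleCat.{u} A) 0).obj M))

omit [IsNoetherianRing A] in
lemma uu_naturality {M N : ModuleCat.{u} A} (f : M ⟶ N) :
    f ≫ uu I N = uu I M ≫ (homologyFunctor (ModuleCat.{u} A) 0).map ((GG I).map f) := by
  have h1 := (singleFunctorCompHomologyFunctorIso (ModuleCat.{u} A) 0).inv.naturality f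
  simp only [Functor.id_map, Functor.comp_map] at h1
  unfold uu
  rw [← Category.assoc, h1, Category.assoc, Category.assoc, ← Functor.map_comp, ← Functor.map_comp]
  congr 2
  exact (η_naturality I ((singleFunctor (ModuleCat.{u} A) 0).map f)).symm

lemma isIso_uu [IsAdicComplete I A] (M : ModuleCat.{u} A) [Module.Finite A M] :
    IsIso (uu I M) := by
  haveI := isIso_η_of_complete I _ (isDerivedComplete_single_of_finite I M)
  unfold uu
  infer_instance

lemma uu_naturality_apply {M N : ModuleCat.{u} A} (f : M ⟶ N) (m : M) :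
    ((homologyFunctor (ModuleCat.{u} A) 0).map ((GG I).map f)).hom ((uu I M).hom m) =
      (uu I N).hom (f.hom m) := by
  have := congrArg (fun φ => (ModuleCat.Hom.hom φ) m) (uu_naturality I f)
  exact this.symm

lemma bijective_uu [IsAdicComplete I A] (M : ModuleCat.{u} A) [Module.Finite A M] :
    Function.Bijective (uu I M).hom := by
  haveI := isIso_uu I M
  exact (ConcreteCategory.isIso_iff_bijective (uu I M)).1 inferInstance

end G


section Inj

variable [IsNoetherianRing A] (I J : Ideal A) [DRing.HasRgammaI J] [DRing.HasDerivedCompletion I]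

lemma ψ_naturality_apply {M N : ModuleCat.{u} A} (f : M ⟶ N)
    (x : ((homologyFunctor (ModuleCat.{u} A) 0).obj ((FF I J).obj M) : ModuleCat.{u} A)) :
    ((homologyFunctor (ModuleCat.{u} A) 0).map ((ψ I J).app N)).hom
        (((homologyFunctor (ModuleCat.{u} A) 0).map ((FF I J).map f)).hom x) =
      ((homologyFunctor (ModuleCat.{u} A) 0).map ((GG I).map f)).hom
        (((homologyFunctor (ModuleCat.{u} A) 0).map ((ψ I J).app M)).hom x) := by
  have h := (ψ I J).naturality f
  have h2 := congrArg (fun φ => (ModuleCat.Hom.hom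
    ((homologyFunctor (ModuleCat.{u} A) 0).map φ)) x) h
  simp only [Functor.map_comp] at h2
  exact h2

lemma GG_map_smul_id_apply (M : ModuleCat.{u} A) (y : A)
    (x : ((homologyFunctor (ModuleCat.{u} A) 0).obj ((GG I).obj M) : ModuleCat.{u} A)) :
    ((homologyFunctor (ModuleCat.{u} A) 0).map ((GG I).map (y • 𝟙 M))).hom x = y • x := by
  have : (GG I).map (y • 𝟙 M) = y • 𝟙 _ := by
    show (cmp I).map ((singleFunctor (ModuleCat.{u} A) 0).map (y • 𝟙 M)) = _
    rw [Functor.map_smul, cmp_map_smul, CategoryTheory.Functor.map_id,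
      CategoryTheory.Functor.map_id]
    rfl
  rw [this, Functor.map_smul, CategoryTheory.Functor.map_id]
  rfl

variable [IsAdicComplete I A]

/-- **`H^0((RΓ_J M)^∧) ⟶ H^0(M^∧)` is injective** for finite `M` over an `I`-adically complete
Noetherian ring -/
theorem injective_homology_ψ (M : Type u) [AddCommGroup M] [Module A M] [Module.Finite A M] :
    Function.Injective ((homologyFunctor (ModuleCat.{u} A) 0).map
      ((ψ I J).app (ModuleCat.of A M))).hom := by
  refine devissage I (fun M => Function.Injective ((homologyFunctor (ModuleCat.{u} A) 0).map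
      ((ψ I J).app M)).hom) ?_ ?_ ?_ M
  · intro M hfin hM
    haveI := hfin
    have h0 : ∀ y ∈ I, y • 𝟙 ((singleFunctor (ModuleCat.{u} A) 0).obj M) = 0 := by
      intro y hy
      have : y • 𝟙 M = 0 := by
        ext m
        exact hM y hy m
      rw [← CategoryTheory.Functor.map_id, ← Functor.map_smul, this, Functor.map_zero]
    have h1 : ∀ y ∈ I, y • 𝟙 ((DRing.RgammaI J).obj
        ((singleFunctor (ModuleCat.{u} A) 0).obj M)) = 0 :=
      fun y hy => smul_id_RgammaI J _ y (h0 y hy)
    have hc := isDerivedComplete_of_smul_id I _ h1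
    haveI := isIso_η_of_complete I _ hc
    haveI := isIso_η_of_complete I _ (isDerivedComplete_single_of_finite I M)
    have hnat := η_naturality I ((DRing.RgammaIε J).app ((singleFunctor (ModuleCat.{u} A) 0).obj M))
    have hψ : (ψ I J).app M = inv (DRing.toDerivedCompletion I ((DRing.RgammaI J).obj
        ((singleFunctor (ModuleCat.{u} A) 0).obj M))) ≫
        (DRing.RgammaIε J).app ((singleFunctor (ModuleCat.{u} A) 0).obj M) ≫
        DRing.toDerivedCompletion I ((singleFunctor (ModuleCat.{u} A) 0).obj M) := by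
      rw [IsIso.eq_inv_comp]
      exact hnat
    rw [hψ, Functor.map_comp, Functor.map_comp]
    simp only [ModuleCat.hom_comp, LinearMap.coe_comp]
    refine Function.Injective.comp (Function.Injective.comp ?_ (injective_homology_ε J M)) ?_
    · exact ((ConcreteCategory.isIso_iff_bijective _).1 inferInstance).1
    · exact ((ConcreteCategory.isIso_iff_bijective _).1 inferInstance).1
  · intro S hS hfin h1 h3
    haveI := hfin
    haveI : Module.Finite A S.X₁ :=
      Module.Finite.of_injective S.f.hom ((ModuleCat.mono_iff_injective _).1 hS.mono_f)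
    have hex := exact_homology_FF I J S hS 0
    rw [injective_iff_map_eq_zero]
    intro x hx
    have hx3 : ((homologyFunctor (ModuleCat.{u} A) 0).map ((FF I J).map S.g)).hom x = 0 := by
      apply h3
      rw [ψ_naturality_apply, hx, map_zero, map_zero]
    obtain ⟨x', rfl⟩ := (hex x).1 hx3
    rw [ψ_naturality_apply] at hx
    -- `H^0(GG f)` is injective
    have hinj : Function.Injective ((homologyFunctor (ModuleCat.{u} A) 0).map
        ((GG I).map S.f)).hom := by
      intro a b hab
      obtain ⟨a', rfl⟩ := (bijective_uu I S.X₁).2 a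
      obtain ⟨b', rfl⟩ := (bijective_uu I S.X₁).2 b
      rw [uu_naturality_apply, uu_naturality_apply] at hab
      have := (bijective_uu I S.X₂).1 hab
      rw [(ModuleCat.mono_iff_injective _).1 hS.mono_f this]
    have h4 : ((homologyFunctor (ModuleCat.{u} A) 0).map ((ψ I J).app S.X₁)).hom x' = 0 :=
      hinj (hx.trans (map_zero _).symm)
    rw [h1 (h4.trans (map_zero _).symm), map_zero]
  · intro M M'' y hy g w hfin hS h''
    haveI := hfin
    have hex := exact_homology_FF I J (ShortComplex.mk (y • 𝟙 M) g w) hS 0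
    -- `y` is injective on `H^0(GG M)`
    have hyinj : ∀ z : ((homologyFunctor (ModuleCat.{u} A) 0).obj ((GG I).obj M) : ModuleCat.{u} A),
        y • z = 0 → z = 0 := by
      intro z hz
      obtain ⟨m, rfl⟩ := (bijective_uu I M).2 z
      rw [← map_smul] at hz
      have h5 : y • m = 0 := (bijective_uu I M).1 (hz.trans (map_zero _).symm)
      have h6 : m = 0 := by
        have hmono := (ModuleCat.mono_iff_injective _).1 hS.mono_f
        apply hmono
        show (y • 𝟙 M : M ⟶ M).hom m = (y • 𝟙 M : M ⟶ M).hom 0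
        rw [map_zero]
        exact h5
      rw [h6, map_zero]
    -- the kernel is `y`-divisible
    have hdiv : ∀ k : ((homologyFunctor (ModuleCat.{u} A) 0).obj ((FF I J).obj M) : ModuleCat.{u} A),
        ((homologyFunctor (ModuleCat.{u} A) 0).map ((ψ I J).app M)).hom k = 0 →
        ∃ k', ((homologyFunctor (ModuleCat.{u} A) 0).map ((ψ I J).app M)).hom k' = 0 ∧
          y • k' = k := by
      intro k hk
      have h5 : ((homologyFunctor (ModuleCat.{u} A) 0).map ((FF I J).map g)).hom k = 0 := by
        apply h''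
        rw [ψ_naturality_apply, hk, map_zero, map_zero]
      obtain ⟨k', hk'⟩ := (hex k).1 h5
      have hk'' : y • k' = k := by
        rw [← hk']
        exact (homology_FF_map_smul_id_apply I J M y 0 k').symm
      refine ⟨k', hyinj _ ?_, hk''⟩
      rw [← map_smul, hk'', hk]
    have hseq := (DCompl.general_criterion y ((FF I J).obj M)).1
      (isDerivedComplete_FF I J M y hy) 0
    rw [injective_iff_map_eq_zero]
    intro k hk
    choose g' hg' using hdiv
    let z : ℕ → {k : ((homologyFunctor (ModuleCat.{u} A) 0).obj ((FF I J).obj M) :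
        ModuleCat.{u} A) // ((homologyFunctor (ModuleCat.{u} A) 0).map ((ψ I J).app M)).hom k = 0} :=
      fun n => Nat.rec ⟨k, hk⟩ (fun _ w => ⟨g' w.1 w.2, (hg' w.1 w.2).1⟩) n
    exact hseq.2 (fun n => (z n).1) (fun n => (hg' (z n).1 (z n).2).2)

end Inj

end Groth.Agent.Lib.helper19.DCB3
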