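import Mathlib
import Groth.Prelude.Def_DRing3
import Groth.Prelude.Def_Wider
import Groth.Agent.Lib.Helper19.DCB3
import Groth.Agent.Lib.Helper19.DCAnn1
import Groth.Agent.Lib.Helper13.RGam4
import Groth.Agent.Lib.Helper13.GM2

/-!
# DCB4 (helper19): the range of `H^0((RΓ_J M)^∧) → H^0(M^∧)`

For `A` Noetherian, `I`-adically complete, `M` finite:
* `isIso_RgammaI_map_ε`, `isIso_cmp_map_ε`, `isIso_ψ_app`: if `RΓ_I K` is `J`-torsion
  (e.g. `K = N[0]` with `J ≤ rad(Ann N + I)`), then `(RΓ_J K)^∧ → K^∧` is an isomorphism;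
* `mem_range_of_mem_torsionSub` / `exists_torsion_of_mem_range`: the image of
  `H^0((RΓ_J M)^∧) → H^0(M^∧) = M` is the set of sections killed by a power of some
  `J' ≤ J` with `V(J') ∩ V(I) = V(J) ∩ V(I)`.
-/

set_option autoImplicit false
universe u
open CategoryTheory CategoryTheory.Limits DerivedCategory Pretriangulated

attribute [local instance] HasDerivedCategory.standard

namespace Groth.Agent.Lib.helper19.DCB4

open Groth.Agent.Lib.helper13.DComp Groth.Agent.Lib.helper13.RGam Groth.Agent.Lib.helper13.GM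
  Groth.Agent.Lib.helper19.DCB0 Groth.Agent.Lib.helper19.DCB1 Groth.Agent.Lib.helper19.DCB2
  Groth.Agent.Lib.helper19.DCB3 Groth.Agent.Lib.helper19.DCAnn3 Groth.Agent.Lib.helper19.DCAnn1
  Groth.Agent.Lib.helper19.DHomLinear Groth.Agent.Lib.helper23

variable {A : Type u} [CommRing A] [IsNoetherianRing A]

section Yoga

variable (I J : Ideal A) [DRing.HasRgammaI I] [DRing.HasRgammaI J]

omit [IsNoetherianRing A] [DRing.HasRgammaI I] [DRing.HasRgammaI J] in
lemma torsD_mono {I J : Ideal A} (h : J ≤ I) (K : Dual.D A) (hK : TorsD I K) : TorsD J K := by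
  intro i x
  obtain ⟨n, hn⟩ := hK i x
  exact ⟨n, fun a ha => hn a (Ideal.pow_right_mono h n ha)⟩

/-- `RΓ_I (RΓ_J K)` is a `J`-torsion object -/
lemma torsD_RgammaI_RgammaI (K : Dual.D A) :
    TorsD J ((DRing.RgammaI I).obj ((DRing.RgammaI J).obj K)) := by
  haveI : DRing.HasRgammaI (J ⊔ I) := CechD.hasRgammaI _
  obtain ⟨e⟩ := nonempty_RgammaI_comp_iso J I K
  exact torsD_of_iso J e.symm (torsD_mono le_sup_left _ (torsD_RgammaI (J ⊔ I) K))

/-- `RΓ_I (N[0])` is a `J`-torsion object if `J ⊆ √(Ann N + I)` -/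
lemma torsD_RgammaI_single_of_le_radical (N : ModuleCat.{u} A)
    (hN : J ≤ (Module.annihilator A N ⊔ I).radical) :
    TorsD J ((DRing.RgammaI I).obj ((singleFunctor (ModuleCat.{u} A) 0).obj N)) := by
  obtain ⟨m, hm⟩ := Ideal.exists_pow_le_of_le_radical_of_fg hN
    ((isNoetherianRing_iff_ideal_fg A).1 inferInstance J)
  intro i x
  obtain ⟨k, hk⟩ := torsD_RgammaI I ((singleFunctor (ModuleCat.{u} A) 0).obj N) i x
  have hann : ∀ a ∈ Module.annihilator A N, a • x = 0 := by
    intro a ha
    have h0 : a • 𝟙 ((singleFunctor (ModuleCat.{u} A) 0).obj N) = 0 := by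
      have : a • 𝟙 N = 0 := by
        ext n
        exact Module.mem_annihilator.1 ha n
      rw [← CategoryTheory.Functor.map_id, ← Functor.map_smul, this, Functor.map_zero]
    exact smul_homology_eq_zero _ a (smul_id_RgammaI I _ a h0) i x
  refine ⟨m * (1 + k), fun a ha => ?_⟩
  have h1 : (J ^ (m * (1 + k)) : Ideal A) ≤ Module.annihilator A N ⊔ I ^ k := by
    rw [pow_mul]
    refine (Ideal.pow_right_mono hm (1 + k)).trans ?_
    refine Ideal.sup_pow_add_le_pow_sup_pow.trans ?_
    rw [pow_one]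
  obtain ⟨b, hb, c, hc, rfl⟩ := Submodule.mem_sup.1 (h1 ha)
  rw [add_smul, hann b hb, hk c hc, add_zero]

/-- if `RΓ_I K` is `J`-torsion, then `RΓ_I` inverts `RΓ_J K ⟶ K` -/
theorem isIso_RgammaI_map_ε (K : Dual.D A) (hS : TorsD J ((DRing.RgammaI I).obj K)) :
    IsIso ((DRing.RgammaI I).map ((DRing.RgammaIε J).app K)) := by
  let S := (DRing.RgammaI I).obj K
  let W := (DRing.RgammaI I).obj ((DRing.RgammaI J).obj K)
  have hSI : TorsD I S := torsD_RgammaI I K
  have hWI : TorsD I W := torsD_RgammaI I _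
  have hWJ : TorsD J W := torsD_RgammaI_RgammaI I J K
  let c : W ⟶ S := (DRing.RgammaI I).map ((DRing.RgammaIε J).app K)
  have hc : c ≫ (DRing.RgammaIε I).app K =
      (DRing.RgammaIε I).app ((DRing.RgammaI J).obj K) ≫ (DRing.RgammaIε J).app K :=
    (DRing.RgammaIε I).naturality ((DRing.RgammaIε J).app K)
  obtain ⟨b₁, hb₁⟩ := (bijective_postcomp_RgammaIε J hS K).2 ((DRing.RgammaIε I).app K)
  have hb₁' : b₁ ≫ (DRing.RgammaIε J).app K = (DRing.RgammaIε I).app K := hb₁
  obtain ⟨b, hb⟩ := (bijective_postcomp_RgammaIε I hSI ((DRing.RgammaI J).obj K)).2 b₁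
  have hb' : b ≫ (DRing.RgammaIε I).app ((DRing.RgammaI J).obj K) = b₁ := hb
  have h1 : b ≫ c = 𝟙 S := by
    apply (bijective_postcomp_RgammaIε I hSI K).1
    show (b ≫ c) ≫ (DRing.RgammaIε I).app K = 𝟙 S ≫ (DRing.RgammaIε I).app K
    rw [Category.assoc, hc, ← Category.assoc, hb', hb₁', Category.id_comp]
  have h2 : c ≫ b = 𝟙 W := by
    apply (bijective_postcomp_RgammaIε I hWI ((DRing.RgammaI J).obj K)).1
    apply (bijective_postcomp_RgammaIε J hWJ K).1
    show ((c ≫ b) ≫ (DRing.RgammaIε I).app ((DRing.RgammaI J).obj K)) ≫ (DRing.RgammaIε J).app K =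
      (𝟙 W ≫ (DRing.RgammaIε I).app ((DRing.RgammaI J).obj K)) ≫ (DRing.RgammaIε J).app K
    rw [Category.assoc, Category.assoc, reassoc_of% hb', hb₁', hc, Category.id_comp]
  exact ⟨b, h2, h1⟩

end Yoga


section IsoPsi

variable (I J : Ideal A) [DRing.HasRgammaI I] [DRing.HasRgammaI J] [DRing.HasDerivedCompletion I]

/-- objects killed by `RΓ_I` have zero derived completion -/
lemma isZero_cmp_of_isZero_RgammaI (C : Dual.D A) (hC : IsZero ((DRing.RgammaI I).obj C)) :
    IsZero ((cmp I).obj C) := by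
  obtain ⟨fs, hfs⟩ := CechD.exists_list_span I
  subst hfs
  have hs := subsingleton_hom_of_isZero_RgammaI fs C
    ((Groth.Agent.Lib.helper19.DCB1.cmp _).obj C) hC (isDerivedComplete_cmp _ C)
  rw [IsZero.iff_id_eq_zero]
  apply (isUniv_toDerivedCompletion _ C _ (isDerivedComplete_cmp _ C)).1
  show DRing.toDerivedCompletion _ C ≫ 𝟙 _ = DRing.toDerivedCompletion _ C ≫ 0
  rw [hs.elim (DRing.toDerivedCompletion _ C) 0, zero_comp, zero_comp]

/-- if `RΓ_I K` is `J`-torsion, then the derived `I`-completion inverts `RΓ_J K ⟶ K` -/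
theorem isIso_cmp_map_ε (K : Dual.D A) (hS : TorsD J ((DRing.RgammaI I).obj K)) :
    IsIso ((cmp I).map ((DRing.RgammaIε J).app K)) := by
  obtain ⟨Z, g, h, hT⟩ := distinguished_cocone_triangle ((DRing.RgammaIε J).app K)
  have hiso := isIso_RgammaI_map_ε I J K hS
  have hZ : IsZero ((DRing.RgammaI I).obj Z) := isZero_RgammaI_obj₃ I _ hT hiso
  have hZ' := isZero_cmp_of_isZero_RgammaI I Z hZ
  obtain ⟨δ, hT'⟩ := exists_distinguished_cmp I _ hT
  exact (Triangle.isZero₃_iff_isIso₁ _ hT').1 hZ'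

/-- `ψ_N` is an isomorphism if `J ⊆ √(Ann N + I)` -/
theorem isIso_ψ_app (N : ModuleCat.{u} A)
    (hN : J ≤ (Module.annihilator A N ⊔ I).radical) : IsIso ((ψ I J).app N) :=
  isIso_cmp_map_ε I J _ (torsD_RgammaI_single_of_le_radical I J N hN)

end IsoPsi


section Range

variable (I J : Ideal A) [DRing.HasRgammaI J] [DRing.HasDerivedCompletion I] [IsAdicComplete I A]

/-- `H^0(GG f)` is injective for injective `f` between finite modules -/
lemma injective_homology_GG_map {M N : ModuleCat.{u} A} [Module.Finite A M] [Module.Finite A N]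
    (f : M ⟶ N) (hf : Function.Injective f.hom) :
    Function.Injective ((homologyFunctor (ModuleCat.{u} A) 0).map ((GG I).map f)).hom := by
  intro a b hab
  obtain ⟨a', rfl⟩ := (bijective_uu I M).2 a
  obtain ⟨b', rfl⟩ := (bijective_uu I M).2 b
  rw [uu_naturality_apply, uu_naturality_apply] at hab
  rw [hf ((bijective_uu I N).1 hab)]

/-- the part `⊇` of the description of the range -/
theorem mem_range_of_mem_torsionSub (M : Type u) [AddCommGroup M] [Module A M] [Module.Finite A M]
    (s : M) (J' : Ideal A) (hrad : J ≤ (J' ⊔ I).radical) (hs : s ∈ DRing.torsionSub J' M) :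
    (uu I (ModuleCat.of A M)).hom s ∈ Set.range ((homologyFunctor (ModuleCat.{u} A) 0).map
      ((ψ I J).app (ModuleCat.of A M))).hom := by
  haveI : DRing.HasRgammaI I := CechD.hasRgammaI I
  obtain ⟨n, hn⟩ := hs
  let N₀ : Submodule A M := Submodule.span A {s}
  let N : ModuleCat.{u} A := ModuleCat.of A N₀
  let ι : N ⟶ ModuleCat.of A M := ModuleCat.ofHom N₀.subtype
  let s' : N := ⟨s, Submodule.mem_span_singleton_self s⟩
  have hann : (J' ^ (n + 1) : Ideal A) ≤ Module.annihilator A N := by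
    intro a ha
    rw [Module.mem_annihilator]
    rintro ⟨z, hz⟩
    obtain ⟨b, rfl⟩ := Submodule.mem_span_singleton.1 hz
    apply Subtype.ext
    show a • b • s = 0
    rw [smul_comm, hn a (Ideal.pow_le_pow_right (Nat.le_succ n) ha), smul_zero]
  have hN : J ≤ (Module.annihilator A N ⊔ I).radical := by
    refine hrad.trans ?_
    rw [Ideal.radical_le_radical_iff]
    refine sup_le ?_ (le_sup_right.trans Ideal.le_radical)
    intro a ha
    exact ⟨n + 1, Ideal.mem_sup_left (hann (Ideal.pow_mem_pow ha (n + 1)))⟩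
  haveI := isIso_ψ_app I J N hN
  have hbij : Function.Bijective ((homologyFunctor (ModuleCat.{u} A) 0).map
      ((ψ I J).app N)).hom :=
    (ConcreteCategory.isIso_iff_bijective _).1 inferInstance
  obtain ⟨x, hx⟩ := hbij.2 ((uu I N).hom s')
  refine ⟨((homologyFunctor (ModuleCat.{u} A) 0).map ((FF I J).map ι)).hom x, ?_⟩
  rw [ψ_naturality_apply, hx, uu_naturality_apply]
  rfl


/-- if `M` is killed by `I`, elements in the range of `ψ_M` come from `J`-power torsion elements -/
lemma isPowerTorsion_of_mem_range (M : ModuleCat.{u} A) [Module.Finite A M]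
    (hM : ∀ y ∈ I, ∀ m : M, y • m = 0) (m : M)
    (hm : (uu I M).hom m ∈ Set.range ((homologyFunctor (ModuleCat.{u} A) 0).map
      ((ψ I J).app M)).hom) : ∃ n : ℕ, ∀ a ∈ J ^ n, a • m = 0 := by
  obtain ⟨x, hx⟩ := hm
  have h0 : ∀ y ∈ I, y • 𝟙 ((singleFunctor (ModuleCat.{u} A) 0).obj M) = 0 := by
    intro y hy
    have : y • 𝟙 M = 0 := by
      ext m
      exact hM y hy m
    rw [← CategoryTheory.Functor.map_id, ← Functor.map_smul, this, Functor.map_zero]
  have h1 : ∀ y ∈ I, y • 𝟙 ((DRing.RgammaI J).obj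
      ((singleFunctor (ModuleCat.{u} A) 0).obj M)) = 0 :=
    fun y hy => smul_id_RgammaI J _ y (h0 y hy)
  have hc := isDerivedComplete_of_smul_id I _ h1
  haveI hi1 := isIso_η_of_complete I _ hc
  haveI hi2 := isIso_η_of_complete I _ (isDerivedComplete_single_of_finite I M)
  have hnat := η_naturality I ((DRing.RgammaIε J).app ((singleFunctor (ModuleCat.{u} A) 0).obj M))
  -- `x = H^0(η) t`
  have hb1 : Function.Bijective ((homologyFunctor (ModuleCat.{u} A) 0).map
      (DRing.toDerivedCompletion I ((DRing.RgammaI J).obj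
        ((singleFunctor (ModuleCat.{u} A) 0).obj M)))).hom :=
    (ConcreteCategory.isIso_iff_bijective _).1 inferInstance
  have hb2 : Function.Bijective ((homologyFunctor (ModuleCat.{u} A) 0).map
      (DRing.toDerivedCompletion I ((singleFunctor (ModuleCat.{u} A) 0).obj M))).hom :=
    (ConcreteCategory.isIso_iff_bijective _).1 inferInstance
  obtain ⟨t, rfl⟩ := hb1.2 x
  have h2 := congrArg (fun φ => (ModuleCat.Hom.hom
    ((homologyFunctor (ModuleCat.{u} A) 0).map φ)) t) hnat
  simp only [Functor.map_comp] at h2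
  have h3 : ((homologyFunctor (ModuleCat.{u} A) 0).map ((ψ I J).app M)).hom
      (((homologyFunctor (ModuleCat.{u} A) 0).map (DRing.toDerivedCompletion I
        ((DRing.RgammaI J).obj ((singleFunctor (ModuleCat.{u} A) 0).obj M)))).hom t) =
      ((homologyFunctor (ModuleCat.{u} A) 0).map (DRing.toDerivedCompletion I
        ((singleFunctor (ModuleCat.{u} A) 0).obj M))).hom
        (((homologyFunctor (ModuleCat.{u} A) 0).map ((DRing.RgammaIε J).app
          ((singleFunctor (ModuleCat.{u} A) 0).obj M))).hom t) := h2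
  rw [h3] at hx
  have h4 : ((homologyFunctor (ModuleCat.{u} A) 0).map ((DRing.RgammaIε J).app
      ((singleFunctor (ModuleCat.{u} A) 0).obj M))).hom t =
      ((singleFunctorCompHomologyFunctorIso (ModuleCat.{u} A) 0).inv.app M).hom m :=
    hb2.1 hx
  obtain ⟨n, hn⟩ := torsD_RgammaI J ((singleFunctor (ModuleCat.{u} A) 0).obj M) 0 t
  refine ⟨n, fun a ha => ?_⟩
  have h5 : ((singleFunctorCompHomologyFunctorIso (ModuleCat.{u} A) 0).inv.app M).hom (a • m) =
      0 := by
    rw [map_smul, ← h4, ← map_smul, hn a ha, map_zero]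
  have hinj : Function.Injective
      ((singleFunctorCompHomologyFunctorIso (ModuleCat.{u} A) 0).inv.app M).hom :=
    ((ConcreteCategory.isIso_iff_bijective _).1 inferInstance).1
  exact hinj (h5.trans (map_zero _).symm)


/-- the part `⊆` of the description of the range -/
theorem exists_torsion_of_mem_range (M : Type u) [AddCommGroup M] [Module A M] [Module.Finite A M]
    (s : M) (hs : (uu I (ModuleCat.of A M)).hom s ∈ Set.range
      ((homologyFunctor (ModuleCat.{u} A) 0).map ((ψ I J).app (ModuleCat.of A M))).hom) :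
    ∃ J' : Ideal A, J' ≤ J ∧ J ≤ (J' ⊔ I).radical ∧ s ∈ DRing.torsionSub J' M := by
  classical
  haveI : IsNoetherian A M := isNoetherian_of_isNoetherianRing_of_finite A M
  let MM : ModuleCat.{u} A := ModuleCat.of A M
  let R : Submodule A ((homologyFunctor (ModuleCat.{u} A) 0).obj ((GG I).obj MM) :
      ModuleCat.{u} A) :=
    LinearMap.range ((homologyFunctor (ModuleCat.{u} A) 0).map ((ψ I J).app MM)).hom
  let H : Submodule A M := R.comap (uu I MM).hom
  let HH : ModuleCat.{u} A := ModuleCat.of A H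
  let ι : HH ⟶ MM := ModuleCat.ofHom H.subtype
  let QQ : ModuleCat.{u} A := ModuleCat.of A (M ⧸ H)
  let π : MM ⟶ QQ := ModuleCat.ofHom H.mkQ
  haveI : Module.Finite A HH := inferInstanceAs (Module.Finite A H)
  haveI : Module.Finite A MM := inferInstanceAs (Module.Finite A M)
  haveI : Module.Finite A QQ := inferInstanceAs (Module.Finite A (M ⧸ H))
  let S : ShortComplex (ModuleCat.{u} A) := ShortComplex.mk ι π (by
    apply ModuleCat.hom_ext
    apply LinearMap.ext
    intro z
    exact (Submodule.Quotient.mk_eq_zero H).2 z.2)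
  have hS : S.ShortExact := by
    refine ModuleCat.shortComplex_shortExact S ?_ Subtype.val_injective
      (Submodule.mkQ_surjective H)
    intro z
    constructor
    · intro hz
      exact ⟨⟨z, (Submodule.Quotient.mk_eq_zero H).1 hz⟩, rfl⟩
    · rintro ⟨w, rfl⟩
      exact (Submodule.Quotient.mk_eq_zero H).2 w.2
  -- (i)
  have hi : ∀ h : H, ∃ x', ((homologyFunctor (ModuleCat.{u} A) 0).map ((ψ I J).app HH)).hom x' =
      (uu I HH).hom h := by
    intro h
    obtain ⟨x, hx⟩ := h.2
    have hx' : ((homologyFunctor (ModuleCat.{u} A) 0).map ((ψ I J).app MM)).hom x =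
        (uu I MM).hom h.1 := hx
    have h1 : ((homologyFunctor (ModuleCat.{u} A) 0).map ((FF I J).map π)).hom x = 0 := by
      apply injective_homology_ψ I J (M ⧸ H)
      have h2 := ψ_naturality_apply I J π x
      rw [map_zero]
      refine h2.trans ?_
      rw [hx', uu_naturality_apply]
      have : π.hom h.1 = 0 := (Submodule.Quotient.mk_eq_zero H).2 h.2
      rw [this, map_zero]
    obtain ⟨x', rfl⟩ := (exact_homology_FF I J S hS 0 x).1 h1
    refine ⟨x', ?_⟩
    apply injective_homology_GG_map I ι Subtype.val_injective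
    rw [← ψ_naturality_apply, hx', uu_naturality_apply]
    rfl
  -- (ii)
  let Hb : ModuleCat.{u} A := ModuleCat.of A (H ⧸ (I • ⊤ : Submodule A H))
  let π' : HH ⟶ Hb := ModuleCat.ofHom (Submodule.mkQ (I • ⊤ : Submodule A H))
  haveI : Module.Finite A Hb := inferInstanceAs (Module.Finite A (H ⧸ (I • ⊤ : Submodule A H)))
  have hii : ∀ hb : Hb, (uu I Hb).hom hb ∈ Set.range
      ((homologyFunctor (ModuleCat.{u} A) 0).map ((ψ I J).app Hb)).hom := by
    intro hb
    obtain ⟨h, rfl⟩ := Submodule.mkQ_surjective (I • ⊤ : Submodule A H) hb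
    obtain ⟨x', hx'⟩ := hi h
    refine ⟨((homologyFunctor (ModuleCat.{u} A) 0).map ((FF I J).map π')).hom x', ?_⟩
    rw [ψ_naturality_apply, hx', uu_naturality_apply]
    rfl
  -- (iii)
  have hIkill : ∀ y ∈ I, ∀ m : Hb, y • m = 0 := by
    intro y hy m
    obtain ⟨h, rfl⟩ := Submodule.mkQ_surjective (I • ⊤ : Submodule A H) m
    show y • (Submodule.Quotient.mk h : H ⧸ (I • ⊤ : Submodule A H)) = 0
    rw [← Submodule.Quotient.mk_smul, Submodule.Quotient.mk_eq_zero]
    exact Submodule.smul_mem_smul hy Submodule.mem_top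
  have hiii : ∀ hb : Hb, ∃ n : ℕ, ∀ a ∈ J ^ n, a • hb = 0 :=
    fun hb => isPowerTorsion_of_mem_range I J Hb hIkill hb (hii hb)
  -- (iv)
  refine ⟨J * Module.annihilator A H, Ideal.mul_le_left, ?_, ?_⟩
  · rw [Ideal.radical_eq_sInf]
    refine le_sInf ?_
    rintro p ⟨hp, hpp⟩
    haveI := hpp
    have hp1 : J * Module.annihilator A H ≤ p := le_sup_left.trans hp
    have hp2 : I ≤ p := le_sup_right.trans hp
    rcases (Ideal.IsPrime.mul_le hpp).1 hp1 with h | h
    · exact h
    · let P : PrimeSpectrum A := ⟨p, hpp⟩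
      have h1 : P ∈ Module.support A H := Module.mem_support_iff_of_finite.2 h
      have h2 : P ∈ Module.support A (H ⧸ (I • ⊤ : Submodule A H)) := by
        rw [Module.support_quotient]
        exact ⟨h1, (PrimeSpectrum.mem_zeroLocus _ _).2 hp2⟩
      obtain ⟨hb, hhb⟩ := Module.mem_support_iff_exists_annihilator.1 h2
      obtain ⟨n, hn⟩ := hiii hb
      have h3 : (J ^ n : Ideal A) ≤ p := by
        refine le_trans ?_ hhb
        intro a ha
        rw [Submodule.mem_annihilator_span_singleton]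
        exact hn a ha
      exact Ideal.IsPrime.le_of_pow_le h3
  · refine ⟨1, fun a ha => ?_⟩
    rw [pow_one] at ha
    have h1 : a ∈ Module.annihilator A H := Ideal.mul_le_right ha
    have h2 : a • (⟨s, hs⟩ : H) = 0 := Module.mem_annihilator.1 h1 _
    exact congrArg Subtype.val h2

end Range

end Groth.Agent.Lib.helper19.DCB4
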