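import Mathlib
import Groth.Prelude.Def_DRing3
import Groth.Prelude.Def_Wider
import Groth.Agent.Lib.Helper19.DCB4

/-!
# DCB5 (helper19): long exact cohomology sequences of morphisms of distinguished triangles in `D(A)`

* `δ_naturality_apply`, `mor₁_naturality_apply`, `mor₂_naturality_apply`, `exact₁_apply`,
  `exact₂_apply`, `exact₃_apply`: elementwise form of the long exact sequence and its naturality.
* `bijective_hom₂` (five lemma), `surjective_hom₁`, `injective_hom₁` (diagram chases).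
* `exists_distinguished_cmp'`, `ηTriangle`: the derived completion of a distinguished triangle,
  with the completion units forming a morphism of triangles.
-/

set_option autoImplicit false
universe u
open CategoryTheory CategoryTheory.Limits DerivedCategory Pretriangulated

attribute [local instance] HasDerivedCategory.standard

namespace Groth.Agent.Lib.helper19.DCB5

open Groth.Agent.Lib.helper13.DComp Groth.Agent.Lib.helper19.DCB1

variable {A : Type u} [CommRing A]

section LES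

variable {T T' : Triangle (Dual.D A)} (hT : T ∈ distTriang _) (hT' : T' ∈ distTriang _)
  (φ : T ⟶ T')

lemma δ_naturality (n₀ n₁ : ℤ) (h : n₀ + 1 = n₁) :
    (homologyFunctor (ModuleCat.{u} A) n₀).map φ.hom₃ ≫ HomologySequence.δ T' n₀ n₁ h =
      HomologySequence.δ T n₀ n₁ h ≫ (homologyFunctor (ModuleCat.{u} A) n₁).map φ.hom₁ :=
  (homologyFunctor (ModuleCat.{u} A) 0).homologySequenceδ_naturality T T' φ n₀ n₁ h

lemma δ_naturality_apply (n₀ n₁ : ℤ) (h : n₀ + 1 = n₁)
    (x : ((homologyFunctor (ModuleCat.{u} A) n₀).obj T.obj₃ : ModuleCat.{u} A)) :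
    (HomologySequence.δ T' n₀ n₁ h).hom
      (((homologyFunctor (ModuleCat.{u} A) n₀).map φ.hom₃).hom x) =
    ((homologyFunctor (ModuleCat.{u} A) n₁).map φ.hom₁).hom
      ((HomologySequence.δ T n₀ n₁ h).hom x) := by
  have := congrArg (fun f => f.hom x) (δ_naturality φ n₀ n₁ h)
  simpa using this

lemma mor₁_naturality_apply (n : ℤ)
    (x : ((homologyFunctor (ModuleCat.{u} A) n).obj T.obj₁ : ModuleCat.{u} A)) :
    ((homologyFunctor (ModuleCat.{u} A) n).map T'.mor₁).hom
      (((homologyFunctor (ModuleCat.{u} A) n).map φ.hom₁).hom x) =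
    ((homologyFunctor (ModuleCat.{u} A) n).map φ.hom₂).hom
      (((homologyFunctor (ModuleCat.{u} A) n).map T.mor₁).hom x) := by
  have h1 : (homologyFunctor (ModuleCat.{u} A) n).map φ.hom₁ ≫
      (homologyFunctor (ModuleCat.{u} A) n).map T'.mor₁ =
      (homologyFunctor (ModuleCat.{u} A) n).map T.mor₁ ≫
        (homologyFunctor (ModuleCat.{u} A) n).map φ.hom₂ := by
    rw [← Functor.map_comp, ← Functor.map_comp, φ.comm₁]
  exact congrArg (fun f => f.hom x) h1

lemma mor₂_naturality_apply (n : ℤ)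
    (x : ((homologyFunctor (ModuleCat.{u} A) n).obj T.obj₂ : ModuleCat.{u} A)) :
    ((homologyFunctor (ModuleCat.{u} A) n).map T'.mor₂).hom
      (((homologyFunctor (ModuleCat.{u} A) n).map φ.hom₂).hom x) =
    ((homologyFunctor (ModuleCat.{u} A) n).map φ.hom₃).hom
      (((homologyFunctor (ModuleCat.{u} A) n).map T.mor₂).hom x) := by
  have h1 : (homologyFunctor (ModuleCat.{u} A) n).map φ.hom₂ ≫
      (homologyFunctor (ModuleCat.{u} A) n).map T'.mor₂ =
      (homologyFunctor (ModuleCat.{u} A) n).map T.mor₂ ≫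
        (homologyFunctor (ModuleCat.{u} A) n).map φ.hom₃ := by
    rw [← Functor.map_comp, ← Functor.map_comp, φ.comm₂]
  exact congrArg (fun f => f.hom x) h1

include hT in
lemma exact₁_apply (n₀ n₁ : ℤ) (h : n₀ + 1 = n₁) :
    Function.Exact (HomologySequence.δ T n₀ n₁ h).hom
      ((homologyFunctor (ModuleCat.{u} A) n₁).map T.mor₁).hom :=
  (ShortComplex.ShortExact.moduleCat_exact_iff_function_exact _).1
    (HomologySequence.exact₁ T hT n₀ n₁ h)

include hT in
lemma exact₂_apply (n : ℤ) :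
    Function.Exact ((homologyFunctor (ModuleCat.{u} A) n).map T.mor₁).hom
      ((homologyFunctor (ModuleCat.{u} A) n).map T.mor₂).hom :=
  (ShortComplex.ShortExact.moduleCat_exact_iff_function_exact _).1
    (HomologySequence.exact₂ T hT n)

include hT in
lemma exact₃_apply (n₀ n₁ : ℤ) (h : n₀ + 1 = n₁) :
    Function.Exact ((homologyFunctor (ModuleCat.{u} A) n₀).map T.mor₂).hom
      (HomologySequence.δ T n₀ n₁ h).hom :=
  (ShortComplex.ShortExact.moduleCat_exact_iff_function_exact _).1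
    (HomologySequence.exact₃ T hT n₀ n₁ h)

include hT hT' in
/-- the five lemma for the middle map of a morphism of distinguished triangles -/
theorem bijective_hom₂ (n₀ n₁ n₂ : ℤ) (h01 : n₀ + 1 = n₁) (h12 : n₁ + 1 = n₂)
    (h1 : Function.Surjective ((homologyFunctor (ModuleCat.{u} A) n₀).map φ.hom₃).hom)
    (h2 : Function.Bijective ((homologyFunctor (ModuleCat.{u} A) n₁).map φ.hom₁).hom)
    (h4 : Function.Bijective ((homologyFunctor (ModuleCat.{u} A) n₁).map φ.hom₃).hom)
    (h5 : Function.Injective ((homologyFunctor (ModuleCat.{u} A) n₂).map φ.hom₁).hom) :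
    Function.Bijective ((homologyFunctor (ModuleCat.{u} A) n₁).map φ.hom₂).hom := by
  refine LinearMap.bijective_of_surjective_of_bijective_of_bijective_of_injective
    (HomologySequence.δ T n₀ n₁ h01).hom
    ((homologyFunctor (ModuleCat.{u} A) n₁).map T.mor₁).hom
    ((homologyFunctor (ModuleCat.{u} A) n₁).map T.mor₂).hom
    (HomologySequence.δ T n₁ n₂ h12).hom
    (HomologySequence.δ T' n₀ n₁ h01).hom
    ((homologyFunctor (ModuleCat.{u} A) n₁).map T'.mor₁).hom
    ((homologyFunctor (ModuleCat.{u} A) n₁).map T'.mor₂).hom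
    (HomologySequence.δ T' n₁ n₂ h12).hom
    ((homologyFunctor (ModuleCat.{u} A) n₀).map φ.hom₃).hom
    ((homologyFunctor (ModuleCat.{u} A) n₁).map φ.hom₁).hom
    ((homologyFunctor (ModuleCat.{u} A) n₁).map φ.hom₂).hom
    ((homologyFunctor (ModuleCat.{u} A) n₁).map φ.hom₃).hom
    ((homologyFunctor (ModuleCat.{u} A) n₂).map φ.hom₁).hom
    ?_ ?_ ?_ ?_
    (exact₁_apply hT n₀ n₁ h01) (exact₂_apply hT n₁) (exact₃_apply hT n₁ n₂ h12)
    (exact₁_apply hT' n₀ n₁ h01) (exact₂_apply hT' n₁) (exact₃_apply hT' n₁ n₂ h12)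
    h1 h2 h4 h5
  · apply LinearMap.ext
    intro x
    exact δ_naturality_apply φ n₀ n₁ h01 x
  · apply LinearMap.ext
    intro x
    exact mor₁_naturality_apply φ n₁ x
  · apply LinearMap.ext
    intro x
    exact mor₂_naturality_apply φ n₁ x
  · apply LinearMap.ext
    intro x
    exact δ_naturality_apply φ n₁ n₂ h12 x

include hT' in
/-- if `H^{n₁}(T'.mor₁) = 0` and `H^{n₀}(φ₃)` is onto, then `H^{n₁}(φ₁)` is onto -/
theorem surjective_hom₁ (n₀ n₁ : ℤ) (h01 : n₀ + 1 = n₁)
    (h0 : ∀ x, ((homologyFunctor (ModuleCat.{u} A) n₁).map T'.mor₁).hom x = 0)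
    (h3 : Function.Surjective ((homologyFunctor (ModuleCat.{u} A) n₀).map φ.hom₃).hom) :
    Function.Surjective ((homologyFunctor (ModuleCat.{u} A) n₁).map φ.hom₁).hom := by
  intro z
  obtain ⟨w, rfl⟩ := (exact₁_apply hT' n₀ n₁ h01 z).1 (h0 z)
  obtain ⟨w', rfl⟩ := h3 w
  exact ⟨_, (δ_naturality_apply φ n₀ n₁ h01 w').symm⟩

include hT hT' in
/-- if `H^{n₁}(T.mor₁) = 0`, `H^{n₀}(φ₃)` is injective and `H^{n₀}(φ₂)` is onto,
then `H^{n₁}(φ₁)` is injective -/
theorem injective_hom₁ (n₀ n₁ : ℤ) (h01 : n₀ + 1 = n₁)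
    (h0 : ∀ x, ((homologyFunctor (ModuleCat.{u} A) n₁).map T.mor₁).hom x = 0)
    (h3 : Function.Injective ((homologyFunctor (ModuleCat.{u} A) n₀).map φ.hom₃).hom)
    (h2 : Function.Surjective ((homologyFunctor (ModuleCat.{u} A) n₀).map φ.hom₂).hom) :
    Function.Injective ((homologyFunctor (ModuleCat.{u} A) n₁).map φ.hom₁).hom := by
  rw [injective_iff_map_eq_zero]
  intro y hy
  obtain ⟨w', rfl⟩ := (exact₁_apply hT n₀ n₁ h01 y).1 (h0 y)
  have h1 := δ_naturality_apply φ n₀ n₁ h01 w'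
  rw [hy] at h1
  obtain ⟨v₀, hv₀⟩ := (exact₃_apply hT' n₀ n₁ h01 _).1 h1
  obtain ⟨v', rfl⟩ := h2 v₀
  rw [mor₂_naturality_apply] at hv₀
  have := h3 hv₀
  rw [← this]
  exact (exact₃_apply hT n₀ n₁ h01 _).2 ⟨v', rfl⟩

end LES

section Cmp

variable (I : Ideal A) [DRing.HasDerivedCompletion I]

/-- the derived completion of a distinguished triangle is distinguished, compatibly with the
completion units -/
theorem exists_distinguished_cmp' (T : Triangle (Dual.D A)) (hT : T ∈ distTriang _) :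
    ∃ δ : (cmp I).obj T.obj₃ ⟶ ((cmp I).obj T.obj₁)⟦(1 : ℤ)⟧,
      Triangle.mk ((cmp I).map T.mor₁) ((cmp I).map T.mor₂) δ ∈ distTriang _ ∧
      T.mor₃ ≫ (DRing.toDerivedCompletion I T.obj₁)⟦(1 : ℤ)⟧' =
        DRing.toDerivedCompletion I T.obj₃ ≫ δ := by
  obtain ⟨C', p', δ', hT'⟩ := distinguished_cocone_triangle ((cmp I).map T.mor₁)
  obtain ⟨c, hc₂, hc₃⟩ := complete_distinguished_triangle_morphism _ _ hT hT'
    (DRing.toDerivedCompletion I T.obj₁) (DRing.toDerivedCompletion I T.obj₂)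
    (Groth.Agent.Lib.helper19.DCB1.η_naturality I T.mor₁).symm
  have hC' : DRing.IsDerivedComplete I C' :=
    isDerivedComplete_third I _ hT' (isDerivedComplete_cmp I T.obj₁) (isDerivedComplete_cmp I T.obj₂)
  have hu := isUniv_cone (DRing.IsDerivedComplete I)
    (fun M hM => isDerivedComplete_shift I M hM (-1)) _ _ hT hT'
    (DRing.toDerivedCompletion I T.obj₁) (DRing.toDerivedCompletion I T.obj₂) c
    (Groth.Agent.Lib.helper19.DCB1.η_naturality I T.mor₁).symm hc₂ hc₃
    (isUniv_toDerivedCompletion I T.obj₁) (isUniv_toDerivedCompletion I T.obj₂)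
  obtain ⟨e, he⟩ := nonempty_derivedCompletion_iso I T.obj₃ C' c hC' hu
  have hp : (cmp I).map T.mor₂ ≫ e.hom = p' := by
    apply (isUniv_toDerivedCompletion I T.obj₂ C' hC').1
    show DRing.toDerivedCompletion I T.obj₂ ≫ (cmp I).map T.mor₂ ≫ e.hom =
      DRing.toDerivedCompletion I T.obj₂ ≫ p'
    rw [← Category.assoc, Groth.Agent.Lib.helper19.DCB1.η_naturality, Category.assoc, he]
    exact hc₂
  refine ⟨e.hom ≫ δ', isomorphic_distinguished _ hT' _ ?_, ?_⟩
  · refine Triangle.isoMk _ _ (Iso.refl _) (Iso.refl _) e ?_ ?_ ?_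
    · exact (Category.comp_id _).trans (Category.id_comp _).symm
    · exact hp.trans (Category.id_comp _).symm
    · show (e.hom ≫ δ') ≫ (shiftFunctor (Dual.D A) (1 : ℤ)).map (𝟙 _) = e.hom ≫ δ'
      rw [CategoryTheory.Functor.map_id, Category.comp_id]
  · rw [← Category.assoc, he]
    exact hc₃

/-- the completion units as a morphism of triangles -/
noncomputable def ηTriangle (T : Triangle (Dual.D A))
    (δ : (cmp I).obj T.obj₃ ⟶ ((cmp I).obj T.obj₁)⟦(1 : ℤ)⟧)
    (hδ : T.mor₃ ≫ (DRing.toDerivedCompletion I T.obj₁)⟦(1 : ℤ)⟧' =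
        DRing.toDerivedCompletion I T.obj₃ ≫ δ) :
    T ⟶ Triangle.mk ((cmp I).map T.mor₁) ((cmp I).map T.mor₂) δ where
  hom₁ := DRing.toDerivedCompletion I T.obj₁
  hom₂ := DRing.toDerivedCompletion I T.obj₂
  hom₃ := DRing.toDerivedCompletion I T.obj₃
  comm₁ := (Groth.Agent.Lib.helper19.DCB1.η_naturality I T.mor₁).symm
  comm₂ := (Groth.Agent.Lib.helper19.DCB1.η_naturality I T.mor₂).symm
  comm₃ := hδ

end Cmp

end Groth.Agent.Lib.helper19.DCB5
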