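import Mathlib
import Groth.Prelude.Def_DRing3
import Groth.Prelude.Def_Wider
import Groth.Agent.Lib.Helper19.DCB5

/-!
# DCB6 (helper19): comparing `RΓ_J M` with its derived completion, dévissage steps

* `KK J` (`M ↦ RΓ_J (M[0])`), `Good I J M i` (`H^i(RΓ_J M) → H^i((RΓ_J M)^∧)` is bijective).
* `exists_triangles`: the triangles of `KK` and `FF` attached to a short exact sequence and
  the compatibility of their connecting maps with the completion units.
* `good_of_complete`: dévissage along a submodule with derived complete `RΓ_J`.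
* `good_of_regular`: the inductive step along a regular element killing cohomology.
-/

set_option autoImplicit false
universe u
open CategoryTheory CategoryTheory.Limits DerivedCategory Pretriangulated

attribute [local instance] HasDerivedCategory.standard

namespace Groth.Agent.Lib.helper19.DCB6

open Groth.Agent.Lib.helper13.DComp Groth.Agent.Lib.helper13.RGam Groth.Agent.Lib.helper13.GM
  Groth.Agent.Lib.helper19.DCB0 Groth.Agent.Lib.helper19.DCB1 Groth.Agent.Lib.helper19.DCB2
  Groth.Agent.Lib.helper19.DCB3 Groth.Agent.Lib.helper19.DCB5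
  Groth.Agent.Lib.helper19.DHomLinear Groth.Agent.Lib.helper23

variable {A : Type u} [CommRing A] [IsNoetherianRing A]
  (I J : Ideal A) [DRing.HasRgammaI J] [DRing.HasDerivedCompletion I]

/-- `M ↦ RΓ_J (M[0])` -/
noncomputable abbrev KK : ModuleCat.{u} A ⥤ Dual.D A :=
  singleFunctor (ModuleCat.{u} A) 0 ⋙ DRing.RgammaI J

/-- `H^i(RΓ_J M) → H^i((RΓ_J M)^∧)` is bijective -/
def Good (M : ModuleCat.{u} A) (i : ℤ) : Prop :=
  Function.Bijective ((homologyFunctor (ModuleCat.{u} A) i).map
    (DRing.toDerivedCompletion I ((KK J).obj M))).hom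

omit [DRing.HasDerivedCompletion I] in
lemma KK_map_smul_id (M : ModuleCat.{u} A) (a : A) :
    (KK J).map (a • 𝟙 M) = a • 𝟙 ((KK J).obj M) := by
  show (DRing.RgammaI J).map ((singleFunctor (ModuleCat.{u} A) 0).map (a • 𝟙 M)) = _
  rw [Functor.map_smul, RgammaI_map_smul, CategoryTheory.Functor.map_id,
    CategoryTheory.Functor.map_id]
  rfl

omit [DRing.HasDerivedCompletion I] in
lemma homology_KK_map_smul_id_apply (M : ModuleCat.{u} A) (y : A) (n : ℤ)
    (x : ((homologyFunctor (ModuleCat.{u} A) n).obj ((KK J).obj M) : ModuleCat.{u} A)) :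
    ((homologyFunctor (ModuleCat.{u} A) n).map ((KK J).map (y • 𝟙 M))).hom x = y • x := by
  rw [KK_map_smul_id, Functor.map_smul, CategoryTheory.Functor.map_id]
  rfl

/-- the two triangles attached to a short exact sequence, and the morphism between them -/
theorem exists_triangles (S : ShortComplex (ModuleCat.{u} A)) (hS : S.ShortExact) :
    ∃ (δ : (KK J).obj S.X₃ ⟶ ((KK J).obj S.X₁)⟦(1 : ℤ)⟧)
      (δ' : (FF I J).obj S.X₃ ⟶ ((FF I J).obj S.X₁)⟦(1 : ℤ)⟧),
      Triangle.mk ((KK J).map S.f) ((KK J).map S.g) δ ∈ distTriang _ ∧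
      Triangle.mk ((FF I J).map S.f) ((FF I J).map S.g) δ' ∈ distTriang _ ∧
      δ ≫ (DRing.toDerivedCompletion I ((KK J).obj S.X₁))⟦(1 : ℤ)⟧' =
        DRing.toDerivedCompletion I ((KK J).obj S.X₃) ≫ δ' := by
  have h1 := hS.singleTriangle_distinguished
  obtain ⟨δ₂, h2⟩ := exists_distinguished_RgammaI J _ h1
  obtain ⟨δ₃, h3, h4⟩ := exists_distinguished_cmp' I _ h2
  exact ⟨δ₂, δ₃, h2, h3, h4⟩

/-- dévissage step: if `RΓ_J(S.X₁)` is derived complete, then `Good` passes from `S.X₃` to
`S.X₂` -/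
theorem good_of_complete (S : ShortComplex (ModuleCat.{u} A)) (hS : S.ShortExact)
    (hc : DRing.IsDerivedComplete I ((KK J).obj S.X₁)) (s : ℤ)
    (h3 : ∀ i : ℤ, i ≤ s → Good I J S.X₃ i) : ∀ i : ℤ, i ≤ s → Good I J S.X₂ i := by
  intro i hi
  obtain ⟨δ, δ', hT, hT', hδ⟩ := exists_triangles I J S hS
  let φ := ηTriangle I (Triangle.mk ((KK J).map S.f) ((KK J).map S.g) δ) δ' hδ
  haveI := isIso_η_of_complete I _ hc
  have hb : ∀ n : ℤ, Function.Bijective ((homologyFunctor (ModuleCat.{u} A) n).map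
      (DRing.toDerivedCompletion I ((KK J).obj S.X₁))).hom :=
    fun n => (ConcreteCategory.isIso_iff_bijective _).1 inferInstance
  exact bijective_hom₂ hT hT' φ (i - 1) i (i + 1) (by omega) rfl
    (h3 (i - 1) (by omega)).2 (hb i) (h3 i hi) (hb (i + 1)).1

/-- the inductive step: if `x` kills the cohomology of `RΓ_J M` and of its completion in degrees
`≤ s + 1`, then `Good` in degrees `≤ s` for `M/xM` implies `Good` in degrees `≤ s + 1` for `M`. -/
theorem good_of_regular (M M'' : ModuleCat.{u} A) (x : A) (g : M ⟶ M'') (w : (x • 𝟙 M) ≫ g = 0)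
    (hS : (ShortComplex.mk (x • 𝟙 M) g w).ShortExact) (s : ℤ)
    (hk : ∀ i : ℤ, i ≤ s + 1 →
      ∀ z : ((homologyFunctor (ModuleCat.{u} A) i).obj ((KK J).obj M) : ModuleCat.{u} A),
        x • z = 0)
    (hk' : ∀ i : ℤ, i ≤ s + 1 →
      ∀ z : ((homologyFunctor (ModuleCat.{u} A) i).obj ((FF I J).obj M) : ModuleCat.{u} A),
        x • z = 0)
    (h3 : ∀ i : ℤ, i ≤ s → Good I J M'' i) : ∀ i : ℤ, i ≤ s + 1 → Good I J M i := by
  obtain ⟨δ, δ', hT, hT', hδ⟩ := exists_triangles I J _ hS
  let φ := ηTriangle I (Triangle.mk ((KK J).map (x • 𝟙 M)) ((KK J).map g) δ) δ' hδ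
  have hsurj : ∀ i : ℤ, i ≤ s + 1 → Function.Surjective ((homologyFunctor (ModuleCat.{u} A) i).map
      (DRing.toDerivedCompletion I ((KK J).obj M))).hom := by
    intro i hi
    refine surjective_hom₁ hT' φ (i - 1) i (by omega) (fun z => ?_) (h3 (i - 1) (by omega)).2
    exact (homology_FF_map_smul_id_apply I J M x i z).trans (hk' i hi z)
  intro i hi
  refine ⟨?_, hsurj i hi⟩
  refine injective_hom₁ hT hT' φ (i - 1) i (by omega) (fun z => ?_) (h3 (i - 1) (by omega)).1
    (hsurj (i - 1) (by omega))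
  exact (homology_KK_map_smul_id_apply J M x i z).trans (hk i hi z)

end Groth.Agent.Lib.helper19.DCB6
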