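import Mathlib
import Groth.Prelude.Def_DRing3
import Groth.Prelude.Def_Wider
import Groth.Agent.Lib.Helper19.DCB6

/-!
# DCB7 (helper19): `H^i(RΓ_J M) → H^i((RΓ_J M)^∧)` in degrees `≤ 0`

* `mem_range_ε_of_mem_torsionSub`: `Γ_J(M)` is contained in the image of `H^0(RΓ_J M) → M`.
* `good_zero`: for `A` Noetherian `I`-adically complete, `M` finite, and `J` such that
  `Γ_{J'}(M) ⊆ Γ_J(M)` for all `J' ⊆ J` with `V(J') ∩ V(I) = V(J) ∩ V(I)`, the map
  `H^i(RΓ_J M) → H^i((RΓ_J M)^∧)` is bijective for `i ≤ 0`.
-/

set_option autoImplicit false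
universe u
open CategoryTheory CategoryTheory.Limits DerivedCategory Pretriangulated

attribute [local instance] HasDerivedCategory.standard

namespace Groth.Agent.Lib.helper19.DCB7

open Groth.Agent.Lib.helper13.DComp Groth.Agent.Lib.helper13.RGam Groth.Agent.Lib.helper13.GM
  Groth.Agent.Lib.helper19.DCB0 Groth.Agent.Lib.helper19.DCB1 Groth.Agent.Lib.helper19.DCB2
  Groth.Agent.Lib.helper19.DCB3 Groth.Agent.Lib.helper19.DCB4 Groth.Agent.Lib.helper19.DCB5
  Groth.Agent.Lib.helper19.DCB6 Groth.Agent.Lib.helper19.DCAnn3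
  Groth.Agent.Lib.helper19.DHomLinear Groth.Agent.Lib.helper23

variable {A : Type u} [CommRing A] [IsNoetherianRing A]
  (I J : Ideal A) [DRing.HasRgammaI J] [DRing.HasDerivedCompletion I]

omit [DRing.HasDerivedCompletion I] in
/-- `J`-power torsion elements lie in the image of `H^0(RΓ_J M) → H^0(M[0]) = M` -/
theorem mem_range_ε_of_mem_torsionSub (M : Type u) [AddCommGroup M] [Module A M] (s : M)
    (hs : s ∈ DRing.torsionSub J M) :
    ((singleFunctorCompHomologyFunctorIso (ModuleCat.{u} A) 0).inv.app (ModuleCat.of A M)).hom s ∈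
      Set.range ((homologyFunctor (ModuleCat.{u} A) 0).map
        ((DRing.RgammaIε J).app ((singleFunctor (ModuleCat.{u} A) 0).obj (ModuleCat.of A M)))).hom := by
  let N₀ : Submodule A M := DRing.torsionSub J M
  let N : ModuleCat.{u} A := ModuleCat.of A N₀
  let ι : N ⟶ ModuleCat.of A M := ModuleCat.ofHom N₀.subtype
  let s' : N := ⟨s, hs⟩
  have hN : LocCoh.IsPowerTorsion J N := by
    rintro ⟨m, n, hn⟩
    refine ⟨n, fun a ha => ?_⟩
    apply Subtype.ext
    exact hn a ha
  haveI := isIso_RgammaIε_app J _ (torsD_single J N hN)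
  have hbij : Function.Bijective ((homologyFunctor (ModuleCat.{u} A) 0).map
      ((DRing.RgammaIε J).app ((singleFunctor (ModuleCat.{u} A) 0).obj N))).hom :=
    (ConcreteCategory.isIso_iff_bijective _).1 inferInstance
  obtain ⟨t, ht⟩ := hbij.2
    (((singleFunctorCompHomologyFunctorIso (ModuleCat.{u} A) 0).inv.app N).hom s')
  refine ⟨((homologyFunctor (ModuleCat.{u} A) 0).map ((KK J).map ι)).hom t, ?_⟩
  have h1 := (DRing.RgammaIε J).naturality ((singleFunctor (ModuleCat.{u} A) 0).map ι)
  simp only [Functor.id_map, Functor.id_obj] at h1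
  have h2 := congrArg (fun φ => (ModuleCat.Hom.hom
    ((homologyFunctor (ModuleCat.{u} A) 0).map φ)) t) h1
  simp only [Functor.map_comp] at h2
  have h3 : ((homologyFunctor (ModuleCat.{u} A) 0).map
      ((DRing.RgammaIε J).app ((singleFunctor (ModuleCat.{u} A) 0).obj (ModuleCat.of A M)))).hom
      (((homologyFunctor (ModuleCat.{u} A) 0).map ((KK J).map ι)).hom t) =
      ((homologyFunctor (ModuleCat.{u} A) 0).map ((singleFunctor (ModuleCat.{u} A) 0).map ι)).hom
        (((homologyFunctor (ModuleCat.{u} A) 0).map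
          ((DRing.RgammaIε J).app ((singleFunctor (ModuleCat.{u} A) 0).obj N))).hom t) := h2
  rw [h3, ht]
  have h4 := (singleFunctorCompHomologyFunctorIso (ModuleCat.{u} A) 0).inv.naturality ι
  have h5 := congrArg (fun φ => (ModuleCat.Hom.hom φ) s') h4
  exact h5.symm

/-- the base case: bijectivity in degrees `≤ 0` -/
theorem good_zero [IsAdicComplete I A] (M : Type u) [AddCommGroup M] [Module A M]
    [Module.Finite A M]
    (hJ : ∀ J' : Ideal A, J' ≤ J → J ≤ (J' ⊔ I).radical →
      DRing.torsionSub J' M ≤ DRing.torsionSub J M) :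
    ∀ i : ℤ, i ≤ 0 → Good I J (ModuleCat.of A M) i := by
  intro i hi
  rcases lt_or_eq_of_le hi with hi | rfl
  · -- both sides vanish
    haveI h1 := ModuleCat.subsingleton_of_isZero (isZero_HD_RgammaI_inD_of_neg J M i hi)
    haveI h2 := ModuleCat.subsingleton_of_isZero (isZero_homology_FF_of_neg I J M i hi)
    constructor
    · intro a b _
      exact h1.elim a b
    · intro b
      exact ⟨0, h2.elim _ _⟩
  · let MM : ModuleCat.{u} A := ModuleCat.of A M
    haveI : Module.Finite A MM := inferInstanceAs (Module.Finite A M)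
    have hnat := η_naturality I ((DRing.RgammaIε J).app ((singleFunctor (ModuleCat.{u} A) 0).obj MM))
    have hcomp : ∀ t : ((homologyFunctor (ModuleCat.{u} A) 0).obj ((KK J).obj MM) :
        ModuleCat.{u} A),
        ((homologyFunctor (ModuleCat.{u} A) 0).map ((ψ I J).app MM)).hom
          (((homologyFunctor (ModuleCat.{u} A) 0).map
            (DRing.toDerivedCompletion I ((KK J).obj MM))).hom t) =
        ((homologyFunctor (ModuleCat.{u} A) 0).map (DRing.toDerivedCompletion I
          ((singleFunctor (ModuleCat.{u} A) 0).obj MM))).hom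
          (((homologyFunctor (ModuleCat.{u} A) 0).map ((DRing.RgammaIε J).app
            ((singleFunctor (ModuleCat.{u} A) 0).obj MM))).hom t) := by
      intro t
      have h2 := congrArg (fun φ => (ModuleCat.Hom.hom
        ((homologyFunctor (ModuleCat.{u} A) 0).map φ)) t) hnat
      simp only [Functor.map_comp] at h2
      exact h2
    haveI hi2 := isIso_η_of_complete I _ (isDerivedComplete_single_of_finite I MM)
    have hb2 : Function.Bijective ((homologyFunctor (ModuleCat.{u} A) 0).map
        (DRing.toDerivedCompletion I ((singleFunctor (ModuleCat.{u} A) 0).obj MM))).hom :=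
      (ConcreteCategory.isIso_iff_bijective _).1 inferInstance
    constructor
    · intro a b hab
      apply injective_homology_ε J MM
      apply hb2.1
      rw [← hcomp, ← hcomp, hab]
    · intro z
      obtain ⟨s, hs⟩ := (bijective_uu I MM).2
        (((homologyFunctor (ModuleCat.{u} A) 0).map ((ψ I J).app MM)).hom z)
      have hmem : (uu I MM).hom s ∈ Set.range
          ((homologyFunctor (ModuleCat.{u} A) 0).map ((ψ I J).app MM)).hom := ⟨z, hs.symm⟩
      obtain ⟨J', h1, h2, h3⟩ := exists_torsion_of_mem_range I J M s hmem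
      have h4 : s ∈ DRing.torsionSub J M := hJ J' h1 h2 h3
      obtain ⟨t, ht⟩ := mem_range_ε_of_mem_torsionSub J M s h4
      refine ⟨t, ?_⟩
      apply injective_homology_ψ I J M
      refine (hcomp t).trans ?_
      rw [ht]
      exact hs

end Groth.Agent.Lib.helper19.DCB7
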