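import Mathlib
import Groth.Prelude.Def_DRing3
import Groth.Prelude.Def_Wider
import Groth.Agent.Lib.Helper19.DCAnn4
import Groth.Agent.Lib.Helper13.GM3

/-!
# DCB8 (helper19): uniform annihilators of `H^i((RΓ_J M)^∧)` in a local ring

* `torsD_of_pow_le`, `nonempty_RgammaI_iso_of_pow_le`: `RΓ_𝔞` only depends on the radical of `𝔞`.
* `kills_of_kills`: if `f` kills `H^j(RΓ_{J+I} M)` for `j ≤ d + s` (`cd(A, I) ≤ d`), then
  `f^(d+s+1)` kills `H^i((RΓ_J M)^∧)` for `i ≤ s`.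
* `exists_kills_uniform`: `(A, m)` local with a dualizing complex, `depth M_p + dim A/p > d + s`:
  some `f ∉ p` kills `H^i((RΓ_J M)^∧)`, `i ≤ s`, for ALL `J ⊆ m` with `m^k ⊆ J + I`.
-/

set_option autoImplicit false
universe u
open CategoryTheory CategoryTheory.Limits DerivedCategory Pretriangulated

attribute [local instance] HasDerivedCategory.standard

namespace Groth.Agent.Lib.helper19.DCB8

open Groth.Agent.Lib.helper13.DComp Groth.Agent.Lib.helper23.SplitTrunc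
  Groth.Agent.Lib.helper19.DCAnn1 Groth.Agent.Lib.helper19.DCAnn2 Groth.Agent.Lib.helper19.DCAnn3
  Groth.Agent.Lib.helper19.DCAnn4
  Groth.Agent.Lib.helper23 Groth.Agent.Lib.helper13.RGam Groth.Agent.Lib.helper13.GM

variable {A : Type u} [CommRing A] [IsNoetherianRing A]

section Rad

omit [IsNoetherianRing A] in
lemma torsD_of_pow_le {𝔞 𝔟 : Ideal A} (k : ℕ) (h : 𝔟 ^ k ≤ 𝔞) (K : Dual.D A)
    (hK : TorsD 𝔞 K) : TorsD 𝔟 K := by
  intro i x
  obtain ⟨n, hn⟩ := hK i x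
  refine ⟨k * n, fun a ha => hn a ?_⟩
  rw [pow_mul] at ha
  exact Ideal.pow_right_mono h n ha

variable (𝔞 𝔟 : Ideal A) [DRing.HasRgammaI 𝔞] [DRing.HasRgammaI 𝔟]

/-- `RΓ_𝔞` only depends on the radical of `𝔞` -/
theorem nonempty_RgammaI_iso_of_pow_le (k l : ℕ) (h1 : 𝔟 ^ k ≤ 𝔞) (h2 : 𝔞 ^ l ≤ 𝔟)
    (X : Dual.D A) :
    Nonempty ((DRing.RgammaI 𝔞).obj X ≅ (DRing.RgammaI 𝔟).obj X) := by
  have ha : TorsD 𝔟 ((DRing.RgammaI 𝔞).obj X) :=
    torsD_of_pow_le k h1 _ (torsD_RgammaI 𝔞 X)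
  have hb : TorsD 𝔞 ((DRing.RgammaI 𝔟).obj X) :=
    torsD_of_pow_le l h2 _ (torsD_RgammaI 𝔟 X)
  obtain ⟨u, hu⟩ := (bijective_postcomp_RgammaIε 𝔟 ha X).2 ((DRing.RgammaIε 𝔞).app X)
  obtain ⟨v, hv⟩ := (bijective_postcomp_RgammaIε 𝔞 hb X).2 ((DRing.RgammaIε 𝔟).app X)
  simp only at hu hv
  refine ⟨⟨u, v, ?_, ?_⟩⟩
  · apply (bijective_postcomp_RgammaIε 𝔞 (torsD_RgammaI 𝔞 X) X).1
    show (u ≫ v) ≫ (DRing.RgammaIε 𝔞).app X = 𝟙 _ ≫ (DRing.RgammaIε 𝔞).app X
    rw [Category.assoc, hv, hu, Category.id_comp]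
  · apply (bijective_postcomp_RgammaIε 𝔟 (torsD_RgammaI 𝔟 X) X).1
    show (v ≫ u) ≫ (DRing.RgammaIε 𝔟).app X = 𝟙 _ ≫ (DRing.RgammaIε 𝔟).app X
    rw [Category.assoc, hu, hv, Category.id_comp]

end Rad

section Main

/-- annihilators of the cohomology of the derived `I`-completion of `RΓ_J(M)`, given an
annihilator of the cohomology of `RΓ_{J + I}(M)` -/
theorem kills_of_kills (I J : Ideal A) [DRing.HasRgammaI J] [DRing.HasRgammaI (J ⊔ I)]
    [DRing.HasDerivedCompletion I] (M : Type u) [AddCommGroup M] [Module A M] [Module.Finite A M]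
    (s d : ℕ) (h3 : LocCoh.CdLE A I d) (f : A)
    (hk : ∀ j : ℤ, j ≤ ((d + s : ℕ) : ℤ) →
      ∀ x : Dual.HD A ((DRing.RgammaI (J ⊔ I)).obj (Dual.inD A M)) j, f • x = 0) :
    ∀ i : ℤ, i ≤ s →
      ∀ x : Dual.HD A ((DRing.derivedCompletion I).obj
        ((DRing.RgammaI J).obj (Dual.inD A M))).obj i, f ^ (d + s + 1) • x = 0 := by
  haveI : DRing.HasRgammaI I := CechD.hasRgammaI I
  obtain ⟨e1⟩ := (greenlees_may I ((DRing.RgammaI J).obj (Dual.inD A M))).2
  obtain ⟨e2⟩ := nonempty_RgammaI_comp_iso J I (Dual.inD A M)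
  let L : Dual.D A := (DRing.RgammaI (J ⊔ I)).obj (Dual.inD A M)
  let e : ((DRing.derivedCompletion I).obj ((DRing.RgammaI J).obj (Dual.inD A M))).obj ≅
      ((DRing.derivedCompletion I).obj L).obj :=
    (ObjectProperty.ι (DRing.IsDerivedComplete I)).mapIso
      (e1.symm ≪≫ (DRing.derivedCompletion I).mapIso e2)
  let n₀ : ℤ := ((d + s : ℕ) : ℤ)
  let L' : Dual.D A := ((tA A).truncLT (n₀ + 1)).obj L
  let φ : L' ⟶ L := ((tA A).truncLTι (n₀ + 1)).app L
  haveI hL'LE : L'.IsLE (n₀ + 1 - 1) := by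
    dsimp [L']; infer_instance
  have hiso : ∀ j : ℤ, j < n₀ + 1 → IsIso ((homologyFunctor (ModuleCat.{u} A) j).map φ) :=
    fun j hj => isIso_homologyMap_truncLTι L (n₀ + 1) j hj
  -- `f ^ N` kills the identity of `L'`
  have hL' : f ^ (d + s + 1) • 𝟙 L' = 0 := by
    refine pow_smul_id_eq_zero f (d + s) L' 0 (fun j hj => ?_) (fun j hj => ?_) (fun j x => ?_)
    · have := hiso j (by omega)
      exact (isZero_HD_RgammaI_inD_of_neg (J ⊔ I) M j hj).of_iso
        (@asIso _ _ _ _ _ this)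
    · exact isZero_of_isLE L' (n₀ + 1 - 1) j (by simp only [zero_add] at hj; omega)
    · by_cases hj : j < n₀ + 1
      · have := hiso j hj
        exact smul_eq_zero_of_iso (@asIso _ _ _ _ _ this) f (hk j (by omega)) x
      · haveI : Subsingleton ((homologyFunctor (ModuleCat.{u} A) j).obj L' : ModuleCat.{u} A) :=
          ModuleCat.subsingleton_of_isZero (isZero_of_isLE L' (n₀ + 1 - 1) j (by omega))
        exact Subsingleton.elim _ _
  have hL'c := smul_id_derivedCompletion I L' _ hL'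
  -- surjectivity on cohomology of the completions
  have hepi : ∀ n : ℤ, n ≤ s → Epi ((homologyFunctor (ModuleCat.{u} A) n).map
      ((DRing.derivedCompletion I).map φ).hom) := by
    intro n hn
    refine (epi_mono_completion_of_cdLE I d h3 φ (n₀ + 1) (fun m hm => ?_) n (by
      simp only [n₀]; push_cast; omega)).1
    have := hiso m hm
    refine ⟨inferInstance, ?_⟩
    by_cases hm' : m + 1 < n₀ + 1
    · have := hiso (m + 1) hm'
      infer_instance
    · have hz : IsZero ((homologyFunctor (ModuleCat.{u} A) (m + 1)).obj L') :=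
        isZero_of_isLE L' (n₀ + 1 - 1) (m + 1) (by omega)
      exact ⟨fun a b _ => hz.eq_of_tgt a b⟩
  intro i hi x
  refine smul_eq_zero_of_iso ((homologyFunctor (ModuleCat.{u} A) i).mapIso e) _ (fun y => ?_) x
  haveI := hepi i hi
  obtain ⟨z, rfl⟩ := (ModuleCat.epi_iff_surjective _).1 this y
  rw [← map_smul, smul_homology_eq_zero _ _ hL'c, map_zero]

/-- uniform annihilators: in a local ring, some `f ∉ p` kills `H^i((RΓ_J M)^∧)`, `i ≤ s`, for all
`J` with `m^k ≤ J + I` -/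
theorem exists_kills_uniform [IsLocalRing A] (hdc : ∃ ω : Dual.D A, Dual.IsDualizing A ω)
    (I : Ideal A) [DRing.HasDerivedCompletion I] (hI : I ≤ IsLocalRing.maximalIdeal A)
    (M : Type u) [AddCommGroup M] [Module A M] [Module.Finite A M]
    (p : PrimeSpectrum A) (s d : ℕ) (h3 : LocCoh.CdLE A I d)
    (hp : (((d + s : ℕ) : ℕ∞) : WithBot ℕ∞) < ((LocCoh.depth (Localization.AtPrime p.asIdeal)
      (LocalizedModule p.asIdeal.primeCompl M) : ℕ∞) : WithBot ℕ∞) +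
        ringKrullDim (A ⧸ p.asIdeal)) :
    ∃ f : A, f ∉ p.asIdeal ∧ ∀ (J : Ideal A) [DRing.HasRgammaI J],
      J ≤ IsLocalRing.maximalIdeal A → (∃ k : ℕ, IsLocalRing.maximalIdeal A ^ k ≤ J ⊔ I) →
      ∀ i : ℤ, i ≤ s →
      ∀ x : Dual.HD A ((DRing.derivedCompletion I).obj
        ((DRing.RgammaI J).obj (Dual.inD A M))).obj i, f • x = 0 := by
  haveI : DRing.HasRgammaI (IsLocalRing.maximalIdeal A) := CechD.hasRgammaI _
  obtain ⟨f, hf, hk⟩ := exists_kills_HD_RgammaI hdc (IsLocalRing.maximalIdeal A) M p (d + s)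
    (fun p' q hp' hq hpq => local_cond hdc ⊥ M p (d + s) hp p' q hp' (sup_le hq bot_le) hpq)
  refine ⟨f ^ (d + s + 1), fun hmem => hf (p.2.mem_of_pow_mem _ hmem), ?_⟩
  intro J _ hJ ⟨k, hk'⟩ i hi x
  haveI : DRing.HasRgammaI (J ⊔ I) := CechD.hasRgammaI _
  obtain ⟨e⟩ := nonempty_RgammaI_iso_of_pow_le (IsLocalRing.maximalIdeal A) (J ⊔ I) 1 k
    (by rw [pow_one]; exact sup_le hJ hI) hk' (Dual.inD A M)
  refine kills_of_kills I J M s d h3 f (fun j hj y => ?_) i hi x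
  exact smul_eq_zero_of_iso ((homologyFunctor (ModuleCat.{u} A) j).mapIso e.symm) f
    (hk j (by exact_mod_cast hj)) y

end Main

end Groth.Agent.Lib.helper19.DCB8
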