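import Mathlib
import Groth.Prelude.Def_DRing3
import Groth.Prelude.Def_Wider
import Groth.Prelude.Def_CAlg
import Groth.Agent.Lib.Helper26.DepthLoc
import Groth.Agent.Lib.Helper23.Falt14

/-!
# DCB9 (helper19): commutative algebra for the bootstrap lemma (Stacks 52.9)

`(A, m)` Noetherian local, `I ⊆ m`.
* `torsionSub_anti`, `exists_pow_kills_torsionSub`, `mem_torsionSub_mul_of_mk_mem`,
  `torsionSub_quotient_eq_bot`, `torsionSub_quotient_eq_bot_of`.
* `ZL I J` (`V(J) ∩ V(I) = {m}`), `zl_iff`, `zl_inf`, `zl_mul`, `zl_pow`, `zl_of_le_radical`,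
  `exists_pow_le_of_zl`, `exists_max_torsion`, `torsionSub_quotient_max_eq_bot`.
* `Cond I d s M` (the depth condition), `depth_quot_torsion`, `cond_quot_torsion`,
  `cond_quotSMulTop`, `exists_isSMulRegular_mem`, `exists_regular`.
-/

set_option autoImplicit false
universe u
open IsLocalRing

namespace Groth.Agent.Lib.helper19.DCB9

open Groth.Agent.Lib.helper26.Depth Groth.Agent.Lib.helper23

section Tors

variable {A : Type u} [CommRing A]

lemma torsionSub_anti {J J' : Ideal A} (h : J ≤ J') (M : Type u) [AddCommGroup M] [Module A M] :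
    DRing.torsionSub J' M ≤ DRing.torsionSub J M := by
  rintro m ⟨n, hn⟩
  exact ⟨n, fun a ha => hn a (Ideal.pow_right_mono h n ha)⟩

lemma mem_torsionSub_of_smul_eq_zero (J : Ideal A) (M : Type u) [AddCommGroup M] [Module A M]
    (m : M) (h : ∀ a ∈ J, a • m = 0) : m ∈ DRing.torsionSub J M :=
  ⟨1, fun a ha => h a (by rwa [pow_one] at ha)⟩

/-- a uniform exponent for the torsion submodule of a Noetherian module -/
lemma exists_pow_kills_torsionSub (𝔞 : Ideal A) (M : Type u) [AddCommGroup M] [Module A M]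
    [IsNoetherian A M] :
    ∃ k : ℕ, ∀ a ∈ 𝔞 ^ k, ∀ x ∈ DRing.torsionSub 𝔞 M, a • x = 0 := by
  classical
  obtain ⟨S, hS⟩ := (IsNoetherian.noetherian (DRing.torsionSub 𝔞 M) : (DRing.torsionSub 𝔞 M).FG)
  have hmem : ∀ g ∈ S, g ∈ DRing.torsionSub 𝔞 M := fun g hg => by
    rw [← hS]; exact Submodule.subset_span hg
  choose! e he using fun g (hg : g ∈ S) => hmem g hg
  refine ⟨S.sup e, fun a ha x hx => ?_⟩
  rw [← hS] at hx
  refine Submodule.span_induction (p := fun x _ => a • x = 0) ?_ ?_ ?_ ?_ hx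
  · intro g hg
    exact he g hg a (Ideal.pow_le_pow_right (Finset.le_sup hg) ha)
  · exact smul_zero a
  · intro x y _ _ hx hy
    rw [smul_add, hx, hy, add_zero]
  · intro c x _ hx
    rw [smul_comm, hx, smul_zero]

/-- torsion in the quotient by a torsion submodule -/
lemma mem_torsionSub_mul_of_mk_mem (𝔞 𝔟 : Ideal A) (M : Type u) [AddCommGroup M] [Module A M]
    [IsNoetherian A M] (s : M)
    (h : (Submodule.Quotient.mk s : M ⧸ DRing.torsionSub 𝔞 M) ∈
      DRing.torsionSub 𝔟 (M ⧸ DRing.torsionSub 𝔞 M)) :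
    s ∈ DRing.torsionSub (𝔞 * 𝔟) M := by
  obtain ⟨k, hk⟩ := exists_pow_kills_torsionSub 𝔞 M
  obtain ⟨n, hn⟩ := h
  refine ⟨k + n, fun c hc => ?_⟩
  have h1 : (𝔞 * 𝔟) ^ (k + n) ≤ 𝔞 ^ k * 𝔟 ^ n := by
    rw [mul_pow]
    exact Ideal.mul_mono (Ideal.pow_le_pow_right (Nat.le_add_right k n))
      (Ideal.pow_le_pow_right (Nat.le_add_left n k))
  have h2 : 𝔞 ^ k * 𝔟 ^ n ≤ (Submodule.span A {s}).annihilator := by
    rw [Ideal.mul_le]
    intro a ha b hb
    rw [Submodule.mem_annihilator_span_singleton, mul_smul]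
    have h3 : b • s ∈ DRing.torsionSub 𝔞 M := by
      have := hn b hb
      rw [← Submodule.Quotient.mk_smul, Submodule.Quotient.mk_eq_zero] at this
      exact this
    exact hk a ha _ h3
  exact (Submodule.mem_annihilator_span_singleton _ _).1 (h2 (h1 hc))

lemma torsionSub_mul_self_le (𝔞 : Ideal A) (M : Type u) [AddCommGroup M] [Module A M] :
    DRing.torsionSub (𝔞 * 𝔞) M ≤ DRing.torsionSub 𝔞 M := by
  rintro m ⟨n, hn⟩
  refine ⟨2 * n, fun a ha => hn a ?_⟩
  rw [← pow_two, ← pow_mul]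
  exact ha

/-- `M / Γ_𝔞(M)` has no `𝔞`-torsion -/
lemma torsionSub_quotient_eq_bot (𝔞 : Ideal A) (M : Type u) [AddCommGroup M] [Module A M]
    [IsNoetherian A M] :
    DRing.torsionSub 𝔞 (M ⧸ DRing.torsionSub 𝔞 M) = ⊥ := by
  rw [eq_bot_iff]
  intro x hx
  obtain ⟨s, rfl⟩ := Submodule.Quotient.mk_surjective _ x
  rw [Submodule.mem_bot, Submodule.Quotient.mk_eq_zero]
  exact torsionSub_mul_self_le 𝔞 M (mem_torsionSub_mul_of_mk_mem 𝔞 𝔞 M s hx)

/-- if `M` has no `I`-torsion then neither has `M / Γ_𝔞(M)` -/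
lemma torsionSub_quotient_eq_bot_of (I 𝔞 : Ideal A) (M : Type u) [AddCommGroup M] [Module A M]
    [IsNoetherian A M] (hI : DRing.torsionSub I M = ⊥) :
    DRing.torsionSub I (M ⧸ DRing.torsionSub 𝔞 M) = ⊥ := by
  rw [eq_bot_iff]
  intro x hx
  obtain ⟨s, rfl⟩ := Submodule.Quotient.mk_surjective _ x
  rw [Submodule.mem_bot, Submodule.Quotient.mk_eq_zero]
  obtain ⟨k, hk⟩ := exists_pow_kills_torsionSub 𝔞 M
  obtain ⟨n, hn⟩ := hx
  refine ⟨k, fun a ha => ?_⟩
  have h1 : a • s ∈ DRing.torsionSub I M := by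
    refine ⟨n, fun b hb => ?_⟩
    have h3 : b • s ∈ DRing.torsionSub 𝔞 M := by
      have := hn b hb
      rw [← Submodule.Quotient.mk_smul, Submodule.Quotient.mk_eq_zero] at this
      exact this
    rw [smul_comm]
    exact hk a ha _ h3
  rw [hI] at h1
  exact h1

end Tors

section ZL

variable {A : Type u} [CommRing A] [IsLocalRing A] (I : Ideal A)

/-- `V(J) ∩ V(I) = {m}` -/
def ZL (J : Ideal A) : Prop :=
  PrimeSpectrum.zeroLocus ((J : Ideal A) : Set A) ∩
    PrimeSpectrum.zeroLocus ((I : Ideal A) : Set A) = {IsLocalRing.closedPoint A}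

variable {I}

lemma zl_iff (hI : I ≤ maximalIdeal A) (J : Ideal A) :
    ZL I J ↔ J ≤ maximalIdeal A ∧
      ∀ q : PrimeSpectrum A, J ≤ q.asIdeal → I ≤ q.asIdeal → q = closedPoint A := by
  unfold ZL
  constructor
  · intro h
    have hcp : closedPoint A ∈ PrimeSpectrum.zeroLocus ((J : Ideal A) : Set A) ∩
        PrimeSpectrum.zeroLocus ((I : Ideal A) : Set A) := by
      rw [h]; exact Set.mem_singleton _
    refine ⟨fun a ha => hcp.1 ha, fun q hJ hI' => ?_⟩
    have : q ∈ PrimeSpectrum.zeroLocus ((J : Ideal A) : Set A) ∩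
        PrimeSpectrum.zeroLocus ((I : Ideal A) : Set A) := ⟨hJ, hI'⟩
    rw [h] at this
    exact this
  · rintro ⟨hJ, h⟩
    ext q
    constructor
    · rintro ⟨h1, h2⟩
      exact h q h1 h2
    · intro hq
      rw [Set.mem_singleton_iff] at hq
      subst hq
      exact ⟨hJ, hI⟩

lemma zl_maximalIdeal (hI : I ≤ maximalIdeal A) : ZL I (maximalIdeal A) := by
  rw [zl_iff hI]
  refine ⟨le_rfl, fun q hq _ => ?_⟩
  apply PrimeSpectrum.ext
  exact ((maximalIdeal.isMaximal A).eq_of_le q.2.ne_top hq).symm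

lemma zl_inf (hI : I ≤ maximalIdeal A) {J₁ J₂ : Ideal A} (h1 : ZL I J₁) (h2 : ZL I J₂) :
    ZL I (J₁ ⊓ J₂) := by
  rw [zl_iff hI] at h1 h2 ⊢
  refine ⟨inf_le_left.trans h1.1, fun q hq hI' => ?_⟩
  rcases (Ideal.IsPrime.inf_le q.2).1 hq with h | h
  · exact h1.2 q h hI'
  · exact h2.2 q h hI'

lemma zl_mul (hI : I ≤ maximalIdeal A) {J₁ J₂ : Ideal A} (h1 : ZL I J₁) (h2 : ZL I J₂) :
    ZL I (J₁ * J₂) := by
  rw [zl_iff hI] at h1 h2 ⊢
  refine ⟨Ideal.mul_le_right.trans h2.1, fun q hq hI' => ?_⟩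
  rcases (Ideal.IsPrime.mul_le q.2).1 hq with h | h
  · exact h1.2 q h hI'
  · exact h2.2 q h hI'

lemma zl_pow (hI : I ≤ maximalIdeal A) {J : Ideal A} (h : ZL I J) (n : ℕ) :
    ZL I (J ^ (n + 1)) := by
  rw [zl_iff hI] at h ⊢
  refine ⟨(Ideal.pow_le_self (Nat.succ_ne_zero n)).trans h.1, fun q hq hI' => ?_⟩
  haveI := q.2
  exact h.2 q (Ideal.IsPrime.le_of_pow_le hq) hI'

lemma zl_of_le_radical (hI : I ≤ maximalIdeal A) {J J' : Ideal A} (h : ZL I J) (hle : J' ≤ J)
    (hrad : J ≤ (J' ⊔ I).radical) : ZL I J' := by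
  rw [zl_iff hI] at h ⊢
  refine ⟨hle.trans h.1, fun q hq hI' => ?_⟩
  haveI := q.2
  refine h.2 q (hrad.trans ?_) hI'
  exact (Ideal.IsPrime.radical_le_iff q.2).2 (sup_le hq hI')

lemma exists_pow_le_of_zl [IsNoetherianRing A] (hI : I ≤ maximalIdeal A) {J : Ideal A}
    (h : ZL I J) : ∃ k : ℕ, maximalIdeal A ^ k ≤ J ⊔ I := by
  rw [zl_iff hI] at h
  refine Ideal.exists_pow_le_of_le_radical_of_fg ?_ (IsNoetherian.noetherian _)
  rw [Ideal.radical_eq_sInf]
  refine le_sInf ?_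
  rintro q ⟨hq, hqp⟩
  have := h.2 ⟨q, hqp⟩ (le_sup_left.trans hq) (le_sup_right.trans hq)
  rw [PrimeSpectrum.ext_iff] at this
  exact this.ge

/-- a maximal torsion submodule `Γ_{J₀}(M)`, `V(J₀) ∩ V(I) = {m}` -/
lemma exists_max_torsion (hI : I ≤ maximalIdeal A) (M : Type u) [AddCommGroup M] [Module A M]
    [IsNoetherian A M] :
    ∃ J₀ : Ideal A, ZL I J₀ ∧ ∀ J' : Ideal A, ZL I J' →
      DRing.torsionSub J' M ≤ DRing.torsionSub J₀ M := by
  obtain ⟨N, ⟨J₀, hJ₀, rfl⟩, hmax⟩ := set_has_maximal_iff_noetherian.2 ‹IsNoetherian A M›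
    {N : Submodule A M | ∃ J : Ideal A, ZL I J ∧ N = DRing.torsionSub J M}
    ⟨_, maximalIdeal A, zl_maximalIdeal hI, rfl⟩
  refine ⟨J₀, hJ₀, fun J' hJ' => ?_⟩
  have h1 : DRing.torsionSub J₀ M ≤ DRing.torsionSub (J₀ ⊓ J') M := torsionSub_anti inf_le_left M
  have h2 : DRing.torsionSub J' M ≤ DRing.torsionSub (J₀ ⊓ J') M := torsionSub_anti inf_le_right M
  have h3 := hmax _ ⟨J₀ ⊓ J', zl_inf hI hJ₀ hJ', rfl⟩
  have h4 : DRing.torsionSub J₀ M = DRing.torsionSub (J₀ ⊓ J') M := by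
    by_contra hne
    exact h3 (lt_of_le_of_ne h1 hne)
  rw [h4]
  exact h2

/-- after dividing by a maximal `Γ_{J₀}`, there is no `J'`-torsion left -/
lemma torsionSub_quotient_max_eq_bot (hI : I ≤ maximalIdeal A) (M : Type u) [AddCommGroup M]
    [Module A M] [IsNoetherian A M] (J₀ : Ideal A) (hJ₀ : ZL I J₀)
    (hmax : ∀ J' : Ideal A, ZL I J' → DRing.torsionSub J' M ≤ DRing.torsionSub J₀ M)
    (J' : Ideal A) (hJ' : ZL I J') :
    DRing.torsionSub J' (M ⧸ DRing.torsionSub J₀ M) = ⊥ := by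
  rw [eq_bot_iff]
  intro x hx
  obtain ⟨s, rfl⟩ := Submodule.Quotient.mk_surjective _ x
  rw [Submodule.mem_bot, Submodule.Quotient.mk_eq_zero]
  exact hmax _ (zl_mul hI hJ₀ hJ') (mem_torsionSub_mul_of_mk_mem J₀ J' M s hx)

end ZL

section Cond

variable {A : Type u} [CommRing A] [IsNoetherianRing A] [IsLocalRing A] (I : Ideal A)

/-- the depth condition (c) of the bootstrap lemma -/
def Cond (d s : ℕ) (M : Type u) [AddCommGroup M] [Module A M] : Prop :=
  ∀ p : PrimeSpectrum A, ¬ I ≤ p.asIdeal →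
    (∃ r : PrimeSpectrum A, p ≤ r ∧ I ≤ r.asIdeal ∧ r.asIdeal ≠ IsLocalRing.maximalIdeal A) →
    (s : ℕ∞) ≤ LocCoh.depth (Localization.AtPrime p.asIdeal)
      (LocalizedModule p.asIdeal.primeCompl M) ∨
    (((d + s : ℕ) : ℕ∞) : WithBot ℕ∞) < ((LocCoh.depth (Localization.AtPrime p.asIdeal)
      (LocalizedModule p.asIdeal.primeCompl M) : ℕ∞) : WithBot ℕ∞) + ringKrullDim (A ⧸ p.asIdeal)

omit [IsNoetherianRing A] [IsLocalRing A] in
lemma bijective_map_mkQ_torsion (𝔞 : Ideal A) (p : Ideal A) [p.IsPrime] (h : ¬ 𝔞 ≤ p)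
    (M : Type u) [AddCommGroup M] [Module A M] :
    Function.Bijective (LocalizedModule.map p.primeCompl
      (Submodule.mkQ (DRing.torsionSub 𝔞 M))) := by
  refine ⟨?_, LocalizedModule.map_surjective _ _ (Submodule.mkQ_surjective _)⟩
  rw [injective_iff_map_eq_zero]
  intro x hx
  induction x using LocalizedModule.induction_on with
  | _ m t =>
    rw [LocalizedModule.map_mk, ← LocalizedModule.zero_mk t, LocalizedModule.mk_eq] at hx
    obtain ⟨c, hc⟩ := hx
    rw [smul_zero, smul_zero] at hc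
    have h1 : (c * t : A) • m ∈ DRing.torsionSub 𝔞 M := by
      rw [← Submodule.Quotient.mk_eq_zero, Submodule.Quotient.mk_smul]
      have := hc
      simp only [Submonoid.smul_def, Submodule.mkQ_apply, smul_smul] at this
      exact this
    obtain ⟨n, hn⟩ := h1
    obtain ⟨a, ha, hap⟩ := SetLike.not_le_iff_exists.1 h
    have h2 := hn (a ^ n) (Ideal.pow_mem_pow ha n)
    rw [← LocalizedModule.zero_mk 1, LocalizedModule.mk_eq]
    refine ⟨⟨a ^ n * (c * t), ?_⟩, ?_⟩
    · exact p.primeCompl.mul_mem (p.primeCompl.pow_mem hap n) (p.primeCompl.mul_mem c.2 t.2)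
    · rw [smul_zero, smul_zero, one_smul, Submonoid.mk_smul, mul_smul]
      exact h2

omit [IsNoetherianRing A] [IsLocalRing A] in
lemma depth_quot_torsion (𝔞 : Ideal A) (p : Ideal A) [p.IsPrime] (h : ¬ 𝔞 ≤ p)
    (M : Type u) [AddCommGroup M] [Module A M] :
    LocCoh.depth (Localization.AtPrime p)
      (LocalizedModule p.primeCompl (M ⧸ DRing.torsionSub 𝔞 M)) =
    LocCoh.depth (Localization.AtPrime p) (LocalizedModule p.primeCompl M) :=
  (idealDepth_congr (I := maximalIdeal (Localization.AtPrime p))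
    (LinearEquiv.ofBijective _ (bijective_map_mkQ_torsion 𝔞 p h M))).symm

omit [IsNoetherianRing A] in
lemma cond_quot_torsion (d s : ℕ) (M : Type u) [AddCommGroup M] [Module A M] (𝔞 : Ideal A)
    (h𝔞 : ∀ p : PrimeSpectrum A, ¬ I ≤ p.asIdeal →
      (∃ r : PrimeSpectrum A, p ≤ r ∧ I ≤ r.asIdeal ∧ r.asIdeal ≠ IsLocalRing.maximalIdeal A) →
      ¬ 𝔞 ≤ p.asIdeal)
    (hc : Cond I d s M) : Cond I d s (M ⧸ DRing.torsionSub 𝔞 M) := by
  intro p hp hr
  rw [depth_quot_torsion 𝔞 p.asIdeal (h𝔞 p hp hr) M]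
  exact hc p hp hr

lemma arith (a : ℕ∞) (D : WithBot ℕ∞) (n : ℕ)
    (h : (((n + 1 : ℕ) : ℕ∞) : WithBot ℕ∞) < ((a + 1 : ℕ∞) : WithBot ℕ∞) + D) :
    ((n : ℕ∞) : WithBot ℕ∞) < (a : WithBot ℕ∞) + D := by
  induction D using WithBot.recBotCoe with
  | bot => rw [WithBot.add_bot] at h; exact absurd h (not_lt_bot)
  | coe e =>
    rw [← WithBot.coe_add, WithBot.coe_lt_coe] at h ⊢
    induction a using ENat.recTopCoe with
    | top => rw [top_add]; exact ENat.natCast_lt_top n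
    | coe a =>
      induction e using ENat.recTopCoe with
      | top => rw [add_top]; exact ENat.natCast_lt_top n
      | coe e =>
        have h' : ((n + 1 : ℕ) : ℕ∞) < ((a + 1 + e : ℕ) : ℕ∞) := by exact_mod_cast h
        have : n + 1 < a + 1 + e := by exact_mod_cast h'
        have h2 : n < a + e := by omega
        exact_mod_cast h2

lemma cond_quotSMulTop (d s : ℕ) (M : Type u) [AddCommGroup M] [Module A M] [Module.Finite A M]
    (x : A) (hreg : IsSMulRegular M x) (hc : Cond I d (s + 1) M) :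
    Cond I d s (QuotSMulTop x M) := by
  intro p hp hr
  by_cases hx : x ∈ p.asIdeal
  · have h1 := depth_localization_quotSMulTop p.asIdeal M x hx hreg
    rcases hc p hp hr with h | h
    · left
      rw [← h1] at h
      have h' : ((s : ℕ∞) + 1) ≤ LocCoh.depth (Localization.AtPrime p.asIdeal)
          (LocalizedModule p.asIdeal.primeCompl (QuotSMulTop x M)) + 1 := by exact_mod_cast h
      exact (ENat.add_le_add_iff_right ENat.one_ne_top).1 h'
    · right
      rw [← h1] at h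
      exact arith _ _ (d + s) h
  · left
    haveI : Subsingleton (LocalizedModule p.asIdeal.primeCompl (QuotSMulTop x M)) := by
      rw [LocalizedModule.subsingleton_iff]
      intro m
      refine ⟨x, hx, ?_⟩
      obtain ⟨m, rfl⟩ := Submodule.Quotient.mk_surjective _ m
      rw [← Submodule.Quotient.mk_smul, Submodule.Quotient.mk_eq_zero]
      exact Submodule.smul_mem_pointwise_smul m x ⊤ Submodule.mem_top
    rw [Falt.depth_eq_top_of_subsingleton]
    exact le_top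

omit [IsLocalRing A] in
/-- prime avoidance: an ideal contained in no associated prime contains a regular element. -/
lemma exists_isSMulRegular_mem (𝔠 : Ideal A) (N : Type u) [AddCommGroup N] [Module A N]
    [Module.Finite A N] (h : ∀ q ∈ associatedPrimes A N, ¬ 𝔠 ≤ q) :
    ∃ x ∈ 𝔠, IsSMulRegular N x := by
  by_contra hcon
  push Not at hcon
  have hfin := associatedPrimes.finite A N
  have hsub : ((𝔠 : Ideal A) : Set A) ⊆
      ⋃ p ∈ (↑hfin.toFinset : Set (Ideal A)), (p : Set A) := by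
    intro x hx
    have hx' := hcon x hx
    have hmem : x ∈ ⋃ p ∈ associatedPrimes A N, (p : Set A) := by
      rw [biUnion_associatedPrimes_eq_compl_regular A N]
      exact hx'
    simp only [Set.mem_iUnion, SetLike.mem_coe, exists_prop] at hmem ⊢
    obtain ⟨p, hp, hxp⟩ := hmem
    exact ⟨p, hfin.mem_toFinset.mpr hp, hxp⟩
  obtain ⟨p, hp, hle⟩ := (Ideal.subset_union_prime (f := fun p : Ideal A => p) ⊤ ⊤
    (fun p hp _ _ => (hfin.mem_toFinset.mp hp).isPrime)).mp hsub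
  exact h p (hfin.mem_toFinset.mp hp) hle

/-- the regular element of the inductive step -/
lemma exists_regular (hI : I ≤ maximalIdeal A) (d s : ℕ) (M : Type u) [AddCommGroup M]
    [Module A M] [Module.Finite A M]
    (h1 : DRing.torsionSub I M = ⊥) (h2 : ∀ J' : Ideal A, ZL I J' → DRing.torsionSub J' M = ⊥)
    (hc : Cond I d (s + 1) M) (J₁ : Ideal A) (hJ₁ : ZL I J₁) (𝔟 : Ideal A)
    (h𝔟 : ∀ p : PrimeSpectrum A,
      (((d + (s + 1) : ℕ) : ℕ∞) : WithBot ℕ∞) < ((LocCoh.depth (Localization.AtPrime p.asIdeal)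
        (LocalizedModule p.asIdeal.primeCompl M) : ℕ∞) : WithBot ℕ∞) +
          ringKrullDim (A ⧸ p.asIdeal) → ¬ 𝔟 ≤ p.asIdeal) :
    ∃ x ∈ J₁ * I * 𝔟, IsSMulRegular M x := by
  apply exists_isSMulRegular_mem
  intro q hq hle
  have hqp : q.IsPrime := hq.isPrime
  obtain ⟨-, t, ht⟩ := isAssociatedPrime_iff.1 hq
  have hkill : ∀ a ∈ q, a • t = 0 := by
    intro a ha
    rw [ht, Submodule.mem_colon_singleton, Submodule.mem_bot] at ha
    exact ha
  have ht0 : t ≠ 0 := by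
    rintro rfl
    apply hqp.ne_top
    rw [Ideal.eq_top_iff_one, ht, Submodule.mem_colon_singleton, smul_zero]
    exact Submodule.zero_mem _
  have hnotI : ¬ I ≤ q := by
    intro hIq
    have : t ∈ DRing.torsionSub I M :=
      mem_torsionSub_of_smul_eq_zero I M t (fun a ha => hkill a (hIq ha))
    rw [h1] at this
    exact ht0 this
  have hnotJ : ∀ J' : Ideal A, ZL I J' → ¬ J' ≤ q := by
    intro J' hJ' hle'
    have : t ∈ DRing.torsionSub J' M :=
      mem_torsionSub_of_smul_eq_zero J' M t (fun a ha => hkill a (hle' ha))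
    rw [h2 J' hJ'] at this
    exact ht0 this
  rcases (Ideal.IsPrime.mul_le hqp).1 hle with h | h
  · rcases (Ideal.IsPrime.mul_le hqp).1 h with h | h
    · exact hnotJ J₁ hJ₁ h
    · exact hnotI h
  · let P : PrimeSpectrum A := ⟨q, hqp⟩
    have hrel : ∃ r : PrimeSpectrum A, P ≤ r ∧ I ≤ r.asIdeal ∧
        r.asIdeal ≠ IsLocalRing.maximalIdeal A := by
      by_contra hno
      push Not at hno
      apply hnotJ q _ le_rfl
      rw [zl_iff hI]
      refine ⟨IsLocalRing.le_maximalIdeal hqp.ne_top, fun r hr hIr => ?_⟩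
      exact PrimeSpectrum.ext (hno r hr hIr)
    obtain ⟨_, hd0⟩ := depth_localization_eq_zero_of_mem_associatedPrimes M q hq
    rcases hc P hnotI hrel with h' | h'
    · have h'' : ((s + 1 : ℕ) : ℕ∞) ≤ 0 := by
        rw [← hd0]; exact h'
      have : s + 1 ≤ 0 := by exact_mod_cast h''
      omega
    · exact h𝔟 P h' h

end Cond

end Groth.Agent.Lib.helper19.DCB9
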