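import Mathlib
import Groth.Prelude.Def_DRing3
import Groth.Prelude.Def_Wider
import Groth.Agent.Lib.Helper19.DCB7
import Groth.Agent.Lib.Helper19.DCB8
import Groth.Agent.Lib.Helper19.DCB9
import Groth.Agent.Lib.Helper19.ComplDepth2
import Groth.Agent.Lib.Helper19.Boot1
import Groth.Agent.S8790

/-!
# DCB10 (helper19): the bootstrap lemma `RΓ_J(M) → RΓ_J(M)^∧` (Stacks 52.9)

`(A, m)` Noetherian local, `I`-adically complete, with a dualizing complex, `cd(A, I) ≤ d`.
* `isDerivedComplete_of_pow_smul_id`, `isDerivedComplete_KK_of_pow_kills`,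
  `isDerivedComplete_KK_of_kills`, `kills_HD_of_kills_H`.
* `Concl I s M`, `concl_of_quotient`, `concl_of_regular`, `exists_J0_kills`, `killIdeal`.
* `main`: under the depth condition `Cond I d s M`, there is `J₀` with `V(J₀) ∩ V(I) = {m}` such
  that `H^i(RΓ_J M) → H^i((RΓ_J M)^∧)` is bijective for `i ≤ s` and all `J ⊆ J₀` with
  `V(J) ∩ V(I) = {m}`.
-/

set_option autoImplicit false
universe u
open CategoryTheory CategoryTheory.Limits DerivedCategory Pretriangulated IsLocalRing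

attribute [local instance] HasDerivedCategory.standard

namespace Groth.Agent.Lib.helper19.DCB10

open Groth.Agent.Lib.helper13.DComp Groth.Agent.Lib.helper13.RGam Groth.Agent.Lib.helper13.GM
  Groth.Agent.Lib.helper19.DCB0 Groth.Agent.Lib.helper19.DCB1 Groth.Agent.Lib.helper19.DCB2
  Groth.Agent.Lib.helper19.DCB3 Groth.Agent.Lib.helper19.DCB4 Groth.Agent.Lib.helper19.DCB5
  Groth.Agent.Lib.helper19.DCB6 Groth.Agent.Lib.helper19.DCB7 Groth.Agent.Lib.helper19.DCB8
  Groth.Agent.Lib.helper19.DCB9 Groth.Agent.Lib.helper19.DCAnn3 Groth.Agent.Lib.helper19.DCAnn4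
  Groth.Agent.Lib.helper19.DHomLinear Groth.Agent.Lib.helper23 Groth.Agent.Lib.helper23.LDual

variable {A : Type u} [CommRing A] [IsNoetherianRing A]

section General

variable (I : Ideal A)

omit [IsNoetherianRing A] in
/-- an object whose identity is killed by powers of the elements of `I` is derived `I`-complete -/
lemma isDerivedComplete_of_pow_smul_id (K : Dual.D A) (h : ∀ y ∈ I, ∃ k : ℕ, y ^ k • 𝟙 K = 0) :
    DRing.IsDerivedComplete I K := by
  intro f hf n
  refine ⟨fun φ ψ => ?_⟩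
  suffices H : ∀ φ : Dual.inD A (Localization.Away f) ⟶ K⟦n⟧, φ = 0 by rw [H φ, H ψ]
  intro φ
  have hbij : Function.Bijective (fun x : Localization.Away f => f • x) := by
    have h := IsLocalization.map_units (Localization.Away f)
      (⟨f, Submonoid.mem_powers f⟩ : Submonoid.powers f)
    have h' : IsUnit (algebraMap A (Localization.Away f) f) := h
    constructor
    · intro x x' hxx'
      have : algebraMap A (Localization.Away f) f * x = algebraMap A (Localization.Away f) f * x' := by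
        simpa [Algebra.smul_def] using hxx'
      exact h'.mul_left_cancel this
    · intro x
      obtain ⟨u, hu⟩ := h'
      refine ⟨(↑u⁻¹ : Localization.Away f) * x, ?_⟩
      show f • ((↑u⁻¹ : Localization.Away f) * x) = x
      rw [Algebra.smul_def, ← hu, ← mul_assoc, Units.mul_inv, one_mul]
  let m : ModuleCat.of A (Localization.Away f) ⟶ ModuleCat.of A (Localization.Away f) :=
    f • 𝟙 _
  haveI : IsIso m := by
    rw [ConcreteCategory.isIso_iff_bijective]
    exact hbij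
  let u : Dual.inD A (Localization.Away f) ⟶ Dual.inD A (Localization.Away f) :=
    (singleFunctor (ModuleCat.{u} A) 0).map m
  have hu : u = f • 𝟙 _ := by
    show (singleFunctor (ModuleCat.{u} A) 0).map (f • 𝟙 _) = _
    rw [Functor.map_smul, CategoryTheory.Functor.map_id]
  obtain ⟨k, hk⟩ := h f hf
  have hkφ : f ^ k • φ = 0 := by
    have : f ^ k • 𝟙 (K⟦n⟧) = 0 := by
      rw [← CategoryTheory.Functor.map_id, ← Functor.map_smul, hk, Functor.map_zero]
    rw [← Category.comp_id φ, ← Linear.comp_smul, this, comp_zero]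
  have key : ∀ (k : ℕ) (φ : Dual.inD A (Localization.Away f) ⟶ K⟦n⟧), f ^ k • φ = 0 → φ = 0 := by
    intro k
    induction k with
    | zero => intro φ h0; rwa [pow_zero, one_smul] at h0
    | succ k ih =>
      intro φ h0
      apply ih
      rw [← cancel_epi u, comp_zero, hu, Linear.smul_comp, Category.id_comp, smul_smul,
        ← pow_succ']
      exact h0
  exact key k φ hkφ

omit [IsNoetherianRing A] in
lemma isDerivedComplete_of_iso' {M M' : Dual.D A} (e : M ≅ M')
    (hM : DRing.IsDerivedComplete I M) : DRing.IsDerivedComplete I M' := by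
  intro f hf n
  haveI := hM f hf n
  let en : M⟦n⟧ ≅ M'⟦n⟧ := (shiftFunctor (Dual.D A) n).mapIso e
  exact ⟨fun a b => by rw [← cancel_mono en.inv]; exact Subsingleton.elim _ _⟩

/-- `RΓ_J(N)` is derived `I`-complete if `I^k N = 0` -/
lemma isDerivedComplete_KK_of_pow_kills (J : Ideal A) [DRing.HasRgammaI J] (N : ModuleCat.{u} A)
    (k : ℕ) (hk : ∀ a ∈ I ^ k, ∀ x : N, a • x = 0) :
    DRing.IsDerivedComplete I ((KK J).obj N) := by
  refine isDerivedComplete_of_pow_smul_id I _ (fun y hy => ⟨k, ?_⟩)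
  refine smul_id_RgammaI J _ _ ?_
  have : (y ^ k) • 𝟙 N = 0 := by
    ext m
    exact hk _ (Ideal.pow_mem_pow hy k) m
  rw [← CategoryTheory.Functor.map_id, ← Functor.map_smul, this, Functor.map_zero]

/-- `RΓ_J(N)` is derived `I`-complete if `J N = 0` (`N` finite, `A` complete) -/
lemma isDerivedComplete_KK_of_kills [IsAdicComplete I A] [DRing.HasDerivedCompletion I]
    (J : Ideal A) [DRing.HasRgammaI J]
    (N : ModuleCat.{u} A) [Module.Finite A N] (hk : ∀ a ∈ J, ∀ x : N, a • x = 0) :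
    DRing.IsDerivedComplete I ((KK J).obj N) := by
  have hN : LocCoh.IsPowerTorsion J N :=
    fun x => ⟨1, fun a ha => hk a (by rwa [pow_one] at ha) x⟩
  haveI := isIso_RgammaIε_app J _ (torsD_single J N hN)
  exact isDerivedComplete_of_iso' I
    (asIso ((DRing.RgammaIε J).app ((singleFunctor (ModuleCat.{u} A) 0).obj N))).symm
    (isDerivedComplete_single_of_finite I N)

/-- annihilators of `H^i(RΓ_J M)` from annihilators of `H^i_J(M)` -/
lemma kills_HD_of_kills_H (J : Ideal A) [DRing.HasRgammaI J] (M : Type u) [AddCommGroup M]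
    [Module A M] (a : A) (i : ℤ)
    (h : ∀ k : ℕ, (k : ℤ) = i → ∀ x : LocCoh.H J k M, a • x = 0) :
    ∀ x : Dual.HD A ((DRing.RgammaI J).obj (Dual.inD A M)) i, a • x = 0 := by
  intro x
  by_cases hi0 : i < 0
  · haveI : Subsingleton (Dual.HD A ((DRing.RgammaI J).obj (Dual.inD A M)) i) :=
      ModuleCat.subsingleton_of_isZero (isZero_HD_RgammaI_inD_of_neg J M i hi0)
    exact Subsingleton.elim _ _
  · obtain ⟨k, rfl⟩ : ∃ k : ℕ, i = k := ⟨i.toNat, by omega⟩
    obtain ⟨e3⟩ := HD_RgammaI_equiv_HDI J (Dual.inD A M) k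
    have e4 := HEquivHDI J k (ModuleCat.of A M)
    have h1 := h k rfl (e4.symm (e3 x))
    rw [← map_smul, ← map_smul] at h1
    have h2 := e4.symm.injective (h1.trans (map_zero _).symm)
    exact e3.injective (h2.trans (map_zero _).symm)

end General

section Local

variable [IsLocalRing A] (I : Ideal A) [DRing.HasDerivedCompletion I]

/-- the conclusion of the bootstrap lemma -/
def Concl (s : ℕ) (M : Type u) [AddCommGroup M] [Module A M] : Prop :=
  ∃ J₀ : Ideal A, ZL I J₀ ∧ ∀ (J : Ideal A) [DRing.HasRgammaI J], J ≤ J₀ → ZL I J →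
    ∀ i : ℤ, i ≤ s → Good I J (ModuleCat.of A M) i

/-- dévissage along a submodule with derived complete `RΓ_J` -/
lemma concl_of_quotient (hI : I ≤ maximalIdeal A) (s : ℕ) (M : Type u) [AddCommGroup M]
    [Module A M] (N : Submodule A M)
    (hN : ∃ J₁ : Ideal A, ZL I J₁ ∧ ∀ (J : Ideal A) [DRing.HasRgammaI J], J ≤ J₁ →
      DRing.IsDerivedComplete I ((KK J).obj (ModuleCat.of A N)))
    (h : Concl I s (M ⧸ N)) : Concl I s M := by
  obtain ⟨J₁, hJ₁, hc⟩ := hN
  obtain ⟨J₂, hJ₂, hg⟩ := h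
  refine ⟨J₁ ⊓ J₂, zl_inf hI hJ₁ hJ₂, fun J _ hle hJ i hi => ?_⟩
  let S : ShortComplex (ModuleCat.{u} A) := ShortComplex.mk
    (ModuleCat.ofHom N.subtype) (ModuleCat.ofHom N.mkQ) (by
    apply ModuleCat.hom_ext
    apply LinearMap.ext
    intro z
    exact (Submodule.Quotient.mk_eq_zero N).2 z.2)
  have hS : S.ShortExact := by
    refine ModuleCat.shortComplex_shortExact S ?_ Subtype.val_injective
      (Submodule.mkQ_surjective N)
    intro z
    constructor
    · intro hz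
      exact ⟨⟨z, (Submodule.Quotient.mk_eq_zero N).1 hz⟩, rfl⟩
    · rintro ⟨w, rfl⟩
      exact (Submodule.Quotient.mk_eq_zero N).2 w.2
  exact good_of_complete I J S hS (hc J (hle.trans inf_le_left)) (s : ℤ)
    (fun i hi => hg J (hle.trans inf_le_right) hJ i hi) i hi

open Pointwise in
/-- the inductive step along a regular element -/
lemma concl_of_regular (hI : I ≤ maximalIdeal A) (s : ℕ) (M : Type u) [AddCommGroup M]
    [Module A M] (x : A) (hreg : IsSMulRegular M x) (J₁ : Ideal A) (hJ₁ : ZL I J₁)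
    (hk : ∀ (J : Ideal A) [DRing.HasRgammaI J], J ≤ J₁ → ZL I J → ∀ i : ℤ,
      i ≤ ((s + 1 : ℕ) : ℤ) →
      (∀ z : Dual.HD A ((DRing.RgammaI J).obj (Dual.inD A M)) i, x • z = 0) ∧
      (∀ z : Dual.HD A ((DRing.derivedCompletion I).obj
        ((DRing.RgammaI J).obj (Dual.inD A M))).obj i, x • z = 0))
    (h : Concl I s (QuotSMulTop x M)) : Concl I (s + 1) M := by
  obtain ⟨J₂, hJ₂, hg⟩ := h
  refine ⟨J₁ ⊓ J₂, zl_inf hI hJ₁ hJ₂, fun J _ hle hJ i hi => ?_⟩
  let MM : ModuleCat.{u} A := ModuleCat.of A M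
  let g : MM ⟶ ModuleCat.of A (QuotSMulTop x M) :=
    ModuleCat.ofHom (Submodule.mkQ (x • (⊤ : Submodule A M)))
  have w : (x • 𝟙 MM) ≫ g = 0 := by
    apply ModuleCat.hom_ext
    apply LinearMap.ext
    intro z
    exact (Submodule.Quotient.mk_eq_zero _).2
      (Submodule.smul_mem_pointwise_smul z x ⊤ Submodule.mem_top)
  have hS : (ShortComplex.mk (x • 𝟙 MM) g w).ShortExact := by
    refine ModuleCat.shortComplex_shortExact _ ?_ ?_ (Submodule.mkQ_surjective _)
    · intro z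
      constructor
      · intro hz
        have h1 := (Submodule.Quotient.mk_eq_zero _).1 hz
        obtain ⟨y, -, hy⟩ := (Submodule.mem_smul_pointwise_iff_exists _ _ _).1 h1
        exact ⟨y, hy⟩
      · rintro ⟨y, rfl⟩
        exact (Submodule.Quotient.mk_eq_zero _).2
          (Submodule.smul_mem_pointwise_smul y x ⊤ Submodule.mem_top)
    · intro a b hab
      exact hreg hab
  have hi' : i ≤ (s : ℤ) + 1 := by push_cast at hi; exact hi
  exact good_of_regular I J MM _ x g w hS (s : ℤ)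
    (fun i hi z => (hk J (hle.trans inf_le_left) hJ i (by push_cast; exact hi)).1 z)
    (fun i hi z => (hk J (hle.trans inf_le_left) hJ i (by push_cast; exact hi)).2 z)
    (fun i hi => hg J (hle.trans inf_le_right) hJ i hi) i hi'

omit [DRing.HasDerivedCompletion I] in
/-- the ideal `J₀` of the algebraic bootstrap lemma, with uniform annihilators -/
theorem exists_J0_kills (hdc : ∃ ω : Dual.D A, Dual.IsDualizing A ω)
    (hI : I ≤ maximalIdeal A) (d : ℕ) (hcd : LocCoh.CdLE A I d)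
    (M : Type u) [AddCommGroup M] [Module A M] [Module.Finite A M] (s : ℕ)
    (hc : Cond I d s M) :
    ∃ J₁ : Ideal A, ZL I J₁ ∧ ∃ n : ℕ, ∀ a ∈ (J₁ * I) ^ n,
      ∀ (J : Ideal A) [DRing.HasRgammaI J], J ≤ J₁ → ZL I J → ∀ i : ℤ, i ≤ s →
        ∀ z : Dual.HD A ((DRing.RgammaI J).obj (Dual.inD A M)) i, a • z = 0 := by
  let T : Set (PrimeSpectrum A) := {p | ∀ q : PrimeSpectrum A, p ≤ q → I ≤ q.asIdeal →
    maximalIdeal A ≤ q.asIdeal}
  have hZm : ZL I (maximalIdeal A) := zl_maximalIdeal hI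
  have h3 : ∀ p : PrimeSpectrum A, ¬ I ≤ p.asIdeal → p ∈ T → ∃ q : PrimeSpectrum A,
      p ≤ q ∧ maximalIdeal A ≤ q.asIdeal ∧ I ≤ q.asIdeal ∧
      Formal2.dimBetween A p.asIdeal q.asIdeal ≤ ((d : ℕ∞) : WithBot ℕ∞) := by
    intro p hp hpT
    refine ⟨closedPoint A, IsLocalRing.le_maximalIdeal p.2.ne_top, le_rfl, hI, ?_⟩
    rw [Groth.Agent.Lib.helper19.Boot1.dimBetween_eq, ← ringKrullDim_quot_eq_krullDim_Icc]
    haveI := p.2
    have hrad : (p.asIdeal ⊔ I).radical = maximalIdeal A := by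
      apply le_antisymm
      · exact (Ideal.IsPrime.radical_le_iff (maximalIdeal.isMaximal A).isPrime).2
          (sup_le (le_maximalIdeal p.2.ne_top) hI)
      · rw [Ideal.radical_eq_sInf]
        refine le_sInf ?_
        rintro q ⟨hq, hqp⟩
        exact hpT ⟨q, hqp⟩ (le_sup_left.trans hq) (le_sup_right.trans hq)
    exact_mod_cast Groth.Agent.Lib.helper19.ComplDepth2.ringKrullDim_quot_le_of_cdLE I p.asIdeal
      hrad d hcd
  have h4 : ∀ p : PrimeSpectrum A, ¬ I ≤ p.asIdeal → p ∉ T → ∀ q : PrimeSpectrum A, p ≤ q →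
      maximalIdeal A ≤ q.asIdeal → I ≤ q.asIdeal →
      (s : ℕ∞) ≤ LocCoh.depth (Localization.AtPrime p.asIdeal)
        (LocalizedModule p.asIdeal.primeCompl M) ∨
      (((d + s : ℕ) : ℕ∞) : WithBot ℕ∞) < ((LocCoh.depth (Localization.AtPrime p.asIdeal)
        (LocalizedModule p.asIdeal.primeCompl M) : ℕ∞) : WithBot ℕ∞) +
          Formal2.dimBetween A p.asIdeal q.asIdeal := by
    intro p hp hpT q hpq hmq hIq
    have hq : q = closedPoint A :=
      PrimeSpectrum.ext ((maximalIdeal.isMaximal A).eq_of_le q.2.ne_top hmq).symm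
    subst hq
    rw [Groth.Agent.Lib.helper19.Boot1.dimBetween_eq, ← ringKrullDim_quot_eq_krullDim_Icc]
    apply hc p hp
    simp only [T, Set.mem_ofPred_eq, not_forall] at hpT
    obtain ⟨r, hpr, hIr, hmr⟩ := hpT
    exact ⟨r, hpr, hIr, fun h => hmr h.ge⟩
  obtain ⟨J₁, hJ₁m, hJ₁, hbij, n, hn⟩ := Groth.Agent.S8790.result A hdc I (maximalIdeal A) M s d T
    (fun p => Iff.rfl) h3 h4
  have hJ₁' : ZL I J₁ := hJ₁.trans hZm
  refine ⟨J₁, hJ₁', n, fun a ha J _ hle hJ i hi =>
    kills_HD_of_kills_H J M a i (fun k hk x => ?_)⟩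
  have hki : k ≤ s := by omega
  obtain ⟨y, rfl⟩ := (hbij J hle (hJ.trans hZm.symm) k hki).2 x
  rw [← map_smul, hn a ha k hki y, map_zero]

/-- the ideal of elements killing `H^i((RΓ_J M)^∧)`, `i ≤ s`, for all `J` with
`V(J) ∩ V(I) = {m}` -/
def killIdeal (M : Type u) [AddCommGroup M] [Module A M] (s : ℕ) : Ideal A where
  carrier := {a | ∀ (J : Ideal A) [DRing.HasRgammaI J], J ≤ maximalIdeal A →
    (∃ k : ℕ, maximalIdeal A ^ k ≤ J ⊔ I) → ∀ i : ℤ, i ≤ s →
    ∀ z : Dual.HD A ((DRing.derivedCompletion I).obj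
      ((DRing.RgammaI J).obj (Dual.inD A M))).obj i, a • z = 0}
  zero_mem' := fun J _ _ _ i _ z => zero_smul A z
  add_mem' := fun {a b} ha hb J _ h1 h2 i hi z => by
    rw [add_smul, ha J h1 h2 i hi z, hb J h1 h2 i hi z, add_zero]
  smul_mem' := fun c a ha J _ h1 h2 i hi z => by
    rw [smul_eq_mul, mul_smul, ha J h1 h2 i hi z, smul_zero]

lemma mem_killIdeal_iff (M : Type u) [AddCommGroup M] [Module A M] (s : ℕ) (a : A) :
    a ∈ killIdeal I M s ↔ ∀ (J : Ideal A) [DRing.HasRgammaI J], J ≤ maximalIdeal A →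
    (∃ k : ℕ, maximalIdeal A ^ k ≤ J ⊔ I) → ∀ i : ℤ, i ≤ s →
    ∀ z : Dual.HD A ((DRing.derivedCompletion I).obj
      ((DRing.RgammaI J).obj (Dual.inD A M))).obj i, a • z = 0 := Iff.rfl

/-- **the bootstrap lemma** (Stacks 52.9), by induction on `s` -/
theorem main [IsAdicComplete I A] (hdc : ∃ ω : Dual.D A, Dual.IsDualizing A ω) (d : ℕ)
    (hcd : LocCoh.CdLE A I d) :
    ∀ (s : ℕ) (M : Type u) [AddCommGroup M] [Module A M] [Module.Finite A M],
      Cond I d s M → Concl I s M := by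
  have hI : I ≤ maximalIdeal A := by
    have := IsAdicComplete.le_jacobson_bot I (R := A)
    rwa [IsLocalRing.jacobson_eq_maximalIdeal ⊥ bot_ne_top] at this
  intro s
  induction s with
  | zero =>
    intro M _ _ _ _
    haveI : IsNoetherian A M := isNoetherian_of_isNoetherianRing_of_finite A M
    obtain ⟨J₀, hJ₀, hmax⟩ := exists_max_torsion hI M
    refine ⟨J₀, hJ₀, fun J _ hle hJ i hi => ?_⟩
    refine good_zero I J M (fun J' hJ' hrad => ?_) i (by exact_mod_cast hi)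
    exact (hmax J' (zl_of_le_radical hI hJ hJ' hrad)).trans (torsionSub_anti hle M)
  | succ s ih =>
    intro M _ _ _ hc
    haveI : IsNoetherian A M := isNoetherian_of_isNoetherianRing_of_finite A M
    -- first reduction
    let N₁ : Submodule A M := DRing.torsionSub I M
    have hc₁ : Cond I d (s + 1) (M ⧸ N₁) :=
      cond_quot_torsion I d (s + 1) M I (fun p hp _ => hp) hc
    have ht₁ : DRing.torsionSub I (M ⧸ N₁) = ⊥ := torsionSub_quotient_eq_bot I M
    -- second reduction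
    obtain ⟨J₀, hJ₀, hmax⟩ := exists_max_torsion hI (M ⧸ N₁)
    let N₂ : Submodule A (M ⧸ N₁) := DRing.torsionSub J₀ (M ⧸ N₁)
    have hc₂ : Cond I d (s + 1) ((M ⧸ N₁) ⧸ N₂) := by
      refine cond_quot_torsion I d (s + 1) (M ⧸ N₁) J₀ (fun p hp hr hle => ?_) hc₁
      obtain ⟨r, hpr, hIr, hrm⟩ := hr
      have := ((zl_iff hI J₀).1 hJ₀).2 r (hle.trans hpr) hIr
      exact hrm (by rw [this]; rfl)
    have ht₂ : DRing.torsionSub I ((M ⧸ N₁) ⧸ N₂) = ⊥ :=
      torsionSub_quotient_eq_bot_of I J₀ (M ⧸ N₁) ht₁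
    have ht₂' : ∀ J' : Ideal A, ZL I J' → DRing.torsionSub J' ((M ⧸ N₁) ⧸ N₂) = ⊥ :=
      fun J' hJ' => torsionSub_quotient_max_eq_bot hI (M ⧸ N₁) J₀ hJ₀ hmax J' hJ'
    -- the core step
    have core : Concl I (s + 1) ((M ⧸ N₁) ⧸ N₂) := by
      obtain ⟨J₁, hJ₁, n, hn⟩ := exists_J0_kills I hdc hI d hcd ((M ⧸ N₁) ⧸ N₂) (s + 1) hc₂
      have h𝔟 : ∀ p : PrimeSpectrum A, (((d + (s + 1) : ℕ) : ℕ∞) : WithBot ℕ∞) <
          ((LocCoh.depth (Localization.AtPrime p.asIdeal)
            (LocalizedModule p.asIdeal.primeCompl ((M ⧸ N₁) ⧸ N₂)) : ℕ∞) : WithBot ℕ∞) +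
          ringKrullDim (A ⧸ p.asIdeal) → ¬ killIdeal I ((M ⧸ N₁) ⧸ N₂) (s + 1) ≤ p.asIdeal := by
        intro p hp hle
        obtain ⟨f, hf, hk⟩ := exists_kills_uniform hdc I hI ((M ⧸ N₁) ⧸ N₂) p (s + 1) d hcd hp
        refine hf (hle ?_)
        rw [mem_killIdeal_iff]
        intro J _ h1 h2 i hi z
        exact hk J h1 h2 i hi z
      obtain ⟨x, hx, hreg⟩ := exists_regular I hI d s ((M ⧸ N₁) ⧸ N₂) ht₂ ht₂' hc₂ J₁ hJ₁
        (killIdeal I ((M ⧸ N₁) ⧸ N₂) (s + 1)) h𝔟
      have hx1 : x ∈ J₁ * I := Ideal.mul_le_left hx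
      have hx2 : x ∈ killIdeal I ((M ⧸ N₁) ⧸ N₂) (s + 1) := Ideal.mul_le_right hx
      have hreg' : IsSMulRegular ((M ⧸ N₁) ⧸ N₂) (x ^ (n + 1)) := hreg.pow (n + 1)
      have hx1' : x ^ (n + 1) ∈ (J₁ * I) ^ n := by
        rw [pow_succ]
        exact Ideal.mul_mem_right _ _ (Ideal.pow_mem_pow hx1 n)
      have hx2' : x ^ (n + 1) ∈ killIdeal I ((M ⧸ N₁) ⧸ N₂) (s + 1) :=
        Ideal.pow_mem_of_mem _ hx2 (n + 1) (Nat.succ_pos n)
      have hc' : Cond I d s (QuotSMulTop (x ^ (n + 1)) ((M ⧸ N₁) ⧸ N₂)) :=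
        cond_quotSMulTop I d s ((M ⧸ N₁) ⧸ N₂) (x ^ (n + 1)) hreg' hc₂
      have hih := ih (QuotSMulTop (x ^ (n + 1)) ((M ⧸ N₁) ⧸ N₂)) hc'
      refine concl_of_regular I hI s ((M ⧸ N₁) ⧸ N₂) (x ^ (n + 1)) hreg' J₁ hJ₁
        (fun J _ hle hJ i hi => ⟨?_, ?_⟩) hih
      · exact hn _ hx1' J hle hJ i hi
      · exact (mem_killIdeal_iff I _ _ _).1 hx2' J ((zl_iff hI J).1 hJ).1
          (exists_pow_le_of_zl hI hJ) i hi
    -- back to `M ⧸ N₁`
    have c₁ : Concl I (s + 1) (M ⧸ N₁) := by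
      refine concl_of_quotient I hI (s + 1) (M ⧸ N₁) N₂ ?_ core
      obtain ⟨k, hk⟩ := exists_pow_kills_torsionSub J₀ (M ⧸ N₁)
      refine ⟨J₀ ^ (k + 1), zl_pow hI hJ₀ k, fun J _ hle => ?_⟩
      haveI : Module.Finite A (ModuleCat.of A N₂) := inferInstanceAs (Module.Finite A N₂)
      refine isDerivedComplete_KK_of_kills I J (ModuleCat.of A N₂) (fun a ha x => ?_)
      apply Subtype.ext
      exact hk a (Ideal.pow_le_pow_right (Nat.le_succ k) (hle ha)) x.1 x.2
    -- back to `M`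
    refine concl_of_quotient I hI (s + 1) M N₁ ?_ c₁
    obtain ⟨k, hk⟩ := exists_pow_kills_torsionSub I M
    refine ⟨maximalIdeal A, zl_maximalIdeal hI, fun J _ _ => ?_⟩
    refine isDerivedComplete_KK_of_pow_kills I J (ModuleCat.of A N₁) k (fun a ha x => ?_)
    apply Subtype.ext
    exact hk a ha x.1 x.2

end Local

end Groth.Agent.Lib.helper19.DCB10
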