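import Mathlib
import Groth.Prelude.Def_DRing3
import Groth.Prelude.Def_Wider
import Groth.Prelude.Def_CAlg
import Groth.Agent.Lib.Helper19.DCB9
import Groth.Agent.Lib.Helper26.DepthLoc2
import Groth.Prelude.Def_Formal2

/-!
# DCB11 (helper19): commutative algebra for the general bootstrap lemma (Stacks 52.10), part 1

* `ZJ I J J'` (`V(J') ∩ V(I) = V(J) ∩ V(I)`), `zj_iff`, `zj_inf`, `zj_mul`, `zj_pow`,
  `zj_of_le_radical`, `exists_pow_le_of_zj`, `exists_max_torsion'`,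
  `torsionSub_quotient_max_eq_bot'`.
* `farSub 𝔞 M` (elements killed by an element of `1 + 𝔞`), `exists_kills_farSub`,
  `farSub_quotient_eq_bot`, `torsionSub_quotient_farSub_eq_bot`.
* `Cond4`, `Cond5` (conditions (4), (5)), `bijective_map_mkQ_of_kills`, `depth_supportDim_quot`,
  `cond4_quot`, `cond5_quot`, `cond4_quotSMulTop`, `cond5_quotSMulTop`.
-/

set_option autoImplicit false
universe u

namespace Groth.Agent.Lib.helper19.DCB11

open Groth.Agent.Lib.helper26.Depth Groth.Agent.Lib.helper23 Groth.Agent.Lib.helper19.DCB9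

section ZJ

variable {A : Type u} [CommRing A] (I J : Ideal A)

/-- `V(J') ∩ V(I) = V(J) ∩ V(I)` -/
def ZJ (J' : Ideal A) : Prop :=
  PrimeSpectrum.zeroLocus ((J' : Ideal A) : Set A) ∩
    PrimeSpectrum.zeroLocus ((I : Ideal A) : Set A) =
  PrimeSpectrum.zeroLocus ((J : Ideal A) : Set A) ∩
    PrimeSpectrum.zeroLocus ((I : Ideal A) : Set A)

variable {I J}

lemma zj_iff (J' : Ideal A) :
    ZJ I J J' ↔ ∀ q : PrimeSpectrum A, I ≤ q.asIdeal → (J' ≤ q.asIdeal ↔ J ≤ q.asIdeal) := by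
  unfold ZJ
  constructor
  · intro h q hq
    have := Set.ext_iff.1 h q
    simp only [Set.mem_inter_iff, PrimeSpectrum.mem_zeroLocus, SetLike.coe_subset_coe] at this
    constructor
    · intro h1
      exact (this.1 ⟨h1, hq⟩).1
    · intro h1
      exact (this.2 ⟨h1, hq⟩).1
  · intro h
    ext q
    simp only [Set.mem_inter_iff, PrimeSpectrum.mem_zeroLocus, SetLike.coe_subset_coe]
    constructor
    · rintro ⟨h1, h2⟩
      exact ⟨(h q h2).1 h1, h2⟩
    · rintro ⟨h1, h2⟩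
      exact ⟨(h q h2).2 h1, h2⟩

lemma zj_refl : ZJ I J J := rfl

lemma zj_inf {J₁ J₂ : Ideal A} (h1 : ZJ I J J₁) (h2 : ZJ I J J₂) : ZJ I J (J₁ ⊓ J₂) := by
  rw [zj_iff] at h1 h2 ⊢
  intro q hq
  constructor
  · intro h
    rcases (Ideal.IsPrime.inf_le q.2).1 h with h | h
    · exact (h1 q hq).1 h
    · exact (h2 q hq).1 h
  · intro h
    exact inf_le_left.trans ((h1 q hq).2 h)

lemma zj_mul {J₁ J₂ : Ideal A} (h1 : ZJ I J J₁) (h2 : ZJ I J J₂) : ZJ I J (J₁ * J₂) := by
  rw [zj_iff] at h1 h2 ⊢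
  intro q hq
  constructor
  · intro h
    rcases (Ideal.IsPrime.mul_le q.2).1 h with h | h
    · exact (h1 q hq).1 h
    · exact (h2 q hq).1 h
  · intro h
    exact Ideal.mul_le_right.trans ((h2 q hq).2 h)

lemma zj_pow {J₁ : Ideal A} (h : ZJ I J J₁) (n : ℕ) : ZJ I J (J₁ ^ (n + 1)) := by
  rw [zj_iff] at h ⊢
  intro q hq
  haveI := q.2
  constructor
  · intro h'
    exact (h q hq).1 (Ideal.IsPrime.le_of_pow_le h')
  · intro h'
    exact (Ideal.pow_le_self (Nat.succ_ne_zero n)).trans ((h q hq).2 h')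

lemma zj_of_le_radical {J₁ J' : Ideal A} (h : ZJ I J J₁) (hle : J' ≤ J₁)
    (hrad : J₁ ≤ (J' ⊔ I).radical) : ZJ I J J' := by
  rw [zj_iff] at h ⊢
  intro q hq
  haveI := q.2
  constructor
  · intro h'
    exact (h q hq).1 (hrad.trans ((Ideal.IsPrime.radical_le_iff q.2).2 (sup_le h' hq)))
  · intro h'
    exact hle.trans ((h q hq).2 h')

lemma exists_pow_le_of_zj [IsNoetherianRing A] {J₁ J₂ : Ideal A} (h1 : ZJ I J J₁)
    (h2 : ZJ I J J₂) : ∃ k : ℕ, (J₁ ⊔ I) ^ k ≤ J₂ ⊔ I := by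
  rw [zj_iff] at h1 h2
  refine Ideal.exists_pow_le_of_le_radical_of_fg ?_ (IsNoetherian.noetherian _)
  rw [Ideal.radical_eq_sInf]
  refine le_sInf ?_
  rintro q ⟨hq, hqp⟩
  have hI : I ≤ q := le_sup_right.trans hq
  have hJ₂ : J₂ ≤ q := le_sup_left.trans hq
  exact sup_le ((h1 ⟨q, hqp⟩ hI).2 ((h2 ⟨q, hqp⟩ hI).1 hJ₂)) hI

/-- a maximal torsion submodule `Γ_{J₀}(M)`, `J₀ ⊆ J`, `V(J₀) ∩ V(I) = V(J) ∩ V(I)` -/
lemma exists_max_torsion' (I J : Ideal A) (M : Type u) [AddCommGroup M] [Module A M]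
    [IsNoetherian A M] :
    ∃ J₀ : Ideal A, J₀ ≤ J ∧ ZJ I J J₀ ∧ ∀ J' : Ideal A, J' ≤ J → ZJ I J J' →
      DRing.torsionSub J' M ≤ DRing.torsionSub J₀ M := by
  obtain ⟨N, ⟨J₀, hJ₀le, hJ₀, rfl⟩, hmax⟩ := set_has_maximal_iff_noetherian.2 ‹IsNoetherian A M›
    {N : Submodule A M | ∃ J' : Ideal A, J' ≤ J ∧ ZJ I J J' ∧ N = DRing.torsionSub J' M}
    ⟨_, J, le_rfl, zj_refl, rfl⟩
  refine ⟨J₀, hJ₀le, hJ₀, fun J' hJ'le hJ' => ?_⟩
  have h1 : DRing.torsionSub J₀ M ≤ DRing.torsionSub (J₀ ⊓ J') M := torsionSub_anti inf_le_left M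
  have h2 : DRing.torsionSub J' M ≤ DRing.torsionSub (J₀ ⊓ J') M := torsionSub_anti inf_le_right M
  have h3 := hmax _ ⟨J₀ ⊓ J', inf_le_left.trans hJ₀le, zj_inf hJ₀ hJ', rfl⟩
  have h4 : DRing.torsionSub J₀ M = DRing.torsionSub (J₀ ⊓ J') M := by
    by_contra hne
    exact h3 (lt_of_le_of_ne h1 hne)
  rw [h4]
  exact h2

lemma torsionSub_quotient_max_eq_bot' (M : Type u) [AddCommGroup M]
    [Module A M] [IsNoetherian A M] (J₀ : Ideal A) (hJ₀ : ZJ I J J₀)
    (hmax : ∀ J' : Ideal A, J' ≤ J → ZJ I J J' → DRing.torsionSub J' M ≤ DRing.torsionSub J₀ M)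
    (J' : Ideal A) (hJ'le : J' ≤ J) (hJ' : ZJ I J J') :
    DRing.torsionSub J' (M ⧸ DRing.torsionSub J₀ M) = ⊥ := by
  rw [eq_bot_iff]
  intro x hx
  obtain ⟨s, rfl⟩ := Submodule.Quotient.mk_surjective _ x
  rw [Submodule.mem_bot, Submodule.Quotient.mk_eq_zero]
  exact hmax _ (Ideal.mul_le_right.trans hJ'le) (zj_mul hJ₀ hJ')
    (mem_torsionSub_mul_of_mk_mem J₀ J' M s hx)

end ZJ

section Far

variable {A : Type u} [CommRing A]

/-- the submodule of elements whose support does not meet `V(𝔞)` -/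
def farSub (𝔞 : Ideal A) (M : Type u) [AddCommGroup M] [Module A M] : Submodule A M where
  carrier := {m | ∃ e : A, e - 1 ∈ 𝔞 ∧ e • m = 0}
  zero_mem' := ⟨1, by simp, smul_zero _⟩
  add_mem' := by
    rintro m m' ⟨e, he, hem⟩ ⟨e', he', hem'⟩
    refine ⟨e * e', ?_, ?_⟩
    · have : e * e' - 1 = (e - 1) * e' + (e' - 1) := by ring
      rw [this]
      exact 𝔞.add_mem (𝔞.mul_mem_right _ he) he'
    · rw [smul_add, mul_comm e e', mul_smul, hem, smul_zero, mul_comm e' e, mul_smul, hem',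
        smul_zero, add_zero]
  smul_mem' := by
    rintro c m ⟨e, he, hem⟩
    exact ⟨e, he, by rw [smul_comm, hem, smul_zero]⟩

/-- a single element of `1 + 𝔞` kills `farSub 𝔞 M` for a Noetherian module -/
lemma exists_kills_farSub (𝔞 : Ideal A) (M : Type u) [AddCommGroup M] [Module A M]
    [IsNoetherian A M] : ∃ e : A, e - 1 ∈ 𝔞 ∧ ∀ x ∈ farSub 𝔞 M, e • x = 0 := by
  classical
  obtain ⟨S, hS⟩ := (IsNoetherian.noetherian (farSub 𝔞 M) : (farSub 𝔞 M).FG)
  have hmem : ∀ g ∈ S, g ∈ farSub 𝔞 M := fun g hg => by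
    rw [← hS]; exact Submodule.subset_span hg
  choose! e he using fun g (hg : g ∈ S) => hmem g hg
  refine ⟨∏ g ∈ S, e g, ?_, fun x hx => ?_⟩
  · have key : ∀ S' : Finset M, S' ⊆ S → (∏ g ∈ S', e g) - 1 ∈ 𝔞 := by
      intro S'
      induction S' using Finset.induction_on with
      | empty => intro _; simp
      | insert a S' ha ih =>
        intro hsub
        rw [Finset.prod_insert ha]
        have h1 := (he a (hsub (Finset.mem_insert_self a S'))).1
        have h2 := ih (fun g hg => hsub (Finset.mem_insert_of_mem hg))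
        have : e a * ∏ g ∈ S', e g - 1 = (e a - 1) * ∏ g ∈ S', e g + (∏ g ∈ S', e g - 1) := by
          ring
        rw [this]
        exact 𝔞.add_mem (𝔞.mul_mem_right _ h1) h2
    exact key S (Finset.Subset.refl S)
  · rw [← hS] at hx
    refine Submodule.span_induction (p := fun x _ => (∏ g ∈ S, e g) • x = 0) ?_ ?_ ?_ ?_ hx
    · intro g hg
      rw [← Finset.mul_prod_erase S e hg, mul_comm, mul_smul, (he g hg).2, smul_zero]
    · exact smul_zero _
    · intro x y _ _ hx hy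
      rw [smul_add, hx, hy, add_zero]
    · intro c x _ hx
      rw [smul_comm, hx, smul_zero]

/-- `M / farSub` has no element killed by an element of `1 + 𝔞` -/
lemma farSub_quotient_eq_bot (𝔞 : Ideal A) (M : Type u) [AddCommGroup M] [Module A M]
    [IsNoetherian A M] : farSub 𝔞 (M ⧸ farSub 𝔞 M) = ⊥ := by
  rw [eq_bot_iff]
  intro x hx
  obtain ⟨s, rfl⟩ := Submodule.Quotient.mk_surjective _ x
  rw [Submodule.mem_bot, Submodule.Quotient.mk_eq_zero]
  obtain ⟨e, he, hes⟩ := hx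
  rw [← Submodule.Quotient.mk_smul, Submodule.Quotient.mk_eq_zero] at hes
  obtain ⟨e', he', hes'⟩ := hes
  refine ⟨e' * e, ?_, by rw [mul_smul]; exact hes'⟩
  have : e' * e - 1 = (e' - 1) * e + (e - 1) := by ring
  rw [this]
  exact 𝔞.add_mem (𝔞.mul_mem_right _ he') he

/-- quotienting by `farSub` preserves torsion-freeness -/
lemma torsionSub_quotient_farSub_eq_bot (𝔞 𝔠 : Ideal A) (M : Type u) [AddCommGroup M]
    [Module A M] [IsNoetherian A M] (h : DRing.torsionSub 𝔠 M = ⊥) :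
    DRing.torsionSub 𝔠 (M ⧸ farSub 𝔞 M) = ⊥ := by
  rw [eq_bot_iff]
  intro x hx
  obtain ⟨s, rfl⟩ := Submodule.Quotient.mk_surjective _ x
  rw [Submodule.mem_bot, Submodule.Quotient.mk_eq_zero]
  obtain ⟨e, he, hkill⟩ := exists_kills_farSub 𝔞 M
  obtain ⟨n, hn⟩ := hx
  refine ⟨e, he, ?_⟩
  have h1 : e • s ∈ DRing.torsionSub 𝔠 M := by
    refine ⟨n, fun b hb => ?_⟩
    have h3 : b • s ∈ farSub 𝔞 M := by
      have := hn b hb
      rw [← Submodule.Quotient.mk_smul, Submodule.Quotient.mk_eq_zero] at this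
      exact this
    rw [smul_comm]
    exact hkill _ h3
  rw [h] at h1
  exact h1

end Far

section Cond

variable {A : Type u} [CommRing A] [IsNoetherianRing A] (I J : Ideal A)
  (T : Set (PrimeSpectrum A))

/-- condition (4) of the general bootstrap lemma -/
def Cond4 (d s : ℕ) (M : Type u) [AddCommGroup M] [Module A M] : Prop :=
  ∀ p : PrimeSpectrum A, ¬ I ≤ p.asIdeal → p ∉ T → ∀ q : PrimeSpectrum A, p ≤ q → J ≤ q.asIdeal → I ≤ q.asIdeal → (s : ℕ∞) ≤ LocCoh.depth (Localization.AtPrime p.asIdeal) (LocalizedModule p.asIdeal.primeCompl M) ∨ (((d + s : ℕ) : ℕ∞) : WithBot ℕ∞) < ((LocCoh.depth (Localization.AtPrime p.asIdeal) (LocalizedModule p.asIdeal.primeCompl M) : ℕ∞) : WithBot ℕ∞) + Formal2.dimBetween A p.asIdeal q.asIdeal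

/-- condition (5) of the general bootstrap lemma -/
def Cond5 (δ : PrimeSpectrum A → ℤ) (d s : ℕ) (M : Type u) [AddCommGroup M] [Module A M] : Prop :=
  ∀ p : PrimeSpectrum A, ¬ I ≤ p.asIdeal → p ∉ T → (∃ q : PrimeSpectrum A, p ≤ q ∧ J ≤ q.asIdeal ∧ I ≤ q.asIdeal) → LocCoh.depth (Localization.AtPrime p.asIdeal) (LocalizedModule p.asIdeal.primeCompl M) < (s : ℕ∞) → Module.supportDim (Localization.AtPrime p.asIdeal) (LocalizedModule p.asIdeal.primeCompl M) < ((s + 2 : ℕ) : WithBot ℕ∞) ∨ (∀ q' : PrimeSpectrum A, J ≤ q'.asIdeal → I ≤ q'.asIdeal → (d : ℤ) + δ q' - 1 < δ p) ∨ (∀ q : PrimeSpectrum A, p ≤ q → J ≤ q.asIdeal → I ≤ q.asIdeal → ∀ q₁ q₂ : PrimeSpectrum A, J ≤ q₁.asIdeal → I ≤ q₁.asIdeal → J ≤ q₂.asIdeal → I ≤ q₂.asIdeal → ∀ k : ℕ, (k : ℤ) = (d : ℤ) + s + (δ q₁ - δ q₂) - 2 → ((k : ℕ∞) : WithBot ℕ∞) < ((LocCoh.depth (Localization.AtPrime p.asIdeal) (LocalizedModule p.asIdeal.primeCompl M) : ℕ∞) : WithBot ℕ∞) + Formal2.dimBetween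 A p.asIdeal q.asIdeal)

omit [IsNoetherianRing A] in
lemma bijective_map_mkQ_of_kills (p : Ideal A) [p.IsPrime] (M : Type u) [AddCommGroup M]
    [Module A M] (N : Submodule A M) (h : ∀ n ∈ N, ∃ e : A, e ∉ p ∧ e • n = 0) :
    Function.Bijective (LocalizedModule.map p.primeCompl N.mkQ) := by
  refine ⟨?_, LocalizedModule.map_surjective _ _ (Submodule.mkQ_surjective _)⟩
  rw [injective_iff_map_eq_zero]
  intro x hx
  induction x using LocalizedModule.induction_on with
  | _ m t =>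
    rw [LocalizedModule.map_mk, ← LocalizedModule.zero_mk t, LocalizedModule.mk_eq] at hx
    obtain ⟨c, hc⟩ := hx
    rw [smul_zero, smul_zero] at hc
    have h1 : (c * t : A) • m ∈ N := by
      rw [← Submodule.Quotient.mk_eq_zero, Submodule.Quotient.mk_smul]
      have := hc
      simp only [Submonoid.smul_def, Submodule.mkQ_apply, smul_smul] at this
      exact this
    obtain ⟨e, he, hem⟩ := h _ h1
    rw [← LocalizedModule.zero_mk 1, LocalizedModule.mk_eq]
    refine ⟨⟨e * (c * t), ?_⟩, ?_⟩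
    · exact p.primeCompl.mul_mem he (p.primeCompl.mul_mem c.2 t.2)
    · rw [smul_zero, smul_zero, one_smul, Submonoid.mk_smul, mul_smul]
      exact hem

omit [IsNoetherianRing A] in
lemma depth_supportDim_quot (p : Ideal A) [p.IsPrime] (M : Type u) [AddCommGroup M]
    [Module A M] (N : Submodule A M) (h : ∀ n ∈ N, ∃ e : A, e ∉ p ∧ e • n = 0) :
    LocCoh.depth (Localization.AtPrime p) (LocalizedModule p.primeCompl (M ⧸ N)) =
      LocCoh.depth (Localization.AtPrime p) (LocalizedModule p.primeCompl M) ∧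
    Module.supportDim (Localization.AtPrime p) (LocalizedModule p.primeCompl (M ⧸ N)) =
      Module.supportDim (Localization.AtPrime p) (LocalizedModule p.primeCompl M) := by
  let e := LinearEquiv.ofBijective _ (bijective_map_mkQ_of_kills p M N h)
  exact ⟨(idealDepth_congr (I := IsLocalRing.maximalIdeal (Localization.AtPrime p)) e).symm,
    (Module.supportDim_eq_of_equiv e).symm⟩

variable {I J T}

omit [IsNoetherianRing A] in
lemma cond4_quot (d s : ℕ) (M : Type u) [AddCommGroup M] [Module A M] (N : Submodule A M)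
    (hN : ∀ p : PrimeSpectrum A, ¬ I ≤ p.asIdeal → p ∉ T →
      (∃ q : PrimeSpectrum A, p ≤ q ∧ J ≤ q.asIdeal ∧ I ≤ q.asIdeal) →
      ∀ n ∈ N, ∃ e : A, e ∉ p.asIdeal ∧ e • n = 0)
    (hc : Cond4 I J T d s M) : Cond4 I J T d s (M ⧸ N) := by
  intro p hp hpT q hpq hJq hIq
  rw [(depth_supportDim_quot p.asIdeal M N (hN p hp hpT ⟨q, hpq, hJq, hIq⟩)).1]
  exact hc p hp hpT q hpq hJq hIq

omit [IsNoetherianRing A] in
lemma cond5_quot (δ : PrimeSpectrum A → ℤ) (d s : ℕ) (M : Type u) [AddCommGroup M] [Module A M]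
    (N : Submodule A M)
    (hN : ∀ p : PrimeSpectrum A, ¬ I ≤ p.asIdeal → p ∉ T →
      (∃ q : PrimeSpectrum A, p ≤ q ∧ J ≤ q.asIdeal ∧ I ≤ q.asIdeal) →
      ∀ n ∈ N, ∃ e : A, e ∉ p.asIdeal ∧ e • n = 0)
    (hc : Cond5 I J T δ d s M) : Cond5 I J T δ d s (M ⧸ N) := by
  intro p hp hpT hq
  rw [(depth_supportDim_quot p.asIdeal M N (hN p hp hpT hq)).1,
    (depth_supportDim_quot p.asIdeal M N (hN p hp hpT hq)).2]
  exact hc p hp hpT hq

lemma arith2 (a : WithBot ℕ∞) (n : ℕ) (h : a + 1 < ((n + 1 : ℕ) : WithBot ℕ∞)) :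
    a < ((n : ℕ) : WithBot ℕ∞) := by
  induction a using WithBot.recBotCoe with
  | bot => exact WithBot.bot_lt_coe _
  | coe a =>
    induction a using ENat.recTopCoe with
    | top =>
      exfalso
      have h1 : ((⊤ : ℕ∞) : WithBot ℕ∞) + 1 = ((⊤ : ℕ∞) : WithBot ℕ∞) := by
        rw [← WithBot.coe_one, ← WithBot.coe_add, top_add]
      rw [h1] at h
      have h2 : ((n + 1 : ℕ) : WithBot ℕ∞) = (((n + 1 : ℕ) : ℕ∞) : WithBot ℕ∞) := rfl
      rw [h2, WithBot.coe_lt_coe] at h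
      exact not_top_lt h
    | coe a =>
      have h' : ((a + 1 : ℕ) : WithBot ℕ∞) < ((n + 1 : ℕ) : WithBot ℕ∞) := by exact_mod_cast h
      have h'' : a + 1 < n + 1 := by exact_mod_cast h'
      have : a < n := by omega
      exact_mod_cast this

omit [IsNoetherianRing A] in
lemma subsingleton_localized_quotSMulTop (M : Type u) [AddCommGroup M] [Module A M]
    (p : Ideal A) [p.IsPrime] (x : A) (hx : x ∉ p) :
    Subsingleton (LocalizedModule p.primeCompl (QuotSMulTop x M)) := by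
  rw [LocalizedModule.subsingleton_iff]
  intro m
  refine ⟨x, hx, ?_⟩
  obtain ⟨m, rfl⟩ := Submodule.Quotient.mk_surjective _ m
  rw [← Submodule.Quotient.mk_smul, Submodule.Quotient.mk_eq_zero]
  exact Submodule.smul_mem_pointwise_smul m x ⊤ Submodule.mem_top

lemma cond4_quotSMulTop (d s : ℕ) (M : Type u) [AddCommGroup M] [Module A M] [Module.Finite A M]
    (x : A) (hreg : IsSMulRegular M x) (hc : Cond4 I J T d (s + 1) M) :
    Cond4 I J T d s (QuotSMulTop x M) := by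
  intro p hp hpT q hpq hJq hIq
  by_cases hx : x ∈ p.asIdeal
  · have h1 := depth_localization_quotSMulTop p.asIdeal M x hx hreg
    rcases hc p hp hpT q hpq hJq hIq with h | h
    · left
      rw [← h1] at h
      have h' : ((s : ℕ∞) + 1) ≤ LocCoh.depth (Localization.AtPrime p.asIdeal)
          (LocalizedModule p.asIdeal.primeCompl (QuotSMulTop x M)) + 1 := by exact_mod_cast h
      exact (ENat.add_le_add_iff_right ENat.one_ne_top).1 h'
    · right
      rw [← h1] at h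
      exact arith _ _ (d + s) h
  · left
    haveI := subsingleton_localized_quotSMulTop M p.asIdeal x hx
    rw [Falt.depth_eq_top_of_subsingleton]
    exact le_top

lemma cond5_quotSMulTop (δ : PrimeSpectrum A → ℤ) (d s : ℕ) (M : Type u) [AddCommGroup M]
    [Module A M] [Module.Finite A M]
    (x : A) (hreg : IsSMulRegular M x) (hc : Cond5 I J T δ d (s + 1) M) :
    Cond5 I J T δ d s (QuotSMulTop x M) := by
  intro p hp hpT hq hdepth
  have hx : x ∈ p.asIdeal := by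
    by_contra hx
    haveI := subsingleton_localized_quotSMulTop M p.asIdeal x hx
    rw [Falt.depth_eq_top_of_subsingleton] at hdepth
    exact not_top_lt hdepth
  have h1 := depth_localization_quotSMulTop p.asIdeal M x hx hreg
  have h2 := supportDim_localization_quotSMulTop p.asIdeal M x hx hreg
  have hd : LocCoh.depth (Localization.AtPrime p.asIdeal)
      (LocalizedModule p.asIdeal.primeCompl M) < ((s + 1 : ℕ) : ℕ∞) := by
    rw [← h1]
    have : ((s + 1 : ℕ) : ℕ∞) = (s : ℕ∞) + 1 := by push_cast; rfl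
    rw [this]
    exact (ENat.add_lt_add_iff_right ENat.one_ne_top).2 hdepth
  rcases hc p hp hpT hq hd with h | h | h
  · left
    rw [← h2] at h
    exact arith2 _ (s + 2) h
  · right; left
    exact h
  · right; right
    intro q hpq hJq hIq q₁ q₂ h1' h2' h3' h4' k hk
    have := h q hpq hJq hIq q₁ q₂ h1' h2' h3' h4' (k + 1) (by push_cast; omega)
    rw [← h1] at this
    exact arith _ _ k this

end Cond

end Groth.Agent.Lib.helper19.DCB11
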