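import Mathlib
import Groth.Prelude.Def_DRing3
import Groth.Prelude.Def_Wider
import Groth.Prelude.Def_CAlg
import Groth.Prelude.Def_Formal2
import Groth.Agent.Lib.Helper19.DCB11
import Groth.Agent.Lib.Helper19.Boot1
import Groth.Agent.Lib.Helper26.FinRestr2

/-!
# DCB12 (helper19): commutative algebra for the general bootstrap lemma (Stacks 52.10), part 2

`δ` a dimension function (`δ p = δ q + 1` for `p ⋖ q`) on the spectrum of a Noetherian ring.
* `delta_lt`, `delta_le`, `strictMono_neg_delta`, `krullDim_Icc_eq_delta`, `dimBetween_eq_delta`,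
  `delta_sub_le_supportDim`.
* `key`: conditions (4) and (5)(a)/(b)/(c) give, at an associated prime `p ∉ V(I) ∪ T` with
  `V(p) ∩ V(J) ∩ V(I) ≠ ∅`, the hypothesis of the annihilator theorem
  (`depth M_{p'} + dim [p', q] > d + s` for all `p' ⊆ p`, `q ∈ V(p') ∩ V(J + I)`).
* `exists_regular'`: the regular element of the inductive step.
-/

set_option autoImplicit false
universe u

namespace Groth.Agent.Lib.helper19.DCB12

open Groth.Agent.Lib.helper26.Depth Groth.Agent.Lib.helper23 Groth.Agent.Lib.helper19.DCB9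
  Groth.Agent.Lib.helper19.DCB11 Groth.Agent.Lib.helper23.DimFn Groth.Agent.Lib.helper23.Falt

section Delta

variable {A : Type u} [CommRing A] [IsNoetherianRing A] (δ : PrimeSpectrum A → ℤ)
  (hδ : ∀ p q : PrimeSpectrum A, p ⋖ q → δ p = δ q + 1)

include hδ in
lemma delta_lt (p q : PrimeSpectrum A) (hpq : p < q) : δ q < δ p := by
  have key : ∀ (k : ℕ) (q : PrimeSpectrum A), q.asIdeal.height.toNat = k →
      ∀ p : PrimeSpectrum A, p < q → δ q < δ p := by
    intro k
    induction k using Nat.strong_induction_on with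
    | _ k IH =>
      intro q hq p hpq
      obtain ⟨c, hpc, hcq⟩ := exists_covBy_of_lt wellFounded_gt_primeSpectrum hpq
      have h1 := hδ c q hcq
      rcases hpc.lt_or_eq with hlt | heq
      · haveI := c.2
        haveI := q.2
        have hht : c.asIdeal.height < q.asIdeal.height :=
          Ideal.height_strict_mono_of_isPrime_of_isPrime
            ((PrimeSpectrum.asIdeal_lt_asIdeal c q).2 hcq.lt)
        have hfin : q.asIdeal.height ≠ ⊤ := Ideal.height_ne_top_of_isPrime
        have hht' : c.asIdeal.height.toNat < k := by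
          obtain ⟨a, ha⟩ := ENat.ne_top_iff_exists.1 hfin
          have hfin' : c.asIdeal.height ≠ ⊤ := ne_top_of_lt hht
          obtain ⟨b, hb⟩ := ENat.ne_top_iff_exists.1 hfin'
          rw [← ha, ← hb] at hht
          have hba : b < a := by exact_mod_cast hht
          rw [← hq, ← ha, ← hb, ENat.toNat_natCast, ENat.toNat_natCast]
          exact hba
        have h2 := IH _ hht' c rfl p hlt
        omega
      · rw [heq]
        omega
  exact key _ q rfl p hpq

include hδ in
lemma strictMono_neg_delta : StrictMono (fun p : PrimeSpectrum A => - δ p) := by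
  intro p q hpq
  have := delta_lt δ hδ p q hpq
  simp only
  omega

include hδ in
lemma delta_le (p q : PrimeSpectrum A) (hpq : p ≤ q) : δ q ≤ δ p := by
  rcases hpq.lt_or_eq with h | rfl
  · exact (delta_lt δ hδ p q h).le
  · exact le_rfl

include hδ in
lemma krullDim_Icc_eq_delta (p q : PrimeSpectrum A) (hpq : p ≤ q) :
    Order.krullDim (Set.Icc p q) = (((δ p - δ q).toNat : ℕ∞) : WithBot ℕ∞) := by
  have := krullDim_Icc_eq wellFounded_gt_primeSpectrum (fun p : PrimeSpectrum A => - δ p)
    (strictMono_neg_delta δ hδ) (fun p q hc => by have := hδ p q hc; show - δ p = - δ q - 1; omega) p q hpq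
  rw [this]
  congr 3
  omega

include hδ in
lemma dimBetween_eq_delta (p q : PrimeSpectrum A) (hpq : p ≤ q) :
    Formal2.dimBetween A p.asIdeal q.asIdeal = (((δ p - δ q).toNat : ℕ∞) : WithBot ℕ∞) := by
  rw [Groth.Agent.Lib.helper19.Boot1.dimBetween_eq, krullDim_Icc_eq_delta δ hδ p q hpq]

include hδ in
/-- `dim [r, p] ≤ dim M_p` for `r ≤ p` in the support -/
lemma delta_sub_le_supportDim (M : Type u) [AddCommGroup M] [Module A M]
    (r p : PrimeSpectrum A) (hrp : r ≤ p) (hr : r ∈ Module.support A M) :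
    (((δ r - δ p).toNat : ℕ∞) : WithBot ℕ∞) ≤
      Module.supportDim (Localization.AtPrime p.asIdeal)
        (LocalizedModule p.asIdeal.primeCompl M) := by
  have hp : p ∈ Module.support A M := Module.mem_support_mono hrp hr
  rw [Groth.Agent.Lib.helper26.FinRestr.supportDim_localization_eq_height M p.asIdeal hp,
    Order.height_eq_krullDim_Iic, ← krullDim_Icc_eq_delta δ hδ r p hrp]
  let f : Set.Icc r p → Set.Iic (⟨p, hp⟩ : Module.support A M) :=
    fun x => ⟨⟨x.1, Module.mem_support_mono x.2.1 hr⟩, x.2.2⟩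
  exact Order.krullDim_le_of_strictMono f (fun x y hxy => hxy)

end Delta

section Key

variable {A : Type u} [CommRing A] [IsNoetherianRing A] (I J : Ideal A)
  (T : Set (PrimeSpectrum A))
  (hT : ∀ p : PrimeSpectrum A, p ∈ T ↔
    ∀ q : PrimeSpectrum A, p ≤ q → I ≤ q.asIdeal → J ≤ q.asIdeal)
  (δ : PrimeSpectrum A → ℤ) (hδ : ∀ p q : PrimeSpectrum A, p ⋖ q → δ p = δ q + 1)

include hT in
omit [IsNoetherianRing A] in
lemma not_mem_T_of_le {p' p : PrimeSpectrum A} (h : p' ≤ p) (hp : p ∉ T) : p' ∉ T := by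
  intro hp'
  apply hp
  rw [hT] at hp' ⊢
  intro q hpq hIq
  exact hp' q (h.trans hpq) hIq

include hT hδ in
/-- the hypothesis of the annihilator theorem at the associated primes -/
theorem key (d s : ℕ) (M : Type u) [AddCommGroup M] [Module A M] [Module.Finite A M]
    (hc4 : Cond4 I J T d (s + 1) M) (hc5 : Cond5 I J T δ d (s + 1) M)
    (p : PrimeSpectrum A) (hpass : p.asIdeal ∈ associatedPrimes A M) (hpI : ¬ I ≤ p.asIdeal)
    (hpT : p ∉ T)
    (hq₀ : ∃ q₀ : PrimeSpectrum A, p ≤ q₀ ∧ J ≤ q₀.asIdeal ∧ I ≤ q₀.asIdeal) :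
    ∀ p' q : PrimeSpectrum A, p' ≤ p → J ⊔ I ≤ q.asIdeal → p' ≤ q →
      ((d + (s + 1) : ℕ) : WithBot ℕ∞) <
        ((LocCoh.depth (Localization.AtPrime p'.asIdeal)
          (LocalizedModule p'.asIdeal.primeCompl M) : ℕ∞) : WithBot ℕ∞) +
        Order.krullDim (Set.Icc p' q) := by
  intro p' q hp'p hq hp'q
  have hJq : J ≤ q.asIdeal := le_sup_left.trans hq
  have hIq : I ≤ q.asIdeal := le_sup_right.trans hq
  have hp'I : ¬ I ≤ p'.asIdeal := fun h => hpI (h.trans hp'p)
  have hp'T : p' ∉ T := not_mem_T_of_le I J T hT hp'p hpT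
  rcases hc4 p' hp'I hp'T q hp'q hJq hIq with h | h
  · rw [krullDim_Icc_eq_delta δ hδ p' q hp'q, ← WithBot.coe_add]
    by_cases hsub : Subsingleton (LocalizedModule p'.asIdeal.primeCompl M)
    · rw [Falt.depth_eq_top_of_subsingleton, top_add]
      exact WithBot.coe_lt_coe.2 (ENat.natCast_lt_top _)
    · have hp'supp : p' ∈ Module.support A M := by
        rw [Module.mem_support_iff]
        exact not_subsingleton_iff_nontrivial.1 hsub
      obtain ⟨_, hd0⟩ := depth_localization_eq_zero_of_mem_associatedPrimes M p.asIdeal hpass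
      have hlt : p' < p := by
        refine lt_of_le_of_ne hp'p ?_
        rintro rfl
        rw [hd0] at h
        have : ((s + 1 : ℕ) : ℕ∞) ≤ 0 := h
        have h' : s + 1 ≤ 0 := by exact_mod_cast this
        omega
      have hδ1 : δ p + 1 ≤ δ p' := by
        have := delta_lt δ hδ p' p hlt
        omega
      have claim : (d : ℤ) < δ p' - δ q := by
        have hdlt : LocCoh.depth (Localization.AtPrime p.asIdeal)
            (LocalizedModule p.asIdeal.primeCompl M) < ((s + 1 : ℕ) : ℕ∞) := by
          rw [hd0]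
          exact_mod_cast Nat.succ_pos s
        rcases hc5 p hpI hpT hq₀ hdlt with ha | hb | hc
        · -- (a)
          obtain ⟨r₀, hr₀min, hr₀le⟩ := Ideal.exists_minimalPrimes_le
            (Module.mem_support_iff_of_finite.1 hp'supp)
          have hr₀ass : r₀ ∈ associatedPrimes A M :=
            Module.associatedPrimes.minimalPrimes_annihilator_subset_associatedPrimes A M hr₀min
          have hr₀p : r₀.IsPrime := hr₀min.1.1
          let R₀ : PrimeSpectrum A := ⟨r₀, hr₀p⟩
          have hR₀p' : R₀ ≤ p' := hr₀le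
          have hR₀supp : R₀ ∈ Module.support A M :=
            Module.mem_support_iff_of_finite.2 hr₀min.1.2
          obtain ⟨_, hd0'⟩ := depth_localization_eq_zero_of_mem_associatedPrimes M r₀ hr₀ass
          have hR₀I : ¬ I ≤ R₀.asIdeal := fun h => hp'I (h.trans hR₀p')
          have hR₀T : R₀ ∉ T := not_mem_T_of_le I J T hT hR₀p' hp'T
          have h1 : (d : ℤ) + (s + 1) < δ R₀ - δ q := by
            rcases hc4 R₀ hR₀I hR₀T q (hR₀p'.trans hp'q) hJq hIq with h' | h'
            · exfalso
              rw [hd0'] at h'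
              have : ((s + 1 : ℕ) : ℕ∞) ≤ 0 := h'
              have h'' : s + 1 ≤ 0 := by exact_mod_cast this
              omega
            · rw [hd0', dimBetween_eq_delta δ hδ R₀ q (hR₀p'.trans hp'q), ← WithBot.coe_add,
                zero_add, WithBot.coe_lt_coe] at h'
              have h'' : d + (s + 1) < (δ R₀ - δ q).toNat := by exact_mod_cast h'
              omega
          have h2 : δ R₀ - δ p ≤ (s : ℤ) + 2 := by
            have h3 := delta_sub_le_supportDim δ hδ M R₀ p (hR₀p'.trans hp'p) hR₀supp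
            have h4 := lt_of_le_of_lt h3 ha
            have h5 : (((δ R₀ - δ p).toNat : ℕ∞) : WithBot ℕ∞) = (((δ R₀ - δ p).toNat : ℕ) :
                WithBot ℕ∞) := rfl
            rw [h5] at h4
            have h6 : (δ R₀ - δ p).toNat < s + 1 + 2 := by exact_mod_cast h4
            omega
          omega
        · -- (b)
          have := hb q hJq hIq
          omega
        · -- (c)
          obtain ⟨q₀, hpq₀, hJq₀, hIq₀⟩ := hq₀
          have hδ2 : δ q₀ ≤ δ p := delta_le δ hδ p q₀ hpq₀
          by_cases hK : 0 ≤ (d : ℤ) + ((s + 1 : ℕ) : ℤ) + (δ q - δ q₀) - 2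
          · have := hc q₀ hpq₀ hJq₀ hIq₀ q q₀ hJq hIq hJq₀ hIq₀
              ((d : ℤ) + ((s + 1 : ℕ) : ℤ) + (δ q - δ q₀) - 2).toNat (Int.toNat_of_nonneg hK)
            rw [hd0, dimBetween_eq_delta δ hδ p q₀ hpq₀, ← WithBot.coe_add, zero_add,
              WithBot.coe_lt_coe] at this
            have h'' : ((d : ℤ) + ((s + 1 : ℕ) : ℤ) + (δ q - δ q₀) - 2).toNat <
                (δ p - δ q₀).toNat := by exact_mod_cast this
            push_cast at h'' hK
            omega
          · push_cast at hK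
            omega
      have hn : ((d + 1 : ℕ) : ℕ∞) ≤ (((δ p' - δ q).toNat : ℕ) : ℕ∞) := by
        have : d + 1 ≤ (δ p' - δ q).toNat := by omega
        exact_mod_cast this
      refine WithBot.coe_lt_coe.2 (lt_of_lt_of_le ?_ (add_le_add h hn))
      have : d + (s + 1) < (s + 1) + (d + 1) := by omega
      exact_mod_cast this
  · rw [← Groth.Agent.Lib.helper19.Boot1.dimBetween_eq]
    exact_mod_cast h

include hT hδ in
/-- the regular element of the inductive step, general case -/
lemma exists_regular' (d s : ℕ) (M : Type u) [AddCommGroup M] [Module A M] [Module.Finite A M]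
    (h1 : DRing.torsionSub I M = ⊥)
    (h2 : ∀ J' : Ideal A, J' ≤ J → ZJ I J J' → DRing.torsionSub J' M = ⊥)
    (h3 : farSub (J ⊔ I) M = ⊥)
    (hc4 : Cond4 I J T d (s + 1) M) (hc5 : Cond5 I J T δ d (s + 1) M)
    (J₁ : Ideal A) (hJ₁le : J₁ ≤ J) (hJ₁ : ZJ I J J₁) (𝔟 : Ideal A)
    (h𝔟 : ∀ p : PrimeSpectrum A,
      (∀ p' q : PrimeSpectrum A, p' ≤ p → J ⊔ I ≤ q.asIdeal → p' ≤ q →
        ((d + (s + 1) : ℕ) : WithBot ℕ∞) <
          ((LocCoh.depth (Localization.AtPrime p'.asIdeal)
            (LocalizedModule p'.asIdeal.primeCompl M) : ℕ∞) : WithBot ℕ∞) +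
          Order.krullDim (Set.Icc p' q)) → ¬ 𝔟 ≤ p.asIdeal) :
    ∃ x ∈ J₁ * I * 𝔟, IsSMulRegular M x := by
  apply exists_isSMulRegular_mem
  intro q hq hle
  have hqp : q.IsPrime := hq.isPrime
  obtain ⟨-, t, ht⟩ := isAssociatedPrime_iff.1 hq
  have hkill : ∀ a ∈ q, a • t = 0 := by
    intro a ha
    rw [ht, Submodule.mem_colon_singleton, Submodule.mem_bot] at ha
    exact ha
  have ht0 : t ≠ 0 := by
    rintro rfl
    apply hqp.ne_top
    rw [Ideal.eq_top_iff_one, ht, Submodule.mem_colon_singleton, smul_zero]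
    exact Submodule.zero_mem _
  have hnotI : ¬ I ≤ q := by
    intro hIq
    have : t ∈ DRing.torsionSub I M :=
      mem_torsionSub_of_smul_eq_zero I M t (fun a ha => hkill a (hIq ha))
    rw [h1] at this
    exact ht0 this
  have hnotJ : ∀ J' : Ideal A, J' ≤ J → ZJ I J J' → ¬ J' ≤ q := by
    intro J' hJ'le hJ' hle'
    have : t ∈ DRing.torsionSub J' M :=
      mem_torsionSub_of_smul_eq_zero J' M t (fun a ha => hkill a (hle' ha))
    rw [h2 J' hJ'le hJ'] at this
    exact ht0 this
  rcases (Ideal.IsPrime.mul_le hqp).1 hle with h | h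
  · rcases (Ideal.IsPrime.mul_le hqp).1 h with h | h
    · exact hnotJ J₁ hJ₁le hJ₁ h
    · exact hnotI h
  · let P : PrimeSpectrum A := ⟨q, hqp⟩
    have hPT : P ∉ T := by
      intro hPT
      rw [hT] at hPT
      refine hnotJ (q ⊓ J) inf_le_right ?_ inf_le_left
      rw [zj_iff]
      intro r hIr
      constructor
      · intro hr
        rcases (Ideal.IsPrime.inf_le r.2).1 hr with h' | h'
        · exact hPT r h' hIr
        · exact h'
      · intro hr
        exact inf_le_right.trans hr
    have hq₀ : ∃ q₀ : PrimeSpectrum A, P ≤ q₀ ∧ J ≤ q₀.asIdeal ∧ I ≤ q₀.asIdeal := by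
      by_contra hno
      have htop : q ⊔ (J ⊔ I) = ⊤ := by
        by_contra hne
        obtain ⟨m, hm, hle'⟩ := Ideal.exists_le_maximal _ hne
        exact hno ⟨⟨m, hm.isPrime⟩, le_sup_left.trans hle',
          (le_sup_left.trans le_sup_right).trans hle', (le_sup_right.trans le_sup_right).trans hle'⟩
      obtain ⟨a, ha, b, hb, hab⟩ := Submodule.mem_sup.1
        ((Ideal.eq_top_iff_one _).1 htop)
      have : t ∈ farSub (J ⊔ I) M := by
        refine ⟨a, ?_, hkill a ha⟩
        have : a - 1 = - b := by rw [← hab]; ring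
        rw [this]
        exact (J ⊔ I).neg_mem hb
      rw [h3] at this
      exact ht0 this
    exact h𝔟 P (key I J T hT δ hδ d s M hc4 hc5 P hq hnotI hPT hq₀) h

end Key

end Groth.Agent.Lib.helper19.DCB12
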