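import Mathlib
import Groth.Prelude.Def_DRing3
import Groth.Prelude.Def_Wider
import Groth.Agent.Lib.Helper19.DCB10
import Groth.Agent.Lib.Helper19.DCB12

/-!
# DCB13 (helper19): the general bootstrap lemma `RΓ_{J'}(M) → RΓ_{J'}(M)^∧` (Stacks 52.10)

`A` Noetherian, `I`-adically complete, with a dualizing complex, `cd(A, I) ≤ d`, `J` an ideal.
* `good_of_quotient`, `good_of_regular'`, `isDerivedComplete_KK_of_far`.
* `dimBetween_le_of_minimal`, `exists_J0_kills'`, `exists_kills_uniform'`, `killIdeal'`,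
  `Concl'`, `concl'_of_quotient`, `concl'_of_regular`, `exists_unit_sub_kills`.
* `main'`: under conditions (4) and (5), there is `J₀ ⊆ J` with `V(J₀) ∩ V(I) = V(J) ∩ V(I)`
  such that `H^i(RΓ_{J'} M) → H^i((RΓ_{J'} M)^∧)` is bijective for `i ≤ s` and all `J' ⊆ J₀` with
  `V(J') ∩ V(I) = V(J) ∩ V(I)`.
-/

set_option autoImplicit false
universe u
open CategoryTheory CategoryTheory.Limits DerivedCategory Pretriangulated IsLocalRing

attribute [local instance] HasDerivedCategory.standard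

namespace Groth.Agent.Lib.helper19.DCB13

open Groth.Agent.Lib.helper13.DComp Groth.Agent.Lib.helper13.RGam Groth.Agent.Lib.helper13.GM
  Groth.Agent.Lib.helper19.DCB0 Groth.Agent.Lib.helper19.DCB1 Groth.Agent.Lib.helper19.DCB2
  Groth.Agent.Lib.helper19.DCB3 Groth.Agent.Lib.helper19.DCB4 Groth.Agent.Lib.helper19.DCB5
  Groth.Agent.Lib.helper19.DCB6 Groth.Agent.Lib.helper19.DCB7 Groth.Agent.Lib.helper19.DCB8
  Groth.Agent.Lib.helper19.DCB9 Groth.Agent.Lib.helper19.DCB10 Groth.Agent.Lib.helper19.DCB11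
  Groth.Agent.Lib.helper19.DCB12 Groth.Agent.Lib.helper19.DCAnn1 Groth.Agent.Lib.helper19.DCAnn3
  Groth.Agent.Lib.helper19.DCAnn4
  Groth.Agent.Lib.helper19.DHomLinear Groth.Agent.Lib.helper23 Groth.Agent.Lib.helper23.LDual

variable {A : Type u} [CommRing A] [IsNoetherianRing A]

section JLevel

variable (I J' : Ideal A) [DRing.HasRgammaI J'] [DRing.HasDerivedCompletion I]

/-- dévissage along a submodule with derived complete `RΓ_{J'}` -/
lemma good_of_quotient (s : ℤ) (M : Type u) [AddCommGroup M] [Module A M] (N : Submodule A M)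
    (hc : DRing.IsDerivedComplete I ((KK J').obj (ModuleCat.of A N)))
    (h : ∀ i : ℤ, i ≤ s → Good I J' (ModuleCat.of A (M ⧸ N)) i) :
    ∀ i : ℤ, i ≤ s → Good I J' (ModuleCat.of A M) i := by
  let S : ShortComplex (ModuleCat.{u} A) := ShortComplex.mk
    (ModuleCat.ofHom N.subtype) (ModuleCat.ofHom N.mkQ) (by
    apply ModuleCat.hom_ext
    apply LinearMap.ext
    intro z
    exact (Submodule.Quotient.mk_eq_zero N).2 z.2)
  have hS : S.ShortExact := by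
    refine ModuleCat.shortComplex_shortExact S ?_ Subtype.val_injective
      (Submodule.mkQ_surjective N)
    intro z
    constructor
    · intro hz
      exact ⟨⟨z, (Submodule.Quotient.mk_eq_zero N).1 hz⟩, rfl⟩
    · rintro ⟨w, rfl⟩
      exact (Submodule.Quotient.mk_eq_zero N).2 w.2
  exact good_of_complete I J' S hS hc s h

open Pointwise in
/-- the inductive step along a regular element -/
lemma good_of_regular' (s : ℤ) (M : Type u) [AddCommGroup M] [Module A M] (x : A)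
    (hreg : IsSMulRegular M x)
    (hk : ∀ i : ℤ, i ≤ s + 1 →
      (∀ z : Dual.HD A ((DRing.RgammaI J').obj (Dual.inD A M)) i, x • z = 0) ∧
      (∀ z : Dual.HD A ((DRing.derivedCompletion I).obj
        ((DRing.RgammaI J').obj (Dual.inD A M))).obj i, x • z = 0))
    (h : ∀ i : ℤ, i ≤ s → Good I J' (ModuleCat.of A (QuotSMulTop x M)) i) :
    ∀ i : ℤ, i ≤ s + 1 → Good I J' (ModuleCat.of A M) i := by
  let MM : ModuleCat.{u} A := ModuleCat.of A M
  let g : MM ⟶ ModuleCat.of A (QuotSMulTop x M) :=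
    ModuleCat.ofHom (Submodule.mkQ (x • (⊤ : Submodule A M)))
  have w : (x • 𝟙 MM) ≫ g = 0 := by
    apply ModuleCat.hom_ext
    apply LinearMap.ext
    intro z
    exact (Submodule.Quotient.mk_eq_zero _).2
      (Submodule.smul_mem_pointwise_smul z x ⊤ Submodule.mem_top)
  have hS : (ShortComplex.mk (x • 𝟙 MM) g w).ShortExact := by
    refine ModuleCat.shortComplex_shortExact _ ?_ ?_ (Submodule.mkQ_surjective _)
    · intro z
      constructor
      · intro hz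
        have h1 := (Submodule.Quotient.mk_eq_zero _).1 hz
        obtain ⟨y, -, hy⟩ := (Submodule.mem_smul_pointwise_iff_exists _ _ _).1 h1
        exact ⟨y, hy⟩
      · rintro ⟨y, rfl⟩
        exact (Submodule.Quotient.mk_eq_zero _).2
          (Submodule.smul_mem_pointwise_smul y x ⊤ Submodule.mem_top)
    · intro a b hab
      exact hreg hab
  exact good_of_regular I J' MM _ x g w hS s
    (fun i hi z => (hk i hi).1 z) (fun i hi z => (hk i hi).2 z) h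

omit [DRing.HasDerivedCompletion I] in
/-- `RΓ_{J'}(N)` vanishes (hence is derived complete) if `1 - j - i` kills `N` with `j ∈ J'`,
`i` in the Jacobson radical -/
lemma isDerivedComplete_KK_of_far (N : ModuleCat.{u} A) (j u : A) (hj : j ∈ J') (hu : IsUnit u)
    (hk : ∀ x : N, (u - j) • x = 0) :
    DRing.IsDerivedComplete I ((KK J').obj N) := by
  have h0 : (u - j) • 𝟙 ((KK J').obj N) = 0 := by
    refine smul_id_RgammaI J' _ _ ?_
    have : (u - j) • 𝟙 N = 0 := by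
      ext m
      exact hk m
    rw [← CategoryTheory.Functor.map_id, ← Functor.map_smul, this, Functor.map_zero]
  -- all cohomology vanishes
  have hz : ∀ n : ℤ, IsZero ((homologyFunctor (ModuleCat.{u} A) n).obj ((KK J').obj N)) := by
    intro n
    suffices H0 : ∀ z : ((homologyFunctor (ModuleCat.{u} A) n).obj ((KK J').obj N) :
        ModuleCat.{u} A), z = 0 by
      haveI : Subsingleton ((homologyFunctor (ModuleCat.{u} A) n).obj ((KK J').obj N) :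
          ModuleCat.{u} A) := ⟨fun a b => by rw [H0 a, H0 b]⟩
      exact ModuleCat.isZero_of_subsingleton _
    intro z
    have h1 : (u - j) • z = 0 := by
      have := congrArg (fun φ => ((homologyFunctor (ModuleCat.{u} A) n).map φ).hom z) h0
      simp only [Functor.map_smul, CategoryTheory.Functor.map_id, Functor.map_zero] at this
      exact this
    have h2 : u • z = j • z := by
      rw [sub_smul, sub_eq_zero] at h1
      exact h1
    obtain ⟨v, rfl⟩ := hu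
    have h3 : ∀ k : ℕ, z = ((↑v⁻¹ : A) * j) ^ k • z := by
      intro k
      induction k with
      | zero => rw [pow_zero, one_smul]
      | succ k ih =>
        have h4 : ((↑v⁻¹ : A) * j) • z = z := by
          rw [mul_smul, ← h2, smul_smul, Units.inv_mul, one_smul]
        rw [pow_succ, mul_smul, h4]
        exact ih
    obtain ⟨k, hk'⟩ := torsD_RgammaI J' ((singleFunctor (ModuleCat.{u} A) 0).obj N) n z
    rw [h3 k]
    exact hk' _ (Ideal.pow_mem_pow (J'.mul_mem_left _ hj) k)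
  have hge : ((KK J').obj N).IsGE 1 := (isGE_iff _ 1).2 (fun i _ => hz i)
  have hle : ((KK J').obj N).IsLE 0 := (isLE_iff _ 0).2 (fun i _ => hz i)
  have hid : 𝟙 ((KK J').obj N) = 0 :=
    TStructure.t.zero_of_isLE_of_isGE _ 0 1 (by omega) hle hge
  have hzero : IsZero ((KK J').obj N) := (IsZero.iff_id_eq_zero _).2 hid
  intro f hf n
  exact ⟨fun a b => ((Functor.map_isZero (shiftFunctor (Dual.D A) n) hzero).eq_of_tgt a b)⟩

end JLevel

section General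

variable (I J : Ideal A)

/-- condition (3) from `cd(A, I) ≤ d`: `dim (A/p)_q ≤ d` for `q` minimal over `p + I` -/
lemma dimBetween_le_of_minimal (d : ℕ) (hcd : LocCoh.CdLE A I d) (p q : PrimeSpectrum A)
    (hmin : q.asIdeal ∈ (p.asIdeal ⊔ I).minimalPrimes) :
    Formal2.dimBetween A p.asIdeal q.asIdeal ≤ ((d : ℕ∞) : WithBot ℕ∞) := by
  haveI := q.2
  have hpq : p.asIdeal ≤ q.asIdeal := le_sup_left.trans hmin.1.2
  haveI hprime : (p.asIdeal.map (algebraMap A (Localization.AtPrime q.asIdeal))).IsPrime := by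
    refine IsLocalization.isPrime_of_isPrime_disjoint q.asIdeal.primeCompl _ p.asIdeal p.2 ?_
    rw [Set.disjoint_left]
    intro a ha ha'
    exact ha (hpq ha')
  have hrad : (p.asIdeal.map (algebraMap A (Localization.AtPrime q.asIdeal)) ⊔
      I.map (algebraMap A (Localization.AtPrime q.asIdeal))).radical =
      maximalIdeal (Localization.AtPrime q.asIdeal) := by
    rw [← Ideal.map_sup]
    apply le_antisymm
    · refine (Ideal.IsPrime.radical_le_iff (maximalIdeal.isMaximal _).isPrime).2 ?_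
      rw [← Localization.AtPrime.map_eq_maximalIdeal]
      exact Ideal.map_mono hmin.1.2
    · rw [Ideal.radical_eq_sInf]
      refine le_sInf ?_
      rintro P ⟨hP, hPp⟩
      have h1 : p.asIdeal ⊔ I ≤ P.comap (algebraMap A (Localization.AtPrime q.asIdeal)) :=
        Ideal.map_le_iff_le_comap.1 hP
      have h2 : P.comap (algebraMap A (Localization.AtPrime q.asIdeal)) ≤ q.asIdeal := by
        have := Ideal.comap_mono (f := algebraMap A (Localization.AtPrime q.asIdeal))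
          (IsLocalRing.le_maximalIdeal hPp.ne_top)
        have h3 : (maximalIdeal (Localization.AtPrime q.asIdeal)).comap
            (algebraMap A (Localization.AtPrime q.asIdeal)) = q.asIdeal :=
          Localization.AtPrime.under_maximalIdeal
        rwa [h3] at this
      have h3 : q.asIdeal ≤ P.comap (algebraMap A (Localization.AtPrime q.asIdeal)) :=
        hmin.2 ⟨Ideal.IsPrime.comap _, h1⟩ h2
      rw [← Localization.AtPrime.map_eq_maximalIdeal]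
      exact (Ideal.map_mono h3).trans Ideal.map_comap_le
  exact_mod_cast Groth.Agent.Lib.helper19.ComplDepth2.ringKrullDim_quot_le_of_cdLE
    (I.map (algebraMap A (Localization.AtPrime q.asIdeal)))
    (p.asIdeal.map (algebraMap A (Localization.AtPrime q.asIdeal))) hrad d
    (Groth.Agent.Lib.helper19.ComplDepth2.cdLE_map A (Localization.AtPrime q.asIdeal) I d hcd)

/-- the ideal `J₀` of the algebraic bootstrap lemma, with uniform annihilators -/
theorem exists_J0_kills' (hdc : ∃ ω : Dual.D A, Dual.IsDualizing A ω)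
    (hIjac : I ≤ (⊥ : Ideal A).jacobson) (d : ℕ) (hcd : LocCoh.CdLE A I d)
    (T : Set (PrimeSpectrum A))
    (hT : ∀ p : PrimeSpectrum A, p ∈ T ↔
      ∀ q : PrimeSpectrum A, p ≤ q → I ≤ q.asIdeal → J ≤ q.asIdeal)
    (M : Type u) [AddCommGroup M] [Module A M] [Module.Finite A M] (s : ℕ)
    (hc : Cond4 I J T d s M) :
    ∃ J₁ : Ideal A, J₁ ≤ J ∧ ZJ I J J₁ ∧ ∃ n : ℕ, ∀ a ∈ (J₁ * I) ^ n,
      ∀ (J' : Ideal A) [DRing.HasRgammaI J'], J' ≤ J₁ → ZJ I J J' → ∀ i : ℤ, i ≤ s →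
        ∀ z : Dual.HD A ((DRing.RgammaI J').obj (Dual.inD A M)) i, a • z = 0 := by
  have h3 : ∀ p : PrimeSpectrum A, ¬ I ≤ p.asIdeal → p ∈ T → ∃ q : PrimeSpectrum A,
      p ≤ q ∧ J ≤ q.asIdeal ∧ I ≤ q.asIdeal ∧
      Formal2.dimBetween A p.asIdeal q.asIdeal ≤ ((d : ℕ∞) : WithBot ℕ∞) := by
    intro p hp hpT
    obtain ⟨m, hm, hpm⟩ := Ideal.exists_le_maximal p.asIdeal p.2.ne_top
    have hIm : I ≤ m := hIjac.trans (sInf_le ⟨bot_le, hm⟩)
    haveI := hm.isPrime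
    obtain ⟨q, hqmin, -⟩ := Ideal.exists_minimalPrimes_le (sup_le hpm hIm)
    let Q : PrimeSpectrum A := ⟨q, hqmin.1.1⟩
    have hpQ : p ≤ Q := le_sup_left.trans hqmin.1.2
    have hIQ : I ≤ Q.asIdeal := le_sup_right.trans hqmin.1.2
    exact ⟨Q, hpQ, (hT p).1 hpT Q hpQ hIQ, hIQ, dimBetween_le_of_minimal I d hcd p Q hqmin⟩
  obtain ⟨J₁, hJ₁le, hJ₁, hbij, n, hn⟩ := Groth.Agent.S8790.result A hdc I J M s d T hT h3 hc
  refine ⟨J₁, hJ₁le, hJ₁, n, fun a ha J' _ hle hJ' i hi =>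
    kills_HD_of_kills_H J' M a i (fun k hk x => ?_)⟩
  have hki : k ≤ s := by omega
  obtain ⟨y, rfl⟩ := (hbij J' hle hJ' k hki).2 x
  rw [← map_smul, hn a ha k hki y, map_zero]

variable [DRing.HasDerivedCompletion I]

/-- uniform annihilators of `H^i((RΓ_{J'} M)^∧)`, `i ≤ s` -/
theorem exists_kills_uniform' (hdc : ∃ ω : Dual.D A, Dual.IsDualizing A ω)
    (M : Type u) [AddCommGroup M] [Module A M] [Module.Finite A M]
    (p : PrimeSpectrum A) (s d : ℕ) (h3 : LocCoh.CdLE A I d)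
    (h : ∀ p' q : PrimeSpectrum A, p' ≤ p → J ⊔ I ≤ q.asIdeal → p' ≤ q →
      ((d + s : ℕ) : WithBot ℕ∞) < ((LocCoh.depth (Localization.AtPrime p'.asIdeal)
        (LocalizedModule p'.asIdeal.primeCompl M) : ℕ∞) : WithBot ℕ∞) +
          Order.krullDim (Set.Icc p' q)) :
    ∃ f : A, f ∉ p.asIdeal ∧ ∀ (J' : Ideal A) [DRing.HasRgammaI J'],
      (∃ k : ℕ, (J ⊔ I) ^ k ≤ J' ⊔ I) → (∃ l : ℕ, (J' ⊔ I) ^ l ≤ J ⊔ I) →
      ∀ i : ℤ, i ≤ s →
      ∀ x : Dual.HD A ((DRing.derivedCompletion I).obj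
        ((DRing.RgammaI J').obj (Dual.inD A M))).obj i, f • x = 0 := by
  haveI : DRing.HasRgammaI (J ⊔ I) := CechD.hasRgammaI _
  obtain ⟨f, hf, hk⟩ := exists_kills_HD_RgammaI hdc (J ⊔ I) M p (d + s) h
  refine ⟨f ^ (d + s + 1), fun hmem => hf (p.2.mem_of_pow_mem _ hmem), ?_⟩
  intro J' _ ⟨k, hk1⟩ ⟨l, hk2⟩ i hi x
  haveI : DRing.HasRgammaI (J' ⊔ I) := CechD.hasRgammaI _
  obtain ⟨e⟩ := nonempty_RgammaI_iso_of_pow_le (J ⊔ I) (J' ⊔ I) l k hk2 hk1 (Dual.inD A M)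
  refine kills_of_kills I J' M s d h3 f (fun j hj y => ?_) i hi x
  exact smul_eq_zero_of_iso ((homologyFunctor (ModuleCat.{u} A) j).mapIso e.symm) f
    (hk j (by exact_mod_cast hj)) y

/-- the ideal of elements killing `H^i((RΓ_{J'} M)^∧)`, `i ≤ s`, for all `J'` with
`rad(J' + I) = rad(J + I)` -/
def killIdeal' (M : Type u) [AddCommGroup M] [Module A M] (s : ℕ) : Ideal A where
  carrier := {a | ∀ (J' : Ideal A) [DRing.HasRgammaI J'],
    (∃ k : ℕ, (J ⊔ I) ^ k ≤ J' ⊔ I) → (∃ l : ℕ, (J' ⊔ I) ^ l ≤ J ⊔ I) → ∀ i : ℤ, i ≤ s →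
    ∀ z : Dual.HD A ((DRing.derivedCompletion I).obj
      ((DRing.RgammaI J').obj (Dual.inD A M))).obj i, a • z = 0}
  zero_mem' := fun J' _ _ _ i _ z => zero_smul A z
  add_mem' := fun {a b} ha hb J' _ h1 h2 i hi z => by
    rw [add_smul, ha J' h1 h2 i hi z, hb J' h1 h2 i hi z, add_zero]
  smul_mem' := fun c a ha J' _ h1 h2 i hi z => by
    rw [smul_eq_mul, mul_smul, ha J' h1 h2 i hi z, smul_zero]

lemma mem_killIdeal'_iff (M : Type u) [AddCommGroup M] [Module A M] (s : ℕ) (a : A) :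
    a ∈ killIdeal' I J M s ↔ ∀ (J' : Ideal A) [DRing.HasRgammaI J'],
    (∃ k : ℕ, (J ⊔ I) ^ k ≤ J' ⊔ I) → (∃ l : ℕ, (J' ⊔ I) ^ l ≤ J ⊔ I) → ∀ i : ℤ, i ≤ s →
    ∀ z : Dual.HD A ((DRing.derivedCompletion I).obj
      ((DRing.RgammaI J').obj (Dual.inD A M))).obj i, a • z = 0 := Iff.rfl

/-- the conclusion of the general bootstrap lemma -/
def Concl' (s : ℕ) (M : Type u) [AddCommGroup M] [Module A M] : Prop :=
  ∃ J₀ : Ideal A, J₀ ≤ J ∧ ZJ I J J₀ ∧ ∀ (J' : Ideal A) [DRing.HasRgammaI J'], J' ≤ J₀ →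
    ZJ I J J' → ∀ i : ℤ, i ≤ s → Good I J' (ModuleCat.of A M) i

lemma concl'_of_quotient (s : ℕ) (M : Type u) [AddCommGroup M] [Module A M]
    (N : Submodule A M)
    (hN : ∃ J₁ : Ideal A, J₁ ≤ J ∧ ZJ I J J₁ ∧ ∀ (J' : Ideal A) [DRing.HasRgammaI J'],
      J' ≤ J₁ → ZJ I J J' → DRing.IsDerivedComplete I ((KK J').obj (ModuleCat.of A N)))
    (h : Concl' I J s (M ⧸ N)) : Concl' I J s M := by
  obtain ⟨J₁, hJ₁le, hJ₁, hc⟩ := hN
  obtain ⟨J₂, hJ₂le, hJ₂, hg⟩ := h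
  refine ⟨J₁ ⊓ J₂, inf_le_left.trans hJ₁le, zj_inf hJ₁ hJ₂, fun J' _ hle hJ' i hi => ?_⟩
  exact good_of_quotient I J' (s : ℤ) M N (hc J' (hle.trans inf_le_left) hJ')
    (fun i hi => hg J' (hle.trans inf_le_right) hJ' i hi) i hi

lemma concl'_of_regular (s : ℕ) (M : Type u) [AddCommGroup M]
    [Module A M] (x : A) (hreg : IsSMulRegular M x) (J₁ : Ideal A) (hJ₁le : J₁ ≤ J)
    (hJ₁ : ZJ I J J₁)
    (hk : ∀ (J' : Ideal A) [DRing.HasRgammaI J'], J' ≤ J₁ → ZJ I J J' → ∀ i : ℤ,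
      i ≤ ((s + 1 : ℕ) : ℤ) →
      (∀ z : Dual.HD A ((DRing.RgammaI J').obj (Dual.inD A M)) i, x • z = 0) ∧
      (∀ z : Dual.HD A ((DRing.derivedCompletion I).obj
        ((DRing.RgammaI J').obj (Dual.inD A M))).obj i, x • z = 0))
    (h : Concl' I J s (QuotSMulTop x M)) : Concl' I J (s + 1) M := by
  obtain ⟨J₂, hJ₂le, hJ₂, hg⟩ := h
  refine ⟨J₁ ⊓ J₂, inf_le_left.trans hJ₁le, zj_inf hJ₁ hJ₂, fun J' _ hle hJ' i hi => ?_⟩
  have hi' : i ≤ (s : ℤ) + 1 := by push_cast at hi; exact hi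
  exact good_of_regular' I J' (s : ℤ) M x hreg
    (fun i hi => hk J' (hle.trans inf_le_left) hJ' i (by push_cast; exact hi))
    (fun i hi => hg J' (hle.trans inf_le_right) hJ' i hi) i hi'

omit [IsNoetherianRing A] [DRing.HasDerivedCompletion I] in
lemma exists_unit_sub_kills (J' : Ideal A) (hIjac : I ≤ (⊥ : Ideal A).jacobson) (k : ℕ)
    (hk : (J ⊔ I) ^ k ≤ J' ⊔ I) (M : Type u) [AddCommGroup M] [Module A M] (e : A)
    (he : e - 1 ∈ J ⊔ I) (N : Submodule A M) (hkill : ∀ x ∈ N, e • x = 0) :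
    ∃ j u : A, j ∈ J' ∧ IsUnit u ∧ ∀ x : N, (u - j) • x = 0 := by
  have ha : (1 - e) ^ k ∈ J' ⊔ I := by
    apply hk
    refine Ideal.pow_mem_pow ?_ k
    have : 1 - e = - (e - 1) := by ring
    rw [this]
    exact (J ⊔ I).neg_mem he
  obtain ⟨j', hj', i', hi', hji⟩ := Submodule.mem_sup.1 ha
  have h1 : ∀ x : N, (1 - e) • x = x := by
    intro x
    rw [sub_smul, one_smul]
    have : e • x = 0 := Subtype.ext (hkill x.1 x.2)
    rw [this, sub_zero]
  have hid : ∀ (k : ℕ) (x : N), (1 - e) ^ k • x = x := by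
    intro k
    induction k with
    | zero => intro x; rw [pow_zero, one_smul]
    | succ k ih =>
      intro x
      rw [pow_succ, mul_smul, h1, ih]
  refine ⟨j', 1 - i', hj', ?_, fun x => ?_⟩
  · have := (Ideal.mem_jacobson_bot.1 (hIjac hi')) (-1)
    have h2 : i' * -1 + 1 = 1 - i' := by ring
    rwa [h2] at this
  · have h2 : 1 - i' - j' = 1 - (1 - e) ^ k := by rw [← hji]; ring
    rw [h2, sub_smul, one_smul, hid, sub_self]

/-- **the general bootstrap lemma** (Stacks 52.10), by induction on `s` -/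
theorem main' [IsAdicComplete I A] (hdc : ∃ ω : Dual.D A, Dual.IsDualizing A ω) (d : ℕ)
    (hcd : LocCoh.CdLE A I d) (T : Set (PrimeSpectrum A))
    (hT : ∀ p : PrimeSpectrum A, p ∈ T ↔
      ∀ q : PrimeSpectrum A, p ≤ q → I ≤ q.asIdeal → J ≤ q.asIdeal)
    (δ : PrimeSpectrum A → ℤ) (hδ : ∀ p q : PrimeSpectrum A, p ⋖ q → δ p = δ q + 1) :
    ∀ (s : ℕ) (M : Type u) [AddCommGroup M] [Module A M] [Module.Finite A M],
      Cond4 I J T d s M → Cond5 I J T δ d s M → Concl' I J s M := by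
  have hIjac : I ≤ (⊥ : Ideal A).jacobson := IsAdicComplete.le_jacobson_bot I (R := A)
  intro s
  induction s with
  | zero =>
    intro M _ _ _ _ _
    haveI : IsNoetherian A M := isNoetherian_of_isNoetherianRing_of_finite A M
    obtain ⟨J₀, hJ₀le, hJ₀, hmax⟩ := exists_max_torsion' I J M
    refine ⟨J₀, hJ₀le, hJ₀, fun J' _ hle hJ' i hi => ?_⟩
    refine good_zero I J' M (fun J'' hJ''le hrad => ?_) i (by exact_mod_cast hi)
    exact (hmax J'' (hJ''le.trans (hle.trans hJ₀le))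
      (zj_of_le_radical hJ' hJ''le hrad)).trans (torsionSub_anti hle M)
  | succ s ih =>
    intro M _ _ _ hc4 hc5
    haveI : IsNoetherian A M := isNoetherian_of_isNoetherianRing_of_finite A M
    -- first reduction
    let N₁ : Submodule A M := DRing.torsionSub I M
    have hN₁ : ∀ p : PrimeSpectrum A, ¬ I ≤ p.asIdeal → p ∉ T →
        (∃ q : PrimeSpectrum A, p ≤ q ∧ J ≤ q.asIdeal ∧ I ≤ q.asIdeal) →
        ∀ n ∈ N₁, ∃ e : A, e ∉ p.asIdeal ∧ e • n = 0 := by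
      intro p hp _ _ n ⟨k, hk⟩
      obtain ⟨a, ha, hap⟩ := SetLike.not_le_iff_exists.1 hp
      exact ⟨a ^ k, fun h => hap (p.2.mem_of_pow_mem _ h), hk _ (Ideal.pow_mem_pow ha k)⟩
    have hc4₁ : Cond4 I J T d (s + 1) (M ⧸ N₁) := cond4_quot d (s + 1) M N₁ hN₁ hc4
    have hc5₁ : Cond5 I J T δ d (s + 1) (M ⧸ N₁) := cond5_quot δ d (s + 1) M N₁ hN₁ hc5
    have ht₁ : DRing.torsionSub I (M ⧸ N₁) = ⊥ := torsionSub_quotient_eq_bot I M
    -- second reduction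
    obtain ⟨J₀, hJ₀le, hJ₀, hmax⟩ := exists_max_torsion' I J (M ⧸ N₁)
    let N₂ : Submodule A (M ⧸ N₁) := DRing.torsionSub J₀ (M ⧸ N₁)
    have hN₂ : ∀ p : PrimeSpectrum A, ¬ I ≤ p.asIdeal → p ∉ T →
        (∃ q : PrimeSpectrum A, p ≤ q ∧ J ≤ q.asIdeal ∧ I ≤ q.asIdeal) →
        ∀ n ∈ N₂, ∃ e : A, e ∉ p.asIdeal ∧ e • n = 0 := by
      intro p _ hpT _ n ⟨k, hk⟩
      have hJ₀p : ¬ J₀ ≤ p.asIdeal := by
        intro hle
        apply hpT
        rw [hT]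
        intro q hpq hIq
        exact ((zj_iff J₀).1 hJ₀ q hIq).1 (hle.trans hpq)
      obtain ⟨a, ha, hap⟩ := SetLike.not_le_iff_exists.1 hJ₀p
      exact ⟨a ^ k, fun h => hap (p.2.mem_of_pow_mem _ h), hk _ (Ideal.pow_mem_pow ha k)⟩
    have hc4₂ : Cond4 I J T d (s + 1) ((M ⧸ N₁) ⧸ N₂) :=
      cond4_quot d (s + 1) (M ⧸ N₁) N₂ hN₂ hc4₁
    have hc5₂ : Cond5 I J T δ d (s + 1) ((M ⧸ N₁) ⧸ N₂) :=
      cond5_quot δ d (s + 1) (M ⧸ N₁) N₂ hN₂ hc5₁
    have ht₂ : DRing.torsionSub I ((M ⧸ N₁) ⧸ N₂) = ⊥ :=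
      torsionSub_quotient_eq_bot_of I J₀ (M ⧸ N₁) ht₁
    have ht₂' : ∀ J' : Ideal A, J' ≤ J → ZJ I J J' →
        DRing.torsionSub J' ((M ⧸ N₁) ⧸ N₂) = ⊥ :=
      fun J' hJ'le hJ' => torsionSub_quotient_max_eq_bot' (M ⧸ N₁) J₀ hJ₀ hmax J' hJ'le hJ'
    -- third reduction
    let N₃ : Submodule A ((M ⧸ N₁) ⧸ N₂) := farSub (J ⊔ I) ((M ⧸ N₁) ⧸ N₂)
    have hN₃ : ∀ p : PrimeSpectrum A, ¬ I ≤ p.asIdeal → p ∉ T →
        (∃ q : PrimeSpectrum A, p ≤ q ∧ J ≤ q.asIdeal ∧ I ≤ q.asIdeal) →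
        ∀ n ∈ N₃, ∃ e : A, e ∉ p.asIdeal ∧ e • n = 0 := by
      intro p _ _ ⟨q, hpq, hJq, hIq⟩ n ⟨e, he, hen⟩
      refine ⟨e, fun hep => ?_, hen⟩
      have h1 : e ∈ q.asIdeal := hpq hep
      have h2 : e - 1 ∈ q.asIdeal := (sup_le hJq hIq) he
      have h3 : (1 : A) ∈ q.asIdeal := by
        have := q.asIdeal.sub_mem h1 h2
        simpa using this
      exact q.2.ne_top ((Ideal.eq_top_iff_one _).2 h3)
    have hc4₃ : Cond4 I J T d (s + 1) (((M ⧸ N₁) ⧸ N₂) ⧸ N₃) :=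
      cond4_quot d (s + 1) ((M ⧸ N₁) ⧸ N₂) N₃ hN₃ hc4₂
    have hc5₃ : Cond5 I J T δ d (s + 1) (((M ⧸ N₁) ⧸ N₂) ⧸ N₃) :=
      cond5_quot δ d (s + 1) ((M ⧸ N₁) ⧸ N₂) N₃ hN₃ hc5₂
    have ht₃ : DRing.torsionSub I (((M ⧸ N₁) ⧸ N₂) ⧸ N₃) = ⊥ :=
      torsionSub_quotient_farSub_eq_bot (J ⊔ I) I ((M ⧸ N₁) ⧸ N₂) ht₂
    have ht₃' : ∀ J' : Ideal A, J' ≤ J → ZJ I J J' →
        DRing.torsionSub J' (((M ⧸ N₁) ⧸ N₂) ⧸ N₃) = ⊥ :=
      fun J' hJ'le hJ' =>
        torsionSub_quotient_farSub_eq_bot (J ⊔ I) J' ((M ⧸ N₁) ⧸ N₂) (ht₂' J' hJ'le hJ')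
    have hf₃ : farSub (J ⊔ I) (((M ⧸ N₁) ⧸ N₂) ⧸ N₃) = ⊥ :=
      farSub_quotient_eq_bot (J ⊔ I) ((M ⧸ N₁) ⧸ N₂)
    -- the core step
    have core : Concl' I J (s + 1) (((M ⧸ N₁) ⧸ N₂) ⧸ N₃) := by
      obtain ⟨J₁, hJ₁le, hJ₁, n, hn⟩ := exists_J0_kills' I J hdc hIjac d hcd T hT
        (((M ⧸ N₁) ⧸ N₂) ⧸ N₃) (s + 1) hc4₃
      have h𝔟 : ∀ p : PrimeSpectrum A,
          (∀ p' q : PrimeSpectrum A, p' ≤ p → J ⊔ I ≤ q.asIdeal → p' ≤ q →
            ((d + (s + 1) : ℕ) : WithBot ℕ∞) <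
              ((LocCoh.depth (Localization.AtPrime p'.asIdeal)
                (LocalizedModule p'.asIdeal.primeCompl (((M ⧸ N₁) ⧸ N₂) ⧸ N₃)) : ℕ∞) :
                  WithBot ℕ∞) + Order.krullDim (Set.Icc p' q)) →
          ¬ killIdeal' I J (((M ⧸ N₁) ⧸ N₂) ⧸ N₃) (s + 1) ≤ p.asIdeal := by
        intro p hp hle
        obtain ⟨f, hf, hk⟩ := exists_kills_uniform' I J hdc (((M ⧸ N₁) ⧸ N₂) ⧸ N₃) p (s + 1) d
          hcd hp
        refine hf (hle ?_)
        rw [mem_killIdeal'_iff]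
        intro J' _ h1 h2 i hi z
        exact hk J' h1 h2 i hi z
      obtain ⟨x, hx, hreg⟩ := exists_regular' I J T hT δ hδ d s (((M ⧸ N₁) ⧸ N₂) ⧸ N₃)
        ht₃ ht₃' hf₃ hc4₃ hc5₃ J₁ hJ₁le hJ₁ (killIdeal' I J (((M ⧸ N₁) ⧸ N₂) ⧸ N₃) (s + 1)) h𝔟
      have hx1 : x ∈ J₁ * I := Ideal.mul_le_left hx
      have hx2 : x ∈ killIdeal' I J (((M ⧸ N₁) ⧸ N₂) ⧸ N₃) (s + 1) := Ideal.mul_le_right hx
      have hreg' : IsSMulRegular (((M ⧸ N₁) ⧸ N₂) ⧸ N₃) (x ^ (n + 1)) := hreg.pow (n + 1)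
      have hx1' : x ^ (n + 1) ∈ (J₁ * I) ^ n := by
        rw [pow_succ]
        exact Ideal.mul_mem_right _ _ (Ideal.pow_mem_pow hx1 n)
      have hx2' : x ^ (n + 1) ∈ killIdeal' I J (((M ⧸ N₁) ⧸ N₂) ⧸ N₃) (s + 1) :=
        Ideal.pow_mem_of_mem _ hx2 (n + 1) (Nat.succ_pos n)
      have hc4' := cond4_quotSMulTop d s (((M ⧸ N₁) ⧸ N₂) ⧸ N₃) (x ^ (n + 1)) hreg' hc4₃
      have hc5' := cond5_quotSMulTop δ d s (((M ⧸ N₁) ⧸ N₂) ⧸ N₃) (x ^ (n + 1)) hreg' hc5₃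
      have hih := ih (QuotSMulTop (x ^ (n + 1)) (((M ⧸ N₁) ⧸ N₂) ⧸ N₃)) hc4' hc5'
      refine concl'_of_regular I J s (((M ⧸ N₁) ⧸ N₂) ⧸ N₃) (x ^ (n + 1)) hreg' J₁ hJ₁le hJ₁
        (fun J' _ hle hJ' i hi => ⟨?_, ?_⟩) hih
      · exact hn _ hx1' J' hle hJ' i hi
      · exact (mem_killIdeal'_iff I J _ _ _).1 hx2' J' (exists_pow_le_of_zj zj_refl hJ')
          (exists_pow_le_of_zj hJ' zj_refl) i hi
    -- back to `(M ⧸ N₁) ⧸ N₂`
    have c₂ : Concl' I J (s + 1) ((M ⧸ N₁) ⧸ N₂) := by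
      refine concl'_of_quotient I J (s + 1) ((M ⧸ N₁) ⧸ N₂) N₃ ?_ core
      obtain ⟨e, he, hkill⟩ := exists_kills_farSub (J ⊔ I) ((M ⧸ N₁) ⧸ N₂)
      refine ⟨J, le_rfl, zj_refl, fun J' _ _ hJ' => ?_⟩
      obtain ⟨k, hk⟩ := exists_pow_le_of_zj (I := I) (J := J) zj_refl hJ'
      obtain ⟨j, u, hj, hu, hju⟩ := exists_unit_sub_kills I J J' hIjac k hk ((M ⧸ N₁) ⧸ N₂) e he
        N₃ hkill
      exact isDerivedComplete_KK_of_far I J' (ModuleCat.of A N₃) j u hj hu hju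
    -- back to `M ⧸ N₁`
    have c₁ : Concl' I J (s + 1) (M ⧸ N₁) := by
      refine concl'_of_quotient I J (s + 1) (M ⧸ N₁) N₂ ?_ c₂
      obtain ⟨k, hk⟩ := exists_pow_kills_torsionSub J₀ (M ⧸ N₁)
      refine ⟨J₀ ^ (k + 1), (Ideal.pow_le_self (Nat.succ_ne_zero k)).trans hJ₀le,
        zj_pow hJ₀ k, fun J' _ hle _ => ?_⟩
      haveI : Module.Finite A (ModuleCat.of A N₂) := inferInstanceAs (Module.Finite A N₂)
      refine isDerivedComplete_KK_of_kills I J' (ModuleCat.of A N₂) (fun a ha x => ?_)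
      apply Subtype.ext
      exact hk a (Ideal.pow_le_pow_right (Nat.le_succ k) (hle ha)) x.1 x.2
    -- back to `M`
    refine concl'_of_quotient I J (s + 1) M N₁ ?_ c₁
    obtain ⟨k, hk⟩ := exists_pow_kills_torsionSub I M
    refine ⟨J, le_rfl, zj_refl, fun J' _ _ _ => ?_⟩
    refine isDerivedComplete_KK_of_pow_kills I J' (ModuleCat.of A N₁) k (fun a ha x => ?_)
    apply Subtype.ext
    exact hk a ha x.1 x.2

end General

end Groth.Agent.Lib.helper19.DCB13
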