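import Mathlib
import Groth.Agent.Lib.Helper19.DefCI

set_option autoImplicit false
universe u
open TensorProduct Function

namespace Groth.Agent.Lib.Helper19.DefCI2
open Groth.Agent.Lib.Helper19.DefCI

section Conv
variable {C : Type u} [CommRing C] (𝔞 : Ideal C)

theorem liftBaseChange_bijective {Q Q₀ : Type u} [AddCommGroup Q] [Module C Q]
    [AddCommGroup Q₀] [Module C Q₀] [Module (C ⧸ 𝔞) Q₀] [IsScalarTower C (C ⧸ 𝔞) Q₀]
    (q : Q →ₗ[C] Q₀) (hq : Function.Surjective q)
    (hker : LinearMap.ker q = 𝔞 • (⊤ : Submodule C Q)) :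
    Function.Bijective (LinearMap.liftBaseChange (C ⧸ 𝔞) q) := by
  set φ : (C ⧸ 𝔞) ⊗[C] Q →ₗ[C ⧸ 𝔞] Q₀ := LinearMap.liftBaseChange (C ⧸ 𝔞) q
  have hφ : ∀ (d : C ⧸ 𝔞) (x : Q), φ (d ⊗ₜ x) = d • q x := fun d x => by
    simp [φ]
  have hone : ∀ t : (C ⧸ 𝔞) ⊗[C] Q, ∃ x : Q, t = (1 : C ⧸ 𝔞) ⊗ₜ x := by
    intro t
    induction t using TensorProduct.induction_on with
    | zero => exact ⟨0, by simp⟩
    | tmul d x =>
      obtain ⟨c, rfl⟩ := Ideal.Quotient.mk_surjective d
      refine ⟨c • x, ?_⟩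
      rw [TensorProduct.tmul_smul, TensorProduct.smul_tmul', Algebra.smul_def, mul_one]
      rfl
    | add t₁ t₂ h₁ h₂ =>
      obtain ⟨x₁, rfl⟩ := h₁
      obtain ⟨x₂, rfl⟩ := h₂
      exact ⟨x₁ + x₂, by rw [TensorProduct.tmul_add]⟩
  have hinj : Function.Injective φ := by
    rw [injective_iff_map_eq_zero]
    intro t ht
    obtain ⟨x, rfl⟩ := hone t
    rw [hφ, one_smul] at ht
    have hx : x ∈ 𝔞 • (⊤ : Submodule C Q) := by rw [← hker]; exact ht
    refine Submodule.smul_induction_on hx ?_ ?_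
    · intro a ha y _
      rw [TensorProduct.tmul_smul, TensorProduct.smul_tmul', Algebra.smul_def, mul_one]
      have : algebraMap C (C ⧸ 𝔞) a = 0 := Ideal.Quotient.eq_zero_iff_mem.mpr ha
      rw [this, TensorProduct.zero_tmul]
    · intro y z hy hz
      rw [TensorProduct.tmul_add, hy, hz, add_zero]
  have hsurj : Function.Surjective φ := by
    intro y
    obtain ⟨x, rfl⟩ := hq y
    exact ⟨1 ⊗ₜ x, by rw [hφ, one_smul]⟩
  exact ⟨hinj, hsurj⟩

theorem flat_of_flatMod_of_surjective {Q Q₀ : Type u} [AddCommGroup Q] [Module C Q]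
    [AddCommGroup Q₀] [Module C Q₀] [Module (C ⧸ 𝔞) Q₀] [IsScalarTower C (C ⧸ 𝔞) Q₀]
    (q : Q →ₗ[C] Q₀) (hq : Function.Surjective q)
    (hker : LinearMap.ker q = 𝔞 • (⊤ : Submodule C Q)) (h : FlatMod 𝔞 Q) :
    Module.Flat (C ⧸ 𝔞) Q₀ := by
  unfold FlatMod at h
  exact Module.Flat.of_linearEquiv
    (LinearEquiv.ofBijective _ (liftBaseChange_bijective 𝔞 q hq hker)).symm

end Conv

section Sub
variable {D : Type u} [CommRing D] {M : Type u} [AddCommGroup M] [Module D M]

theorem flat_submodule_of_flat_quotient (N : Submodule D M) [Module.Flat D M]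
    [Module.Flat D (M ⧸ N)] : Module.Flat D ↥N := by
  rw [Module.Flat.iff_rTensor_injective']
  intro 𝔟
  have h1 : Function.Injective (LinearMap.lTensor ↥𝔟 N.subtype) :=
    LinearMap.lTensor_injective_of_exact_of_flat N.mkQ (Submodule.mkQ_surjective _) N.subtype
      (Submodule.subtype_injective _) (LinearMap.exact_subtype_mkQ _) ↥𝔟
  have h2 : Function.Injective (LinearMap.rTensor M 𝔟.subtype) :=
    Module.Flat.rTensor_preserves_injective_linearMap _ Subtype.val_injective
  have h3 : (LinearMap.lTensor D N.subtype) ∘ₗ (LinearMap.rTensor ↥N 𝔟.subtype) =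
      (LinearMap.rTensor M 𝔟.subtype) ∘ₗ (LinearMap.lTensor ↥𝔟 N.subtype) := by
    rw [LinearMap.lTensor_comp_rTensor, LinearMap.rTensor_comp_lTensor]
  have h4 : Function.Injective ((LinearMap.lTensor D N.subtype) ∘ₗ (LinearMap.rTensor ↥N 𝔟.subtype)) := by
    rw [h3, LinearMap.coe_comp]
    exact h2.comp h1
  rw [LinearMap.coe_comp] at h4
  exact Function.Injective.of_comp h4

end Sub

section Misc
variable {C A : Type u} [CommRing C] [CommRing A] [Algebra C A] [Module.Flat C A]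

theorem flat_pi_fin (n : ℕ) : Module.Flat C (Fin n → A) :=
  Module.Flat.of_linearEquiv (DFinsupp.linearEquivFunOnFintype (R := C) (M := fun _ : Fin n => A)).symm

theorem flat_quotient_map (J : Ideal C) : Module.Flat (C ⧸ J) (A ⧸ J.map (algebraMap C A)) := by
  have hFM : FlatMod J A := by
    unfold FlatMod
    infer_instance
  refine flat_of_flatMod_of_surjective J
    ((Ideal.Quotient.mkₐ C (J.map (algebraMap C A))).toLinearMap) ?_ ?_ hFM
  · exact Ideal.Quotient.mk_surjective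
  · ext x
    rw [Ideal.smul_top_eq_map, LinearMap.mem_ker, Submodule.restrictScalars_mem]
    exact Ideal.Quotient.eq_zero_iff_mem

end Misc

end Groth.Agent.Lib.Helper19.DefCI2
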