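import Mathlib
import Groth.Agent.Lib.Helper26.DepthLoc
set_option autoImplicit false

/-! (helper19) `localizedMap_bijective`: a linear map whose kernel and cokernel are killed by an element
of `S` becomes bijective after localizing at `S`. `two_le_idealDepth`: a finite submodule `D` of an
injective module `E'` with `Γ_I(E') = 0 = Γ_I(E'/D)` has `I`-depth at least two. -/

universe u
namespace Groth.Agent.Lib.helper19.DepthTwo
open CategoryTheory

variable {A : Type u} [CommRing A]

section loc
variable {M N : Type u} [AddCommGroup M] [Module A M] [AddCommGroup N] [Module A N]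

lemma mk_eq_zero_iff' {M : Type u} [AddCommGroup M] [Module A M] (S : Submonoid A) (m : M) (t : S) :
    LocalizedModule.mk m t = 0 ↔ ∃ c : S, c • m = 0 := by
  rw [← LocalizedModule.zero_mk (1 : S), LocalizedModule.mk_eq]
  constructor
  · rintro ⟨u, hu⟩
    refine ⟨u, ?_⟩
    rw [one_smul, smul_zero, smul_zero] at hu
    exact hu
  · rintro ⟨c, hc⟩
    exact ⟨c, by rw [one_smul, hc, smul_zero, smul_zero]⟩

theorem localizedMap_bijective (S : Submonoid A) (f : M →ₗ[A] N) (s : A) (hs : s ∈ S)
    (hker : ∀ x, f x = 0 → s • x = 0) (hcoker : ∀ y : N, ∃ x, f x = s • y) :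
    Function.Bijective (LocalizedModule.map S f) := by
  constructor
  · rw [← LinearMap.ker_eq_bot, LinearMap.ker_eq_bot']
    intro z hz
    induction z using LocalizedModule.induction_on with
    | h m t =>
      rw [LocalizedModule.map_mk] at hz
      rw [mk_eq_zero_iff'] at hz ⊢
      obtain ⟨c, hc⟩ := hz
      refine ⟨⟨s, hs⟩ * c, ?_⟩
      have h1 : f ((c : A) • m) = 0 := by rw [map_smul]; exact hc
      have h2 := hker _ h1
      rw [Submonoid.smul_def, Submonoid.coe_mul, mul_smul]
      exact h2
  · intro z
    induction z using LocalizedModule.induction_on with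
    | h y t =>
      obtain ⟨x, hx⟩ := hcoker y
      refine ⟨LocalizedModule.mk x (⟨s, hs⟩ * t), ?_⟩
      rw [LocalizedModule.map_mk, hx, LocalizedModule.mk_eq]
      refine ⟨1, ?_⟩
      simp only [one_smul, Submonoid.smul_def, mul_smul]
      rw [smul_comm]

end loc

section depth
open Abelian LocCoh Groth.Agent.Lib.helper26.Depth
variable [IsNoetherianRing A] (I : Ideal A)

omit [IsNoetherianRing A] in
/-- homs out of `A ⧸ I` into a module without `I`-torsion vanish. -/
lemma hom_quot_eq_zero {X : Type u} [AddCommGroup X] [Module A X]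
    (h0 : ∀ x : X, (∀ a ∈ I, a • x = 0) → x = 0)
    (φ : ModuleCat.of A (A ⧸ I) ⟶ ModuleCat.of A X) : φ = 0 := by
  apply ModuleCat.hom_ext
  apply LinearMap.ext
  intro q
  obtain ⟨r, rfl⟩ := Submodule.Quotient.mk_surjective _ q
  have h1 : φ.hom (Submodule.Quotient.mk 1) = 0 := by
    apply h0
    intro a ha
    rw [← map_smul, ← Submodule.Quotient.mk_smul, (Submodule.Quotient.mk_eq_zero I).2, map_zero]
    rw [smul_eq_mul, mul_one]
    exact ha
  have h2 : (Submodule.Quotient.mk r : A ⧸ I) = r • Submodule.Quotient.mk 1 := by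
    rw [← Submodule.Quotient.mk_smul, smul_eq_mul, mul_one]
  rw [h2, map_smul, h1, smul_zero]
  rfl

theorem two_le_idealDepth (D E' : Type u) [AddCommGroup D] [Module A D] [Module.Finite A D]
    [AddCommGroup E'] [Module A E'] (j : D →ₗ[A] E') (hj : Function.Injective j)
    (hE' : Module.Injective A E')
    (h0 : ∀ x : E', (∀ a ∈ I, a • x = 0) → x = 0)
    (h1 : ∀ x : E', (∀ a ∈ I, a • x ∈ LinearMap.range j) → x ∈ LinearMap.range j) :
    (2 : ℕ∞) ≤ idealDepth I D := by
  have h2 : ((2 : ℕ) : ℕ∞) ≤ idealDepth I D := by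
    rw [le_idealDepth_iff_ext I D 2]
    -- the short exact sequence
    let C := E' ⧸ LinearMap.range j
    let S : ShortComplex (ModuleCat.{u} A) :=
      ShortComplex.mk (ModuleCat.ofHom j) (ModuleCat.ofHom (LinearMap.range j).mkQ) (by
        apply ModuleCat.hom_ext
        apply LinearMap.ext
        intro x
        change (LinearMap.range j).mkQ (j x) = 0
        rw [Submodule.mkQ_apply, Submodule.Quotient.mk_eq_zero]
        exact ⟨x, rfl⟩)
    have hS : S.ShortExact := by
      refine ShortComplex.ShortExact.mk' ?_ ?_ ?_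
      · rw [ShortComplex.moduleCat_exact_iff]
        intro x hx
        have hx' : (LinearMap.range j).mkQ x = 0 := hx
        rw [Submodule.mkQ_apply, Submodule.Quotient.mk_eq_zero] at hx'
        exact hx'
      · rw [ModuleCat.mono_iff_injective]
        exact hj
      · rw [ModuleCat.epi_iff_surjective]
        exact Submodule.mkQ_surjective _
    haveI : Injective (ModuleCat.of A E') := Module.injective_object_of_injective_module A E'
    have hD0 : ∀ x : D, (∀ a ∈ I, a • x = 0) → x = 0 := by
      intro x hx
      apply hj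
      rw [map_zero]
      apply h0
      intro a ha
      rw [← map_smul, hx a ha, map_zero]
    have hC0 : ∀ x : C, (∀ a ∈ I, a • x = 0) → x = 0 := by
      intro q hq
      obtain ⟨x, rfl⟩ := Submodule.mkQ_surjective _ q
      rw [Submodule.mkQ_apply, Submodule.Quotient.mk_eq_zero]
      apply h1
      intro a ha
      have := hq a ha
      rw [← map_smul, Submodule.mkQ_apply, Submodule.Quotient.mk_eq_zero] at this
      exact this
    intro i hi
    interval_cases i
    · refine ⟨fun x y => ?_⟩
      apply Ext.homEquiv₀.injective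
      rw [hom_quot_eq_zero I hD0 (Ext.homEquiv₀ x), hom_quot_eq_zero I hD0 (Ext.homEquiv₀ y)]
    · have key : ∀ x : Ext (ModuleCat.of A (A ⧸ I)) (ModuleCat.of A D) 1, x = 0 := by
        intro x
        obtain ⟨x₃, hx₃⟩ := Ext.covariant_sequence_exact₁ (ModuleCat.of A (A ⧸ I)) hS x
          (Ext.eq_zero_of_injective _) (zero_add 1)
        have h3 : x₃ = 0 := by
          apply Ext.homEquiv₀.injective
          rw [hom_quot_eq_zero I hC0 (Ext.homEquiv₀ x₃)]
          have : Ext.homEquiv₀ (0 : Ext (ModuleCat.of A (A ⧸ I)) S.X₃ 0) = 0 :=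
            map_zero Ext.addEquiv₀
          exact this.symm
        rw [← hx₃, h3, Ext.zero_comp]
      exact ⟨fun x y => by rw [key x, key y]⟩
  exact_mod_cast h2

end depth

end Groth.Agent.Lib.helper19.DepthTwo
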