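import Mathlib
import Groth.Agent.Lib.Helper19.FSDiff1

/-!
# `p`-polynomial extensions of local rings I: derivations and the embedding dimension (helper19)

Generic lemmas on a local ring `R` with residue field `K`:

* `derivation_eq_zero_of_mem_sq`: a derivation into a module killed by `𝔪` vanishes on `𝔪²`.
* `card_le_spanFinrank`: if `y_j ∈ 𝔪` and derivations `D_i : R → K` satisfy `D_i y_j = δ_ij`
  then the embedding dimension of `R` is at least the number of the `y_j`.
* `spanFinrank_le_card`: Nakayama upper bound for the embedding dimension.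
* `exists_derivation_cotangent`: if the residue characteristic is `p` and `p ∈ 𝔪²`, there is a
  derivation `δ : R → 𝔪/𝔪²` restricting to the quotient map on `𝔪` (coefficient field of `R/𝔪²`).
* `exists_derivation_of_functional`: every functional on `𝔪/𝔪²` is induced by a derivation `R → K`.
-/

set_option autoImplicit false
universe u

namespace Groth.Agent.Lib.helper19.PPoly

open IsLocalRing Polynomial

theorem derivation_eq_zero_of_mem_sq {R : Type*} [CommRing R] (I : Ideal R)
    {L : Type*} [AddCommGroup L] [Module R L] (hL : ∀ a ∈ I, ∀ l : L, a • l = 0)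
    (D : Derivation ℤ R L) {z : R} (hz : z ∈ I ^ 2) : D z = 0 := by
  rw [pow_two] at hz
  refine Submodule.mul_induction_on hz (fun a ha b hb => ?_) (fun u v hu hv => ?_)
  · rw [D.leibniz, hL a ha, hL b hb, add_zero]
  · rw [map_add, hu, hv, add_zero]

theorem smul_residueField_eq_zero {R : Type*} [CommRing R] [IsLocalRing R] :
    ∀ a ∈ maximalIdeal R, ∀ l : ResidueField R, a • l = 0 := by
  intro a ha l
  rw [Algebra.smul_def, ResidueField.algebraMap_eq, (residue_eq_zero_iff a).2 ha, zero_mul]

/-- lower bound for the embedding dimension by dual families of derivations -/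
theorem card_le_spanFinrank {R : Type u} [CommRing R] [IsLocalRing R] [IsNoetherianRing R]
    {ι : Type*} [Fintype ι] [DecidableEq ι] (y : ι → R) (hy : ∀ j, y j ∈ maximalIdeal R)
    (D : ι → Derivation ℤ R (ResidueField R))
    (h : ∀ i j, D i (y j) = if i = j then 1 else 0) :
    Fintype.card ι ≤ (maximalIdeal R).spanFinrank := by
  rw [spanFinrank_maximalIdeal_eq_finrank_cotangentSpace]
  have hli : LinearIndependent (ResidueField R)
      (fun j => (maximalIdeal R).toCotangent ⟨y j, hy j⟩) := by
    rw [Fintype.linearIndependent_iff]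
    intro c hc i
    choose b hb using fun j => residue_surjective (c j)
    have h0 : ∀ j, c j • (maximalIdeal R).toCotangent ⟨y j, hy j⟩ =
        (maximalIdeal R).toCotangent (b j • ⟨y j, hy j⟩) := by
      intro j
      rw [map_smul, ← hb j]
      rfl
    have h1 : (maximalIdeal R).toCotangent (∑ j, b j • (⟨y j, hy j⟩ : maximalIdeal R)) = 0 := by
      rw [map_sum, ← hc]
      exact Finset.sum_congr rfl fun j _ => (h0 j).symm
    rw [Ideal.toCotangent_eq_zero] at h1
    have h2 : ((∑ j, b j • (⟨y j, hy j⟩ : maximalIdeal R) : maximalIdeal R) : R) =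
        ∑ j, b j * y j := by
      rw [Submodule.coe_sum]
      rfl
    rw [h2] at h1
    have h3 := derivation_eq_zero_of_mem_sq (maximalIdeal R) smul_residueField_eq_zero (D i) h1
    rw [map_sum] at h3
    have h4 : ∀ j, D i (b j * y j) = if i = j then residue R (b j) else 0 := by
      intro j
      rw [(D i).leibniz, h i j, smul_residueField_eq_zero (y j) (hy j), add_zero]
      split_ifs
      · rw [Algebra.smul_def, mul_one, ResidueField.algebraMap_eq]
      · rw [smul_zero]
    rw [Finset.sum_congr rfl fun j _ => h4 j, Finset.sum_ite_eq, if_pos (Finset.mem_univ i)] at h3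
    rw [← hb i, h3]
  exact hli.fintype_card_le_finrank

/-- Nakayama upper bound for the embedding dimension -/
theorem spanFinrank_le_card {R : Type u} [CommRing R] [IsLocalRing R] [IsNoetherianRing R]
    {ι : Type*} [Fintype ι] (y : ι → R) (hy : ∀ j, y j ∈ maximalIdeal R)
    (h : maximalIdeal R ≤ Ideal.span (Set.range y) ⊔ maximalIdeal R ^ 2) :
    (maximalIdeal R).spanFinrank ≤ Fintype.card ι := by
  classical
  have hfg : (maximalIdeal R).FG := (maximalIdeal R).fg_of_isNoetherianRing
  have hle : maximalIdeal R ≤ Ideal.span (Set.range y) ⊔ maximalIdeal R • maximalIdeal R := by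
    refine h.trans (sup_le_sup_left (le_of_eq ?_) _)
    rw [pow_two, smul_eq_mul]
  have hle2 : maximalIdeal R ≤ Ideal.span (Set.range y) :=
    Submodule.le_of_le_smul_of_le_jacobson_bot hfg (maximalIdeal_le_jacobson _) hle
  have heq : maximalIdeal R = Ideal.span (Set.range y) := by
    refine le_antisymm hle2 ?_
    rw [Ideal.span_le]
    rintro _ ⟨j, rfl⟩
    exact hy j
  rw [heq]
  refine (Submodule.spanFinrank_span_le_ncard_of_finite (R := R) (Set.finite_range y)).trans ?_
  have h1 : Set.range y = ((Finset.univ.image y : Finset R) : Set R) := by simp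
  rw [h1, Set.ncard_coe_finset]
  exact Finset.card_image_le.trans (by simp)

section coef

variable {A : Type u} [CommRing A] [IsLocalRing A] (p : ℕ) [hp : Fact p.Prime]
  [CharP (ResidueField A) p]

/-- If the residue characteristic is `p` and `p ∈ 𝔪²`, the ring `A/𝔪²` has a coefficient field,
which yields a derivation `A → 𝔪/𝔪²` extending the quotient map `𝔪 → 𝔪/𝔪²`. -/
theorem exists_derivation_cotangent (hp2 : (p : A) ∈ maximalIdeal A ^ 2) :
    ∃ δ : Derivation ℤ A (CotangentSpace A), ∀ (y : A) (hy : y ∈ maximalIdeal A),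
      δ y = (maximalIdeal A).toCotangent ⟨y, hy⟩ := by
  classical
  let R₂ := A ⧸ maximalIdeal A ^ 2
  have hne : maximalIdeal A ^ 2 ≠ ⊤ := fun h =>
    (maximalIdeal.isMaximal A).ne_top (top_le_iff.1 (h ▸ Ideal.pow_le_self two_ne_zero))
  have : Nontrivial R₂ := Ideal.Quotient.nontrivial_iff.2 hne
  have hchar : CharP R₂ p := by
    rw [CharP.charP_iff_prime_eq_zero hp.out]
    have : Ideal.Quotient.mk (maximalIdeal A ^ 2) (p : A) = 0 :=
      Ideal.Quotient.eq_zero_iff_mem.2 hp2
    rwa [map_natCast] at this
  let _ : Algebra (ZMod p) R₂ := ZMod.algebra R₂ p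
  let _ : Algebra (ZMod p) (ResidueField A) := ZMod.algebra (ResidueField A) p
  let F := ULift.{u} (ZMod p)
  let eF : F ≃+* ZMod p := ULift.ringEquiv
  have : Finite F := inferInstance
  have : PerfectField F := PerfectField.ofFinite
  let _ : Algebra F R₂ := ((algebraMap (ZMod p) R₂).comp (eF : F →+* ZMod p)).toAlgebra
  let _ : Algebra F (ResidueField A) :=
    ((algebraMap (ZMod p) (ResidueField A)).comp (eF : F →+* ZMod p)).toAlgebra
  have hsub : ∀ (g1 g2 : F →+* ResidueField A), g1 = g2 := by
    intro g1 g2
    have h1 := Subsingleton.elim (g1.comp (eF.symm : ZMod p →+* F))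
      (g2.comp (eF.symm : ZMod p →+* F))
    ext x
    have h2 := RingHom.congr_fun h1 (eF x)
    simpa using h2
  have hfs : Algebra.FormallySmooth F (ResidueField A) :=
    Groth.Agent.Lib.helper19.CohenK.formallySmooth_of_perfectField F (ResidueField A)
  let π₀ : R₂ →+* ResidueField A := Ideal.Quotient.factor (Ideal.pow_le_self two_ne_zero)
  let π : R₂ →ₐ[F] ResidueField A :=
    { π₀ with
      commutes' := fun c => RingHom.congr_fun
        (hsub (π₀.comp (algebraMap F R₂)) (algebraMap F (ResidueField A))) c }
  have hπmk : ∀ b : A, π (Ideal.Quotient.mk _ b) = residue A b := fun b => rfl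
  have hπs : Function.Surjective π := by
    intro c
    obtain ⟨b, rfl⟩ := residue_surjective c
    exact ⟨Ideal.Quotient.mk _ b, hπmk b⟩
  have hker2 : ∀ u v : R₂, π u = 0 → π v = 0 → u * v = 0 := by
    intro u v hu hv
    obtain ⟨a, rfl⟩ := Ideal.Quotient.mk_surjective u
    obtain ⟨b, rfl⟩ := Ideal.Quotient.mk_surjective v
    rw [hπmk, residue_eq_zero_iff] at hu hv
    rw [← map_mul, Ideal.Quotient.eq_zero_iff_mem, pow_two]
    exact Ideal.mul_mem_mul hu hv
  have hnil : IsNilpotent (RingHom.ker (π : R₂ →+* ResidueField A)) := by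
    refine ⟨2, ?_⟩
    rw [Ideal.zero_eq_bot, eq_bot_iff]
    refine (le_of_eq (pow_two _)).trans (Ideal.mul_le.2 ?_)
    intro u hu v hv
    rw [Ideal.mem_bot]
    exact hker2 u v hu hv
  let σ : ResidueField A →ₐ[F] R₂ :=
    Algebra.FormallySmooth.liftOfSurjective (AlgHom.id F _) π hπs hnil
  have hσ : ∀ c, π (σ c) = c := fun c =>
    Algebra.FormallySmooth.liftOfSurjective_apply (AlgHom.id F _) π hπs hnil c
  let δ₀ : Derivation ℤ A R₂ :=
    { toFun := fun b => Ideal.Quotient.mk _ b - σ (residue A b)
      map_add' := fun a b => by simp only [map_add]; ring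
      map_smul' := fun n a => by simp only [map_zsmul, RingHom.id_apply, smul_sub]
      map_one_eq_zero' := by simp
      leibniz' := fun a b => by
        show Ideal.Quotient.mk _ (a * b) - σ (residue A (a * b)) =
          a • (Ideal.Quotient.mk _ b - σ (residue A b)) +
            b • (Ideal.Quotient.mk _ a - σ (residue A a))
        have h0 := hker2 (Ideal.Quotient.mk _ a - σ (residue A a))
          (Ideal.Quotient.mk _ b - σ (residue A b)) (by rw [map_sub, hσ, hπmk, sub_self])
          (by rw [map_sub, hσ, hπmk, sub_self])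
        rw [Algebra.smul_def, Algebra.smul_def, Ideal.Quotient.algebraMap_eq, map_mul, map_mul,
          map_mul]
        linear_combination -h0 }
  have hδ₀ : ∀ b, δ₀ b = Ideal.Quotient.mk _ b - σ (residue A b) := fun b => rfl
  have hδ₀π : ∀ b, π (δ₀ b) = 0 := fun b => by rw [hδ₀, map_sub, hσ, hπmk, sub_self]
  let ι : CotangentSpace A →ₗ[A] R₂ := (maximalIdeal A).cotangentToQuotientSquare
  have hι : Function.Injective ι := (maximalIdeal A).cotangentToQuotientSquare_injective
  have hιmk : ∀ (y : A) (hy : y ∈ maximalIdeal A),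
      ι ((maximalIdeal A).toCotangent ⟨y, hy⟩) = Ideal.Quotient.mk _ y := fun y hy => rfl
  have hrange : ∀ b, ∃ c : CotangentSpace A, ι c = δ₀ b := by
    intro b
    obtain ⟨b', hb'⟩ := Ideal.Quotient.mk_surjective (δ₀ b)
    have h1 : b' ∈ maximalIdeal A := by
      rw [← residue_eq_zero_iff, ← hπmk, hb', hδ₀π]
    exact ⟨(maximalIdeal A).toCotangent ⟨b', h1⟩, by rw [hιmk, hb']⟩
  choose c hc using hrange
  let δ : Derivation ℤ A (CotangentSpace A) :=
    { toFun := c
      map_add' := fun a b => hι (by rw [map_add, hc, hc, hc, map_add])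
      map_smul' := fun n a => hι (by
        rw [RingHom.id_apply, map_zsmul, hc, hc, map_zsmul])
      map_one_eq_zero' := hι (by
        show ι (c 1) = ι 0
        rw [hc, map_zero, δ₀.map_one_eq_zero])
      leibniz' := fun a b => hι (by
        show ι (c (a * b)) = ι (a • c b + b • c a)
        rw [map_add, map_smul, map_smul, hc, hc, hc, δ₀.leibniz]) }
  refine ⟨δ, fun y hy => hι ?_⟩
  show ι (c y) = _
  rw [hc, hιmk, hδ₀, (residue_eq_zero_iff y).2 hy, map_zero, sub_zero]

/-- every linear functional on the cotangent space is induced by a derivation -/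
theorem exists_derivation_of_functional (hp2 : (p : A) ∈ maximalIdeal A ^ 2)
    (φ : CotangentSpace A →ₗ[ResidueField A] ResidueField A) :
    ∃ D : Derivation ℤ A (ResidueField A), ∀ (y : A) (hy : y ∈ maximalIdeal A),
      D y = φ ((maximalIdeal A).toCotangent ⟨y, hy⟩) := by
  obtain ⟨δ, hδ⟩ := exists_derivation_cotangent p hp2
  refine ⟨(φ.restrictScalars A).compDer δ, fun y hy => ?_⟩
  show φ (δ y) = _
  rw [hδ y hy]

end coef

end Groth.Agent.Lib.helper19.PPoly
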