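import Mathlib
import Groth.Agent.Lib.Helper19.PPoly1
import Groth.Agent.S5763

/-!
# `p`-polynomial extensions of local rings II: one variable (helper19)

`A` is a Noetherian local ring with residue field `K` of characteristic `p`, and
`P = X^p + p G - f` is a monic polynomial. We study `A₁ = A[X]/(P)`:

* `isLocalRing_adjoinRoot`: `A₁` is local.
* `maximalIdeal_eq_map`, `maximalIdeal_eq_sup`: its maximal ideal, according to whether the residue
  of `f` is a `p`-th power in `K` or not.
-/

set_option autoImplicit false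
universe u

namespace Groth.Agent.Lib.helper19.PPoly

open IsLocalRing Polynomial

section step

variable {A : Type u} [CommRing A] [IsLocalRing A] (p : ℕ) [hp : Fact p.Prime]
  [CharP (ResidueField A) p] {P G : A[X]} {f : A} (hP : P = X ^ p + (p : A[X]) * G - C f)
  (hmon : P.Monic)

include hP in
theorem map_residue_eq : P.map (residue A) = X ^ p - C (residue A f) := by
  rw [hP]
  simp only [Polynomial.map_sub, Polynomial.map_add, Polynomial.map_pow, Polynomial.map_X,
    Polynomial.map_mul, Polynomial.map_natCast, Polynomial.map_C]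
  rw [CharP.cast_eq_zero (ResidueField A)[X] p, zero_mul, add_zero]

include hP hmon in
theorem natDegree_eq : P.natDegree = p := by
  rw [← hmon.natDegree_map (residue A), map_residue_eq p hP]
  exact natDegree_X_pow_sub_C

omit [CharP (ResidueField A) p] in
include hP in
theorem root_pow_eq : (AdjoinRoot.root P) ^ p + (p : AdjoinRoot P) * aeval (AdjoinRoot.root P) G
    = AdjoinRoot.of P f := by
  have h : eval₂ (AdjoinRoot.of P) (AdjoinRoot.root P) (X ^ p + (p : A[X]) * G - C f) = 0 := by
    rw [← hP]
    exact AdjoinRoot.eval₂_root P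
  simp only [eval₂_sub, eval₂_add, eval₂_pow, eval₂_X, eval₂_mul, eval₂_natCast, eval₂_C] at h
  rw [sub_eq_zero] at h
  rw [← h]
  rfl

theorem natCast_mem_maximalIdeal : (p : A) ∈ maximalIdeal A := by
  rw [← residue_eq_zero_iff, map_natCast]
  exact CharP.cast_eq_zero _ p

include hmon in
theorem map_le_of_isMaximal (N : Ideal (AdjoinRoot P)) [N.IsMaximal] :
    (maximalIdeal A).map (AdjoinRoot.of P) ≤ N := by
  have := hmon.finite_adjoinRoot
  have : Algebra.IsIntegral A (AdjoinRoot P) := Algebra.IsIntegral.of_finite A _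
  have h1 := Ideal.isMaximal_comap_of_isIntegral_of_isMaximal (R := A) N
  have h2 := IsLocalRing.eq_maximalIdeal h1
  rw [Ideal.map_le_iff_le_comap]
  exact le_of_eq h2.symm

include hP in
theorem map_isMaximal_of_not_pow (h : ∀ b : ResidueField A, b ^ p ≠ residue A f) :
    ((maximalIdeal A).map (AdjoinRoot.of P)).IsMaximal := by
  have hirr : Irreducible (P.map (Ideal.Quotient.mk (maximalIdeal A))) := by
    have h1 : P.map (Ideal.Quotient.mk (maximalIdeal A)) = X ^ p - C (residue A f) :=
      map_residue_eq p hP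
    rw [h1]
    exact X_pow_sub_C_irreducible_of_prime hp.out h
  let e := AdjoinRoot.quotAdjoinRootEquivQuotPolynomialQuot (maximalIdeal A) P
  letI : Field (A ⧸ maximalIdeal A) := Ideal.Quotient.field _
  have hmax : (Ideal.span {P.map (Ideal.Quotient.mk (maximalIdeal A))}).IsMaximal :=
    PrincipalIdealRing.isMaximal_of_irreducible hirr
  have hf := (Ideal.Quotient.maximal_ideal_iff_isField_quotient _).1 hmax
  exact Ideal.Quotient.maximal_of_isField _ (e.toMulEquiv.isField hf)

/-- the evaluation `A₁ → K`, `root ↦ residue g` -/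
noncomputable def evHom (g : A) (hg : residue A g ^ p = residue A f) :
    AdjoinRoot P →+* ResidueField A :=
  AdjoinRoot.lift (residue A) (residue A g) (by
    rw [eval₂_eq_eval_map, map_residue_eq p hP]
    simp [hg])

theorem evHom_of (g : A) (hg : residue A g ^ p = residue A f) (a : A) :
    evHom p hP g hg (AdjoinRoot.of P a) = residue A a := by
  simp [evHom]

theorem evHom_root (g : A) (hg : residue A g ^ p = residue A f) :
    evHom p hP g hg (AdjoinRoot.root P) = residue A g := by
  simp [evHom]

theorem evHom_surjective (g : A) (hg : residue A g ^ p = residue A f) :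
    Function.Surjective (evHom p hP g hg) := by
  intro c
  obtain ⟨a, rfl⟩ := residue_surjective c
  exact ⟨AdjoinRoot.of P a, evHom_of p hP g hg a⟩

theorem ker_evHom (g : A) (hg : residue A g ^ p = residue A f) :
    RingHom.ker (evHom p hP g hg) = (maximalIdeal A).map (AdjoinRoot.of P) ⊔
      Ideal.span {AdjoinRoot.root P - AdjoinRoot.of P g} := by
  apply le_antisymm
  · intro y hy
    obtain ⟨q, rfl⟩ := AdjoinRoot.mk_surjective y
    have h1 : q = (X - C g) * (q /ₘ (X - C g)) + C (q.eval g) := by
      conv_lhs => rw [← modByMonic_add_div q (X - C g), modByMonic_X_sub_C_eq_C_eval,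
        add_comm]
    have h2 : AdjoinRoot.mk P q = (AdjoinRoot.root P - AdjoinRoot.of P g) *
        AdjoinRoot.mk P (q /ₘ (X - C g)) + AdjoinRoot.of P (q.eval g) := by
      conv_lhs => rw [h1]
      rw [map_add, map_mul, map_sub, AdjoinRoot.mk_X]
      rfl
    have h3 : q.eval g ∈ maximalIdeal A := by
      have h4 : evHom p hP g hg (AdjoinRoot.mk P q) = 0 := hy
      rw [h2, map_add, map_mul, map_sub, evHom_root, evHom_of, sub_self, zero_mul, zero_add,
        evHom_of, residue_eq_zero_iff] at h4
      exact h4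
    rw [h2]
    exact Ideal.add_mem _ (Ideal.mem_sup_right (Ideal.mul_mem_right _ _
      (Ideal.subset_span rfl))) (Ideal.mem_sup_left (Ideal.mem_map_of_mem _ h3))
  · refine sup_le ?_ ?_
    · rw [Ideal.map_le_iff_le_comap]
      intro a ha
      show evHom p hP g hg (AdjoinRoot.of P a) = 0
      rw [evHom_of, residue_eq_zero_iff]
      exact ha
    · rw [Ideal.span_le, Set.singleton_subset_iff]
      show evHom p hP g hg _ = 0
      rw [map_sub, evHom_root, evHom_of, sub_self]

include hP in
theorem sup_isMaximal (g : A) (hg : residue A g ^ p = residue A f) :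
    ((maximalIdeal A).map (AdjoinRoot.of P) ⊔
      Ideal.span {AdjoinRoot.root P - AdjoinRoot.of P g}).IsMaximal := by
  rw [← ker_evHom p hP g hg]
  exact RingHom.ker_isMaximal_of_surjective _ (evHom_surjective p hP g hg)

include hP in
/-- `of x = s^p + p u` where `s = root - g`, `x = f - g^p` -/
theorem exists_of_eq_pow_add (g : A) :
    ∃ u : AdjoinRoot P, AdjoinRoot.of P (f - g ^ p) =
      (AdjoinRoot.root P - AdjoinRoot.of P g) ^ p + (p : AdjoinRoot P) * u := by
  obtain ⟨r, hr⟩ := exists_add_pow_prime_eq hp.out (AdjoinRoot.root P - AdjoinRoot.of P g)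
    (AdjoinRoot.of P g)
  rw [sub_add_cancel] at hr
  have h1 := root_pow_eq p hP
  refine ⟨(AdjoinRoot.root P - AdjoinRoot.of P g) * AdjoinRoot.of P g * r +
    aeval (AdjoinRoot.root P) G, ?_⟩
  rw [map_sub, map_pow, ← h1, hr]
  ring

include hP in
theorem sub_pow_mem_map (g : A) (hg : residue A g ^ p = residue A f) :
    (AdjoinRoot.root P - AdjoinRoot.of P g) ^ p ∈ (maximalIdeal A).map (AdjoinRoot.of P) := by
  obtain ⟨u, hu⟩ := exists_of_eq_pow_add p hP g
  have h1 : (AdjoinRoot.root P - AdjoinRoot.of P g) ^ p =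
      AdjoinRoot.of P (f - g ^ p) - AdjoinRoot.of P (p : A) * u := by
    rw [hu, map_natCast]; ring
  rw [h1]
  refine Ideal.sub_mem _ (Ideal.mem_map_of_mem _ ?_)
    (Ideal.mul_mem_right _ _ (Ideal.mem_map_of_mem _ (natCast_mem_maximalIdeal p)))
  rw [← residue_eq_zero_iff, map_sub, map_pow, hg, sub_self]

include hP hmon in
theorem isLocalRing_adjoinRoot : IsLocalRing (AdjoinRoot P) := by
  by_cases h : ∃ b : ResidueField A, b ^ p = residue A f
  · obtain ⟨b, hb⟩ := h
    obtain ⟨g, rfl⟩ := residue_surjective b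
    have hM := sup_isMaximal p hP g hb
    refine IsLocalRing.of_unique_max_ideal ⟨_, hM, fun N hN => ?_⟩
    have : N.IsMaximal := hN
    have h1 := map_le_of_isMaximal hmon N
    have h2 : AdjoinRoot.root P - AdjoinRoot.of P g ∈ N :=
      hN.isPrime.mem_of_pow_mem p (h1 (sub_pow_mem_map p hP g hb))
    have h3 : (maximalIdeal A).map (AdjoinRoot.of P) ⊔
        Ideal.span {AdjoinRoot.root P - AdjoinRoot.of P g} ≤ N :=
      sup_le h1 (by rwa [Ideal.span_le, Set.singleton_subset_iff])
    exact (hM.eq_of_le hN.ne_top h3).symm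
  · push Not at h
    have hM := map_isMaximal_of_not_pow p hP h
    refine IsLocalRing.of_unique_max_ideal ⟨_, hM, fun N hN => ?_⟩
    have : N.IsMaximal := hN
    have h1 := map_le_of_isMaximal hmon N
    exact (hM.eq_of_le hN.ne_top h1).symm

section deriv

variable {L : Type u} [Field L] [Algebra (AdjoinRoot P) L] [Algebra A L]
  [IsScalarTower A (AdjoinRoot P) L]

include hP in
/-- restriction of a derivation of `A₁` to `A` kills `f` -/
theorem derivation_of_eq_zero (hpL : (p : L) = 0) (D' : Derivation ℤ (AdjoinRoot P) L) :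
    D' (AdjoinRoot.of P f) = 0 := by
  have hpl : ∀ l : L, p • l = 0 := fun l => by rw [nsmul_eq_mul, hpL, zero_mul]
  rw [← root_pow_eq p hP, map_add, Derivation.leibniz_pow, hpl, zero_add, ← nsmul_eq_mul,
    map_nsmul, hpl]

include hP in
/-- a derivation of `A` killing `f` extends to `A₁`, with arbitrary value at the root -/
theorem exists_derivation_adjoinRoot (hpL : (p : L) = 0) (D : Derivation ℤ A L) (hD : D f = 0)
    (t : L) : ∃ D' : Derivation ℤ (AdjoinRoot P) L,
      (∀ a, D' (AdjoinRoot.of P a) = D a) ∧ D' (AdjoinRoot.root P) = t := by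
  classical
  have hpl : ∀ l : L, p • l = 0 := fun l => by rw [nsmul_eq_mul, hpL, zero_mul]
  let φ : A →+* TrivSqZeroExt L L :=
    { toFun := fun a => TrivSqZeroExt.inl (algebraMap A L a) + TrivSqZeroExt.inr (D a)
      map_one' := by
        apply TrivSqZeroExt.ext <;> simp
      map_mul' := fun a b => by
        apply TrivSqZeroExt.ext
        · simp
        · simp only [TrivSqZeroExt.snd_add, TrivSqZeroExt.snd_inl, TrivSqZeroExt.snd_inr, zero_add,
            TrivSqZeroExt.snd_mul, TrivSqZeroExt.fst_add, TrivSqZeroExt.fst_inl,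
            TrivSqZeroExt.fst_inr, add_zero, Derivation.leibniz, Algebra.smul_def, smul_eq_mul,
            MulOpposite.smul_eq_mul_unop, MulOpposite.unop_op, Algebra.algebraMap_self,
            RingHom.id_apply]
          ring
      map_zero' := by
        apply TrivSqZeroExt.ext <;> simp
      map_add' := fun a b => by
        apply TrivSqZeroExt.ext <;> simp }
  have hφ : ∀ a, φ a = TrivSqZeroExt.inl (algebraMap A L a) + TrivSqZeroExt.inr (D a) :=
    fun a => rfl
  let ρ : L := algebraMap (AdjoinRoot P) L (AdjoinRoot.root P)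
  let τ : TrivSqZeroExt L L := TrivSqZeroExt.inl ρ + TrivSqZeroExt.inr t
  have hρ : ρ ^ p = algebraMap A L f := by
    have h1 := congrArg (algebraMap (AdjoinRoot P) L) (root_pow_eq p hP)
    rw [map_add, map_mul, map_natCast, hpL, zero_mul, add_zero, map_pow] at h1
    rw [h1]
    exact (IsScalarTower.algebraMap_apply A (AdjoinRoot P) L f).symm
  have hp0 : ((p : ℕ) : TrivSqZeroExt L L) = 0 := by
    apply TrivSqZeroExt.ext
    · simp [hpL]
    · simp
  have hτ : τ ^ p = TrivSqZeroExt.inl (ρ ^ p) := by
    apply TrivSqZeroExt.ext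
    · simp [τ, TrivSqZeroExt.fst_pow]
    · rw [TrivSqZeroExt.snd_pow, hpl]
      simp
  have hev : P.eval₂ φ τ = 0 := by
    rw [hP]
    simp only [eval₂_sub, eval₂_add, eval₂_pow, eval₂_X, eval₂_mul, eval₂_natCast, eval₂_C]
    rw [hp0, zero_mul, add_zero, hτ, hφ, hD, hρ]
    simp
  let Φ : AdjoinRoot P →+* TrivSqZeroExt L L := AdjoinRoot.lift φ τ hev
  have hfst : ((TrivSqZeroExt.fstHom L L L : TrivSqZeroExt L L →+* L)).comp Φ =
      algebraMap (AdjoinRoot P) L := by
    apply AdjoinRoot.ringHom_ext
    · ext a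
      have h1 : algebraMap (AdjoinRoot P) L (AdjoinRoot.of P a) = algebraMap A L a :=
        (IsScalarTower.algebraMap_apply A (AdjoinRoot P) L a).symm
      simp only [RingHom.comp_apply, Φ, AdjoinRoot.lift_of, hφ]
      rw [h1]
      simp
    · simp [Φ, τ, ρ]
  have hΦ : ∀ y, (Φ y).fst = algebraMap (AdjoinRoot P) L y := fun y =>
    RingHom.congr_fun hfst y
  refine ⟨Groth.Agent.Lib.helper19.FSDiff.derivOfSection Φ hΦ, fun a => ?_, ?_⟩
  · show (Φ (AdjoinRoot.of P a)).snd = D a
    simp [Φ, hφ]
  · show (Φ (AdjoinRoot.root P)).snd = t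
    simp [Φ, τ]

end deriv

section local1

variable [IsLocalRing (AdjoinRoot P)]

include hmon in
theorem map_le_maximalIdeal :
    (maximalIdeal A).map (AdjoinRoot.of P) ≤ maximalIdeal (AdjoinRoot P) :=
  map_le_of_isMaximal hmon _

include hmon in
theorem of_mem_maximalIdeal {a : A} (ha : a ∈ maximalIdeal A) :
    AdjoinRoot.of P a ∈ maximalIdeal (AdjoinRoot P) :=
  map_le_maximalIdeal hmon (Ideal.mem_map_of_mem _ ha)

include hmon in
theorem isLocalHom_of : IsLocalHom (algebraMap A (AdjoinRoot P)) := by
  refine ⟨fun a ha => ?_⟩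
  by_contra hna
  have h1 : a ∈ maximalIdeal A := hna
  exact (of_mem_maximalIdeal hmon h1) ha

include hmon in
theorem natCast_residueField_eq_zero : (p : ResidueField (AdjoinRoot P)) = 0 := by
  have h1 : AdjoinRoot.of P (p : A) ∈ maximalIdeal (AdjoinRoot P) :=
    of_mem_maximalIdeal hmon (natCast_mem_maximalIdeal p)
  rw [← residue_eq_zero_iff, map_natCast, map_natCast] at h1
  exact h1

include hmon in
theorem charP_residueField_adjoinRoot : CharP (ResidueField (AdjoinRoot P)) p := by
  rw [CharP.charP_iff_prime_eq_zero hp.out]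
  exact natCast_residueField_eq_zero p hmon

include hmon in
theorem natCast_mem_sq (hp2 : (p : A) ∈ maximalIdeal A ^ 2) :
    (p : AdjoinRoot P) ∈ maximalIdeal (AdjoinRoot P) ^ 2 := by
  have h1 : AdjoinRoot.of P (p : A) ∈ ((maximalIdeal A) ^ 2).map (AdjoinRoot.of P) :=
    Ideal.mem_map_of_mem _ hp2
  rw [Ideal.map_pow, map_natCast] at h1
  exact Ideal.pow_right_mono (map_le_maximalIdeal hmon) 2 h1

include hmon in
theorem of_mem_sq {a : A} (ha : a ∈ maximalIdeal A ^ 2) :
    AdjoinRoot.of P a ∈ maximalIdeal (AdjoinRoot P) ^ 2 := by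
  have h1 : AdjoinRoot.of P a ∈ ((maximalIdeal A) ^ 2).map (AdjoinRoot.of P) :=
    Ideal.mem_map_of_mem _ ha
  rw [Ideal.map_pow] at h1
  exact Ideal.pow_right_mono (map_le_maximalIdeal hmon) 2 h1

include hP hmon in
theorem of_injective : Function.Injective (AdjoinRoot.of P) := by
  have := hmon.free_adjoinRoot
  exact FaithfulSMul.algebraMap_injective A (AdjoinRoot P)

include hP hmon in
theorem ringKrullDim_adjoinRoot : ringKrullDim (AdjoinRoot P) = ringKrullDim A := by
  have := hmon.finite_adjoinRoot
  have : Algebra.IsIntegral A (AdjoinRoot P) := Algebra.IsIntegral.of_finite A _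
  exact (Groth.Agent.S5763.result A (AdjoinRoot P)).2 (of_injective p hP hmon)

include hP in
theorem maximalIdeal_eq_map (h : ∀ b : ResidueField A, b ^ p ≠ residue A f) :
    maximalIdeal (AdjoinRoot P) = (maximalIdeal A).map (AdjoinRoot.of P) :=
  (IsLocalRing.eq_maximalIdeal (map_isMaximal_of_not_pow p hP h)).symm

include hP in
theorem maximalIdeal_eq_sup (g : A) (hg : residue A g ^ p = residue A f) :
    maximalIdeal (AdjoinRoot P) = (maximalIdeal A).map (AdjoinRoot.of P) ⊔
      Ideal.span {AdjoinRoot.root P - AdjoinRoot.of P g} :=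
  (IsLocalRing.eq_maximalIdeal (sup_isMaximal p hP g hg)).symm

include hP in
theorem sub_mem_maximalIdeal (g : A) (hg : residue A g ^ p = residue A f) :
    AdjoinRoot.root P - AdjoinRoot.of P g ∈ maximalIdeal (AdjoinRoot P) := by
  rw [maximalIdeal_eq_sup p hP g hg]
  exact Ideal.mem_sup_right (Ideal.subset_span rfl)

end local1

end step

end Groth.Agent.Lib.helper19.PPoly
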