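import Mathlib
import Groth.Agent.Lib.Helper19.PPoly2

/-!
# `p`-polynomial extensions of local rings III: the embedding dimension in one variable (helper19)

`A` Noetherian local, residue characteristic `p`, `p ∈ 𝔪²`, `P = X^p + p G - f` monic,
`A₁ = A[X]/(P)`. Then `embdim A ≤ embdim A₁` with equality iff some derivation `A → K` does not
kill `f` (`step`).
-/

set_option autoImplicit false
universe u

namespace Groth.Agent.Lib.helper19.PPoly

open IsLocalRing Polynomial

/-- derivations over `ℤ`, with the canonical `ℤ`-algebra structure `Ring.toIntAlgebra` (for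
`AdjoinRoot` instance search finds a syntactically different one). -/
abbrev DerZ (B : Type u) [CommRing B] (L : Type u) [AddCommGroup L] [Module B L] : Type u :=
  Derivation ℤ B L

theorem exists_basis_with {K V : Type u} [Field K] [AddCommGroup V] [Module K V]
    [FiniteDimensional K V] (v : V) (hv : v ≠ 0) :
    ∃ (ι : Type u) (_ : Fintype ι) (b : Module.Basis ι K V) (i₀ : ι), b i₀ = v := by
  have hs : LinearIndepOn K id ({v} : Set V) := (linearIndepOn_singleton_iff K).2 hv
  let b := Module.Basis.extend hs
  exact ⟨_, FiniteDimensional.fintypeBasisIndex b, b,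
    ⟨v, Module.Basis.subset_extend hs (Set.mem_singleton v)⟩, Module.Basis.extend_apply_self hs _⟩

section step

variable {A : Type u} [CommRing A] [IsLocalRing A] (p : ℕ) [hp : Fact p.Prime]
  [CharP (ResidueField A) p] {P G : A[X]} {f : A} (hP : P = X ^ p + (p : A[X]) * G - C f)
  (hmon : P.Monic) [IsLocalRing (AdjoinRoot P)] [IsLocalHom (algebraMap A (AdjoinRoot P))]

include hP hmon in
theorem exists_ext (D : Derivation ℤ A (ResidueField A)) (hD : D f = 0) (c : ResidueField A) :
    ∃ D' : DerZ (AdjoinRoot P) (ResidueField (AdjoinRoot P)),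
      (∀ a, D' (AdjoinRoot.of P a) =
        algebraMap (ResidueField A) (ResidueField (AdjoinRoot P)) (D a)) ∧
      D' (AdjoinRoot.root P) = algebraMap (ResidueField A) (ResidueField (AdjoinRoot P)) c := by
  let D1 : Derivation ℤ A (ResidueField (AdjoinRoot P)) :=
    ((Algebra.linearMap (ResidueField A) (ResidueField (AdjoinRoot P))).restrictScalars A).compDer D
  have h1 : D1 f = 0 := by
    show algebraMap (ResidueField A) (ResidueField (AdjoinRoot P)) (D f) = 0
    rw [hD, map_zero]
  obtain ⟨D', h2, h3⟩ :=
    exists_derivation_adjoinRoot p hP (natCast_residueField_eq_zero p hmon) D1 h1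
      (algebraMap (ResidueField A) (ResidueField (AdjoinRoot P)) c)
  exact ⟨D', h2, h3⟩

include hP hmon in
theorem exists_ext_zero :
    ∃ D' : DerZ (AdjoinRoot P) (ResidueField (AdjoinRoot P)),
      (∀ a, D' (AdjoinRoot.of P a) = 0) ∧ D' (AdjoinRoot.root P) = 1 := by
  obtain ⟨D', h1, h2⟩ := exists_derivation_adjoinRoot (L := ResidueField (AdjoinRoot P)) p hP
    (natCast_residueField_eq_zero p hmon) (0 : Derivation ℤ A (ResidueField (AdjoinRoot P)))
    rfl 1
  exact ⟨D', fun a => (h1 a).trans rfl, h2⟩

omit [IsLocalRing (AdjoinRoot P)] [IsLocalHom (algebraMap A (AdjoinRoot P))] in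
theorem derivation_eq_sub_pow (D : Derivation ℤ A (ResidueField A)) (g : A) :
    D f = D (f - g ^ p) := by
  have hpl : ∀ l : ResidueField A, p • l = 0 := fun l => by
    rw [nsmul_eq_mul, CharP.cast_eq_zero (ResidueField A) p, zero_mul]
  rw [map_sub, Derivation.leibniz_pow, hpl, sub_zero]

variable [IsNoetherianRing A]

include hP hmon in
theorem spanFinrank_eq_of_not_pow (hp2 : (p : A) ∈ maximalIdeal A ^ 2)
    (h : ∀ b : ResidueField A, b ^ p ≠ residue A f) :
    (maximalIdeal (AdjoinRoot P)).spanFinrank = (maximalIdeal A).spanFinrank ∧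
      ∃ D : Derivation ℤ A (ResidueField A), D f ≠ 0 := by
  classical
  obtain ⟨Dk, hDk⟩ := Groth.Agent.Lib.helper19.FSDiff.exists_derivation_eq_one p (residue A f) h
  let DK : Derivation ℤ A (ResidueField A) := Dk.compAlgebraMap A
  have hDK : ∀ a, DK a = Dk (residue A a) := fun a => rfl
  refine ⟨le_antisymm ?_ ?_, DK, by rw [hDK, hDk]; exact one_ne_zero⟩
  · obtain ⟨x, hx⟩ := Groth.Agent.Lib.helper19.CohenK.exists_fin_generators' (maximalIdeal A)
      (maximalIdeal A).fg_of_isNoetherianRing
    have hxm : ∀ j, x j ∈ maximalIdeal A := fun j => by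
      rw [← hx]; exact Ideal.subset_span ⟨j, rfl⟩
    have h1 := spanFinrank_le_card (R := AdjoinRoot P) (fun j => AdjoinRoot.of P (x j))
      (fun j => of_mem_maximalIdeal hmon (hxm j)) (by
        rw [maximalIdeal_eq_map p hP h]
        conv_lhs => rw [← hx, Ideal.map_span]
        refine le_sup_of_le_left (Ideal.span_mono ?_)
        rintro _ ⟨_, ⟨j, rfl⟩, rfl⟩
        exact ⟨j, rfl⟩)
    simpa using h1
  · let b := Module.finBasis (ResidueField A) (CotangentSpace A)
    have hn : (maximalIdeal A).spanFinrank =
        Module.finrank (ResidueField A) (CotangentSpace A) :=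
      spanFinrank_maximalIdeal_eq_finrank_cotangentSpace A
    choose x hx using fun j => (maximalIdeal A).toCotangent_surjective (b j)
    choose D0 hD0 using fun j => exists_derivation_of_functional p hp2 (b.coord j)
    let E : Fin (Module.finrank (ResidueField A) (CotangentSpace A)) →
        Derivation ℤ A (ResidueField A) := fun j => D0 j - (D0 j f) • DK
    have hEf : ∀ j, E j f = 0 := by
      intro j
      show D0 j f - (D0 j f) • DK f = 0
      rw [hDK, hDk, smul_eq_mul, mul_one, sub_self]
    have hEx : ∀ j k, E j (x k) = if j = k then 1 else 0 := by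
      intro j k
      have h1 : residue A (x k) = 0 := (residue_eq_zero_iff _).2 (x k).2
      show D0 j (x k) - (D0 j f) • DK (x k) = _
      rw [hDK, h1, map_zero, smul_zero, sub_zero, hD0 j _ (x k).2, Subtype.coe_eta, hx,
        Module.Basis.coord_apply, Module.Basis.repr_self, Finsupp.single_apply]
      simp only [eq_comm]
    choose D' hD'of hD'root using fun j => exists_ext p hP hmon (E j) (hEf j) 0
    have h2 := card_le_spanFinrank (R := AdjoinRoot P) (fun j => AdjoinRoot.of P (x j))
      (fun j => of_mem_maximalIdeal hmon (x j).2) D' (by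
        intro i j
        rw [hD'of, hEx]
        split_ifs <;> simp)
    rw [hn]
    simpa using h2

omit [IsLocalRing (AdjoinRoot P)] [IsLocalHom (algebraMap A (AdjoinRoot P))] [IsNoetherianRing A] in
theorem derivation_eq_zero_of_sub_pow_mem_sq (g : A) (hx : f - g ^ p ∈ maximalIdeal A ^ 2)
    (D : Derivation ℤ A (ResidueField A)) : D f = 0 := by
  rw [derivation_eq_sub_pow p D g]
  exact derivation_eq_zero_of_mem_sq (maximalIdeal A) smul_residueField_eq_zero D hx

include hP hmon in
theorem spanFinrank_succ_le (hp2 : (p : A) ∈ maximalIdeal A ^ 2) (g : A)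
    (hg : residue A g ^ p = residue A f) (hx : f - g ^ p ∈ maximalIdeal A ^ 2) :
    (maximalIdeal A).spanFinrank + 1 ≤ (maximalIdeal (AdjoinRoot P)).spanFinrank := by
  classical
  let b := Module.finBasis (ResidueField A) (CotangentSpace A)
  have hn : (maximalIdeal A).spanFinrank =
      Module.finrank (ResidueField A) (CotangentSpace A) :=
    spanFinrank_maximalIdeal_eq_finrank_cotangentSpace A
  choose x hxb using fun j => (maximalIdeal A).toCotangent_surjective (b j)
  choose D0 hD0 using fun j => exists_derivation_of_functional p hp2 (b.coord j)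
  have hD0f : ∀ j, D0 j f = 0 := fun j => derivation_eq_zero_of_sub_pow_mem_sq p g hx (D0 j)
  have hD0x : ∀ j k, D0 j (x k) = if j = k then 1 else 0 := by
    intro j k
    rw [hD0 j _ (x k).2, Subtype.coe_eta, hxb,
      Module.Basis.coord_apply, Module.Basis.repr_self, Finsupp.single_apply]
    simp only [eq_comm]
  choose D' hD'of hD'root using fun j => exists_ext p hP hmon (D0 j) (hD0f j) (D0 j g)
  obtain ⟨D'', hD''of, hD''root⟩ := exists_ext_zero p hP hmon
  let y : Option (Fin (Module.finrank (ResidueField A) (CotangentSpace A))) → AdjoinRoot P :=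
    fun o => o.elim (AdjoinRoot.root P - AdjoinRoot.of P g) (fun j => AdjoinRoot.of P (x j))
  let DD : Option (Fin (Module.finrank (ResidueField A) (CotangentSpace A))) →
      DerZ (AdjoinRoot P) (ResidueField (AdjoinRoot P)) := fun o => o.elim D'' D'
  have h2 := card_le_spanFinrank (R := AdjoinRoot P) y (by
      intro o
      cases o with
      | none => exact sub_mem_maximalIdeal p hP g hg
      | some j => exact of_mem_maximalIdeal hmon (x j).2) DD (by
      intro i j
      cases i with
      | none =>
        cases j with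
        | none =>
          show D'' (AdjoinRoot.root P - AdjoinRoot.of P g) = _
          rw [map_sub, hD''of, hD''root, sub_zero, if_pos rfl]
        | some k =>
          show D'' (AdjoinRoot.of P (x k)) = _
          rw [hD''of, if_neg (by simp)]
      | some i =>
        cases j with
        | none =>
          show D' i (AdjoinRoot.root P - AdjoinRoot.of P g) = _
          rw [map_sub, hD'of, hD'root, sub_self, if_neg (by simp)]
        | some k =>
          show D' i (AdjoinRoot.of P (x k)) = _
          rw [hD'of, hD0x]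
          by_cases hik : i = k
          · rw [if_pos hik, if_pos (by rw [hik]), map_one]
          · rw [if_neg hik, if_neg (by simpa using hik), map_zero])
  rw [hn]
  simpa using h2

include hP hmon in
theorem spanFinrank_eq_of_notMem_sq (hp2 : (p : A) ∈ maximalIdeal A ^ 2) (g : A)
    (hg : residue A g ^ p = residue A f) (hx : f - g ^ p ∉ maximalIdeal A ^ 2) :
    (maximalIdeal (AdjoinRoot P)).spanFinrank = (maximalIdeal A).spanFinrank ∧
      ∃ D : Derivation ℤ A (ResidueField A), D f ≠ 0 := by
  classical
  have hxm : f - g ^ p ∈ maximalIdeal A := by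
    rw [← residue_eq_zero_iff, map_sub, map_pow, hg, sub_self]
  let v : CotangentSpace A := (maximalIdeal A).toCotangent ⟨f - g ^ p, hxm⟩
  have hv : v ≠ 0 := by
    intro h0
    exact hx ((Ideal.toCotangent_eq_zero _ _).1 h0)
  obtain ⟨ι, _, b, i₀, hbi₀⟩ := exists_basis_with (K := ResidueField A) v hv
  have hcard : Fintype.card ι = (maximalIdeal A).spanFinrank := by
    rw [spanFinrank_maximalIdeal_eq_finrank_cotangentSpace, Module.finrank_eq_card_basis b]
  choose x hxb using fun j => (maximalIdeal A).toCotangent_surjective (b j)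
  choose D0 hD0 using fun j => exists_derivation_of_functional p hp2 (b.coord j)
  have hD0x : ∀ j k, D0 j (x k) = if j = k then 1 else 0 := by
    intro j k
    rw [hD0 j _ (x k).2, Subtype.coe_eta, hxb,
      Module.Basis.coord_apply, Module.Basis.repr_self, Finsupp.single_apply]
    simp only [eq_comm]
  have hD0f : ∀ j, D0 j f = if j = i₀ then 1 else 0 := by
    intro j
    rw [derivation_eq_sub_pow p (D0 j) g, hD0 j _ hxm]
    show b.coord j v = _
    rw [← hbi₀, Module.Basis.coord_apply, Module.Basis.repr_self, Finsupp.single_apply]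
    simp only [eq_comm]
  refine ⟨?_, D0 i₀, by rw [hD0f, if_pos rfl]; exact one_ne_zero⟩
  have hext : ∀ j, j ≠ i₀ → ∃ D' : DerZ (AdjoinRoot P) (ResidueField (AdjoinRoot P)),
      (∀ a, D' (AdjoinRoot.of P a) =
        algebraMap (ResidueField A) (ResidueField (AdjoinRoot P)) (D0 j a)) ∧
      D' (AdjoinRoot.root P) =
        algebraMap (ResidueField A) (ResidueField (AdjoinRoot P)) (D0 j g) :=
    fun j hj => exists_ext p hP hmon (D0 j) (by rw [hD0f, if_neg hj]) (D0 j g)
  obtain ⟨D'', hD''of, hD''root⟩ := exists_ext_zero p hP hmon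
  let DD : ι → DerZ (AdjoinRoot P) (ResidueField (AdjoinRoot P)) :=
    fun j => if hj : j = i₀ then D'' else (hext j hj).choose
  have hDD0 : DD i₀ = D'' := dif_pos rfl
  have hDDof : ∀ j, j ≠ i₀ → ∀ a, DD j (AdjoinRoot.of P a) =
      algebraMap (ResidueField A) (ResidueField (AdjoinRoot P)) (D0 j a) := by
    intro j hj a
    have : DD j = (hext j hj).choose := dif_neg hj
    rw [this]
    exact (hext j hj).choose_spec.1 a
  have hDDroot : ∀ j, j ≠ i₀ → DD j (AdjoinRoot.root P) =
      algebraMap (ResidueField A) (ResidueField (AdjoinRoot P)) (D0 j g) := by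
    intro j hj
    have : DD j = (hext j hj).choose := dif_neg hj
    rw [this]
    exact (hext j hj).choose_spec.2
  let y : ι → AdjoinRoot P :=
    fun j => if j = i₀ then AdjoinRoot.root P - AdjoinRoot.of P g else AdjoinRoot.of P (x j)
  have hy0 : y i₀ = AdjoinRoot.root P - AdjoinRoot.of P g := if_pos rfl
  have hyj : ∀ j, j ≠ i₀ → y j = AdjoinRoot.of P (x j) := fun j hj => if_neg hj
  have hym : ∀ j, y j ∈ maximalIdeal (AdjoinRoot P) := by
    intro j
    by_cases hj : j = i₀
    · rw [hj, hy0]; exact sub_mem_maximalIdeal p hP g hg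
    · rw [hyj j hj]; exact of_mem_maximalIdeal hmon (x j).2
  apply le_antisymm
  · -- upper bound
    rw [← hcard]
    refine spanFinrank_le_card (R := AdjoinRoot P) y hym ?_
    have hspan : maximalIdeal A = Ideal.span (Set.range fun j => (x j : A)) := by
      have h1 : Submodule.span (ResidueField A) ((maximalIdeal A).toCotangent '' Set.range x)
          = ⊤ := by
        have h2 : (maximalIdeal A).toCotangent '' Set.range x = Set.range b := by
          rw [← Set.range_comp]
          congr 1
          funext j
          exact hxb j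
        rw [h2, b.span_eq]
      rw [CotangentSpace.span_image_eq_top_iff] at h1
      have h3 := congrArg (Submodule.map (maximalIdeal A).subtype) h1
      rw [Submodule.map_span, Submodule.map_subtype_top, ← Set.range_comp] at h3
      exact h3.symm
    obtain ⟨u, hu⟩ := exists_of_eq_pow_add p hP g
    have hx0 : AdjoinRoot.of P (f - g ^ p) ∈ maximalIdeal (AdjoinRoot P) ^ 2 := by
      rw [hu]
      refine Ideal.add_mem _ ?_ (Ideal.mul_mem_right _ _ (natCast_mem_sq p hmon hp2))
      exact Ideal.pow_le_pow_right hp.out.two_le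
        (Ideal.pow_mem_pow (sub_mem_maximalIdeal p hP g hg) p)
    have hxi₀ : AdjoinRoot.of P (x i₀) ∈ maximalIdeal (AdjoinRoot P) ^ 2 := by
      have h1 : ((x i₀ : A) - (f - g ^ p)) ∈ maximalIdeal A ^ 2 := by
        have h2 : (maximalIdeal A).toCotangent (x i₀) =
            (maximalIdeal A).toCotangent ⟨f - g ^ p, hxm⟩ := by rw [hxb, hbi₀]
        exact (Ideal.toCotangent_eq _).1 h2
      have h3 : AdjoinRoot.of P (x i₀) =
          AdjoinRoot.of P ((x i₀ : A) - (f - g ^ p)) + AdjoinRoot.of P (f - g ^ p) := by
        rw [← map_add, sub_add_cancel]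
      rw [h3]
      exact Ideal.add_mem _ (of_mem_sq hmon h1) hx0
    rw [maximalIdeal_eq_sup p hP g hg]
    refine sup_le ?_ ?_
    · conv_lhs => rw [hspan, Ideal.map_span]
      rw [Ideal.span_le]
      rintro _ ⟨_, ⟨j, rfl⟩, rfl⟩
      by_cases hj : j = i₀
      · rw [hj]
        rw [← maximalIdeal_eq_sup p hP g hg]
        exact Ideal.mem_sup_right hxi₀
      · refine Ideal.mem_sup_left (Ideal.subset_span ⟨j, ?_⟩)
        exact hyj j hj
    · rw [Ideal.span_le, Set.singleton_subset_iff]
      exact Ideal.mem_sup_left (Ideal.subset_span ⟨i₀, hy0⟩)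
  · -- lower bound
    rw [← hcard]
    refine card_le_spanFinrank (R := AdjoinRoot P) y hym DD ?_
    intro i j
    by_cases hi : i = i₀
    · by_cases hj : j = i₀
      · rw [hi, hj, hDD0, hy0, map_sub, hD''of, hD''root, sub_zero, if_pos rfl]
      · rw [hi, hDD0, hyj j hj, hD''of, if_neg (Ne.symm hj)]
    · by_cases hj : j = i₀
      · rw [hj, hy0, map_sub, hDDof i hi, hDDroot i hi, sub_self, if_neg hi]
      · rw [hyj j hj, hDDof i hi, hD0x]
        by_cases hij : i = j
        · rw [if_pos hij, if_pos hij, map_one]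
        · rw [if_neg hij, if_neg hij, map_zero]

end step

/-- **The one-variable step.** -/
theorem step {A : Type u} [CommRing A] [IsLocalRing A] [IsNoetherianRing A] (p : ℕ)
    [hp : Fact p.Prime] [CharP (ResidueField A) p] (hp2 : (p : A) ∈ maximalIdeal A ^ 2)
    {P G : A[X]} {f : A} (hP : P = X ^ p + (p : A[X]) * G - C f) (hmon : P.Monic) :
    ∃ (_ : IsLocalRing (AdjoinRoot P)), IsLocalHom (algebraMap A (AdjoinRoot P)) ∧
      CharP (ResidueField (AdjoinRoot P)) p ∧
      (p : AdjoinRoot P) ∈ maximalIdeal (AdjoinRoot P) ^ 2 ∧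
      ringKrullDim (AdjoinRoot P) = ringKrullDim A ∧
      (maximalIdeal A).spanFinrank ≤ (maximalIdeal (AdjoinRoot P)).spanFinrank ∧
      ((maximalIdeal A).spanFinrank = (maximalIdeal (AdjoinRoot P)).spanFinrank ↔
        ∃ D : Derivation ℤ A (ResidueField A), D f ≠ 0) := by
  have hloc := isLocalRing_adjoinRoot p hP hmon
  have hlh := isLocalHom_of hmon (P := P)
  refine ⟨hloc, hlh, charP_residueField_adjoinRoot p hmon, natCast_mem_sq p hmon hp2,
    ringKrullDim_adjoinRoot p hP hmon, ?_⟩
  by_cases h : ∃ b : ResidueField A, b ^ p = residue A f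
  · obtain ⟨b, hb⟩ := h
    obtain ⟨g, rfl⟩ := residue_surjective b
    by_cases hx : f - g ^ p ∈ maximalIdeal A ^ 2
    · have h1 := spanFinrank_succ_le p hP hmon hp2 g hb hx
      refine ⟨by omega, fun h2 => by omega, fun ⟨D, hD⟩ =>
        absurd (derivation_eq_zero_of_sub_pow_mem_sq p g hx D) hD⟩
    · obtain ⟨h1, h2⟩ := spanFinrank_eq_of_notMem_sq p hP hmon hp2 g hb hx
      exact ⟨h1.ge, fun _ => h2, fun _ => h1.symm⟩
  · push Not at h
    obtain ⟨h1, h2⟩ := spanFinrank_eq_of_not_pow p hP hmon hp2 h
    exact ⟨h1.ge, fun _ => h2, fun _ => h1.symm⟩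

end Groth.Agent.Lib.helper19.PPoly
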