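import Mathlib
import Groth.Agent.Lib.Helper19.PPoly3

/-!
# `p`-polynomial extensions of local rings IV: differential independence (helper19)

* `DInd A L f`: the family `f` is "differentially independent" with values in the field `L`:
  there are derivations `D_i : A → L` with `D_i (f j) = δ_ij`.
* `linearIndependent_iff_dInd`: this is the linear independence of the `1 ⊗ d f_i` in `L ⊗ Ω_A`.
* `dInd_cons_iff`: behaviour in the one-variable step `A → A₁ = A[X]/(X^p + p G - f 0)`.
-/

set_option autoImplicit false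
universe u

namespace Groth.Agent.Lib.helper19.PPoly

open IsLocalRing Polynomial TensorProduct

/-- differential independence of a finite family, with values in `L` -/
def DInd (A : Type u) [CommRing A] (L : Type u) [Field L] [Algebra A L] {r : ℕ} (f : Fin r → A) :
    Prop :=
  ∀ i, ∃ D : Derivation ℤ A L, ∀ j, D (f j) = if j = i then 1 else 0

theorem derivation_sum_apply {A : Type u} [CommRing A] {L : Type u} [AddCommGroup L] [Module A L]
    {ι : Type*} (s : Finset ι) (D : ι → Derivation ℤ A L) (a : A) :
    (∑ j ∈ s, D j) a = ∑ j ∈ s, D j a := by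
  have h := map_sum (Derivation.coeFnAddMonoidHom (R := ℤ) (A := A) (M := L)) D s
  have h2 := congrFun h a
  rw [Finset.sum_apply] at h2
  exact h2

open scoped KaehlerDifferential in
theorem linearIndependent_iff_dInd (A : Type u) [CommRing A] (L : Type u) [Field L] [Algebra A L]
    {r : ℕ} (f : Fin r → A) :
    LinearIndependent L (fun i => (1 : L) ⊗ₜ[A] KaehlerDifferential.D ℤ A (f i)) ↔ DInd A L f := by
  classical
  constructor
  · intro hv i
    let S := Submodule.span L (Set.range fun i => (1 : L) ⊗ₜ[A] KaehlerDifferential.D ℤ A (f i))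
    let ψ : S →ₗ[L] L := (Finsupp.lapply i) ∘ₗ hv.repr
    obtain ⟨φ, hφ⟩ := LinearMap.exists_extend ψ
    let D : Derivation ℤ A L :=
      ((φ.restrictScalars A) ∘ₗ (TensorProduct.mk A L Ω[A⁄ℤ] 1)).compDer
        (KaehlerDifferential.D ℤ A)
    refine ⟨D, fun j => ?_⟩
    show φ ((1 : L) ⊗ₜ[A] KaehlerDifferential.D ℤ A (f j)) = _
    have hmem : (1 : L) ⊗ₜ[A] KaehlerDifferential.D ℤ A (f j) ∈ S :=
      Submodule.subset_span ⟨j, rfl⟩
    have h1 : φ ((1 : L) ⊗ₜ[A] KaehlerDifferential.D ℤ A (f j)) = ψ ⟨_, hmem⟩ := by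
      rw [← hφ]; rfl
    rw [h1]
    show (hv.repr ⟨_, hmem⟩) i = _
    rw [hv.repr_eq_single j ⟨_, hmem⟩ rfl, Finsupp.single_apply]
  · intro h
    choose D hD using h
    let ℓ : Fin r → (L ⊗[A] Ω[A⁄ℤ] →ₗ[L] L) := fun i =>
      LinearMap.liftBaseChange L (D i).liftKaehlerDifferential
    have hℓ : ∀ i a, ℓ i ((1 : L) ⊗ₜ[A] KaehlerDifferential.D ℤ A a) = D i a := by
      intro i a
      show LinearMap.liftBaseChange L (D i).liftKaehlerDifferential (1 ⊗ₜ _) = _
      rw [LinearMap.liftBaseChange_tmul, one_smul, Derivation.liftKaehlerDifferential_comp_D]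
    rw [Fintype.linearIndependent_iff]
    intro c hc i
    have h1 := congrArg (ℓ i) hc
    rw [map_sum, map_zero] at h1
    have h2 : ∀ j, ℓ i (c j • (1 : L) ⊗ₜ[A] KaehlerDifferential.D ℤ A (f j)) =
        if j = i then c j else 0 := by
      intro j
      rw [map_smul, hℓ, hD]
      split_ifs <;> simp
    rw [Finset.sum_congr rfl fun j _ => h2 j, Finset.sum_ite_eq', if_pos (Finset.mem_univ i)] at h1
    exact h1

/-- the embedding dimension is invariant under ring isomorphisms -/
theorem spanFinrank_maximalIdeal_ringEquiv {R S : Type*} [CommRing R] [CommRing S] [IsLocalRing R]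
    [IsLocalRing S] (e : R ≃+* S) :
    (maximalIdeal S).spanFinrank = (maximalIdeal R).spanFinrank := by
  rw [← map_ringEquiv_maximalIdeal e, Ideal.spanFinrank_map_eq_of_ringEquiv]

section comb

variable {A : Type u} [CommRing A] [IsLocalRing A] (p : ℕ) [hp : Fact p.Prime]
  [CharP (ResidueField A) p] {P G : A[X]} {r : ℕ} (f : Fin (r + 1) → A)
  (hP : P = X ^ p + (p : A[X]) * G - C (f 0))
  (hmon : P.Monic) [IsLocalRing (AdjoinRoot P)] [IsLocalHom (algebraMap A (AdjoinRoot P))]

include hP hmon in
theorem dInd_cons_iff :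
    DInd A (ResidueField A) f ↔
      (∃ D : Derivation ℤ A (ResidueField A), D (f 0) ≠ 0) ∧
        DInd (AdjoinRoot P) (ResidueField (AdjoinRoot P)) (fun i => AdjoinRoot.of P (f i.succ)) := by
  classical
  constructor
  · intro h
    refine ⟨?_, fun i => ?_⟩
    · obtain ⟨D, hD⟩ := h 0
      exact ⟨D, by rw [hD 0, if_pos rfl]; exact one_ne_zero⟩
    · obtain ⟨D, hD⟩ := h i.succ
      obtain ⟨D', hD', -⟩ := exists_ext p hP hmon D
        (by rw [hD 0, if_neg (Fin.succ_ne_zero i).symm]) 0
      refine ⟨D', fun j => ?_⟩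
      rw [hD', hD]
      by_cases hji : j = i
      · rw [if_pos hji, if_pos (by rw [hji]), map_one]
      · rw [if_neg hji, if_neg (by simpa using hji), map_zero]
  · rintro ⟨⟨D₀, hD₀⟩, h⟩
    choose D' hD' using h
    -- restriction to `A`
    let E : Fin r → Derivation ℤ A (ResidueField (AdjoinRoot P)) := fun i =>
      (D' i).compAlgebraMap A
    have hE : ∀ i a, E i a = D' i (AdjoinRoot.of P a) := fun i a => rfl
    have hE0 : ∀ i, E i (f 0) = 0 := fun i =>
      derivation_of_eq_zero p hP (natCast_residueField_eq_zero p hmon) (D' i)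
    obtain ⟨lam, hlam⟩ := LinearMap.exists_leftInverse_of_injective
      (Algebra.linearMap (ResidueField A) (ResidueField (AdjoinRoot P)))
      (LinearMap.ker_eq_bot.2 (algebraMap (ResidueField A) (ResidueField (AdjoinRoot P))).injective)
    have hlam1 : lam 1 = 1 := by
      have := LinearMap.congr_fun hlam 1
      simpa using this
    let F : Fin r → Derivation ℤ A (ResidueField A) := fun i =>
      (lam.restrictScalars A).compDer (E i)
    have hF : ∀ i a, F i a = lam (E i a) := fun i a => rfl
    have hF0 : ∀ i, F i (f 0) = 0 := fun i => by rw [hF, hE0, map_zero]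
    have hFs : ∀ i j, F i (f j.succ) = if j = i then 1 else 0 := by
      intro i j
      rw [hF, hE, hD']
      split_ifs
      · exact hlam1
      · exact map_zero _
    intro i
    refine Fin.cases ?_ (fun i => ?_) i
    · let c := D₀ (f 0)
      refine ⟨c⁻¹ • D₀ - ∑ j, (c⁻¹ * D₀ (f j.succ)) • F j, fun j => ?_⟩
      refine Fin.cases ?_ (fun k => ?_) j
      · rw [if_pos rfl, Derivation.sub_apply, derivation_sum_apply]
        simp only [Derivation.smul_apply, hF0, smul_zero, Finset.sum_const_zero, sub_zero]
        rw [smul_eq_mul]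
        exact inv_mul_cancel₀ hD₀
      · rw [if_neg (Fin.succ_ne_zero k), Derivation.sub_apply, derivation_sum_apply]
        simp only [Derivation.smul_apply, hFs, smul_eq_mul, mul_ite, mul_one, mul_zero]
        rw [Finset.sum_ite_eq, if_pos (Finset.mem_univ k), sub_self]
    · refine ⟨F i, fun j => ?_⟩
      refine Fin.cases ?_ (fun k => ?_) j
      · rw [hF0, if_neg (Fin.succ_ne_zero i).symm]
      · rw [hFs]
        by_cases hki : k = i
        · rw [if_pos hki, if_pos (by rw [hki])]
        · rw [if_neg hki, if_neg (by simpa using hki)]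

end comb

end Groth.Agent.Lib.helper19.PPoly
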