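import Mathlib
import Groth.Agent.Lib.Helper19.PPoly4

/-!
# `p`-polynomial extensions of local rings V: several variables (helper19)

* `Q A P = A[T_1..T_r]/(P_1(T_1), …, P_r(T_r))` for univariate polynomials `P_i`.
* `quotEquiv`: `Q A P ≃ Q (A[X]/(P_0)) (P_{i+1})`.
* `main`: the embedding dimension theorem for `Q A P` when `P_i = X^p + p G_i - f_i`.
-/

set_option autoImplicit false
universe u

namespace Groth.Agent.Lib.helper19.PPoly

open IsLocalRing

/-- the ideal generated by the `P_i(T_i)` -/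
noncomputable def qIdeal (A : Type u) [CommRing A] {r : ℕ} (P : Fin r → Polynomial A) :
    Ideal (MvPolynomial (Fin r) A) :=
  Ideal.span (Set.range fun i => Polynomial.aeval (MvPolynomial.X i : MvPolynomial (Fin r) A) (P i))

/-- `A[T_1..T_r]/(P_1(T_1), …, P_r(T_r))` -/
abbrev Q (A : Type u) [CommRing A] {r : ℕ} (P : Fin r → Polynomial A) : Type u :=
  MvPolynomial (Fin r) A ⧸ qIdeal A P

section iso

variable {A : Type u} [CommRing A] {r : ℕ} (P : Fin (r + 1) → Polynomial A)

/-- the polynomials `P_{i+1}` over `A[X]/(P_0)` -/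
noncomputable def tailPoly : Fin r → Polynomial (AdjoinRoot (P 0)) :=
  fun i => (P i.succ).map (AdjoinRoot.of (P 0))

theorem aeval_X_eq_eval₂ {B : Type u} [CommRing B] {n : ℕ} (i : Fin n) (q : Polynomial B) :
    Polynomial.aeval (MvPolynomial.X i : MvPolynomial (Fin n) B) q =
      q.eval₂ (MvPolynomial.C : B →+* MvPolynomial (Fin n) B) (MvPolynomial.X i) := rfl

/-- forward map on polynomial rings -/
noncomputable def fwd₀ : MvPolynomial (Fin (r + 1)) A →+* Q (AdjoinRoot (P 0)) (tailPoly P) :=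
  MvPolynomial.eval₂Hom
    ((Ideal.Quotient.mk (qIdeal _ (tailPoly P))).comp
      (MvPolynomial.C.comp (AdjoinRoot.of (P 0))))
    (Fin.cons (Ideal.Quotient.mk _ (MvPolynomial.C (AdjoinRoot.root (P 0))))
      (fun i => Ideal.Quotient.mk _ (MvPolynomial.X i)))

theorem fwd₀_C (a : A) : fwd₀ P (MvPolynomial.C a) =
    Ideal.Quotient.mk _ (MvPolynomial.C (AdjoinRoot.of (P 0) a)) := by
  simp [fwd₀]

theorem fwd₀_X_zero : fwd₀ P (MvPolynomial.X 0) =
    Ideal.Quotient.mk _ (MvPolynomial.C (AdjoinRoot.root (P 0))) := by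
  simp [fwd₀]

theorem fwd₀_X_succ (i : Fin r) : fwd₀ P (MvPolynomial.X i.succ) =
    Ideal.Quotient.mk _ (MvPolynomial.X i) := by
  simp [fwd₀]

theorem fwd₀_comp_C : (fwd₀ P).comp MvPolynomial.C =
    (Ideal.Quotient.mk (qIdeal _ (tailPoly P))).comp
      (MvPolynomial.C.comp (AdjoinRoot.of (P 0))) := by
  ext a
  exact fwd₀_C P a

theorem fwd₀_gen (i : Fin (r + 1)) :
    fwd₀ P (Polynomial.aeval (MvPolynomial.X i : MvPolynomial (Fin (r + 1)) A) (P i)) = 0 := by
  rw [aeval_X_eq_eval₂, Polynomial.hom_eval₂, fwd₀_comp_C]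
  refine Fin.cases ?_ (fun j => ?_) i
  · rw [fwd₀_X_zero]
    have h1 : (P 0).eval₂ ((Ideal.Quotient.mk (qIdeal _ (tailPoly P))).comp
        (MvPolynomial.C.comp (AdjoinRoot.of (P 0))))
        (Ideal.Quotient.mk _ (MvPolynomial.C (AdjoinRoot.root (P 0)))) =
        ((Ideal.Quotient.mk (qIdeal _ (tailPoly P))).comp MvPolynomial.C)
          ((P 0).eval₂ (AdjoinRoot.of (P 0)) (AdjoinRoot.root (P 0))) := by
      rw [Polynomial.hom_eval₂]
      rfl
    rw [h1, AdjoinRoot.eval₂_root, map_zero]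
  · rw [fwd₀_X_succ]
    have h1 : (P j.succ).eval₂ ((Ideal.Quotient.mk (qIdeal _ (tailPoly P))).comp
        (MvPolynomial.C.comp (AdjoinRoot.of (P 0))))
        (Ideal.Quotient.mk _ (MvPolynomial.X j)) =
        Ideal.Quotient.mk (qIdeal _ (tailPoly P))
          (Polynomial.aeval (MvPolynomial.X j : MvPolynomial (Fin r) (AdjoinRoot (P 0)))
            (tailPoly P j)) := by
      rw [aeval_X_eq_eval₂, tailPoly, Polynomial.eval₂_map, Polynomial.hom_eval₂]
    rw [h1, Ideal.Quotient.eq_zero_iff_mem]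
    exact Ideal.subset_span ⟨j, rfl⟩

/-- forward map -/
noncomputable def fwd : Q A P →+* Q (AdjoinRoot (P 0)) (tailPoly P) :=
  Ideal.Quotient.lift _ (fwd₀ P) (by
    intro a ha
    have hle : qIdeal A P ≤ RingHom.ker (fwd₀ P) := by
      rw [qIdeal, Ideal.span_le]
      rintro _ ⟨i, rfl⟩
      exact fwd₀_gen P i
    exact hle ha)

theorem fwd_mk (a : MvPolynomial (Fin (r + 1)) A) :
    fwd P (Ideal.Quotient.mk _ a) = fwd₀ P a := rfl

/-- the structure map `A[X]/(P_0) → Q A P` -/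
noncomputable def bwdC : AdjoinRoot (P 0) →+* Q A P :=
  AdjoinRoot.lift ((Ideal.Quotient.mk (qIdeal A P)).comp MvPolynomial.C)
    (Ideal.Quotient.mk _ (MvPolynomial.X 0)) (by
      have h1 : (P 0).eval₂ ((Ideal.Quotient.mk (qIdeal A P)).comp MvPolynomial.C)
          (Ideal.Quotient.mk _ (MvPolynomial.X 0)) =
          Ideal.Quotient.mk (qIdeal A P)
            (Polynomial.aeval (MvPolynomial.X 0 : MvPolynomial (Fin (r + 1)) A) (P 0)) := by
        rw [aeval_X_eq_eval₂, Polynomial.hom_eval₂]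
      rw [h1, Ideal.Quotient.eq_zero_iff_mem]
      exact Ideal.subset_span ⟨0, rfl⟩)

theorem bwdC_of (a : A) : bwdC P (AdjoinRoot.of (P 0) a) =
    Ideal.Quotient.mk _ (MvPolynomial.C a) := by
  simp [bwdC]

theorem bwdC_root : bwdC P (AdjoinRoot.root (P 0)) = Ideal.Quotient.mk _ (MvPolynomial.X 0) := by
  simp [bwdC]

/-- backward map on polynomial rings -/
noncomputable def bwd₀ : MvPolynomial (Fin r) (AdjoinRoot (P 0)) →+* Q A P :=
  MvPolynomial.eval₂Hom (bwdC P) (fun i => Ideal.Quotient.mk _ (MvPolynomial.X i.succ))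

theorem bwd₀_C (a : AdjoinRoot (P 0)) : bwd₀ P (MvPolynomial.C a) = bwdC P a := by
  simp [bwd₀]

theorem bwd₀_X (i : Fin r) : bwd₀ P (MvPolynomial.X i) =
    Ideal.Quotient.mk _ (MvPolynomial.X i.succ) := by
  simp [bwd₀]

theorem bwd₀_gen (j : Fin r) :
    bwd₀ P (Polynomial.aeval (MvPolynomial.X j : MvPolynomial (Fin r) (AdjoinRoot (P 0)))
      (tailPoly P j)) = 0 := by
  rw [aeval_X_eq_eval₂, Polynomial.hom_eval₂, bwd₀_X, tailPoly, Polynomial.eval₂_map]
  have h0 : ((bwd₀ P).comp MvPolynomial.C).comp (AdjoinRoot.of (P 0)) =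
      (Ideal.Quotient.mk (qIdeal A P)).comp MvPolynomial.C := by
    ext a
    simp [bwd₀_C, bwdC_of]
  rw [h0]
  have h1 : (P j.succ).eval₂ ((Ideal.Quotient.mk (qIdeal A P)).comp MvPolynomial.C)
      (Ideal.Quotient.mk _ (MvPolynomial.X j.succ)) =
      Ideal.Quotient.mk (qIdeal A P)
        (Polynomial.aeval (MvPolynomial.X j.succ : MvPolynomial (Fin (r + 1)) A) (P j.succ)) := by
    rw [aeval_X_eq_eval₂, Polynomial.hom_eval₂]
  rw [h1, Ideal.Quotient.eq_zero_iff_mem]
  exact Ideal.subset_span ⟨j.succ, rfl⟩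

/-- backward map -/
noncomputable def bwd : Q (AdjoinRoot (P 0)) (tailPoly P) →+* Q A P :=
  Ideal.Quotient.lift _ (bwd₀ P) (by
    intro a ha
    have hle : qIdeal _ (tailPoly P) ≤ RingHom.ker (bwd₀ P) := by
      rw [qIdeal, Ideal.span_le]
      rintro _ ⟨i, rfl⟩
      exact bwd₀_gen P i
    exact hle ha)

theorem bwd_mk (a : MvPolynomial (Fin r) (AdjoinRoot (P 0))) :
    bwd P (Ideal.Quotient.mk _ a) = bwd₀ P a := rfl

theorem bwd_comp_fwd : (bwd P).comp (fwd P) = RingHom.id _ := by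
  apply Ideal.Quotient.ringHom_ext
  apply MvPolynomial.ringHom_ext
  · intro a
    simp only [RingHom.comp_apply, fwd_mk, fwd₀_C, bwd_mk, bwd₀_C, bwdC_of, RingHom.id_apply]
  · intro i
    refine Fin.cases ?_ (fun j => ?_) i
    · simp only [RingHom.comp_apply, fwd_mk, fwd₀_X_zero, bwd_mk, bwd₀_C, bwdC_root,
        RingHom.id_apply]
    · simp only [RingHom.comp_apply, fwd_mk, fwd₀_X_succ, bwd_mk, bwd₀_X, RingHom.id_apply]

theorem fwd_comp_bwd : (fwd P).comp (bwd P) = RingHom.id _ := by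
  apply Ideal.Quotient.ringHom_ext
  apply MvPolynomial.ringHom_ext
  · intro a
    have h1 : (fwd P).comp (bwdC P) =
        (Ideal.Quotient.mk (qIdeal _ (tailPoly P))).comp MvPolynomial.C := by
      apply AdjoinRoot.ringHom_ext
      · ext b
        simp only [RingHom.comp_apply, bwdC_of, fwd_mk, fwd₀_C]
      · simp only [RingHom.comp_apply, bwdC_root, fwd_mk, fwd₀_X_zero]
    simp only [RingHom.comp_apply, bwd_mk, bwd₀_C, RingHom.id_apply]
    exact RingHom.congr_fun h1 a
  · intro i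
    simp only [RingHom.comp_apply, bwd_mk, bwd₀_X, fwd_mk, fwd₀_X_succ, RingHom.id_apply]

/-- `A[T_0..T_r]/(P_i(T_i)) ≃ (A[X]/(P_0))[T_1..T_r]/(P_i(T_i))` -/
noncomputable def quotEquiv : Q A P ≃+* Q (AdjoinRoot (P 0)) (tailPoly P) :=
  RingEquiv.ofRingHom (fwd P) (bwd P) (fwd_comp_bwd P) (bwd_comp_fwd P)

end iso

section main

variable (p : ℕ) [hp : Fact p.Prime]

/-- **Main theorem.** `A` Noetherian local with residue characteristic `p` and `p ∈ 𝔪²`,
`P_i = X^p + p G_i - f_i` monic. Then `B = A[T_1..T_r]/(P_i(T_i))` is local of the same dimension,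
`embdim A ≤ embdim B`, with equality iff the `f_i` are differentially independent. -/
theorem main : ∀ (r : ℕ) (A : Type u) [CommRing A] [IsLocalRing A] [IsNoetherianRing A]
    [CharP (ResidueField A) p] (_ : (p : A) ∈ maximalIdeal A ^ 2)
    (P G : Fin r → Polynomial A) (f : Fin r → A)
    (_ : ∀ i, P i = Polynomial.X ^ p + (p : Polynomial A) * G i - Polynomial.C (f i))
    (_ : ∀ i, (P i).Monic),
    ∃ (_ : IsLocalRing (Q A P)), ringKrullDim (Q A P) = ringKrullDim A ∧
      (maximalIdeal A).spanFinrank ≤ (maximalIdeal (Q A P)).spanFinrank ∧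
      ((maximalIdeal A).spanFinrank = (maximalIdeal (Q A P)).spanFinrank ↔
        DInd A (ResidueField A) f) := by
  intro r
  induction r with
  | zero =>
    intro A _ _ _ _ hp2 P G f hP hmon
    have hI : qIdeal A P = ⊥ := by
      rw [qIdeal, Ideal.span_eq_bot]
      rintro _ ⟨i, -⟩
      exact i.elim0
    let e : Q A P ≃+* A := (Ideal.quotEquivOfEq hI).trans
      ((RingEquiv.quotientBot _).trans (MvPolynomial.isEmptyRingEquiv A (Fin 0)))
    have hloc : IsLocalRing (Q A P) := e.symm.isLocalRing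
    exact ⟨hloc, ringKrullDim_eq_of_ringEquiv e, (spanFinrank_maximalIdeal_ringEquiv e).le,
      fun _ i => i.elim0, fun _ => (spanFinrank_maximalIdeal_ringEquiv e)⟩
  | succ r ih =>
    intro A _ _ _ _ hp2 P G f hP hmon
    obtain ⟨hloc1, hlh, hchar, hp2', hdim1, hle1, hiff1⟩ := step p hp2 (hP 0) (hmon 0)
    have := hloc1
    have := hlh
    have := hchar
    obtain ⟨hloc2, hdim2, hle2, hiff2⟩ := ih (AdjoinRoot (P 0)) hp2' (tailPoly P)
      (fun i => (G i.succ).map (AdjoinRoot.of (P 0))) (fun i => AdjoinRoot.of (P 0) (f i.succ))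
      (by
        intro i
        show (P i.succ).map (AdjoinRoot.of (P 0)) = _
        rw [hP i.succ]
        simp only [Polynomial.map_sub, Polynomial.map_add, Polynomial.map_pow, Polynomial.map_X,
          Polynomial.map_mul, Polynomial.map_natCast, Polynomial.map_C])
      (fun i => (hmon i.succ).map _)
    have := hloc2
    have hloc : IsLocalRing (Q A P) := (quotEquiv P).symm.isLocalRing
    have hsf := spanFinrank_maximalIdeal_ringEquiv (quotEquiv P)
    refine ⟨hloc, (ringKrullDim_eq_of_ringEquiv (quotEquiv P)).trans (hdim2.trans hdim1),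
      by omega, ?_⟩
    rw [dInd_cons_iff p f (hP 0) (hmon 0), ← hiff1, ← hiff2]
    omega

end main

end Groth.Agent.Lib.helper19.PPoly
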