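import Mathlib
import Groth.Agent.Lib.Helper19.PPoly5

/-!
# Eisenstein-type extensions of local rings: one variable (helper19)

`A` Noetherian local, `P = X^d + Σ_{k<d} c_k X^k` with `d ≥ 2`, `c_k ∈ 𝔪`, `A₁ = A[X]/(P)`. Then `A₁` is
local with maximal ideal `(𝔪, root)`, residue field `K`, `dim A₁ = dim A` and
`embdim A ≤ embdim A₁` with equality iff `c_0 ∉ 𝔪²` (`eisenstein_step`).
-/

set_option autoImplicit false
universe u

namespace Groth.Agent.Lib.helper19.Eisen

open IsLocalRing Polynomial Groth.Agent.Lib.helper19.PPoly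

section step

variable {A : Type u} [CommRing A] [IsLocalRing A] {P : A[X]} {d : ℕ} (hd : 2 ≤ d) {c : ℕ → A}
  (hc : ∀ k, c k ∈ maximalIdeal A)
  (hP : P = X ^ d + ∑ k ∈ Finset.range d, C (c k) * X ^ k)

omit [IsLocalRing A] in
include hP in
theorem monic : P.Monic := by
  rw [hP]
  apply Polynomial.monic_X_pow_add
  rw [Polynomial.degree_lt_iff_coeff_zero]
  intro m hm
  rw [Polynomial.finsetSum_coeff]
  refine Finset.sum_eq_zero fun k hk => ?_
  rw [Polynomial.coeff_C_mul_X_pow, if_neg]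
  have := Finset.mem_range.1 hk
  omega

omit [IsLocalRing A] in
include hP in
theorem root_pow_eq : (AdjoinRoot.root P) ^ d =
    - ∑ k ∈ Finset.range d, AdjoinRoot.of P (c k) * (AdjoinRoot.root P) ^ k := by
  have h : eval₂ (AdjoinRoot.of P) (AdjoinRoot.root P)
      (X ^ d + ∑ k ∈ Finset.range d, C (c k) * X ^ k) = 0 := by
    rw [← hP]
    exact AdjoinRoot.eval₂_root P
  simp only [eval₂_add, eval₂_pow, eval₂_X, eval₂_finsetSum, eval₂_mul, eval₂_C] at h
  exact eq_neg_of_add_eq_zero_left h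

include hc hP in
theorem root_pow_mem : (AdjoinRoot.root P) ^ d ∈ (maximalIdeal A).map (AdjoinRoot.of P) := by
  rw [root_pow_eq hP]
  refine Ideal.neg_mem_iff _ |>.2 (Ideal.sum_mem _ fun k _ => ?_)
  exact Ideal.mul_mem_right _ _ (Ideal.mem_map_of_mem _ (hc k))

/-- the evaluation `A₁ → K`, `root ↦ 0` -/
noncomputable def ev : AdjoinRoot P →+* ResidueField A :=
  AdjoinRoot.lift (residue A) 0 (by
    rw [hP]
    simp only [eval₂_add, eval₂_pow, eval₂_X, eval₂_finsetSum, eval₂_mul, eval₂_C]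
    rw [zero_pow (by omega), zero_add]
    refine Finset.sum_eq_zero fun k _ => ?_
    rw [(residue_eq_zero_iff _).2 (hc k), zero_mul])

theorem ev_of (a : A) : ev hd hc hP (AdjoinRoot.of P a) = residue A a := by
  simp [ev]

theorem ev_root : ev hd hc hP (AdjoinRoot.root P) = 0 := by
  simp [ev]

theorem ev_surjective : Function.Surjective (ev hd hc hP) := by
  intro x
  obtain ⟨a, rfl⟩ := residue_surjective x
  exact ⟨AdjoinRoot.of P a, ev_of hd hc hP a⟩

/-- every element of `A₁` is congruent to a constant modulo the root -/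
theorem exists_of_sub_mem (y : AdjoinRoot P) :
    ∃ a : A, ∃ z : AdjoinRoot P, y = AdjoinRoot.root P * z + AdjoinRoot.of P a := by
  obtain ⟨q, rfl⟩ := AdjoinRoot.mk_surjective y
  have h1 : q = (X - C 0) * (q /ₘ (X - C 0)) + C (q.eval 0) := by
    conv_lhs => rw [← modByMonic_add_div q (X - C 0), modByMonic_X_sub_C_eq_C_eval,
      add_comm]
  refine ⟨q.eval 0, AdjoinRoot.mk P (q /ₘ (X - C 0)), ?_⟩
  conv_lhs => rw [h1]
  rw [map_add, map_mul, map_sub, AdjoinRoot.mk_X, map_zero, map_zero, sub_zero]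
  rfl

theorem ker_ev : RingHom.ker (ev hd hc hP) = (maximalIdeal A).map (AdjoinRoot.of P) ⊔
    Ideal.span {AdjoinRoot.root P} := by
  apply le_antisymm
  · intro y hy
    obtain ⟨a, z, rfl⟩ := exists_of_sub_mem y
    have h4 : ev hd hc hP (AdjoinRoot.root P * z + AdjoinRoot.of P a) = 0 := hy
    rw [map_add, map_mul, ev_root, zero_mul, zero_add, ev_of, residue_eq_zero_iff] at h4
    exact Ideal.add_mem _ (Ideal.mem_sup_right (Ideal.mul_mem_right _ _
      (Ideal.subset_span rfl))) (Ideal.mem_sup_left (Ideal.mem_map_of_mem _ h4))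
  · refine sup_le ?_ ?_
    · rw [Ideal.map_le_iff_le_comap]
      intro a ha
      show ev hd hc hP (AdjoinRoot.of P a) = 0
      rw [ev_of, residue_eq_zero_iff]
      exact ha
    · rw [Ideal.span_le, Set.singleton_subset_iff]
      exact ev_root hd hc hP

include hd hc hP in
theorem sup_isMaximal : ((maximalIdeal A).map (AdjoinRoot.of P) ⊔
    Ideal.span {AdjoinRoot.root P}).IsMaximal := by
  rw [← ker_ev hd hc hP]
  exact RingHom.ker_isMaximal_of_surjective _ (ev_surjective hd hc hP)

include hd hc hP in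
theorem isLocalRing_adjoinRoot : IsLocalRing (AdjoinRoot P) := by
  have hM := sup_isMaximal hd hc hP
  have hmon := monic hP
  refine IsLocalRing.of_unique_max_ideal ⟨_, hM, fun N hN => ?_⟩
  have : N.IsMaximal := hN
  have h1 := map_le_of_isMaximal hmon N
  have h2 : AdjoinRoot.root P ∈ N :=
    hN.isPrime.mem_of_pow_mem d (h1 (root_pow_mem hc hP))
  have h3 : (maximalIdeal A).map (AdjoinRoot.of P) ⊔ Ideal.span {AdjoinRoot.root P} ≤ N :=
    sup_le h1 (by rwa [Ideal.span_le, Set.singleton_subset_iff])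
  exact (hM.eq_of_le hN.ne_top h3).symm

section local1

variable [IsLocalRing (AdjoinRoot P)]

include hd hc hP in
theorem maximalIdeal_eq : maximalIdeal (AdjoinRoot P) =
    (maximalIdeal A).map (AdjoinRoot.of P) ⊔ Ideal.span {AdjoinRoot.root P} :=
  (IsLocalRing.eq_maximalIdeal (sup_isMaximal hd hc hP)).symm

include hd hc hP in
theorem root_mem : AdjoinRoot.root P ∈ maximalIdeal (AdjoinRoot P) := by
  rw [maximalIdeal_eq hd hc hP]
  exact Ideal.mem_sup_right (Ideal.subset_span rfl)

include hd hc hP in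
theorem mem_maximalIdeal_iff (y : AdjoinRoot P) :
    y ∈ maximalIdeal (AdjoinRoot P) ↔ ev hd hc hP y = 0 := by
  rw [maximalIdeal_eq hd hc hP, ← ker_ev hd hc hP]
  rfl

include hd hc hP in
/-- the residue field of `A₁` is that of `A` -/
theorem exists_sub_of_mem (y : AdjoinRoot P) :
    ∃ a : A, y - AdjoinRoot.of P a ∈ maximalIdeal (AdjoinRoot P) := by
  obtain ⟨a, z, rfl⟩ := exists_of_sub_mem y
  refine ⟨a, ?_⟩
  rw [add_sub_cancel_right]
  exact Ideal.mul_mem_right _ _ (root_mem hd hc hP)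

include hP in
theorem of_injective : Function.Injective (AdjoinRoot.of P) := by
  have := (monic hP).free_adjoinRoot
  exact FaithfulSMul.algebraMap_injective A (AdjoinRoot P)

include hP in
theorem ringKrullDim_adjoinRoot : ringKrullDim (AdjoinRoot P) = ringKrullDim A := by
  have := (monic hP).finite_adjoinRoot
  have : Algebra.IsIntegral A (AdjoinRoot P) := Algebra.IsIntegral.of_finite A _
  exact (Groth.Agent.S5763.result A (AdjoinRoot P)).2 (of_injective hP)

include hd hc hP in
/-- `c_0 ∈ 𝔪₁²` -/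
theorem of_c_zero_mem_sq : AdjoinRoot.of P (c 0) ∈ maximalIdeal (AdjoinRoot P) ^ 2 := by
  have hmon := monic hP
  have hroot := root_mem hd hc hP
  have h1 := root_pow_eq hP
  obtain ⟨d', rfl⟩ : ∃ d', d = d' + 1 := ⟨d - 1, by omega⟩
  rw [Finset.sum_range_succ', pow_zero, mul_one] at h1
  have h2 : AdjoinRoot.of P (c 0) = - (AdjoinRoot.root P) ^ (d' + 1) -
      ∑ k ∈ Finset.range d', AdjoinRoot.of P (c (k + 1)) * (AdjoinRoot.root P) ^ (k + 1) := by
    rw [h1]; ring
  rw [h2]
  refine Ideal.sub_mem _ (Ideal.neg_mem_iff _ |>.2 ?_) (Ideal.sum_mem _ fun k _ => ?_)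
  · exact Ideal.pow_le_pow_right hd (Ideal.pow_mem_pow hroot _)
  · rw [pow_two, pow_succ, ← mul_assoc]
    refine Ideal.mul_mem_mul ?_ hroot
    exact Ideal.mul_mem_right _ _ (of_mem_maximalIdeal hmon (hc (k + 1)))

end local1

end step

end Groth.Agent.Lib.helper19.Eisen
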