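import Mathlib
import Groth.Agent.Lib.Helper19.Eisen1

/-!
# Eisenstein-type extensions of local rings: the embedding dimension in one variable (helper19)
-/

set_option autoImplicit false
universe u

namespace Groth.Agent.Lib.helper19.Eisen

open IsLocalRing Polynomial Groth.Agent.Lib.helper19.PPoly

/-- lower bound for the embedding dimension from "cotangent independence" -/
theorem card_le_spanFinrank_of_indep {R : Type u} [CommRing R] [IsLocalRing R] [IsNoetherianRing R]
    {κ : Type*} [Fintype κ] (y : κ → R) (hy : ∀ o, y o ∈ maximalIdeal R)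
    (h : ∀ b : κ → R, ∑ o, b o * y o ∈ maximalIdeal R ^ 2 → ∀ o, b o ∈ maximalIdeal R) :
    Fintype.card κ ≤ (maximalIdeal R).spanFinrank := by
  classical
  rw [spanFinrank_maximalIdeal_eq_finrank_cotangentSpace]
  have hli : LinearIndependent (ResidueField R)
      (fun o => (maximalIdeal R).toCotangent ⟨y o, hy o⟩) := by
    rw [Fintype.linearIndependent_iff]
    intro c hc i
    choose b hb using fun j => residue_surjective (c j)
    have h0 : ∀ j, c j • (maximalIdeal R).toCotangent ⟨y j, hy j⟩ =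
        (maximalIdeal R).toCotangent (b j • ⟨y j, hy j⟩) := by
      intro j
      rw [map_smul, ← hb j]
      rfl
    have h1 : (maximalIdeal R).toCotangent (∑ j, b j • (⟨y j, hy j⟩ : maximalIdeal R)) = 0 := by
      rw [map_sum, ← hc]
      exact Finset.sum_congr rfl fun j _ => (h0 j).symm
    rw [Ideal.toCotangent_eq_zero] at h1
    have h2 : ((∑ j, b j • (⟨y j, hy j⟩ : maximalIdeal R) : maximalIdeal R) : R) =
        ∑ j, b j * y j := by
      rw [Submodule.coe_sum]
      rfl
    rw [h2] at h1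
    rw [← hb i, residue_eq_zero_iff]
    exact h b h1 i
  exact hli.fintype_card_le_finrank

section step

variable {A : Type u} [CommRing A] [IsLocalRing A] {P : A[X]} {d : ℕ} (hd : 2 ≤ d) {c : ℕ → A}
  (hc : ∀ k, c k ∈ maximalIdeal A)
  (hP : P = X ^ d + ∑ k ∈ Finset.range d, C (c k) * X ^ k)

omit [IsLocalRing A] in
include hd hP in
theorem coeff_zero : P.coeff 0 = c 0 := by
  rw [hP, coeff_add, coeff_X_pow, if_neg (by omega), zero_add, finsetSum_coeff]
  rw [Finset.sum_eq_single 0]
  · simp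
  · intro k _ hk
    rw [coeff_C_mul_X_pow, if_neg (Ne.symm hk)]
  · intro h0
    exact absurd (Finset.mem_range.2 (by omega)) h0

/-- the ideal `𝔪² + (c_0)` -/
noncomputable def J0 (A : Type u) [CommRing A] [IsLocalRing A] (c0 : A) : Ideal A :=
  maximalIdeal A ^ 2 ⊔ Ideal.span {c0}

/-- `A₁ → A/(𝔪² + c_0)`, `root ↦ 0` -/
noncomputable def rho : AdjoinRoot P →+* A ⧸ J0 A (c 0) :=
  AdjoinRoot.lift (Ideal.Quotient.mk (J0 A (c 0))) 0 (by
    rw [eval₂_at_zero, coeff_zero hd hP, Ideal.Quotient.eq_zero_iff_mem]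
    exact Ideal.mem_sup_right (Ideal.subset_span rfl))

theorem rho_of (a : A) : rho hd hP (AdjoinRoot.of P a) = Ideal.Quotient.mk _ a := by
  simp [rho]

theorem rho_root : rho hd hP (AdjoinRoot.root P) = 0 := by
  simp [rho]

section local1

variable [IsLocalRing (AdjoinRoot P)]

include hd hc hP in
theorem of_mem_J0 {a : A} (ha : AdjoinRoot.of P a ∈ maximalIdeal (AdjoinRoot P) ^ 2) :
    a ∈ J0 A (c 0) := by
  have h1 : Ideal.map (rho hd hP) (maximalIdeal (AdjoinRoot P)) ≤
      (maximalIdeal A).map (Ideal.Quotient.mk (J0 A (c 0))) := by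
    rw [maximalIdeal_eq hd hc hP, Ideal.map_sup, Ideal.map_map, Ideal.map_span, Set.image_singleton,
      rho_root]
    refine sup_le (le_of_eq ?_) (by simp)
    congr 1
    ext a
    exact rho_of hd hP a
  have h2 : Ideal.map (rho hd hP) (maximalIdeal (AdjoinRoot P) ^ 2) ≤ ⊥ := by
    rw [Ideal.map_pow]
    refine (Ideal.pow_right_mono h1 2).trans ?_
    rw [← Ideal.map_pow, Ideal.map_le_iff_le_comap]
    intro x hx
    rw [Ideal.mem_comap, Ideal.mem_bot, Ideal.Quotient.eq_zero_iff_mem]
    exact Ideal.mem_sup_left hx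
  have h3 := h2 (Ideal.mem_map_of_mem (rho hd hP) ha)
  rw [Ideal.mem_bot, rho_of, Ideal.Quotient.eq_zero_iff_mem] at h3
  exact h3

include hd hc hP in
/-- the derivation `∂/∂root : A₁ → K₁` -/
theorem exists_derivation_root :
    ∃ D : DerZ (AdjoinRoot P) (ResidueField (AdjoinRoot P)),
      (∀ a, D (AdjoinRoot.of P a) = 0) ∧ D (AdjoinRoot.root P) = 1 := by
  classical
  have hmon := monic hP
  let L := ResidueField (AdjoinRoot P)
  let φ : A →+* TrivSqZeroExt L L := (TrivSqZeroExt.inlHom L L).comp (algebraMap A L)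
  have hφ : ∀ a, φ a = TrivSqZeroExt.inl (algebraMap A L a) := fun a => rfl
  let τ : TrivSqZeroExt L L := TrivSqZeroExt.inr 1
  have hτ2 : τ * τ = 0 := TrivSqZeroExt.inr_mul_inr L 1 1
  have hτd : τ ^ d = 0 := by
    obtain ⟨d', rfl⟩ : ∃ d', d = d' + 2 := ⟨d - 2, by omega⟩
    rw [pow_add, pow_two, hτ2, mul_zero]
  have hφc : ∀ k, φ (c k) = 0 := by
    intro k
    have h1 : algebraMap A L (c k) = 0 := by
      have h2 : algebraMap A L (c k) = residue (AdjoinRoot P) (AdjoinRoot.of P (c k)) := rfl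
      rw [h2, residue_eq_zero_iff]
      exact of_mem_maximalIdeal hmon (hc k)
    rw [hφ, h1, TrivSqZeroExt.inl_zero]
  have hev : P.eval₂ φ τ = 0 := by
    rw [congrArg (fun q => eval₂ φ τ q) hP]
    simp only [eval₂_add, eval₂_pow, eval₂_X, eval₂_finsetSum, eval₂_mul, eval₂_C]
    rw [hτd, zero_add]
    exact Finset.sum_eq_zero fun k _ => by rw [hφc, zero_mul]
  let Φ : AdjoinRoot P →+* TrivSqZeroExt L L := AdjoinRoot.lift φ τ hev
  have hfst : ((TrivSqZeroExt.fstHom L L L : TrivSqZeroExt L L →+* L)).comp Φ =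
      algebraMap (AdjoinRoot P) L := by
    apply AdjoinRoot.ringHom_ext
    · ext a
      have h1 : algebraMap (AdjoinRoot P) L (AdjoinRoot.of P a) = algebraMap A L a := rfl
      simp only [RingHom.comp_apply, Φ, AdjoinRoot.lift_of, hφ]
      rw [h1]
      simp
    · have h1 : algebraMap (AdjoinRoot P) L (AdjoinRoot.root P) = 0 := by
        rw [ResidueField.algebraMap_eq, residue_eq_zero_iff]
        exact root_mem hd hc hP
      simp [Φ, τ, h1]
  have hΦ : ∀ y, (Φ y).fst = algebraMap (AdjoinRoot P) L y := fun y =>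
    RingHom.congr_fun hfst y
  refine ⟨Groth.Agent.Lib.helper19.FSDiff.derivOfSection Φ hΦ, fun a => ?_, ?_⟩
  · show (Φ (AdjoinRoot.of P a)).snd = 0
    simp [Φ, hφ]
  · show (Φ (AdjoinRoot.root P)).snd = 1
    simp [Φ, τ]

variable [IsNoetherianRing A]

include hd hc hP in
/-- the key lower bound -/
theorem card_le_of_indep {κ : Type u} [Fintype κ] [DecidableEq κ] (o₀ : κ) (x : κ → A)
    (hx : ∀ o, x o ∈ maximalIdeal A)
    (hli : ∀ a : κ → A, a o₀ = 0 → ∑ o, a o * x o ∈ J0 A (c 0) →
      ∀ o, o ≠ o₀ → a o ∈ maximalIdeal A) :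
    Fintype.card κ ≤ (maximalIdeal (AdjoinRoot P)).spanFinrank := by
  have hmon := monic hP
  have hroot := root_mem hd hc hP
  let y : κ → AdjoinRoot P := fun o => if o = o₀ then AdjoinRoot.root P else AdjoinRoot.of P (x o)
  have hy0 : y o₀ = AdjoinRoot.root P := if_pos rfl
  have hyo : ∀ o, o ≠ o₀ → y o = AdjoinRoot.of P (x o) := fun o ho => if_neg ho
  have hym : ∀ o, y o ∈ maximalIdeal (AdjoinRoot P) := by
    intro o
    by_cases ho : o = o₀
    · rw [ho, hy0]; exact hroot
    · rw [hyo o ho]; exact of_mem_maximalIdeal hmon (hx o)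
  refine card_le_spanFinrank_of_indep y hym ?_
  intro b hb
  obtain ⟨D, hDof, hDroot⟩ := exists_derivation_root hd hc hP
  -- the coefficient of the root
  have hb0 : b o₀ ∈ maximalIdeal (AdjoinRoot P) := by
    have h1 := derivation_eq_zero_of_mem_sq (maximalIdeal (AdjoinRoot P))
      smul_residueField_eq_zero D hb
    rw [map_sum] at h1
    have h2 : ∀ o, D (b o * y o) = if o = o₀ then residue (AdjoinRoot P) (b o) else 0 := by
      intro o
      rw [D.leibniz, smul_residueField_eq_zero (y o) (hym o), add_zero]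
      by_cases ho : o = o₀
      · rw [if_pos ho, ho, hy0, hDroot, Algebra.smul_def, mul_one, ResidueField.algebraMap_eq]
      · rw [if_neg ho, hyo o ho, hDof, smul_zero]
    rw [Finset.sum_congr rfl fun o _ => h2 o, Finset.sum_ite_eq', if_pos (Finset.mem_univ o₀),
      residue_eq_zero_iff] at h1
    exact h1
  -- the other coefficients
  choose a0 ha0 using fun o => exists_sub_of_mem hd hc hP (b o)
  let a : κ → A := fun o => if o = o₀ then 0 else a0 o
  have haz : a o₀ = 0 := if_pos rfl
  have hao : ∀ o, o ≠ o₀ → a o = a0 o := fun o ho => if_neg ho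
  have h3 : AdjoinRoot.of P (∑ o, a o * x o) ∈ maximalIdeal (AdjoinRoot P) ^ 2 := by
    have h4 : AdjoinRoot.of P (∑ o, a o * x o) =
        ∑ o, b o * y o - ∑ o, (b o * y o - AdjoinRoot.of P (a o) * AdjoinRoot.of P (x o)) := by
      rw [map_sum, Finset.sum_sub_distrib, sub_sub_cancel]
      exact Finset.sum_congr rfl fun o _ => by rw [map_mul]
    rw [h4]
    refine Ideal.sub_mem _ hb (Ideal.sum_mem _ fun o _ => ?_)
    by_cases ho : o = o₀
    · rw [ho, haz, map_zero, zero_mul, sub_zero, hy0, pow_two]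
      exact Ideal.mul_mem_mul hb0 hroot
    · rw [hyo o ho, hao o ho, ← sub_mul, pow_two]
      exact Ideal.mul_mem_mul (ha0 o) (of_mem_maximalIdeal hmon (hx o))
  have h5 := hli a haz (of_mem_J0 hd hc hP h3)
  intro o
  by_cases ho : o = o₀
  · rw [ho]; exact hb0
  · have h6 := h5 o ho
    rw [hao o ho] at h6
    have h7 : b o = (b o - AdjoinRoot.of P (a0 o)) + AdjoinRoot.of P (a0 o) := by ring
    rw [h7]
    exact Ideal.add_mem _ (ha0 o) (of_mem_maximalIdeal hmon h6)

end local1

end step

end Groth.Agent.Lib.helper19.Eisen
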