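import Mathlib
import Groth.Agent.Lib.Helper19.Eisen2

/-!
# Eisenstein-type extensions of local rings: the one-variable step and cotangent independence
(helper19)
-/

set_option autoImplicit false
universe u

namespace Groth.Agent.Lib.helper19.Eisen

open IsLocalRing Polynomial Groth.Agent.Lib.helper19.PPoly

/-- "cotangent independence": the classes of the `w_i` in `𝔪/𝔪²` are linearly independent -/
def CInd (R : Type u) [CommRing R] [IsLocalRing R] {ι : Type*} [Fintype ι] (w : ι → R) : Prop :=
  ∀ a : ι → R, ∑ i, a i * w i ∈ maximalIdeal R ^ 2 → ∀ i, a i ∈ maximalIdeal R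

theorem cInd_iff_linearIndependent {R : Type u} [CommRing R] [IsLocalRing R] {ι : Type*}
    [Fintype ι] (w : ι → R) (hw : ∀ i, w i ∈ maximalIdeal R) :
    CInd R w ↔ LinearIndependent (ResidueField R)
      (fun i => (maximalIdeal R).toCotangent ⟨w i, hw i⟩) := by
  classical
  have key : ∀ b : ι → R, (∑ j, residue R (b j) • (maximalIdeal R).toCotangent ⟨w j, hw j⟩ = 0 ↔
      ∑ j, b j * w j ∈ maximalIdeal R ^ 2) := by
    intro b
    have h0 : ∀ j, residue R (b j) • (maximalIdeal R).toCotangent ⟨w j, hw j⟩ =
        (maximalIdeal R).toCotangent (b j • ⟨w j, hw j⟩) := by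
      intro j
      rw [map_smul]
      rfl
    rw [Finset.sum_congr rfl fun j _ => h0 j, ← map_sum, Ideal.toCotangent_eq_zero]
    have h2 : ((∑ j, b j • (⟨w j, hw j⟩ : maximalIdeal R) : maximalIdeal R) : R) =
        ∑ j, b j * w j := by
      rw [Submodule.coe_sum]
      rfl
    rw [h2]
  constructor
  · intro h
    rw [Fintype.linearIndependent_iff]
    intro c hc i
    choose b hb using fun j => residue_surjective (c j)
    have h1 : ∑ j, residue R (b j) • (maximalIdeal R).toCotangent ⟨w j, hw j⟩ = 0 := by
      rw [← hc]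
      exact Finset.sum_congr rfl fun j _ => by rw [hb j]
    rw [← hb i, residue_eq_zero_iff]
    exact h b ((key b).1 h1) i
  · intro h a ha i
    rw [Fintype.linearIndependent_iff] at h
    have h1 := h (fun j => residue R (a j)) ((key a).2 ha) i
    exact (residue_eq_zero_iff _).1 h1

section step

variable {A : Type u} [CommRing A] [IsLocalRing A] [IsNoetherianRing A] {P : A[X]} {d : ℕ}
  (hd : 2 ≤ d) {c : ℕ → A} (hc : ∀ k, c k ∈ maximalIdeal A)
  (hP : P = X ^ d + ∑ k ∈ Finset.range d, C (c k) * X ^ k)

/-- lifts of a basis of the cotangent space are cotangent independent -/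
theorem cInd_of_basis {ι : Type*} [Fintype ι]
    (b : Module.Basis ι (ResidueField A) (CotangentSpace A)) (x : ι → maximalIdeal A)
    (hx : ∀ j, (maximalIdeal A).toCotangent (x j) = b j) : CInd A (fun j => (x j : A)) := by
  rw [cInd_iff_linearIndependent _ (fun j => (x j).2)]
  have : (fun j => (maximalIdeal A).toCotangent ⟨(x j : A), (x j).2⟩) = b := by
    funext j
    rw [Subtype.coe_eta, hx]
  rw [this]
  exact b.linearIndependent

theorem span_of_basis {ι : Type*} [Fintype ι]
    (b : Module.Basis ι (ResidueField A) (CotangentSpace A)) (x : ι → maximalIdeal A)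
    (hx : ∀ j, (maximalIdeal A).toCotangent (x j) = b j) :
    maximalIdeal A = Ideal.span (Set.range fun j => (x j : A)) := by
  have h1 : Submodule.span (ResidueField A) ((maximalIdeal A).toCotangent '' Set.range x)
      = ⊤ := by
    have h2 : (maximalIdeal A).toCotangent '' Set.range x = Set.range b := by
      rw [← Set.range_comp]
      congr 1
      funext j
      exact hx j
    rw [h2, b.span_eq]
  rw [CotangentSpace.span_image_eq_top_iff] at h1
  have h3 := congrArg (Submodule.map (maximalIdeal A).subtype) h1
  rw [Submodule.map_span, Submodule.map_subtype_top, ← Set.range_comp] at h3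
  exact h3.symm

include hd hc hP in
/-- **The one-variable Eisenstein step.** -/
theorem eisenstein_step :
    ∃ (_ : IsLocalRing (AdjoinRoot P)), IsLocalHom (algebraMap A (AdjoinRoot P)) ∧
      (∀ y : AdjoinRoot P, ∃ a : A, y - AdjoinRoot.of P a ∈ maximalIdeal (AdjoinRoot P)) ∧
      ringKrullDim (AdjoinRoot P) = ringKrullDim A ∧
      (maximalIdeal A).spanFinrank ≤ (maximalIdeal (AdjoinRoot P)).spanFinrank ∧
      ((maximalIdeal A).spanFinrank = (maximalIdeal (AdjoinRoot P)).spanFinrank ↔
        c 0 ∉ maximalIdeal A ^ 2) ∧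
      AdjoinRoot.of P (c 0) ∈ maximalIdeal (AdjoinRoot P) ^ 2 ∧
      (∀ a : A, AdjoinRoot.of P a ∈ maximalIdeal (AdjoinRoot P) ^ 2 → a ∈ J0 A (c 0)) := by
  classical
  have hloc := isLocalRing_adjoinRoot hd hc hP
  have hmon := monic hP
  refine ⟨hloc, isLocalHom_of hmon, exists_sub_of_mem hd hc hP, ringKrullDim_adjoinRoot hP, ?_⟩
  suffices h : (maximalIdeal A).spanFinrank ≤ (maximalIdeal (AdjoinRoot P)).spanFinrank ∧
      ((maximalIdeal A).spanFinrank = (maximalIdeal (AdjoinRoot P)).spanFinrank ↔
        c 0 ∉ maximalIdeal A ^ 2) from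
    ⟨h.1, h.2, of_c_zero_mem_sq hd hc hP, fun a ha => of_mem_J0 hd hc hP ha⟩
  have hn : (maximalIdeal A).spanFinrank =
      Module.finrank (ResidueField A) (CotangentSpace A) :=
    spanFinrank_maximalIdeal_eq_finrank_cotangentSpace A
  by_cases h0 : c 0 ∈ maximalIdeal A ^ 2
  · -- `embdim A + 1 ≤ embdim A₁`
    have hJ : J0 A (c 0) = maximalIdeal A ^ 2 := by
      unfold J0
      rw [sup_eq_left, Ideal.span_le, Set.singleton_subset_iff]
      exact h0
    let b := Module.finBasis (ResidueField A) (CotangentSpace A)
    choose x hx using fun j => (maximalIdeal A).toCotangent_surjective (b j)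
    have hci := cInd_of_basis b x hx
    have h1 := card_le_of_indep hd hc hP
      (κ := ULift.{u} (Option (Fin (Module.finrank (ResidueField A) (CotangentSpace A)))))
      ⟨none⟩ (fun o => o.down.elim 0 (fun j => (x j : A)))
      (by
        rintro ⟨o⟩
        cases o with
        | none => exact Ideal.zero_mem _
        | some j => exact (x j).2)
      (by
        intro a _ hsum
        rw [hJ] at hsum
        have h2 : ∑ o, a o * (o.down.elim 0 (fun j => (x j : A))) =
            ∑ j, a ⟨some j⟩ * (x j : A) := by
          rw [← Equiv.ulift.symm.sum_comp, Fintype.sum_option]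
          simp
        rw [h2] at hsum
        have h3 := hci (fun j => a ⟨some j⟩) hsum
        rintro ⟨o⟩ ho
        cases o with
        | none => exact absurd rfl ho
        | some j => exact h3 j)
    have h2 : Fintype.card
        (ULift.{u} (Option (Fin (Module.finrank (ResidueField A) (CotangentSpace A))))) =
        Module.finrank (ResidueField A) (CotangentSpace A) + 1 := by
      simp
    rw [h2, ← hn] at h1
    exact ⟨by omega, fun h => by omega, fun h => absurd h0 h⟩
  · -- `embdim A = embdim A₁`
    let v : CotangentSpace A := (maximalIdeal A).toCotangent ⟨c 0, hc 0⟩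
    have hv : v ≠ 0 := by
      intro hv0
      exact h0 ((Ideal.toCotangent_eq_zero _ _).1 hv0)
    obtain ⟨ι, _, b, i₀, hbi₀⟩ := exists_basis_with (K := ResidueField A) v hv
    have hcard : Fintype.card ι = (maximalIdeal A).spanFinrank := by
      rw [hn, Module.finrank_eq_card_basis b]
    choose x hx using fun j => (maximalIdeal A).toCotangent_surjective (b j)
    have hci := cInd_of_basis b x hx
    have hxi₀ : ((x i₀ : A) - c 0) ∈ maximalIdeal A ^ 2 := by
      have h2 : (maximalIdeal A).toCotangent (x i₀) =
          (maximalIdeal A).toCotangent ⟨c 0, hc 0⟩ := by rw [hx, hbi₀]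
      exact (Ideal.toCotangent_eq _).1 h2
    have hlb := card_le_of_indep hd hc hP i₀ (fun j => (x j : A)) (fun j => (x j).2)
      (by
        intro a ha0 hsum j hj
        obtain ⟨m, hm, z, hz, hmz⟩ := Submodule.mem_sup.1 hsum
        obtain ⟨t, rfl⟩ := Ideal.mem_span_singleton'.1 hz
        have h2 : ∑ o, (if o = i₀ then -t else a o) * (x o : A) ∈ maximalIdeal A ^ 2 := by
          have h3 : ∑ o, (if o = i₀ then -t else a o) * (x o : A) =
              ∑ o, a o * (x o : A) + ∑ o, (if o = i₀ then -t * (x o : A) else 0) := by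
            rw [← Finset.sum_add_distrib]
            refine Finset.sum_congr rfl fun o _ => ?_
            by_cases ho : o = i₀
            · rw [if_pos ho, if_pos ho, ho, ha0]; ring
            · rw [if_neg ho, if_neg ho, add_zero]
          rw [h3, Finset.sum_ite_eq', if_pos (Finset.mem_univ i₀), ← hmz]
          have h4 : m + t * c 0 + -t * (x i₀ : A) = m - t * ((x i₀ : A) - c 0) := by ring
          rw [h4]
          exact Ideal.sub_mem _ hm (Ideal.mul_mem_left _ _ hxi₀)
        have h5 := hci _ h2 j
        rwa [if_neg hj] at h5)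
    rw [hcard] at hlb
    have hub : (maximalIdeal (AdjoinRoot P)).spanFinrank ≤ (maximalIdeal A).spanFinrank := by
      rw [← hcard]
      let y : ι → AdjoinRoot P :=
        fun j => if j = i₀ then AdjoinRoot.root P else AdjoinRoot.of P (x j)
      have hy0 : y i₀ = AdjoinRoot.root P := if_pos rfl
      have hyj : ∀ j, j ≠ i₀ → y j = AdjoinRoot.of P (x j) := fun j hj => if_neg hj
      have hym : ∀ j, y j ∈ maximalIdeal (AdjoinRoot P) := by
        intro j
        by_cases hj : j = i₀
        · rw [hj, hy0]; exact root_mem hd hc hP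
        · rw [hyj j hj]; exact of_mem_maximalIdeal hmon (x j).2
      refine spanFinrank_le_card (R := AdjoinRoot P) y hym ?_
      have hspan := span_of_basis b x hx
      have hxi₀' : AdjoinRoot.of P (x i₀) ∈ maximalIdeal (AdjoinRoot P) ^ 2 := by
        have h3 : AdjoinRoot.of P (x i₀) =
            AdjoinRoot.of P ((x i₀ : A) - c 0) + AdjoinRoot.of P (c 0) := by
          rw [← map_add, sub_add_cancel]
        rw [h3]
        exact Ideal.add_mem _ (of_mem_sq hmon hxi₀) (of_c_zero_mem_sq hd hc hP)
      rw [maximalIdeal_eq hd hc hP]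
      refine sup_le ?_ ?_
      · conv_lhs => rw [hspan, Ideal.map_span]
        rw [Ideal.span_le]
        rintro _ ⟨_, ⟨j, rfl⟩, rfl⟩
        by_cases hj : j = i₀
        · rw [hj, ← maximalIdeal_eq hd hc hP]
          exact Ideal.mem_sup_right hxi₀'
        · refine Ideal.mem_sup_left (Ideal.subset_span ⟨j, ?_⟩)
          exact hyj j hj
      · rw [Ideal.span_le, Set.singleton_subset_iff]
        exact Ideal.mem_sup_left (Ideal.subset_span ⟨i₀, hy0⟩)
    exact ⟨hlb, fun _ => h0, fun _ => le_antisymm hlb hub⟩

end step

end Groth.Agent.Lib.helper19.Eisen
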