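import Mathlib
import Groth.Agent.Lib.Helper19.Eisen3

/-!
# Eisenstein-type extensions of local rings: several variables (helper19)

`eisenstein_main`: `A` Noetherian local, `P_i = X^{d_i} + Σ_{k<d_i} c_{ik} X^k`, `d_i ≥ 2`, `c_{ik} ∈ 𝔪`.
Then `B = A[T_1..T_r]/(P_i(T_i))` is local with residue field that of `A`, `dim B = dim A`,
`embdim A ≤ embdim B` with equality iff the classes of the `c_{i0}` in `𝔪/𝔪²` are independent.
-/

set_option autoImplicit false
universe u

namespace Groth.Agent.Lib.helper19.Eisen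

open IsLocalRing Polynomial Groth.Agent.Lib.helper19.PPoly

section comb

variable {A : Type u} [CommRing A] [IsLocalRing A] {A₁ : Type u} [CommRing A₁] [IsLocalRing A₁]
  (φ : A →+* A₁) (hφm : ∀ a, a ∈ maximalIdeal A ↔ φ a ∈ maximalIdeal A₁)
  (hsurj : ∀ y : A₁, ∃ a : A, y - φ a ∈ maximalIdeal A₁)
  {r : ℕ} (w : Fin (r + 1) → A)
  (hE : φ (w 0) ∈ maximalIdeal A₁ ^ 2)
  (hF : ∀ a : A, φ a ∈ maximalIdeal A₁ ^ 2 → a ∈ J0 A (w 0))

include hφm hsurj hE hF in
theorem cInd_cons_iff (hw : ∀ i, w i ∈ maximalIdeal A) :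
    CInd A w ↔ (w 0 ∉ maximalIdeal A ^ 2 ∧ CInd A₁ (fun i : Fin r => φ (w i.succ))) := by
  classical
  have hφ2 : ∀ a, a ∈ maximalIdeal A ^ 2 → φ a ∈ maximalIdeal A₁ ^ 2 := by
    intro a ha
    have h1 : (maximalIdeal A).map φ ≤ maximalIdeal A₁ := by
      rw [Ideal.map_le_iff_le_comap]
      intro x hx
      exact (hφm x).1 hx
    have h2 : φ a ∈ ((maximalIdeal A) ^ 2).map φ := Ideal.mem_map_of_mem _ ha
    rw [Ideal.map_pow] at h2
    exact Ideal.pow_right_mono h1 2 h2
  constructor
  · intro h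
    refine ⟨fun h0 => ?_, fun b hb => ?_⟩
    · have h1 := h (fun i => if i = 0 then 1 else 0) (by
        have : ∑ i, (if i = 0 then (1 : A) else 0) * w i = w 0 := by
          simp [Finset.sum_ite_eq']
        rw [this]; exact h0) 0
      rw [if_pos rfl] at h1
      exact (Ideal.ne_top_iff_one _).1 (maximalIdeal.isMaximal A).ne_top h1
    · choose a ha using fun i => hsurj (b i)
      have h1 : φ (∑ i, a i * w i.succ) ∈ maximalIdeal A₁ ^ 2 := by
        have h2 : φ (∑ i, a i * w i.succ) =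
            ∑ i, b i * φ (w i.succ) - ∑ i, (b i - φ (a i)) * φ (w i.succ) := by
          rw [map_sum, ← Finset.sum_sub_distrib]
          refine Finset.sum_congr rfl fun i _ => ?_
          rw [map_mul]; ring
        rw [h2]
        refine Ideal.sub_mem _ hb (Ideal.sum_mem _ fun i _ => ?_)
        rw [pow_two]
        exact Ideal.mul_mem_mul (ha i) ((hφm _).1 (hw i.succ))
      obtain ⟨m, hm, z, hz, hmz⟩ := Submodule.mem_sup.1 (hF _ h1)
      obtain ⟨t, rfl⟩ := Ideal.mem_span_singleton'.1 hz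
      have h3 := h (Fin.cons (-t) a) (by
        rw [Fin.sum_univ_succ]
        simp only [Fin.cons_zero, Fin.cons_succ]
        rw [← hmz]
        have : -t * w 0 + (m + t * w 0) = m := by ring
        rw [this]; exact hm)
      intro i
      have h4 := h3 i.succ
      rw [Fin.cons_succ] at h4
      have h5 : b i = (b i - φ (a i)) + φ (a i) := by ring
      rw [h5]
      exact Ideal.add_mem _ (ha i) ((hφm _).1 h4)
  · rintro ⟨h0, h⟩ a ha
    have h1 : ∑ i : Fin r, φ (a i.succ) * φ (w i.succ) ∈ maximalIdeal A₁ ^ 2 := by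
      have h2 : ∑ i : Fin r, φ (a i.succ) * φ (w i.succ) =
          φ (∑ i, a i * w i) - φ (a 0) * φ (w 0) := by
        rw [Fin.sum_univ_succ, map_add, map_sum, map_mul]
        simp only [map_mul]
        ring
      rw [h2]
      exact Ideal.sub_mem _ (hφ2 _ ha) (Ideal.mul_mem_left _ _ hE)
    have h3 : ∀ i : Fin r, a i.succ ∈ maximalIdeal A := fun i => (hφm _).2 (h _ h1 i)
    have h4 : a 0 * w 0 ∈ maximalIdeal A ^ 2 := by
      have h5 : a 0 * w 0 = ∑ i, a i * w i - ∑ i : Fin r, a i.succ * w i.succ := by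
        rw [Fin.sum_univ_succ]; ring
      rw [h5]
      refine Ideal.sub_mem _ ha (Ideal.sum_mem _ fun i _ => ?_)
      rw [pow_two]
      exact Ideal.mul_mem_mul (h3 i) (hw i.succ)
    have h6 : a 0 ∈ maximalIdeal A := by
      by_contra hna
      have hu : IsUnit (a 0) := by
        by_contra hnu
        exact hna hnu
      obtain ⟨u, hu⟩ := hu
      apply h0
      have : w 0 = ↑u⁻¹ * (a 0 * w 0) := by
        rw [← hu, ← mul_assoc, Units.inv_mul, one_mul]
      rw [this]
      exact Ideal.mul_mem_left _ _ h4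
    intro i
    refine Fin.cases h6 (fun j => h3 j) i

end comb

section main

/-- **Main theorem (Eisenstein case).** -/
theorem eisenstein_main : ∀ (r : ℕ) (A : Type u) [CommRing A] [IsLocalRing A] [IsNoetherianRing A]
    (d : Fin r → ℕ) (_ : ∀ i, 2 ≤ d i) (c : Fin r → ℕ → A)
    (_ : ∀ i k, c i k ∈ maximalIdeal A) (P : Fin r → A[X])
    (_ : ∀ i, P i = X ^ d i + ∑ k ∈ Finset.range (d i), C (c i k) * X ^ k),
    ∃ (_ : IsLocalRing (Q A P)),
      (∀ a : A, a ∈ maximalIdeal A ↔
        Ideal.Quotient.mk (qIdeal A P) (MvPolynomial.C a) ∈ maximalIdeal (Q A P)) ∧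
      (∀ y : Q A P, ∃ a : A,
        y - Ideal.Quotient.mk (qIdeal A P) (MvPolynomial.C a) ∈ maximalIdeal (Q A P)) ∧
      ringKrullDim (Q A P) = ringKrullDim A ∧
      (maximalIdeal A).spanFinrank ≤ (maximalIdeal (Q A P)).spanFinrank ∧
      ((maximalIdeal A).spanFinrank = (maximalIdeal (Q A P)).spanFinrank ↔
        CInd A (fun i => c i 0)) := by
  intro r
  induction r with
  | zero =>
    intro A _ _ _ d hd c hc P hP
    have hI : qIdeal A P = ⊥ := by
      rw [qIdeal, Ideal.span_eq_bot]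
      rintro _ ⟨i, -⟩
      exact i.elim0
    let e : Q A P ≃+* A := (Ideal.quotEquivOfEq hI).trans
      ((RingEquiv.quotientBot _).trans (MvPolynomial.isEmptyRingEquiv A (Fin 0)))
    have hloc : IsLocalRing (Q A P) := e.symm.isLocalRing
    have he : ∀ a : A, e (Ideal.Quotient.mk (qIdeal A P) (MvPolynomial.C a)) = a := by
      intro a
      simp only [e, RingEquiv.trans_apply, Ideal.quotEquivOfEq_mk]
      show (MvPolynomial.isEmptyRingEquiv A (Fin 0)) (MvPolynomial.C a) = a
      rw [← RingEquiv.eq_symm_apply]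
      rfl
    have hmem : ∀ y : Q A P, y ∈ maximalIdeal (Q A P) ↔ e y ∈ maximalIdeal A := by
      intro y
      rw [mem_maximalIdeal, mem_maximalIdeal, mem_nonunits_iff, mem_nonunits_iff]
      exact not_congr (isUnit_map_iff e y).symm
    refine ⟨hloc, fun a => ?_, fun y => ⟨e y, ?_⟩, ringKrullDim_eq_of_ringEquiv e,
      (spanFinrank_maximalIdeal_ringEquiv e).le,
      fun _ a _ i => i.elim0, fun _ => (spanFinrank_maximalIdeal_ringEquiv e)⟩
    · rw [hmem, he]
    · rw [hmem, map_sub, he, sub_self]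
      exact Ideal.zero_mem _
  | succ r ih =>
    intro A _ _ _ d hd c hc P hP
    obtain ⟨hloc1, hlh, hsurj1, hdim1, hle1, hiff1, hE, hF⟩ :=
      eisenstein_step (hd 0) (hc 0) (hP 0)
    have := hloc1
    have := hlh
    have hmon0 := monic (hP 0)
    have hφm : ∀ a : A, a ∈ maximalIdeal A ↔
        AdjoinRoot.of (P 0) a ∈ maximalIdeal (AdjoinRoot (P 0)) := by
      intro a
      refine ⟨fun ha => of_mem_maximalIdeal hmon0 ha, fun ha => ?_⟩
      by_contra hna
      have hu : IsUnit a := by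
        by_contra hnu
        exact hna hnu
      exact ha (hu.map (AdjoinRoot.of (P 0)))
    obtain ⟨hloc2, hmem2, hsurj2, hdim2, hle2, hiff2⟩ := ih (AdjoinRoot (P 0))
      (fun i => d i.succ) (fun i => hd i.succ)
      (fun i k => AdjoinRoot.of (P 0) (c i.succ k))
      (fun i k => of_mem_maximalIdeal hmon0 (hc i.succ k)) (tailPoly P)
      (by
        intro i
        show (P i.succ).map (AdjoinRoot.of (P 0)) = _
        rw [hP i.succ]
        simp only [Polynomial.map_add, Polynomial.map_pow, Polynomial.map_X,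
          Polynomial.map_sum, Polynomial.map_mul, Polynomial.map_C])
    have := hloc2
    have hloc : IsLocalRing (Q A P) := (quotEquiv P).symm.isLocalRing
    have hsf := spanFinrank_maximalIdeal_ringEquiv (quotEquiv P)
    have he : ∀ a : A, quotEquiv P (Ideal.Quotient.mk (qIdeal A P) (MvPolynomial.C a)) =
        Ideal.Quotient.mk _ (MvPolynomial.C (AdjoinRoot.of (P 0) a)) := fun a => fwd₀_C P a
    have hmem : ∀ y : Q A P, y ∈ maximalIdeal (Q A P) ↔
        quotEquiv P y ∈ maximalIdeal (Q (AdjoinRoot (P 0)) (tailPoly P)) := by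
      intro y
      rw [mem_maximalIdeal, mem_maximalIdeal, mem_nonunits_iff, mem_nonunits_iff]
      exact not_congr (isUnit_map_iff (quotEquiv P) y).symm
    refine ⟨hloc, fun a => ?_, fun y => ?_,
      (ringKrullDim_eq_of_ringEquiv (quotEquiv P)).trans (hdim2.trans hdim1), by omega, ?_⟩
    · rw [hmem, he, ← hmem2, ← hφm]
    · obtain ⟨a₁, ha₁⟩ := hsurj2 (quotEquiv P y)
      obtain ⟨a, ha⟩ := hsurj1 a₁
      refine ⟨a, ?_⟩
      rw [hmem, map_sub, he]
      have h1 : quotEquiv P y - Ideal.Quotient.mk _ (MvPolynomial.C (AdjoinRoot.of (P 0) a)) =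
          (quotEquiv P y - Ideal.Quotient.mk _ (MvPolynomial.C a₁)) +
            Ideal.Quotient.mk _ (MvPolynomial.C (a₁ - AdjoinRoot.of (P 0) a)) := by
        rw [map_sub, map_sub]; ring
      rw [h1]
      exact Ideal.add_mem _ ha₁ ((hmem2 _).1 ha)
    · rw [cInd_cons_iff (AdjoinRoot.of (P 0)) hφm hsurj1 (fun i => c i 0) hE hF
        (fun i => hc i 0), ← hiff1, ← hiff2]
      omega

end main

end Groth.Agent.Lib.helper19.Eisen
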