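import Mathlib
import Groth.Prelude.Def_DerCA
set_option autoImplicit false

/-! An inverse system (over `ℕ`) of Artinian modules receiving a cone from an Artinian module `E` which
induces a bijection `E → lim` is essentially constant with value `E`. -/

universe u

namespace Groth.Agent.Lib.helper19.EssConstArt
open CategoryTheory Opposite

variable {A : Type u} [CommRing A] (F : ℕᵒᵖ ⥤ ModuleCat.{u} A) (E : ModuleCat.{u} A)
  (c : (Functor.const ℕᵒᵖ).obj E ⟶ F)

/-- transition maps as linear maps -/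
noncomputable abbrev T {n m : ℕ} (h : n ≤ m) : F.obj (op m) →ₗ[A] F.obj (op n) :=
  (F.map (homOfLE h).op).hom

lemma T_comp {n m k : ℕ} (h : n ≤ m) (h' : m ≤ k) (x : F.obj (op k)) :
    T F h (T F h' x) = T F (h.trans h') x := by
  have h1 : (homOfLE h').op ≫ (homOfLE h).op = (homOfLE (h.trans h')).op := rfl
  have h2 : F.map (homOfLE h').op ≫ F.map (homOfLE h).op = F.map (homOfLE (h.trans h')).op := by
    rw [← F.map_comp, h1]
  exact congrArg (fun φ => φ.hom x) h2

lemma T_refl (n : ℕ) (x : F.obj (op n)) : T F (le_refl n) x = x := by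
  have h1 : (homOfLE (le_refl n)).op = 𝟙 (op n) := rfl
  have h2 : F.map (homOfLE (le_refl n)).op = 𝟙 (F.obj (op n)) := by rw [h1, F.map_id]
  exact congrArg (fun φ => φ.hom x) h2

/-- cone maps as linear maps -/
noncomputable abbrev C (n : ℕ) : E →ₗ[A] F.obj (op n) := (c.app (op n)).hom

lemma T_C {n m : ℕ} (h : n ≤ m) (x : E) : T F h (C F E c m x) = C F E c n x := by
  have h1 : c.app (op m) ≫ F.map (homOfLE h).op = c.app (op n) := by
    rw [← c.naturality (homOfLE h).op, Functor.const_obj_map]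
    exact Category.id_comp _
  exact congrArg (fun φ => φ.hom x) h1

theorem isEssConstant_of_artinian [IsArtinian A E] (hart : ∀ n : ℕ, IsArtinian A (F.obj (op n)))
    (hinj : ∀ x : E, (∀ n : ℕ, C F E c n x = 0) → x = 0)
    (hsurj : ∀ y : (∀ n : ℕ, F.obj (op n)), (∀ (n m : ℕ) (h : n ≤ m), T F h (y m) = y n) →
      ∃ x : E, ∀ n, C F E c n x = y n) :
    DerCA.IsEssConstant F E c := by
  classical
  -- Step 1: the cone maps are eventually injective
  obtain ⟨n₀, hn₀⟩ : ∃ n₀, ∀ x : E, C F E c n₀ x = 0 → x = 0 := by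
    let K : ℕ →o (Submodule A E)ᵒᵈ :=
      ⟨fun n => OrderDual.toDual (LinearMap.ker (C F E c n)), by
        intro n m h
        show LinearMap.ker (C F E c m) ≤ LinearMap.ker (C F E c n)
        intro x hx
        rw [LinearMap.mem_ker] at hx ⊢
        rw [← T_C F E c h, hx, map_zero]⟩
    obtain ⟨n₀, hstab⟩ := IsArtinian.monotone_stabilizes K
    refine ⟨n₀, fun x hx => hinj x (fun n => ?_)⟩
    by_cases hn : n ≤ n₀
    · rw [← T_C F E c hn, hx, map_zero]
    · have hm : n₀ ≤ n := by omega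
      have h3 : LinearMap.ker (C F E c n₀) = LinearMap.ker (C F E c n) := hstab n hm
      have hx' : x ∈ LinearMap.ker (C F E c n₀) := hx
      rw [h3] at hx'
      exact hx'
  -- Step 2: Mittag-Leffler
  have hML : ∀ n : ℕ, ∃ k₀, ∃ hn0 : n ≤ k₀, ∀ k (_ : k₀ ≤ k) (hn : n ≤ k),
      LinearMap.range (T F hn) = LinearMap.range (T F hn0) := by
    intro n
    have := hart n
    let Rg : ℕ →o (Submodule A (F.obj (op n)))ᵒᵈ :=
      ⟨fun j => OrderDual.toDual (LinearMap.range (T F (Nat.le_add_right n j))), by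
        intro j j' h
        show LinearMap.range (T F (Nat.le_add_right n j')) ≤
          LinearMap.range (T F (Nat.le_add_right n j))
        rintro _ ⟨x, rfl⟩
        exact ⟨T F (Nat.add_le_add_left h n) x, T_comp F _ _ x⟩⟩
    obtain ⟨j₀, hstab⟩ := IsArtinian.monotone_stabilizes Rg
    refine ⟨n + j₀, Nat.le_add_right n j₀, ?_⟩
    intro k hk hn
    obtain ⟨j, rfl⟩ : ∃ j, k = n + j := ⟨k - n, by omega⟩
    have h3 : LinearMap.range (T F (Nat.le_add_right n j₀)) =
        LinearMap.range (T F (Nat.le_add_right n j)) := hstab j (by omega)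
    exact h3.symm
  choose k₀ hk₀n hk₀ using hML
  -- the stable images
  let S : ∀ n : ℕ, Submodule A (F.obj (op n)) := fun n => LinearMap.range (T F (hk₀n n))
  have hS : ∀ n k (hk : k₀ n ≤ k) (hn : n ≤ k), LinearMap.range (T F hn) = S n :=
    fun n k hk hn => hk₀ n k hk hn
  have hCS : ∀ n x, C F E c n x ∈ S n := fun n x => ⟨C F E c (k₀ n) x, T_C F E c _ x⟩
  have hstep : ∀ m (w : F.obj (op m)), w ∈ S m →
      ∃ w' : F.obj (op (m + 1)), w' ∈ S (m + 1) ∧ T F (Nat.le_succ m) w' = w := by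
    intro m w hw
    have hk1 : k₀ m ≤ max (k₀ m) (k₀ (m + 1)) := le_max_left _ _
    have hk2 : k₀ (m + 1) ≤ max (k₀ m) (k₀ (m + 1)) := le_max_right _ _
    have hm1 : m + 1 ≤ max (k₀ m) (k₀ (m + 1)) := (hk₀n (m + 1)).trans hk2
    have hm0 : m ≤ max (k₀ m) (k₀ (m + 1)) := (hk₀n m).trans hk1
    rw [← hS m _ hk1 hm0] at hw
    obtain ⟨v, rfl⟩ := hw
    refine ⟨T F hm1 v, ?_, T_comp F _ _ v⟩
    rw [← hS (m + 1) _ hk2 hm1]
    exact ⟨v, rfl⟩
  -- Claim C: the cone maps surject onto the stable images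
  have hC : ∀ n (y : F.obj (op n)), y ∈ S n → ∃ x : E, C F E c n x = y := by
    intro n y hy
    let z : ∀ j : ℕ, {w : F.obj (op (n + j)) // w ∈ S (n + j)} := fun j =>
      Nat.rec (motive := fun j => {w : F.obj (op (n + j)) // w ∈ S (n + j)}) ⟨y, hy⟩
        (fun j zj => ⟨Classical.choose (hstep (n + j) zj.1 zj.2),
          (Classical.choose_spec (hstep (n + j) zj.1 zj.2)).1⟩) j
    have hz : ∀ j, T F (Nat.le_succ (n + j)) (z (j + 1)).1 = (z j).1 := fun j =>
      (Classical.choose_spec (hstep (n + j) (z j).1 (z j).2)).2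
    have hzc : ∀ j j' (h : j ≤ j'), T F (Nat.add_le_add_left h n) (z j').1 = (z j).1 := by
      intro j j' h
      induction j', h using Nat.le_induction with
      | base => exact T_refl F _ _
      | succ j' h ih =>
        have := T_comp F (Nat.add_le_add_left h n) (Nat.le_succ (n + j')) (z (j' + 1)).1
        rw [hz j', ih] at this
        exact this.symm
    let Y : ∀ l : ℕ, F.obj (op l) := fun l => T F (Nat.le_add_left l n) (z l).1
    have hY : ∀ (l l' : ℕ) (h : l ≤ l'), T F h (Y l') = Y l := by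
      intro l l' h
      show T F h (T F (Nat.le_add_left l' n) (z l').1) = T F (Nat.le_add_left l n) (z l).1
      rw [T_comp, ← hzc l l' h, T_comp]
    obtain ⟨x, hx⟩ := hsurj Y hY
    refine ⟨x, ?_⟩
    rw [hx n]
    have h0 := hzc 0 n (Nat.zero_le n)
    exact h0
  -- Step 3
  have hinj₀ : Function.Injective ((C F E c n₀).codRestrict (S n₀) (hCS n₀)) := by
    intro x x' h
    have h1 : C F E c n₀ x = C F E c n₀ x' := congrArg Subtype.val h
    have h2 : C F E c n₀ (x - x') = 0 := by rw [map_sub, h1, sub_self]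
    exact sub_eq_zero.mp (hn₀ _ h2)
  have hsurj₀ : Function.Surjective ((C F E c n₀).codRestrict (S n₀) (hCS n₀)) := by
    rintro ⟨y, hy⟩
    obtain ⟨x, hx⟩ := hC n₀ y hy
    exact ⟨x, Subtype.ext hx⟩
  let e : E ≃ₗ[A] S n₀ := LinearEquiv.ofBijective _ ⟨hinj₀, hsurj₀⟩
  have he : ∀ x : E, (e x : F.obj (op n₀)) = C F E c n₀ x := fun x => rfl
  let s' : F.obj (op (k₀ n₀)) →ₗ[A] E :=
    e.symm.toLinearMap ∘ₗ (T F (hk₀n n₀)).codRestrict (S n₀) (fun x => ⟨x, rfl⟩)
  have hs' : ∀ (x : F.obj (op (k₀ n₀))) (e' : E), T F (hk₀n n₀) x = C F E c n₀ e' → s' x = e' := by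
    intro x e' h
    show e.symm _ = e'
    rw [LinearEquiv.symm_apply_eq]
    apply Subtype.ext
    rw [he]
    exact h
  refine ⟨k₀ n₀, ModuleCat.ofHom s', ?_, ?_⟩
  · apply ModuleCat.hom_ext
    apply LinearMap.ext
    intro x
    show s' (C F E c (k₀ n₀) x) = x
    exact hs' _ x (T_C F E c _ x)
  · intro j
    have hl1 : j ≤ max j n₀ := le_max_left _ _
    have hl2 : n₀ ≤ max j n₀ := le_max_right _ _
    have hk1 : k₀ (max j n₀) ≤ max (k₀ (max j n₀)) (k₀ n₀) := le_max_left _ _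
    have hk2 : k₀ n₀ ≤ max (k₀ (max j n₀)) (k₀ n₀) := le_max_right _ _
    have hlk : max j n₀ ≤ max (k₀ (max j n₀)) (k₀ n₀) := (hk₀n _).trans hk1
    refine ⟨max (k₀ (max j n₀)) (k₀ n₀), hk2, hl1.trans hlk, ?_⟩
    apply ModuleCat.hom_ext
    apply LinearMap.ext
    intro x
    show T F (hl1.trans hlk) x = C F E c j (s' (T F hk2 x))
    have hmem : T F hlk x ∈ S (max j n₀) := by
      rw [← hS _ _ hk1 hlk]
      exact ⟨x, rfl⟩
    obtain ⟨e', he'⟩ := hC _ _ hmem
    have h1 : T F (hl1.trans hlk) x = C F E c j e' := by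
      rw [← T_comp F hl1 hlk, ← he', T_C]
    have h2 : T F (hk₀n n₀) (T F hk2 x) = C F E c n₀ e' := by
      rw [T_comp, ← T_comp F hl2 hlk, ← he', T_C]
    rw [hs' _ e' h2, h1]

end Groth.Agent.Lib.helper19.EssConstArt
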