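import Mathlib
import Groth.Agent.Lib.Helper26.Depth7

/-!
# `Ext^p(M, Y) ≅ Hom(M, Ext^p(A/J, Y))` for modules killed by `J` when lower Ext's vanish (helper19)
-/

set_option autoImplicit false
universe u
open CategoryTheory Abelian

namespace Groth.Agent.Lib.helper19.ExtHomQuot

variable {A : Type u} [CommRing A]

section pull

variable {N N' N'' : Type u} [AddCommGroup N] [Module A N] [AddCommGroup N'] [Module A N']
  [AddCommGroup N''] [Module A N''] {Y : ModuleCat.{u} A} {p : ℕ}

/-- pullback of an Ext class along a linear map -/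
noncomputable def pull (u : N →ₗ[A] N') (ξ : Ext (ModuleCat.of A N') Y p) :
    Ext (ModuleCat.of A N) Y p :=
  (Ext.mk₀ (ModuleCat.ofHom u)).comp ξ (zero_add p)

lemma pull_pull (u : N →ₗ[A] N') (v : N' →ₗ[A] N'') (ξ : Ext (ModuleCat.of A N'') Y p) :
    pull u (pull v ξ) = pull (v ∘ₗ u) ξ := by
  unfold pull
  rw [Ext.mk₀_comp_mk₀_assoc, ← ModuleCat.ofHom_comp]

lemma pull_id (ξ : Ext (ModuleCat.of A N) Y p) : pull (LinearMap.id) ξ = ξ := by
  unfold pull
  rw [ModuleCat.ofHom_id, Ext.mk₀_id_comp]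

lemma pull_zero_left (ξ : Ext (ModuleCat.of A N') Y p) : pull (0 : N →ₗ[A] N') ξ = 0 := by
  unfold pull
  have : ModuleCat.ofHom (0 : N →ₗ[A] N') = 0 := rfl
  rw [this, Ext.mk₀_zero, Ext.zero_comp]

lemma pull_zero_right (u : N →ₗ[A] N') : pull u (0 : Ext (ModuleCat.of A N') Y p) = 0 := by
  unfold pull
  rw [Ext.comp_zero]

lemma pull_add_left (u v : N →ₗ[A] N') (ξ : Ext (ModuleCat.of A N') Y p) :
    pull (u + v) ξ = pull u ξ + pull v ξ := by
  unfold pull
  have : ModuleCat.ofHom (u + v) = ModuleCat.ofHom u + ModuleCat.ofHom v := rfl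
  rw [this, Ext.mk₀_add, Ext.add_comp]

lemma pull_add_right (u : N →ₗ[A] N') (ξ ξ' : Ext (ModuleCat.of A N') Y p) :
    pull u (ξ + ξ') = pull u ξ + pull u ξ' := by
  unfold pull
  rw [Ext.comp_add]

lemma pull_smul_left (a : A) (u : N →ₗ[A] N') (ξ : Ext (ModuleCat.of A N') Y p) :
    pull (a • u) ξ = a • pull u ξ := by
  unfold pull
  have : ModuleCat.ofHom (a • u) = a • ModuleCat.ofHom u := rfl
  rw [this, Ext.mk₀_smul, Ext.smul_comp]

lemma pull_sum_left {ι : Type*} (s : Finset ι) (u : ι → (N →ₗ[A] N'))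
    (ξ : Ext (ModuleCat.of A N') Y p) :
    pull (∑ j ∈ s, u j) ξ = ∑ j ∈ s, pull (u j) ξ := by
  classical
  induction s using Finset.induction_on with
  | empty => simp [pull_zero_left]
  | insert a s ha ih => rw [Finset.sum_insert ha, Finset.sum_insert ha, pull_add_left, ih]

lemma pull_sum_right {ι : Type*} (s : Finset ι) (u : N →ₗ[A] N')
    (ξ : ι → Ext (ModuleCat.of A N') Y p) :
    pull u (∑ j ∈ s, ξ j) = ∑ j ∈ s, pull u (ξ j) := by
  classical
  induction s using Finset.induction_on with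
  | empty => simp [pull_zero_right]
  | insert a s ha ih => rw [Finset.sum_insert ha, Finset.sum_insert ha, pull_add_right, ih]

end pull

section les

variable {L M : Type u} [AddCommGroup L] [Module A L] [AddCommGroup M] [Module A M]
  {Y : ModuleCat.{u} A}

/-- `π` surjective with the lower Ext groups of its kernel vanishing: `π^*` is injective on
`Ext^p`. -/
lemma eq_zero_of_pull_surjective (π : L →ₗ[A] M) (hπ : Function.Surjective π) (p : ℕ)
    (hK : ∀ i, i < p → Subsingleton (Ext (ModuleCat.of A (LinearMap.ker π)) Y i))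
    (ξ : Ext (ModuleCat.of A M) Y p) (h : pull π ξ = 0) : ξ = 0 := by
  have hS := LinearMap.shortExact_shortComplexKer hπ
  cases p with
  | zero =>
    haveI : Epi (ModuleCat.ofHom π) := (ModuleCat.epi_iff_surjective _).mpr hπ
    have := Ext.precomp_mk₀_injective_of_epi Y (ModuleCat.ofHom π)
    apply this
    rw [map_zero]
    exact h
  | succ n =>
    obtain ⟨x₁, hx₁⟩ := Ext.contravariant_sequence_exact₃ hS Y ξ h (n₀ := n) (by omega)
    haveI := hK n (Nat.lt_succ_self n)
    rw [← hx₁, Subsingleton.elim x₁ 0, Ext.comp_zero]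

/-- exactness in the middle -/
lemma exists_pull_eq (π : L →ₗ[A] M) (hπ : Function.Surjective π) (p : ℕ)
    (η : Ext (ModuleCat.of A L) Y p) (h : pull (LinearMap.ker π).subtype η = 0) :
    ∃ ξ : Ext (ModuleCat.of A M) Y p, pull π ξ = η := by
  have hS := LinearMap.shortExact_shortComplexKer hπ
  exact Ext.contravariant_sequence_exact₂ hS Y η h

end les

section free

variable (J : Ideal A) {Y : ModuleCat.{u} A} {p : ℕ}

/-- the `A`-linear map `A/J → N`, `ā ↦ a • m`, for `N` killed by `J` -/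
noncomputable def tq {N : Type u} [AddCommGroup N] [Module A N]
    (hN : ∀ a ∈ J, ∀ x : N, a • x = 0) (m : N) : (A ⧸ J) →ₗ[A] N :=
  Submodule.liftQ J (LinearMap.toSpanSingleton A N m) (fun a ha => by
    simp [LinearMap.mem_ker, hN a ha m])

lemma tq_mk {N : Type u} [AddCommGroup N] [Module A N]
    (hN : ∀ a ∈ J, ∀ x : N, a • x = 0) (m : N) (a : A) :
    tq J hN m (Ideal.Quotient.mk J a) = a • m := by
  unfold tq
  erw [Submodule.liftQ_apply]
  simp

lemma tq_one {N : Type u} [AddCommGroup N] [Module A N]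
    (hN : ∀ a ∈ J, ∀ x : N, a • x = 0) (m : N) : tq J hN m 1 = m := by
  have := tq_mk J hN m 1
  simpa using this

lemma eq_of_apply_one {N : Type u} [AddCommGroup N] [Module A N]
    (u v : (A ⧸ J) →ₗ[A] N) (h : u 1 = v 1) : u = v := by
  refine LinearMap.ext fun x => ?_
  obtain ⟨a, rfl⟩ := Ideal.Quotient.mk_surjective x
  have : (Ideal.Quotient.mk J a) = a • (1 : A ⧸ J) := by
    rw [Algebra.smul_def]; simp
  rw [this, map_smul, map_smul, h]

lemma sum_single_comp_proj (b : ℕ) :
    ∑ j : Fin b, (LinearMap.single A (fun _ : Fin b => A ⧸ J) j).comp (LinearMap.proj j) =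
      LinearMap.id := by
  ext x i
  simp [Finset.sum_apply, Pi.single_apply]

/-- free case, injectivity -/
lemma free_eq_zero (b : ℕ) (η : Ext (ModuleCat.of A (Fin b → A ⧸ J)) Y p)
    (h : ∀ j, pull (LinearMap.single A (fun _ : Fin b => A ⧸ J) j) η = 0) : η = 0 := by
  rw [← pull_id η, ← sum_single_comp_proj J b, pull_sum_left]
  refine Finset.sum_eq_zero (fun j _ => ?_)
  rw [← pull_pull, h j, pull_zero_right]

/-- free case, surjectivity -/
lemma free_exists (b : ℕ)
    (g : ((A ⧸ J) →ₗ[A] (Fin b → A ⧸ J)) →ₗ[A] Ext (ModuleCat.of A (A ⧸ J)) Y p) :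
    ∃ η : Ext (ModuleCat.of A (Fin b → A ⧸ J)) Y p,
      ∀ v : (A ⧸ J) →ₗ[A] (Fin b → A ⧸ J), g v = pull v η := by
  refine ⟨∑ j : Fin b, pull (LinearMap.proj j)
    (g (LinearMap.single A (fun _ : Fin b => A ⧸ J) j)), fun v => ?_⟩
  rw [pull_sum_right]
  have hv : v = ∑ j : Fin b, ((LinearMap.single A (fun _ : Fin b => A ⧸ J) j).comp
      (LinearMap.proj j)).comp v := by
    refine LinearMap.ext fun x => ?_
    funext i
    simp [LinearMap.sum_apply, Finset.sum_apply, Pi.single_apply]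
  conv_lhs => rw [hv]
  rw [map_sum]
  refine Finset.sum_congr rfl (fun j _ => ?_)
  obtain ⟨a, ha⟩ := Ideal.Quotient.mk_surjective (v 1 j)
  have h1 : (LinearMap.proj j).comp v = a • (LinearMap.id : (A ⧸ J) →ₗ[A] (A ⧸ J)) := by
    apply eq_of_apply_one
    simp only [LinearMap.comp_apply, LinearMap.proj_apply, LinearMap.smul_apply,
      LinearMap.id_apply]
    rw [← ha, Algebra.smul_def]; simp
  rw [pull_pull, h1, pull_smul_left, pull_id, LinearMap.comp_assoc, h1, LinearMap.comp_smul,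
    LinearMap.comp_id, map_smul]

end free

section main

variable (J : Ideal A) {Y : ModuleCat.{u} A} (p : ℕ)

/-- the map from a free `A/J`-module given by a family of elements of a module killed by `J` -/
noncomputable def piMap {M : Type u} [AddCommGroup M] [Module A M]
    (hM : ∀ a ∈ J, ∀ x : M, a • x = 0) {b : ℕ} (s : Fin b → M) : (Fin b → A ⧸ J) →ₗ[A] M :=
  ∑ j : Fin b, (tq J hM (s j)).comp (LinearMap.proj j)

lemma piMap_apply {M : Type u} [AddCommGroup M] [Module A M]
    (hM : ∀ a ∈ J, ∀ x : M, a • x = 0) {b : ℕ} (s : Fin b → M) (x : Fin b → A ⧸ J) :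
    piMap J hM s x = ∑ j : Fin b, tq J hM (s j) (x j) := by
  simp [piMap, LinearMap.sum_apply]

lemma piMap_single {M : Type u} [AddCommGroup M] [Module A M]
    (hM : ∀ a ∈ J, ∀ x : M, a • x = 0) {b : ℕ} (s : Fin b → M) (j : Fin b) :
    piMap J hM s (Pi.single j 1) = s j := by
  classical
  rw [piMap_apply, Finset.sum_eq_single j]
  · rw [Pi.single_eq_same, tq_one]
  · intro i _ hij
    rw [Pi.single_eq_of_ne hij, map_zero]
  · intro h; exact absurd (Finset.mem_univ j) h

lemma piMap_surjective {M : Type u} [AddCommGroup M] [Module A M]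
    (hM : ∀ a ∈ J, ∀ x : M, a • x = 0) {b : ℕ} (s : Fin b → M)
    (hs : Submodule.span A (Set.range s) = ⊤) : Function.Surjective (piMap J hM s) := by
  rw [← LinearMap.range_eq_top, eq_top_iff, ← hs, Submodule.span_le]
  rintro _ ⟨j, rfl⟩
  exact ⟨Pi.single j 1, piMap_single J hM s j⟩

lemma kills_ker {M : Type u} [AddCommGroup M] [Module A M] {b : ℕ}
    (π : (Fin b → A ⧸ J) →ₗ[A] M) : ∀ a ∈ J, ∀ x : LinearMap.ker π, a • x = 0 := by
  intro a ha x
  apply Subtype.ext
  funext j
  simp only [Submodule.coe_smul, Pi.smul_apply, ZeroMemClass.coe_zero, Pi.zero_apply]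
  rw [Algebra.smul_def]
  have : algebraMap A (A ⧸ J) a = 0 := by
    rw [Ideal.Quotient.algebraMap_eq]; exact Ideal.Quotient.eq_zero_iff_mem.mpr ha
  rw [this, zero_mul]

variable [IsNoetherianRing A]

theorem main_inj
    (hvan : ∀ (N : Type u) [AddCommGroup N] [Module A N] [Module.Finite A N],
      (∀ a ∈ J, ∀ x : N, a • x = 0) → ∀ i, i < p → Subsingleton (Ext (ModuleCat.of A N) Y i))
    (M : Type u) [AddCommGroup M] [Module A M] [Module.Finite A M]
    (hM : ∀ a ∈ J, ∀ x : M, a • x = 0) (ξ : Ext (ModuleCat.of A M) Y p)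
    (h : ∀ u : (A ⧸ J) →ₗ[A] M, pull u ξ = 0) : ξ = 0 := by
  obtain ⟨b, s, hs⟩ := Module.Finite.exists_fin (R := A) (M := M)
  have hπ : Function.Surjective (piMap J hM s) := piMap_surjective J hM s hs
  apply eq_zero_of_pull_surjective (piMap J hM s) hπ p
    (hvan (LinearMap.ker (piMap J hM s)) (kills_ker J _)) ξ
  apply free_eq_zero J b
  intro j
  rw [pull_pull]; exact h _

theorem main_surj
    (hvan : ∀ (N : Type u) [AddCommGroup N] [Module A N] [Module.Finite A N],
      (∀ a ∈ J, ∀ x : N, a • x = 0) → ∀ i, i < p → Subsingleton (Ext (ModuleCat.of A N) Y i))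
    (M : Type u) [AddCommGroup M] [Module A M] [Module.Finite A M]
    (hM : ∀ a ∈ J, ∀ x : M, a • x = 0)
    (g : ((A ⧸ J) →ₗ[A] M) →ₗ[A] Ext (ModuleCat.of A (A ⧸ J)) Y p) :
    ∃ ξ : Ext (ModuleCat.of A M) Y p, ∀ u : (A ⧸ J) →ₗ[A] M, g u = pull u ξ := by
  obtain ⟨b, s, hs⟩ := Module.Finite.exists_fin (R := A) (M := M)
  have hπ : Function.Surjective (piMap J hM s) := piMap_surjective J hM s hs
  obtain ⟨η, hη⟩ := free_exists J b (g.comp (LinearMap.compRight A (piMap J hM s)))
  have hker : pull (LinearMap.ker (piMap J hM s)).subtype η = 0 := by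
    apply main_inj J p hvan (LinearMap.ker (piMap J hM s)) (kills_ker J _)
    intro w
    rw [pull_pull, ← hη]
    simp only [LinearMap.comp_apply, LinearMap.compRight_apply]
    have : (piMap J hM s).comp ((LinearMap.ker (piMap J hM s)).subtype.comp w) = 0 := by
      refine LinearMap.ext fun x => ?_
      simp
    rw [this, map_zero]
  obtain ⟨ξ, hξ⟩ := exists_pull_eq (piMap J hM s) hπ p η hker
  refine ⟨ξ, fun u => ?_⟩
  obtain ⟨l, hl⟩ := hπ (u 1)
  have hL : ∀ a ∈ J, ∀ x : (Fin b → A ⧸ J), a • x = 0 := by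
    intro a ha x
    funext j
    simp only [Pi.smul_apply, Pi.zero_apply]
    rw [Algebra.smul_def]
    have : algebraMap A (A ⧸ J) a = 0 := by
      rw [Ideal.Quotient.algebraMap_eq]; exact Ideal.Quotient.eq_zero_iff_mem.mpr ha
    rw [this, zero_mul]
  have hu : u = (piMap J hM s).comp (tq J hL l) := by
    apply eq_of_apply_one
    rw [LinearMap.comp_apply, tq_one, hl]
  rw [hu, ← pull_pull, hξ, ← hη]
  simp only [LinearMap.comp_apply, LinearMap.compRight_apply]

end main

section regular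

open Groth.Agent.Lib.helper26.Depth

lemma supportDim_le_of_kills [IsNoetherianRing A] (J : Ideal A) (N : Type u) [AddCommGroup N]
    [Module A N] [Module.Finite A N] (hN : ∀ a ∈ J, ∀ x : N, a • x = 0) :
    Module.supportDim A N ≤ ringKrullDim (A ⧸ J) := by
  rw [Module.supportDim_eq_ringKrullDim_quotient_annihilator]
  have hle : J ≤ Module.annihilator A N := fun a ha => by
    rw [Module.mem_annihilator]; exact hN a ha
  exact ringKrullDim_le_of_surjective (Ideal.Quotient.factor hle)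
    (Ideal.Quotient.factor_surjective hle)

theorem regular_vanish [IsRegularLocalRing A] (p : ℕ) (J : Ideal A)
    (hJ : ringKrullDim (A ⧸ J) + p ≤ ringKrullDim A)
    (N : Type u) [AddCommGroup N] [Module A N] [Module.Finite A N]
    (hN : ∀ a ∈ J, ∀ x : N, a • x = 0) (i : ℕ) (hi : i < p) :
    Subsingleton (Ext (ModuleCat.of A N) (ModuleCat.of A A) i) := by
  refine subsingleton_ext_self_of_supportDim_add_le A N p ?_ i hi
  exact (add_le_add_left (supportDim_le_of_kills J N hN) _).trans hJ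

theorem regular_main [IsRegularLocalRing A] (p : ℕ) (J : Ideal A)
    (hJ : ringKrullDim (A ⧸ J) + p ≤ ringKrullDim A)
    (M : Type u) [AddCommGroup M] [Module A M] [Module.Finite A M]
    (hJM : J • (⊤ : Submodule A M) = ⊥) :
    Function.Injective (fun ξ : Ext (ModuleCat.of A M) (ModuleCat.of A A) p =>
      fun u : (A ⧸ J) →ₗ[A] M => (Ext.mk₀ (ModuleCat.ofHom u)).comp ξ (zero_add p)) ∧
    ∀ g : ((A ⧸ J) →ₗ[A] M) →ₗ[A] Ext (ModuleCat.of A (A ⧸ J)) (ModuleCat.of A A) p,
      ∃ ξ : Ext (ModuleCat.of A M) (ModuleCat.of A A) p, ∀ u : (A ⧸ J) →ₗ[A] M,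
        g u = (Ext.mk₀ (ModuleCat.ofHom u)).comp ξ (zero_add p) := by
  have hM : ∀ a ∈ J, ∀ x : M, a • x = 0 := by
    intro a ha x
    have : a • x ∈ J • (⊤ : Submodule A M) := Submodule.smul_mem_smul ha Submodule.mem_top
    rwa [hJM, Submodule.mem_bot] at this
  have hvan : ∀ (N : Type u) [AddCommGroup N] [Module A N] [Module.Finite A N],
      (∀ a ∈ J, ∀ x : N, a • x = 0) → ∀ i, i < p →
        Subsingleton (Ext (ModuleCat.of A N) (ModuleCat.of A A) i) :=
    fun N _ _ _ hN i hi => regular_vanish p J hJ N hN i hi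
  refine ⟨fun ξ ξ' h => ?_, fun g => main_surj J p hvan M hM g⟩
  have h0 : ξ - ξ' = 0 := by
    apply main_inj J p hvan M hM
    intro u
    have h1 : pull u ξ = pull u ξ' := congrFun h u
    have h2 : pull u (ξ - ξ') + pull u ξ' = pull u ξ := by
      rw [← pull_add_right, sub_add_cancel]
    rw [h1] at h2
    exact add_eq_right.mp h2
  exact sub_eq_zero.mp h0

end regular

end Groth.Agent.Lib.helper19.ExtHomQuot
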