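import Mathlib
set_option autoImplicit false

/-! Character-module pairings relating `Ext` and `Tor` at the level of complexes (helper19).
`pair : (X →ₗ N^∨) → (N ⊗ X)^∨`, `theta : N^∨ ⊗ X → (X →ₗ N)^∨` (bijective for `X = Fin k → R`);
`tor_of_ext`, `ext_of_tor`: for maps `d₁ : F₁ → F₀`, `a₁ : F₁ → P₁`, `d₂' : P₂ → P₁`,
"`a₁` sends `ker (N ⊗ d₁)` into `im (N ⊗ d₂')` for all `N`" iff
"`a₁^*` sends `ker (d₂'^*)` into `im (d₁^*)` in `Hom(-, N)` for all `N`" (`F₀, F₁` finite free). -/

universe u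
namespace Groth.Agent.Lib.helper19.ExtTorPair
open TensorProduct

variable {R : Type u} [CommRing R]

section pair
variable (N : Type u) [AddCommGroup N] [Module R N]
variable {X Y : Type u} [AddCommGroup X] [Module R X] [AddCommGroup Y] [Module R Y]

/-- `pair φ (n ⊗ x) = φ x n` -/
noncomputable def pair (φ : X →ₗ[R] CharacterModule N) : CharacterModule (N ⊗[R] X) :=
  CharacterModule.dual (TensorProduct.comm R N X).toLinearMap (CharacterModule.uncurry φ)

theorem pair_tmul (φ : X →ₗ[R] CharacterModule N) (n : N) (x : X) :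
    pair N φ (n ⊗ₜ x) = φ x n := rfl

theorem pair_nat (φ : Y →ₗ[R] CharacterModule N) (a : X →ₗ[R] Y) (z : N ⊗[R] X) :
    pair N (φ ∘ₗ a) z = pair N φ (a.lTensor N z) := by
  induction z using TensorProduct.induction_on with
  | zero => rw [map_zero, map_zero, map_zero]
  | tmul n x => rfl
  | add z w hz hw => rw [map_add, map_add, map_add, hz, hw]

theorem pair_surj (χ : CharacterModule (N ⊗[R] X)) :
    ∃ φ : X →ₗ[R] CharacterModule N, pair N φ = χ := by
  refine ⟨CharacterModule.curry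
    (CharacterModule.dual (TensorProduct.comm R X N).toLinearMap χ), ?_⟩
  apply CharacterModule.ext
  intro z
  induction z using TensorProduct.induction_on with
  | zero => rw [map_zero, map_zero]
  | tmul n x => rfl
  | add z w hz hw => rw [map_add, map_add, hz, hw]

end pair

section torOfExt
variable (N : Type u) [AddCommGroup N] [Module R N]
variable {F₀ F₁ P₁ P₂ : Type u} [AddCommGroup F₀] [Module R F₀] [AddCommGroup F₁] [Module R F₁]
  [AddCommGroup P₁] [Module R P₁] [AddCommGroup P₂] [Module R P₂]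
  (d₁ : F₁ →ₗ[R] F₀) (a₁ : F₁ →ₗ[R] P₁) (d₂' : P₂ →ₗ[R] P₁)

theorem tor_of_ext
    (hE : ∀ (f : P₁ →ₗ[R] CharacterModule N), f ∘ₗ d₂' = 0 →
      ∃ g : F₀ →ₗ[R] CharacterModule N, g ∘ₗ d₁ = f ∘ₗ a₁)
    (z : N ⊗[R] F₁) (hz : d₁.lTensor N z = 0) :
    ∃ w : N ⊗[R] P₂, d₂'.lTensor N w = a₁.lTensor N z := by
  classical
  by_contra h
  set S : Submodule R (N ⊗[R] P₁) := LinearMap.range (d₂'.lTensor N) with hS
  have hq : S.mkQ (a₁.lTensor N z) ≠ 0 := by
    intro h0
    rw [Submodule.mkQ_apply, Submodule.Quotient.mk_eq_zero] at h0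
    exact h h0
  obtain ⟨c, hc⟩ := CharacterModule.exists_character_apply_ne_zero_of_ne_zero hq
  obtain ⟨f, hf⟩ := pair_surj N (CharacterModule.dual S.mkQ c)
  have hfd : f ∘ₗ d₂' = 0 := by
    apply LinearMap.ext
    intro y
    apply CharacterModule.ext
    intro n
    rw [LinearMap.comp_apply, ← pair_tmul, hf]
    change c (S.mkQ (d₂'.lTensor N (n ⊗ₜ y))) = 0
    have : S.mkQ (d₂'.lTensor N (n ⊗ₜ y)) = 0 := by
      rw [Submodule.mkQ_apply, Submodule.Quotient.mk_eq_zero]
      exact ⟨_, rfl⟩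
    rw [this, map_zero]
  obtain ⟨g, hg⟩ := hE f hfd
  apply hc
  change (CharacterModule.dual S.mkQ c) (a₁.lTensor N z) = 0
  rw [← hf, ← pair_nat, ← hg, pair_nat, hz, map_zero]

end torOfExt

section theta
variable (N : Type u) [AddCommGroup N] [Module R N]
variable (X Y : Type u) [AddCommGroup X] [Module R X] [AddCommGroup Y] [Module R Y]

/-- `theta (χ ⊗ x) h = χ (h x)` -/
noncomputable def theta : CharacterModule N ⊗[R] X →ₗ[R] CharacterModule (X →ₗ[R] N) :=
  TensorProduct.lift (LinearMap.mk₂ R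
    (fun (χ : CharacterModule N) (x : X) =>
      (CharacterModule.dual (LinearMap.applyₗ (R := R) (M := X) (M₂ := N) x) χ :
        CharacterModule (X →ₗ[R] N)))
    (fun χ₁ χ₂ x => by rw [map_add])
    (fun r χ x => by rw [map_smul])
    (fun χ x₁ x₂ => by
      apply CharacterModule.ext
      intro h
      change χ (h (x₁ + x₂)) = χ (h x₁) + χ (h x₂)
      rw [map_add, map_add])
    (fun r χ x => by
      apply CharacterModule.ext
      intro h
      change χ (h (r • x)) = χ ((r • h) x)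
      rw [map_smul, LinearMap.smul_apply]))

variable {X Y}

theorem theta_tmul (χ : CharacterModule N) (x : X) (h : X →ₗ[R] N) :
    theta N X (χ ⊗ₜ x) h = χ (h x) := rfl

theorem theta_nat (a : X →ₗ[R] Y) (z : CharacterModule N ⊗[R] X) (h : Y →ₗ[R] N) :
    theta N Y (a.lTensor _ z) h = theta N X z (h ∘ₗ a) := by
  induction z using TensorProduct.induction_on with
  | zero => rw [map_zero, map_zero, map_zero]; rfl
  | tmul χ x => rfl
  | add z w hz hw =>
    rw [map_add, map_add, map_add]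
    change theta N Y (a.lTensor _ z) h + theta N Y (a.lTensor _ w) h = theta N X z (h ∘ₗ a) + theta N X w (h ∘ₗ a)
    rw [hz, hw]

end theta

section free
variable (N : Type u) [AddCommGroup N] [Module R N] (k : ℕ)

/-- evaluation of characters at a point, as an additive map -/
def evC {A : Type u} [AddCommGroup A] (a : A) : CharacterModule A →+ AddCircle (1 : ℚ) where
  toFun c := c a
  map_zero' := rfl
  map_add' _ _ := rfl

theorem evC_apply {A : Type u} [AddCommGroup A] (a : A) (c : CharacterModule A) :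
    evC a c = c a := rfl

/-- the map `n ↦ (v ↦ v i • n)` -/
noncomputable def inj (i : Fin k) : N →ₗ[R] ((Fin k → R) →ₗ[R] N) :=
  LinearMap.smulRightₗ (LinearMap.proj i : (Fin k → R) →ₗ[R] R)

theorem inj_apply (i : Fin k) (n : N) (v : Fin k → R) : inj N k i n v = v i • n := rfl

theorem rep {M : Type u} [AddCommGroup M] [Module R M] (z : M ⊗[R] (Fin k → R)) :
    z = ∑ i, (piScalarRight R R M (Fin k) z i) ⊗ₜ[R] (Pi.single i (1 : R)) := by
  classical
  apply (piScalarRight R R M (Fin k)).injective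
  rw [map_sum]
  ext j
  simp [Finset.sum_apply, piScalarRight_apply, Pi.single_apply]

theorem theta_sum (χ : Fin k → CharacterModule N) (h : (Fin k → R) →ₗ[R] N) :
    theta N (Fin k → R) (∑ i, χ i ⊗ₜ[R] (Pi.single i (1 : R))) h =
      ∑ i, χ i (h (Pi.single i 1)) := by
  rw [map_sum, ← evC_apply, map_sum]
  rfl

theorem sum_inj (h : (Fin k → R) →ₗ[R] N) : ∑ i, inj N k i (h (Pi.single i 1)) = h := by
  classical
  apply LinearMap.pi_ext'
  intro j
  apply LinearMap.ext_ring
  rw [LinearMap.comp_apply, LinearMap.comp_apply, LinearMap.single_apply, LinearMap.sum_apply]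
  simp only [inj_apply, Pi.single_apply]
  rw [Finset.sum_eq_single j]
  · simp
  · intro b _ hb
    rw [if_neg hb, zero_smul]
  · intro hj
    exact absurd (Finset.mem_univ j) hj

theorem theta_injective : Function.Injective (theta (R := R) N (Fin k → R)) := by
  classical
  rw [← LinearMap.ker_eq_bot, LinearMap.ker_eq_bot']
  intro z hz
  rw [rep k z] at hz ⊢
  have hχ : ∀ j, piScalarRight R R (CharacterModule N) (Fin k) z j = 0 := by
    intro j
    apply CharacterModule.ext
    intro n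
    have h1 := DFunLike.congr_fun hz (inj N k j n)
    rw [theta_sum] at h1
    simp only [inj_apply, Pi.single_apply] at h1
    rw [Finset.sum_eq_single j] at h1
    · rw [if_pos rfl, one_smul] at h1
      exact h1
    · intro b _ hb
      rw [if_neg (Ne.symm hb), zero_smul, map_zero]
    · intro hj
      exact absurd (Finset.mem_univ j) hj
  apply Finset.sum_eq_zero
  intro i _
  rw [hχ i, zero_tmul]

theorem theta_surjective : Function.Surjective (theta (R := R) N (Fin k → R)) := by
  classical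
  intro c
  refine ⟨∑ i, (CharacterModule.dual (inj N k i) c) ⊗ₜ[R] (Pi.single i (1 : R)), ?_⟩
  apply CharacterModule.ext
  intro h
  rw [theta_sum]
  change ∑ i, c (inj N k i (h (Pi.single i 1))) = c h
  rw [← map_sum, sum_inj]

end free

section extOfTor
variable (N : Type u) [AddCommGroup N] [Module R N] (r₀ r₁ : ℕ)
variable {P₁ P₂ : Type u} [AddCommGroup P₁] [Module R P₁] [AddCommGroup P₂] [Module R P₂]
  (d₁ : (Fin r₁ → R) →ₗ[R] (Fin r₀ → R)) (a₁ : (Fin r₁ → R) →ₗ[R] P₁) (d₂' : P₂ →ₗ[R] P₁)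

theorem ext_of_tor
    (hT : ∀ z : CharacterModule N ⊗[R] (Fin r₁ → R), d₁.lTensor _ z = 0 →
      ∃ w : CharacterModule N ⊗[R] P₂, d₂'.lTensor _ w = a₁.lTensor _ z)
    (f : P₁ →ₗ[R] N) (hf : f ∘ₗ d₂' = 0) :
    ∃ g : (Fin r₀ → R) →ₗ[R] N, g ∘ₗ d₁ = f ∘ₗ a₁ := by
  classical
  by_contra h
  set B : Submodule R ((Fin r₁ → R) →ₗ[R] N) := LinearMap.range (LinearMap.lcomp R N d₁) with hB
  have hq : B.mkQ (f ∘ₗ a₁) ≠ 0 := by
    intro h0
    rw [Submodule.mkQ_apply, Submodule.Quotient.mk_eq_zero] at h0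
    obtain ⟨g, hg⟩ := h0
    exact h ⟨g, hg⟩
  obtain ⟨c, hc⟩ := CharacterModule.exists_character_apply_ne_zero_of_ne_zero hq
  obtain ⟨z, hz⟩ := theta_surjective N r₁ (CharacterModule.dual B.mkQ c)
  have hz0 : d₁.lTensor _ z = 0 := by
    apply theta_injective N r₀
    rw [map_zero]
    apply CharacterModule.ext
    intro g
    rw [theta_nat, hz]
    change c (B.mkQ (g ∘ₗ d₁)) = 0
    have : B.mkQ (g ∘ₗ d₁) = 0 := by
      rw [Submodule.mkQ_apply, Submodule.Quotient.mk_eq_zero]
      exact ⟨g, rfl⟩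
    rw [this, map_zero]
  obtain ⟨w, hw⟩ := hT z hz0
  apply hc
  change (CharacterModule.dual B.mkQ c) (f ∘ₗ a₁) = 0
  rw [← hz, ← theta_nat, ← hw, theta_nat, hf, map_zero]

end extOfTor

end Groth.Agent.Lib.helper19.ExtTorPair
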