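import Mathlib
import Groth.Agent.Lib.Helper10.MinRes
import Groth.Agent.Lib.Helper19.LCBridge
set_option autoImplicit false

/-! `Tor_n(E, M) ≃ Hom(Ext^n(M, A), E)` for `E` injective and `M` with a resolution by finite free
modules (helper19). Also: existence of finite free resolutions (`Res`) over Noetherian rings. -/

universe u

namespace Groth.Agent.Lib.helper19.TorDual
open CategoryTheory

section LinAlg
variable {A : Type u} [CommRing A]

section Hmod
variable {X₁ X₂ X₃ : Type u} [AddCommGroup X₁] [Module A X₁] [AddCommGroup X₂] [Module A X₂]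
  [AddCommGroup X₃] [Module A X₃]

/-- boundaries inside cycles -/
def bdry (f : X₁ →ₗ[A] X₂) (g : X₂ →ₗ[A] X₃) : Submodule A (LinearMap.ker g) :=
  (LinearMap.range f).comap (LinearMap.ker g).subtype

/-- the homology module `ker g / im f` -/
abbrev Hmod (f : X₁ →ₗ[A] X₂) (g : X₂ →ₗ[A] X₃) : Type u := LinearMap.ker g ⧸ bdry f g

theorem mem_bdry (f : X₁ →ₗ[A] X₂) (g : X₂ →ₗ[A] X₃) (y : LinearMap.ker g) :
    y ∈ bdry f g ↔ ∃ x, f x = y.1 := Iff.rfl

end Hmod

section Dual
variable {E : Type u} [AddCommGroup E] [Module A E]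
variable {X Y Z T₁ T₂ T₃ : Type u} [AddCommGroup X] [Module A X] [AddCommGroup Y] [Module A Y]
  [AddCommGroup Z] [Module A Z] [AddCommGroup T₁] [Module A T₁] [AddCommGroup T₂] [Module A T₂]
  [AddCommGroup T₃] [Module A T₃]
  (u : X →ₗ[A] Y) (v : Y →ₗ[A] Z)
  (α : T₁ →ₗ[A] T₂) (β : T₂ →ₗ[A] T₃)
  (τ₁ : T₁ ≃ₗ[A] (Z →ₗ[A] E)) (τ₂ : T₂ ≃ₗ[A] (Y →ₗ[A] E)) (τ₃ : T₃ ≃ₗ[A] (X →ₗ[A] E))
  (h₁ : ∀ t, τ₂ (α t) = (τ₁ t).comp v) (h₂ : ∀ t, τ₃ (β t) = (τ₂ t).comp u)

include h₂ in
theorem cyc_vanish (t : LinearMap.ker β) :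
    bdry u v ≤ LinearMap.ker ((τ₂ t.1).comp (LinearMap.ker v).subtype) := by
  rintro ⟨y, hy⟩ ⟨x, hx⟩
  rw [LinearMap.mem_ker, LinearMap.comp_apply]
  change τ₂ t.1 y = 0
  have hx' : u x = y := hx
  rw [← hx']
  have := h₂ t.1
  rw [LinearMap.mem_ker.mp t.2, map_zero] at this
  have h3 := LinearMap.congr_fun this x
  rw [LinearMap.comp_apply] at h3
  exact h3.symm

/-- cycles on the `T`-side give functionals on the homology of the dual side -/
noncomputable def cycToHom : LinearMap.ker β →ₗ[A] (Hmod u v →ₗ[A] E) where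
  toFun t := Submodule.liftQ (bdry u v) ((τ₂ t.1).comp (LinearMap.ker v).subtype)
    (cyc_vanish u v β τ₂ τ₃ h₂ t)
  map_add' s t := by
    apply LinearMap.ext
    intro q
    obtain ⟨y, rfl⟩ := Submodule.Quotient.mk_surjective _ q
    change τ₂ (s + t).1 y.1 = τ₂ s.1 y.1 + τ₂ t.1 y.1
    rw [Submodule.coe_add, map_add, LinearMap.add_apply]
  map_smul' a t := by
    apply LinearMap.ext
    intro q
    obtain ⟨y, rfl⟩ := Submodule.Quotient.mk_surjective _ q
    change τ₂ (a • t).1 y.1 = a • τ₂ t.1 y.1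
    rw [Submodule.coe_smul, map_smul, LinearMap.smul_apply]

theorem cycToHom_mk (t : LinearMap.ker β) (y : LinearMap.ker v) :
    cycToHom u v β τ₂ τ₃ h₂ t (Submodule.Quotient.mk y) = τ₂ t.1 y.1 := rfl

include h₁ in
theorem ker_cycToHom (hE : Module.Baer A E) :
    LinearMap.ker (cycToHom u v β τ₂ τ₃ h₂) = bdry α β := by
  ext t
  rw [LinearMap.mem_ker, mem_bdry]
  constructor
  · intro ht
    -- τ₂ t vanishes on ker v
    have hvan : LinearMap.ker v ≤ LinearMap.ker (τ₂ t.1) := by
      intro y hy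
      have := LinearMap.congr_fun ht (Submodule.Quotient.mk ⟨y, hy⟩)
      rw [cycToHom_mk] at this
      exact this
    let vbar : (Y ⧸ LinearMap.ker v) →ₗ[A] Z := (LinearMap.ker v).liftQ v le_rfl
    have hvbar : Function.Injective vbar := by
      rw [← LinearMap.ker_eq_bot]
      exact Submodule.ker_liftQ_eq_bot _ _ _ le_rfl
    let φbar : (Y ⧸ LinearMap.ker v) →ₗ[A] E := (LinearMap.ker v).liftQ (τ₂ t.1) hvan
    obtain ⟨χ, hχ⟩ := hE.extension_property vbar hvbar φbar
    refine ⟨τ₁.symm χ, ?_⟩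
    apply τ₂.injective
    rw [h₁, LinearEquiv.apply_symm_apply]
    apply LinearMap.ext
    intro y
    have := LinearMap.congr_fun hχ (Submodule.Quotient.mk y)
    rw [LinearMap.comp_apply] at this
    exact this
  · rintro ⟨s, hs⟩
    apply LinearMap.ext
    intro q
    obtain ⟨y, rfl⟩ := Submodule.Quotient.mk_surjective _ q
    rw [cycToHom_mk, ← hs, h₁, LinearMap.comp_apply, LinearMap.mem_ker.mp y.2, map_zero]
    rfl

theorem cycToHom_surjective (huv : ∀ x, v (u x) = 0) (hE : Module.Baer A E) :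
    Function.Surjective (cycToHom u v β τ₂ τ₃ h₂) := by
  intro ψ
  obtain ⟨φ, hφ⟩ := hE.extension_property (LinearMap.ker v).subtype
    (Submodule.injective_subtype _) (ψ.comp (bdry u v).mkQ)
  have hker : τ₂.symm φ ∈ LinearMap.ker β := by
    rw [LinearMap.mem_ker]
    apply τ₃.injective
    rw [h₂, LinearEquiv.apply_symm_apply, map_zero]
    apply LinearMap.ext
    intro x
    rw [LinearMap.comp_apply, LinearMap.zero_apply]
    have hux : u x ∈ LinearMap.ker v := LinearMap.mem_ker.mpr (huv x)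
    have h4 := LinearMap.congr_fun hφ ⟨u x, hux⟩
    rw [LinearMap.comp_apply, LinearMap.comp_apply] at h4
    change φ (u x) = _ at h4
    rw [h4]
    have : (⟨u x, hux⟩ : LinearMap.ker v) ∈ bdry u v := ⟨x, rfl⟩
    rw [Submodule.mkQ_apply, (Submodule.Quotient.mk_eq_zero _).mpr this, map_zero]
  refine ⟨⟨τ₂.symm φ, hker⟩, ?_⟩
  apply LinearMap.ext
  intro q
  obtain ⟨y, rfl⟩ := Submodule.Quotient.mk_surjective _ q
  rw [cycToHom_mk]
  change τ₂ (τ₂.symm φ) y.1 = _
  rw [LinearEquiv.apply_symm_apply]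
  have h4 := LinearMap.congr_fun hφ y
  rw [LinearMap.comp_apply, LinearMap.comp_apply] at h4
  exact h4

/-- **Duality on homology**: `ker β / im α ≃ Hom(ker v / im u, E)` for `E` injective. -/
noncomputable def dualEquiv (huv : ∀ x, v (u x) = 0) (hE : Module.Baer A E) :
    Hmod α β ≃ₗ[A] (Hmod u v →ₗ[A] E) :=
  (Submodule.quotEquivOfEq _ _ (ker_cycToHom u v α β τ₁ τ₂ τ₃ h₁ h₂ hE).symm).trans
    ((cycToHom u v β τ₂ τ₃ h₂).quotKerEquivOfSurjective
      (cycToHom_surjective u v β τ₂ τ₃ h₂ huv hE))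

end Dual

section Tau
variable (A)
variable (E : Type u) [AddCommGroup E] [Module A E]
variable (P : Type u) [AddCommGroup P] [Module A P] [Module.Finite A P] [Module.Free A P]

open TensorProduct

/-- `E ⊗ P ≃ Hom(P^*, E)` for `P` finite free -/
noncomputable def tau : E ⊗[A] P ≃ₗ[A] ((P →ₗ[A] A) →ₗ[A] E) :=
  (TensorProduct.comm A E P).trans
    ((TensorProduct.congr (Module.evalEquiv A P) (LinearEquiv.refl A E)).trans
      (dualTensorHomEquiv A (Module.Dual A P) E))

theorem tau_tmul (e : E) (p : P) (φ : P →ₗ[A] A) : tau A E P (e ⊗ₜ p) φ = φ p • e := by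
  simp [tau, dualTensorHomEquiv]

end Tau

end LinAlg

section ExistsRes
open Groth.Agent.Lib.helper10.MinRes
variable (A : Type u) [CommRing A] [IsNoetherianRing A]

/-- a stage of the construction of a free resolution: a rank and the submodule still to be covered -/
structure Stage where
  r : ℕ
  K : Submodule A (Fin r → A)

theorem exists_cover (s : Stage A) :
    ∃ (r' : ℕ) (d : (Fin r' → A) →ₗ[A] (Fin s.r → A)), LinearMap.range d = s.K := by
  haveI : Module.Finite A s.K := Module.IsNoetherian.finite A s.K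
  obtain ⟨n, f, hf⟩ := Module.Finite.exists_fin' A s.K
  refine ⟨n, s.K.subtype.comp f, ?_⟩
  rw [LinearMap.range_comp, LinearMap.range_eq_top.mpr hf, Submodule.map_top,
    Submodule.range_subtype]

noncomputable def nextRk (s : Stage A) : ℕ := (exists_cover A s).choose

noncomputable def nextD (s : Stage A) : (Fin (nextRk A s) → A) →ₗ[A] (Fin s.r → A) :=
  (exists_cover A s).choose_spec.choose

theorem range_nextD (s : Stage A) : LinearMap.range (nextD A s) = s.K :=
  (exists_cover A s).choose_spec.choose_spec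

noncomputable def nextStage (s : Stage A) : Stage A := ⟨nextRk A s, LinearMap.ker (nextD A s)⟩

noncomputable def stage (s₀ : Stage A) : ℕ → Stage A
  | 0 => s₀
  | n + 1 => nextStage A (stage s₀ n)

/-- finite modules over Noetherian rings have resolutions by finite free modules -/
theorem exists_res (M : Type u) [AddCommGroup M] [Module A M] [Module.Finite A M] :
    Nonempty (Res A M) := by
  obtain ⟨n, f, hf⟩ := Module.Finite.exists_fin' A M
  let s₀ : Stage A := ⟨n, LinearMap.ker f⟩
  exact ⟨{ rk := fun i => (stage A s₀ i).r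
           dLin := fun i => nextD A (stage A s₀ i)
           augLin := f
           aug_surjective := hf
           exact_zero := (range_nextD A s₀).symm
           exact_succ := fun i => (range_nextD A (stage A s₀ (i + 1))).symm }⟩

end ExistsRes

end Groth.Agent.Lib.helper19.TorDual
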