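import Mathlib

set_option autoImplicit false

/-! # Koszul zig-zag (helper19)

For a finite module `M` over a Noetherian ring `A` and a list `l` of elements generating `I`,
there is `n > 0` such that for every flat module `P` with a square-zero endomorphism `d` on which
all elements of `l` are null-homotopic, every `d`-cycle of `M ⊗ P` with coefficients in `I^n M`
is a `d`-boundary (`main_alg`).  Ingredients: `RS` (elements of `K ⊗ P` with coefficients in a
submodule), `proex` (pro-exactness from Artin–Rees + null-homotopies), `zigzag`, `KosObj`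
(recursive Koszul objects with their descent property). -/

universe u

namespace Groth.Agent.Lib.helper19.KosZZ
open TensorProduct

variable {A : Type u} [CommRing A]

section RS
variable {K : Type u} [AddCommGroup K] [Module A K] {K' : Type u} [AddCommGroup K'] [Module A K']
  (P : Type u) [AddCommGroup P] [Module A P] {P' : Type u} [AddCommGroup P'] [Module A P']

/-- elements of `K ⊗ P` "with coefficients in `S`". -/
def RS (S : Submodule A K) : Submodule A (K ⊗[A] P) := LinearMap.range (S.subtype.rTensor P)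

variable {P}

lemma RS_mono {S S' : Submodule A K} (h : S ≤ S') : RS P S ≤ RS P S' := by
  rintro _ ⟨x, rfl⟩
  refine ⟨(Submodule.inclusion h).rTensor P x, ?_⟩
  rw [← LinearMap.rTensor_comp_apply]
  rfl

lemma RS_map (φ : K →ₗ[A] K') {S : Submodule A K} {S' : Submodule A K'}
    (h : ∀ x ∈ S, φ x ∈ S') {ξ : K ⊗[A] P} (hξ : ξ ∈ RS P S) : φ.rTensor P ξ ∈ RS P S' := by
  obtain ⟨x, rfl⟩ := hξ
  refine ⟨(φ.restrict h).rTensor P x, ?_⟩
  rw [← LinearMap.rTensor_comp_apply, ← LinearMap.rTensor_comp_apply]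
  rfl

lemma RS_lTensor (g : P →ₗ[A] P') {S : Submodule A K} {ξ : K ⊗[A] P} (hξ : ξ ∈ RS P S) :
    g.lTensor K ξ ∈ RS P' S := by
  obtain ⟨x, rfl⟩ := hξ
  refine ⟨g.lTensor S x, ?_⟩
  rw [← LinearMap.comp_apply, ← LinearMap.comp_apply, LinearMap.rTensor_comp_lTensor,
    LinearMap.lTensor_comp_rTensor]

lemma RS_bot {ξ : K ⊗[A] P} (hξ : ξ ∈ RS P (⊥ : Submodule A K)) : ξ = 0 := by
  obtain ⟨x, rfl⟩ := hξ
  have : (⊥ : Submodule A K).subtype = 0 := by
    ext ⟨y, hy⟩
    simpa using hy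
  rw [this, LinearMap.rTensor_zero, LinearMap.zero_apply]

lemma RS_ker [Module.Flat A P] (del : K →ₗ[A] K') {S : Submodule A K} {ξ : K ⊗[A] P}
    (hξ : ξ ∈ RS P S) (h0 : del.rTensor P ξ = 0) : ξ ∈ RS P (S ⊓ LinearMap.ker del) := by
  obtain ⟨x, rfl⟩ := hξ
  let incl : ↥(S ⊓ LinearMap.ker del) →ₗ[A] S := Submodule.inclusion inf_le_left
  let ψ : S →ₗ[A] K' := del ∘ₗ S.subtype
  have hex : Function.Exact incl ψ := by
    intro y
    constructor
    · intro hy
      exact ⟨⟨y.1, ⟨y.2, hy⟩⟩, rfl⟩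
    · rintro ⟨w, rfl⟩
      exact w.2.2
  have hex' := Module.Flat.rTensor_exact P hex
  have hx : ψ.rTensor P x = 0 := by
    rw [LinearMap.rTensor_comp_apply]
    exact h0
  obtain ⟨x', rfl⟩ := (hex' x).1 hx
  refine ⟨x', ?_⟩
  rw [← LinearMap.rTensor_comp_apply]
  rfl

lemma RS_lift (del : K →ₗ[A] K') {S₁ : Submodule A K'} {S₂ : Submodule A K}
    (h : ∀ x ∈ S₁, ∃ y ∈ S₂, del y = x) {ξ : K' ⊗[A] P} (hξ : ξ ∈ RS P S₁) :
    ∃ η ∈ RS P S₂, del.rTensor P η = ξ := by
  obtain ⟨x, rfl⟩ := hξ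
  let S₃ : Submodule A K := S₂ ⊓ S₁.comap del
  let ρ : S₃ →ₗ[A] S₁ := del.restrict (fun y hy => hy.2)
  have hρ : Function.Surjective ρ := by
    rintro ⟨x, hx⟩
    obtain ⟨y, hy, rfl⟩ := h x hx
    exact ⟨⟨y, ⟨hy, hx⟩⟩, rfl⟩
  obtain ⟨x', rfl⟩ := LinearMap.rTensor_surjective P hρ x
  refine ⟨S₃.subtype.rTensor P x', RS_mono inf_le_left ⟨x', rfl⟩, ?_⟩
  rw [← LinearMap.rTensor_comp_apply, ← LinearMap.rTensor_comp_apply]
  rfl

end RS


section Aux
variable {K : Type u} [AddCommGroup K] [Module A K]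
lemma smul_top_map_le' (I : Ideal A) (φ : K →ₗ[A] K) {x : K} (hx : x ∈ I • (⊤ : Submodule A K)) :
    φ x ∈ I • (⊤ : Submodule A K) := by
  have : (I • (⊤ : Submodule A K)).map φ ≤ I • ⊤ := by
    rw [Submodule.map_smul'']
    exact Submodule.smul_mono le_rfl le_top
  exact this ⟨x, hx, rfl⟩
end Aux

section ProEx
variable [IsNoetherianRing A] {K : Type u} [AddCommGroup K] [Module A K] [Module.Finite A K]

theorem proex (del : K →ₗ[A] K) (G : ℕ → Submodule A K) (l : List A) (L : ℕ)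
    (hG : ∀ j, L < j → G j = ⊥)
    (hk : ∀ a ∈ l, ∃ k : K →ₗ[A] K, (∀ x, del (k x) + k (del x) = a • x) ∧
      ∀ j x, x ∈ G j → k x ∈ G (j + 1)) :
    ∃ c : ℕ, 0 < c ∧ ∀ m, c ≤ m → ∀ j, ∀ ξ ∈ (Ideal.span {a | a ∈ l}) ^ m • (⊤ : Submodule A K) ⊓ G j ⊓
      LinearMap.ker del, ∃ η ∈ (Ideal.span {a | a ∈ l}) ^ (m - c) • (⊤ : Submodule A K) ⊓ G (j + 1),
        del η = ξ := by
  classical
  set I : Ideal A := Ideal.span {a | a ∈ l} with hI
  choose k hkAR using fun j => Ideal.exists_pow_inf_eq_pow_smul I (G j ⊓ LinearMap.ker del)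
  refine ⟨(Finset.range (L + 1)).sup k + 1, Nat.succ_pos _, ?_⟩
  intro m hm j ξ hξ
  by_cases hj : L < j
  · refine ⟨0, Submodule.zero_mem _, ?_⟩
    have : ξ ∈ G j := hξ.1.2
    rw [hG j hj, Submodule.mem_bot] at this
    rw [this, map_zero]
  · have hkj : k j ≤ (Finset.range (L + 1)).sup k :=
      Finset.le_sup (f := k) (Finset.mem_range.2 (by omega))
    have hmk : k j ≤ m := by omega
    have h1 : ξ ∈ I ^ m • (⊤ : Submodule A K) ⊓ (G j ⊓ LinearMap.ker del) :=
      ⟨hξ.1.1, hξ.1.2, hξ.2⟩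
    rw [hkAR j m hmk] at h1
    have h2 : ξ ∈ I ^ (m - k j) • (G j ⊓ LinearMap.ker del) :=
      Submodule.smul_mono le_rfl inf_le_right h1
    obtain ⟨e, he⟩ : ∃ e, m - k j = e + 1 := ⟨m - k j - 1, by omega⟩
    rw [he, pow_succ', mul_smul] at h2
    -- the target submodule
    let T : Submodule A K := (I ^ e • (⊤ : Submodule A K) ⊓ G (j + 1)).map del
    have hT : I • (I ^ e • (G j ⊓ LinearMap.ker del)) ≤ T := by
      rw [Submodule.smul_le]
      intro a ha y hy
      have hyN : y ∈ G j ⊓ LinearMap.ker del := Submodule.smul_le_right hy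
      have hyI : y ∈ I ^ e • (⊤ : Submodule A K) := Submodule.smul_mono le_rfl le_top hy
      let J : Ideal A := T.comap (LinearMap.toSpanSingleton A K y)
      have hJ : I ≤ J := by
        rw [hI, Ideal.span_le]
        intro b hb
        obtain ⟨kb, hkb1, hkb2⟩ := hk b hb
        change (LinearMap.toSpanSingleton A K y) b ∈ T
        rw [LinearMap.toSpanSingleton_apply]
        refine ⟨kb y, ⟨smul_top_map_le' _ kb hyI, hkb2 j y hyN.1⟩, ?_⟩
        have := hkb1 y
        rw [LinearMap.mem_ker.1 hyN.2, map_zero, add_zero] at this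
        exact this
      have := hJ ha
      change (LinearMap.toSpanSingleton A K y) a ∈ T at this
      rwa [LinearMap.toSpanSingleton_apply] at this
    obtain ⟨η, hη, rfl⟩ := hT h2
    refine ⟨η, ⟨?_, hη.2⟩, rfl⟩
    have hle : I ^ e ≤ I ^ (m - ((Finset.range (L + 1)).sup k + 1)) :=
      Ideal.pow_le_pow_right (by omega)
    exact Submodule.smul_mono_left hle hη.1

end ProEx

section ZigZag
variable {K : Type u} [AddCommGroup K] [Module A K] {P : Type u} [AddCommGroup P] [Module A P]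
  [Module.Flat A P]

theorem zigzag (del sig : K →ₗ[A] K) (G : ℕ → Submodule A K) (I : Ideal A) (d : P →ₗ[A] P)
    (hdd : d ∘ₗ d = 0) (hsd : sig ∘ₗ del = -(del ∘ₗ sig))
    (hsG : ∀ j x, x ∈ G j → sig x ∈ G j) (L c : ℕ) (hGL : G (L + 1) = ⊥)
    (hpro : ∀ m, c ≤ m → ∀ j, ∀ ξ ∈ I ^ m • (⊤ : Submodule A K) ⊓ G j ⊓ LinearMap.ker del,
      ∃ η ∈ I ^ (m - c) • (⊤ : Submodule A K) ⊓ G (j + 1), del η = ξ)
    (n : ℕ) (hn : (L + 1) * c ≤ n) (z' : K ⊗[A] P)
    (hz1 : z' ∈ RS P (I ^ n • (⊤ : Submodule A K) ⊓ G 0)) (hz2 : del.rTensor P z' = 0)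
    (hz3 : d.lTensor K (sig.rTensor P z') = 0) :
    ∃ W : K ⊗[A] P, del.rTensor P W + d.lTensor K (sig.rTensor P W) = z' := by
  have key : ∀ J, J ≤ L + 1 → ∃ W ξ : K ⊗[A] P,
      del.rTensor P W + d.lTensor K (sig.rTensor P W) = z' - ξ ∧
      ξ ∈ RS P (I ^ (n - J * c) • (⊤ : Submodule A K) ⊓ G J) ∧ del.rTensor P ξ = 0 ∧
      d.lTensor K (sig.rTensor P ξ) = 0 := by
    intro J
    induction J with
    | zero =>
      intro _
      refine ⟨0, z', by simp, ?_, hz2, hz3⟩
      simpa using hz1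
    | succ J ih =>
      intro hJ
      obtain ⟨W, ξ, hW, hξ1, hξ2, hξ3⟩ := ih (by omega)
      have hm : c ≤ n - J * c := by
        have : (J + 1) * c ≤ (L + 1) * c := Nat.mul_le_mul_right c hJ
        have h2 : (J + 1) * c = J * c + c := by ring
        omega
      have hξ4 := RS_ker del hξ1 hξ2
      obtain ⟨η, hη1, hη2⟩ := RS_lift del (hpro (n - J * c) hm J) hξ4
      have hexp : n - J * c - c = n - (J + 1) * c := by
        have h2 : (J + 1) * c = J * c + c := by ring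
        omega
      rw [hexp] at hη1
      refine ⟨W + η, -(d.lTensor K (sig.rTensor P η)), ?_, ?_, ?_, ?_⟩
      · rw [map_add, map_add, map_add, hη2]
        rw [sub_neg_eq_add]
        have := hW
        calc del.rTensor P W + ξ + (d.lTensor K (sig.rTensor P W) + d.lTensor K (sig.rTensor P η))
            = (del.rTensor P W + d.lTensor K (sig.rTensor P W)) + ξ +
              d.lTensor K (sig.rTensor P η) := by abel
          _ = z' - ξ + ξ + d.lTensor K (sig.rTensor P η) := by rw [hW]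
          _ = z' + d.lTensor K (sig.rTensor P η) := by abel
      · apply Submodule.neg_mem
        apply RS_lTensor
        refine RS_map sig ?_ hη1
        intro x hx
        exact ⟨smul_top_map_le' _ sig hx.1, hsG _ x hx.2⟩
      · rw [map_neg, neg_eq_zero]
        -- del (d (sig η)) = d (del (sig η)) = - d (sig (del η)) = - d (sig ξ) = 0
        have e1 : del.rTensor P (d.lTensor K (sig.rTensor P η)) =
            d.lTensor K ((del ∘ₗ sig).rTensor P η) := by
          rw [LinearMap.rTensor_comp_apply]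
          rw [← LinearMap.comp_apply, ← LinearMap.comp_apply (d.lTensor K),
            LinearMap.rTensor_comp_lTensor, LinearMap.lTensor_comp_rTensor]
        have e2 : del ∘ₗ sig = -(sig ∘ₗ del) := by rw [hsd, neg_neg]
        rw [e1, e2, LinearMap.rTensor_neg, LinearMap.neg_apply, map_neg,
          LinearMap.rTensor_comp_apply, hη2, hξ3, neg_zero]
      · rw [map_neg, map_neg, neg_eq_zero]
        have e1 : sig.rTensor P (d.lTensor K (sig.rTensor P η)) =
            d.lTensor K ((sig ∘ₗ sig).rTensor P η) := by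
          rw [LinearMap.rTensor_comp_apply]
          rw [← LinearMap.comp_apply, ← LinearMap.comp_apply (d.lTensor K),
            LinearMap.rTensor_comp_lTensor, LinearMap.lTensor_comp_rTensor]
        rw [e1, ← LinearMap.lTensor_comp_apply, hdd, LinearMap.lTensor_zero, LinearMap.zero_apply]
  obtain ⟨W, ξ, hW, hξ1, -, -⟩ := key (L + 1) le_rfl
  have : ξ = 0 := by
    apply RS_bot (P := P)
    refine RS_mono ?_ hξ1
    rw [hGL]
    exact inf_le_right
  refine ⟨W, ?_⟩
  rw [hW, this, sub_zero]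

end ZigZag


section Cone
variable {K : Type u} [AddCommGroup K] [Module A K]

/-- cone differential. -/
def coneDel (del : K →ₗ[A] K) (a : A) : K × K →ₗ[A] K × K where
  toFun p := (-(del p.1), del p.2 + a • p.1)
  map_add' p q := by
    ext
    · simp only [Prod.fst_add, map_add, neg_add_rev]; abel
    · simp only [Prod.snd_add, Prod.fst_add, map_add, smul_add]; abel
  map_smul' c p := by
    ext
    · simp
    · simp [smul_comm a c]

/-- cone sign / componentwise operator with sign. -/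
def coneSig (sig : K →ₗ[A] K) : K × K →ₗ[A] K × K where
  toFun p := (-(sig p.1), sig p.2)
  map_add' p q := by
    ext
    · simp only [Prod.fst_add, map_add, neg_add_rev]; abel
    · simp
  map_smul' c p := by
    ext
    · simp
    · simp

/-- the contracting homotopy of the cone. -/
def coneK : K × K →ₗ[A] K × K where
  toFun p := (p.2, 0)
  map_add' p q := by ext <;> simp
  map_smul' c p := by ext <;> simp

@[simp] lemma coneDel_apply (del : K →ₗ[A] K) (a : A) (p : K × K) :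
    coneDel del a p = (-(del p.1), del p.2 + a • p.1) := rfl
@[simp] lemma coneSig_apply (sig : K →ₗ[A] K) (p : K × K) :
    coneSig sig p = (-(sig p.1), sig p.2) := rfl
@[simp] lemma coneK_apply (p : K × K) : (coneK : K × K →ₗ[A] K × K) p = (p.2, 0) := rfl

end Cone

section Kos

/-- a Koszul-type object for the list `l` over the module `M`. -/
structure KosObj (A : Type u) [CommRing A] (M : Type u) [AddCommGroup M] [Module A M]
    (l : List A) where
  K : Type u
  [acg : AddCommGroup K]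
  [mod : Module A K]
  del : K →ₗ[A] K
  sig : K →ₗ[A] K
  G : ℕ → Submodule A K
  iota : M →ₗ[A] K
  sig_sig : ∀ x, sig (sig x) = x
  sig_del : ∀ x, sig (del x) = -(del (sig x))
  sig_G : ∀ j x, x ∈ G j → sig x ∈ G j
  G_zero : G 0 = ⊤
  G_big : ∀ j, l.length < j → G j = ⊥
  del_iota : ∀ x, del (iota x) = 0
  sig_iota : ∀ x, sig (iota x) = iota x
  htpy : ∀ a ∈ l, ∃ k : K →ₗ[A] K, (∀ x, del (k x) + k (del x) = a • x) ∧
    ∀ j x, x ∈ G j → k x ∈ G (j + 1)
  fin : Module.Finite A M → Module.Finite A K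
  descent : ∀ (P : Type u) [AddCommGroup P] [Module A P] (d : P →ₗ[A] P)
    (_ : ∀ a ∈ l, ∃ h : P →ₗ[A] P, d ∘ₗ h + h ∘ₗ d = a • LinearMap.id) (z : M ⊗[A] P),
    (∃ W : K ⊗[A] P, del.rTensor P W + d.lTensor K (sig.rTensor P W) = iota.rTensor P z) →
      ∃ w : M ⊗[A] P, d.lTensor M w = z

attribute [instance] KosObj.acg KosObj.mod

variable (M : Type u) [AddCommGroup M] [Module A M]

/-- the base object. -/
def KosObj.nil : KosObj A M [] where
  K := M
  del := 0
  sig := LinearMap.id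
  G := fun j => if j = 0 then ⊤ else ⊥
  iota := LinearMap.id
  sig_sig := fun x => rfl
  sig_del := by simp
  sig_G := fun j x hx => hx
  G_zero := by simp
  G_big := fun j hj => by
    have : j ≠ 0 := by
      rintro rfl
      simp at hj
    simp [this]
  del_iota := fun x => rfl
  sig_iota := fun x => rfl
  htpy := fun a ha => by simp at ha
  fin := fun h => h
  descent := by
    intro P _ _ d _ z ⟨W, hW⟩
    refine ⟨W, ?_⟩
    simpa using hW

variable {M}

/-- the cone of `a` on a Koszul object. -/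
def KosObj.cons {l : List A} (𝒦 : KosObj A M l) (a : A) : KosObj A M (a :: l) where
  K := 𝒦.K × 𝒦.K
  del := coneDel 𝒦.del a
  sig := coneSig 𝒦.sig
  G := fun j => Submodule.prod (match j with | 0 => ⊤ | j + 1 => 𝒦.G j) (𝒦.G j)
  iota := LinearMap.inr A 𝒦.K 𝒦.K ∘ₗ 𝒦.iota
  sig_sig := by
    rintro ⟨x, y⟩
    simp [𝒦.sig_sig]
  sig_del := by
    rintro ⟨x, y⟩
    ext
    · simp [𝒦.sig_del]
    · simp only [coneDel_apply, coneSig_apply, map_add, map_smul, map_neg, 𝒦.sig_del,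
        Prod.neg_mk, neg_add_rev, neg_neg, smul_neg]
      abel
  sig_G := by
    rintro j ⟨x, y⟩ ⟨hx, hy⟩
    refine ⟨?_, 𝒦.sig_G j y hy⟩
    change -(𝒦.sig x) ∈ _
    apply Submodule.neg_mem
    cases j with
    | zero => trivial
    | succ j => exact 𝒦.sig_G j x hx
  G_zero := by
    simp only [𝒦.G_zero, Submodule.prod_top]
  G_big := by
    intro j hj
    simp only [List.length_cons] at hj
    obtain ⟨j', rfl⟩ : ∃ j', j = j' + 1 := ⟨j - 1, by omega⟩
    change Submodule.prod (𝒦.G j') (𝒦.G (j' + 1)) = ⊥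
    rw [𝒦.G_big j' (by omega), 𝒦.G_big (j' + 1) (by omega), Submodule.prod_bot]
  del_iota := by
    intro x
    simp [𝒦.del_iota]
  sig_iota := by
    intro x
    simp [𝒦.sig_iota]
  htpy := by
    intro b hb
    rcases List.mem_cons.1 hb with rfl | hb
    · refine ⟨coneK, ?_, ?_⟩
      · rintro ⟨x, y⟩
        ext
        · simp
        · simp
      · rintro j ⟨x, y⟩ ⟨hx, hy⟩
        exact ⟨hy, Submodule.zero_mem _⟩
    · obtain ⟨k, hk1, hk2⟩ := 𝒦.htpy b hb
      refine ⟨coneSig k, ?_, ?_⟩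
      · rintro ⟨x, y⟩
        have h1 := hk1 x
        have h2 := hk1 y
        ext
        · simp only [coneDel_apply, coneSig_apply, map_neg, neg_neg, Prod.mk_add_mk, Prod.smul_mk]
          exact h1
        · simp only [coneDel_apply, coneSig_apply, map_neg, map_add, map_smul, Prod.mk_add_mk,
            Prod.smul_mk, smul_neg]
          rw [← h2]
          abel
      · rintro j ⟨x, y⟩ ⟨hx, hy⟩
        refine ⟨?_, hk2 j y hy⟩
        change -(k x) ∈ 𝒦.G j
        apply Submodule.neg_mem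
        cases j with
        | zero => rw [𝒦.G_zero]; trivial
        | succ j => exact hk2 j x hx
  fin := fun h => by
    haveI := 𝒦.fin h
    infer_instance
  descent := by
    intro P _ _ d hh z ⟨W, hW⟩
    obtain ⟨h, hh0⟩ := hh a (List.mem_cons_self)
    apply 𝒦.descent P d (fun b hb => hh b (List.mem_cons_of_mem _ hb)) z
    set a' : 𝒦.K ⊗[A] P := (LinearMap.fst A 𝒦.K 𝒦.K).rTensor P W with ha'
    set b' : 𝒦.K ⊗[A] P := (LinearMap.snd A 𝒦.K 𝒦.K).rTensor P W with hb'
    have c1 : LinearMap.fst A 𝒦.K 𝒦.K ∘ₗ coneDel 𝒦.del a = -(𝒦.del ∘ₗ LinearMap.fst A 𝒦.K 𝒦.K) :=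
      LinearMap.ext fun p => rfl
    have c2 : LinearMap.snd A 𝒦.K 𝒦.K ∘ₗ coneDel 𝒦.del a =
        𝒦.del ∘ₗ LinearMap.snd A 𝒦.K 𝒦.K + a • LinearMap.fst A 𝒦.K 𝒦.K :=
      LinearMap.ext fun p => rfl
    have c3 : LinearMap.fst A 𝒦.K 𝒦.K ∘ₗ coneSig 𝒦.sig = -(𝒦.sig ∘ₗ LinearMap.fst A 𝒦.K 𝒦.K) :=
      LinearMap.ext fun p => rfl
    have c4 : LinearMap.snd A 𝒦.K 𝒦.K ∘ₗ coneSig 𝒦.sig = 𝒦.sig ∘ₗ LinearMap.snd A 𝒦.K 𝒦.K :=
      LinearMap.ext fun p => rfl
    have c5 : LinearMap.fst A 𝒦.K 𝒦.K ∘ₗ (LinearMap.inr A 𝒦.K 𝒦.K ∘ₗ 𝒦.iota) = 0 :=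
      LinearMap.ext fun p => rfl
    have c6 : LinearMap.snd A 𝒦.K 𝒦.K ∘ₗ (LinearMap.inr A 𝒦.K 𝒦.K ∘ₗ 𝒦.iota) = 𝒦.iota :=
      LinearMap.ext fun p => rfl
    -- first component
    have e1 : 𝒦.del.rTensor P a' + d.lTensor 𝒦.K (𝒦.sig.rTensor P a') = 0 := by
      have := congrArg ((LinearMap.fst A 𝒦.K 𝒦.K).rTensor P) hW
      rw [map_add, ← LinearMap.rTensor_comp_apply, ← LinearMap.rTensor_comp_apply, c1, c5,
        LinearMap.rTensor_zero, LinearMap.zero_apply] at this
      rw [← LinearMap.comp_apply ((LinearMap.fst A 𝒦.K 𝒦.K).rTensor P),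
        LinearMap.rTensor_comp_lTensor, ← LinearMap.lTensor_comp_rTensor, LinearMap.comp_apply,
        ← LinearMap.rTensor_comp_apply, c3] at this
      rw [LinearMap.rTensor_neg, LinearMap.rTensor_neg, LinearMap.neg_apply, LinearMap.neg_apply,
        map_neg, LinearMap.rTensor_comp_apply, LinearMap.rTensor_comp_apply, ← neg_add,
        neg_eq_zero] at this
      exact this
    have e2 : 𝒦.del.rTensor P b' + a • a' + d.lTensor 𝒦.K (𝒦.sig.rTensor P b') =
        𝒦.iota.rTensor P z := by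
      have := congrArg ((LinearMap.snd A 𝒦.K 𝒦.K).rTensor P) hW
      rw [map_add, ← LinearMap.rTensor_comp_apply, ← LinearMap.rTensor_comp_apply, c2, c6] at this
      rw [← LinearMap.comp_apply ((LinearMap.snd A 𝒦.K 𝒦.K).rTensor P),
        LinearMap.rTensor_comp_lTensor, ← LinearMap.lTensor_comp_rTensor, LinearMap.comp_apply,
        ← LinearMap.rTensor_comp_apply, c4] at this
      rw [LinearMap.rTensor_add, LinearMap.add_apply, LinearMap.rTensor_smul,
        LinearMap.smul_apply, LinearMap.rTensor_comp_apply, LinearMap.rTensor_comp_apply] at this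
      exact this
    refine ⟨b' + h.lTensor 𝒦.K (𝒦.sig.rTensor P a'), ?_⟩
    have h_ds : 𝒦.del ∘ₗ 𝒦.sig = -(𝒦.sig ∘ₗ 𝒦.del) :=
      LinearMap.ext fun x => by simp [𝒦.sig_del]
    have h_ss : 𝒦.sig ∘ₗ 𝒦.sig = LinearMap.id := LinearMap.ext 𝒦.sig_sig
    have swap : ∀ (f : 𝒦.K →ₗ[A] 𝒦.K) (g : P →ₗ[A] P) (x : 𝒦.K ⊗[A] P),
        f.rTensor P (g.lTensor 𝒦.K x) = g.lTensor 𝒦.K (f.rTensor P x) := by
      intro f g x
      rw [← LinearMap.comp_apply, ← LinearMap.comp_apply, LinearMap.rTensor_comp_lTensor,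
        LinearMap.lTensor_comp_rTensor]
    have e1' : 𝒦.del.rTensor P a' = -(d.lTensor 𝒦.K (𝒦.sig.rTensor P a')) :=
      eq_neg_of_add_eq_zero_left e1
    have t1 : 𝒦.del.rTensor P (h.lTensor 𝒦.K (𝒦.sig.rTensor P a')) =
        (h ∘ₗ d).lTensor 𝒦.K a' := by
      rw [swap, ← LinearMap.rTensor_comp_apply, h_ds, LinearMap.rTensor_neg, LinearMap.neg_apply,
        LinearMap.rTensor_comp_apply, e1']
      simp only [map_neg, neg_neg]
      rw [swap, ← LinearMap.rTensor_comp_apply,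
        h_ss, LinearMap.rTensor_id, LinearMap.id_apply, LinearMap.lTensor_comp_apply]
    have t2 : d.lTensor 𝒦.K (𝒦.sig.rTensor P (h.lTensor 𝒦.K (𝒦.sig.rTensor P a'))) =
        (d ∘ₗ h).lTensor 𝒦.K a' := by
      rw [swap, ← LinearMap.rTensor_comp_apply, h_ss, LinearMap.rTensor_id, LinearMap.id_apply,
        LinearMap.lTensor_comp_apply]
    have t3 : (d ∘ₗ h).lTensor 𝒦.K a' + (h ∘ₗ d).lTensor 𝒦.K a' = a • a' := by
      rw [← LinearMap.add_apply, ← LinearMap.lTensor_add, hh0, LinearMap.lTensor_smul,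
        LinearMap.lTensor_id, LinearMap.smul_apply, LinearMap.id_apply]
    rw [map_add, map_add, map_add, t1, t2, ← e2, ← t3]
    abel

end Kos


section Main
variable (M : Type u) [AddCommGroup M] [Module A M]

theorem nonempty_kosObj (l : List A) : Nonempty (KosObj A M l) := by
  induction l with
  | nil => exact ⟨KosObj.nil M⟩
  | cons a l ih =>
    obtain ⟨𝒦⟩ := ih
    exact ⟨𝒦.cons a⟩

theorem main_alg [IsNoetherianRing A] [Module.Finite A M] (l : List A) :
    ∃ n : ℕ, 0 < n ∧ ∀ (P : Type u) [AddCommGroup P] [Module A P] [Module.Flat A P]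
      (d : P →ₗ[A] P), d ∘ₗ d = 0 →
      (∀ a ∈ l, ∃ h : P →ₗ[A] P, d ∘ₗ h + h ∘ₗ d = a • LinearMap.id) →
      ∀ z : M ⊗[A] P, z ∈ RS P ((Ideal.span {a | a ∈ l}) ^ n • (⊤ : Submodule A M)) →
        d.lTensor M z = 0 → ∃ w : M ⊗[A] P, d.lTensor M w = z := by
  obtain ⟨𝒦⟩ := nonempty_kosObj M l
  haveI : Module.Finite A 𝒦.K := 𝒦.fin inferInstance
  obtain ⟨c, hc, hpro⟩ := proex 𝒦.del 𝒦.G l l.length 𝒦.G_big 𝒦.htpy
  refine ⟨(l.length + 1) * c, Nat.mul_pos (Nat.succ_pos _) hc, ?_⟩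
  intro P _ _ _ d hdd hh z hz hdz
  apply 𝒦.descent P d hh z
  have hsd : 𝒦.sig ∘ₗ 𝒦.del = -(𝒦.del ∘ₗ 𝒦.sig) := LinearMap.ext 𝒦.sig_del
  refine zigzag 𝒦.del 𝒦.sig 𝒦.G (Ideal.span {a | a ∈ l}) d hdd hsd 𝒦.sig_G l.length c
    (𝒦.G_big _ (Nat.lt_succ_self _)) hpro _ le_rfl _ ?_ ?_ ?_
  · refine RS_map 𝒦.iota ?_ hz
    intro x hx
    refine ⟨?_, by rw [𝒦.G_zero]; trivial⟩
    have : ((Ideal.span {a | a ∈ l}) ^ ((l.length + 1) * c) • (⊤ : Submodule A M)).map 𝒦.iota ≤
        (Ideal.span {a | a ∈ l}) ^ ((l.length + 1) * c) • ⊤ := by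
      rw [Submodule.map_smul'']
      exact Submodule.smul_mono le_rfl le_top
    exact this ⟨x, hx, rfl⟩
  · rw [← LinearMap.rTensor_comp_apply]
    have : 𝒦.del ∘ₗ 𝒦.iota = 0 := LinearMap.ext 𝒦.del_iota
    rw [this, LinearMap.rTensor_zero, LinearMap.zero_apply]
  · rw [← LinearMap.rTensor_comp_apply]
    have : 𝒦.sig ∘ₗ 𝒦.iota = 𝒦.iota := LinearMap.ext 𝒦.sig_iota
    rw [this, ← LinearMap.comp_apply, LinearMap.lTensor_comp_rTensor,
      ← LinearMap.rTensor_comp_lTensor, LinearMap.comp_apply, hdz, map_zero]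

end Main

end Groth.Agent.Lib.helper19.KosZZ
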