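import Mathlib
import Groth.Agent.Lib.Helper19.KosZZ

set_option autoImplicit false

/-! # Uniform vanishing of `Tor_p(I^n M, N) → Tor_p(M, N)` (helper19)

`main`: `A` Noetherian, `M` finite, `N` killed by `I`: there is `n > 0` with
`Tor_p(I^n M, N) → Tor_p(M, N)` zero for all `p`.  Tools: total module `Tot C` of a chain complex
with `dTot`, `hTot`, `htpy_tot`, `component_dTot`; `homologyMap_eq_zero_of`; `nullHomotopy`. -/

universe u

namespace Groth.Agent.Lib.helper19.TorUnif
open CategoryTheory MonoidalCategory TensorProduct Groth.Agent.Lib.helper19.KosZZ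

variable {A : Type u} [CommRing A]

section Total
variable (C : ChainComplex (ModuleCat.{u} A) ℕ)

/-- the total module of a chain complex. -/
abbrev Tot : Type u := DirectSum ℕ (fun q => C.X q)

/-- the total differential. -/
noncomputable def dTot : Tot C →ₗ[A] Tot C :=
  DirectSum.toModule A ℕ _ (fun q => match q with
    | 0 => 0
    | q + 1 => (DirectSum.lof A ℕ (fun q => C.X q) q) ∘ₗ (C.d (q + 1) q).hom)

lemma dTot_lof_zero (x : C.X 0) : dTot C (DirectSum.lof A ℕ (fun q => C.X q) 0 x) = 0 := by
  unfold dTot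
  rw [DirectSum.toModule_lof]
  rfl

lemma dTot_lof_succ (q : ℕ) (x : C.X (q + 1)) :
    dTot C (DirectSum.lof A ℕ (fun q => C.X q) (q + 1) x) =
      DirectSum.lof A ℕ (fun q => C.X q) q ((C.d (q + 1) q).hom x) := by
  unfold dTot
  rw [DirectSum.toModule_lof]
  rfl

lemma d_d_apply (i j k : ℕ) (x : C.X i) : (C.d j k).hom ((C.d i j).hom x) = 0 := by
  have := congrArg (fun f => f.hom x) (C.d_comp_d i j k)
  exact this

lemma dTot_dTot : dTot C ∘ₗ dTot C = 0 := by
  apply DirectSum.linearMap_ext
  intro q
  ext x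
  cases q with
  | zero => simp [dTot_lof_zero]
  | succ q =>
    simp only [LinearMap.comp_apply, dTot_lof_succ, LinearMap.zero_comp, LinearMap.zero_apply]
    cases q with
    | zero => rw [dTot_lof_zero]
    | succ q => rw [dTot_lof_succ, d_d_apply, map_zero]

/-- the total operator of a family of degree `+1` maps. -/
noncomputable def hTot (hom : ∀ i j, C.X i ⟶ C.X j) : Tot C →ₗ[A] Tot C :=
  DirectSum.toModule A ℕ _ (fun q =>
    (DirectSum.lof A ℕ (fun q => C.X q) (q + 1)) ∘ₗ (hom q (q + 1)).hom)

lemma hTot_lof (hom : ∀ i j, C.X i ⟶ C.X j) (q : ℕ) (x : C.X q) :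
    hTot C hom (DirectSum.lof A ℕ (fun q => C.X q) q x) =
      DirectSum.lof A ℕ (fun q => C.X q) (q + 1) ((hom q (q + 1)).hom x) := by
  unfold hTot
  rw [DirectSum.toModule_lof]
  rfl

theorem htpy_tot (a : A) (H : Homotopy (a • 𝟙 C) 0) :
    dTot C ∘ₗ hTot C H.hom + hTot C H.hom ∘ₗ dTot C = a • LinearMap.id := by
  apply DirectSum.linearMap_ext
  intro q
  ext x
  cases q with
  | zero =>
    have hc := H.comm 0
    rw [Homotopy.dNext_zero_chainComplex, Homotopy.prevD_chainComplex, zero_add, HomologicalComplex.zero_f,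
      add_zero] at hc
    have hc' := congrArg (fun f => f.hom x) hc
    simp only [LinearMap.comp_apply, LinearMap.add_apply, hTot_lof, dTot_lof_succ, dTot_lof_zero,
      map_zero, add_zero, LinearMap.smul_apply, LinearMap.id_apply]
    have key : (C.d 1 0).hom ((H.hom 0 1).hom x) = a • x := by
      simpa using hc'.symm
    rw [key, map_smul]
  | succ q =>
    have hc := H.comm (q + 1)
    rw [Homotopy.dNext_succ_chainComplex, Homotopy.prevD_chainComplex, HomologicalComplex.zero_f, add_zero] at hc
    have hc' := congrArg (fun f => f.hom x) hc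
    simp only [LinearMap.comp_apply, LinearMap.add_apply, hTot_lof, dTot_lof_succ,
      LinearMap.smul_apply, LinearMap.id_apply]
    have key : (C.d (q + 1 + 1) (q + 1)).hom ((H.hom (q + 1) (q + 1 + 1)).hom x) +
        (H.hom q (q + 1)).hom ((C.d (q + 1) q).hom x) = a • x := by
      exact (add_comm _ _).trans (by simpa using hc'.symm)
    rw [← map_add, key, map_smul]

/-- degree `p + 1` component of a preimage under `dTot`. -/
theorem component_dTot (p : ℕ) (w : Tot C) :
    DirectSum.component A ℕ (fun q => C.X q) p (dTot C w) =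
      (C.d (p + 1) p).hom (DirectSum.component A ℕ (fun q => C.X q) (p + 1) w) := by
  classical
  have : (DirectSum.component A ℕ (fun q => C.X q) p) ∘ₗ dTot C =
      (C.d (p + 1) p).hom ∘ₗ (DirectSum.component A ℕ (fun q => C.X q) (p + 1)) := by
    apply DirectSum.linearMap_ext
    intro q
    ext x
    cases q with
    | zero =>
      simp only [LinearMap.comp_apply, dTot_lof_zero, map_zero]
      rw [DirectSum.component.of, dif_neg (by omega), map_zero]
    | succ q =>
      simp only [LinearMap.comp_apply, dTot_lof_succ]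
      by_cases h : q = p
      · subst h
        rw [DirectSum.component.lof_self, DirectSum.component.lof_self]
      · rw [DirectSum.component.of, dif_neg h, DirectSum.component.of,
          dif_neg (by omega), map_zero]
  exact congrArg (fun f => f w) this

end Total


section Cat

lemma flat_of_projective (P : ModuleCat.{u} A) [Projective P] : Module.Flat A P := by
  haveI : Module.Projective A P := (IsProjective.iff_projective P).2 inferInstance
  infer_instance

/-- a homology map vanishes if cycles are sent to boundaries. -/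
lemma homologyMap_eq_zero_of {K L : ChainComplex (ModuleCat.{u} A) ℕ} (φ : K ⟶ L) (p : ℕ)
    (h : ∀ x : K.X p, (∀ j, (K.d p j).hom x = 0) →
      ∃ y : L.X (p + 1), (L.d (p + 1) p).hom y = (φ.f p).hom x) :
    HomologicalComplex.homologyMap φ p = 0 := by
  rw [← cancel_epi (K.homologyπ p), HomologicalComplex.homologyπ_naturality, Limits.comp_zero]
  ext z
  obtain ⟨y, hy⟩ := h ((K.iCycles p).hom z) (fun j => by
    have := congrArg (fun f => f.hom z) (K.iCycles_d p j)
    exact this)
  have h2 : (HomologicalComplex.cyclesMap φ p).hom z = (L.toCycles (p + 1) p).hom y := by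
    apply (ModuleCat.mono_iff_injective (L.iCycles p)).1 inferInstance
    have e1 := congrArg (fun f => f.hom z) (HomologicalComplex.cyclesMap_i φ p)
    have e2 := congrArg (fun f => f.hom y) (L.toCycles_i (p + 1) p)
    simp only [ModuleCat.hom_comp, LinearMap.comp_apply] at e1 e2
    rw [e1, e2, hy]
  have h3 := congrArg (fun f => f.hom y) (L.toCycles_comp_homologyπ (p + 1) p)
  simp only [ModuleCat.hom_comp, LinearMap.comp_apply] at h3
  change (L.homologyπ p).hom ((HomologicalComplex.cyclesMap φ p).hom z) = 0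
  rw [h2]
  exact h3

/-- elements of `I` are null-homotopic on a projective resolution of a module killed by `I`. -/
noncomputable def nullHomotopy {N : Type u} [AddCommGroup N] [Module A N]
    (Q : ProjectiveResolution (ModuleCat.of A N)) (a : A) (ha : ∀ y : N, a • y = 0) :
    Homotopy (a • 𝟙 Q.complex) 0 :=
  ProjectiveResolution.liftHomotopyZero _ (by
    apply HomologicalComplex.to_single_hom_ext
    ext x
    simp only [HomologicalComplex.comp_f, HomologicalComplex.smul_f_apply,
      HomologicalComplex.id_f, ModuleCat.hom_comp, LinearMap.comp_apply]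
    change (Q.π.f 0).hom (a • x) = 0
    rw [map_smul]
    exact ha _)

end Cat


section Final
variable [IsNoetherianRing A]

theorem main (I : Ideal A) (M N : Type u) [AddCommGroup M] [Module A M] [Module.Finite A M]
    [AddCommGroup N] [Module A N] (hN : ∀ a ∈ I, ∀ y : N, a • y = 0) :
    ∃ n : ℕ, 0 < n ∧ ∀ p : ℕ,
      ((CategoryTheory.Tor (ModuleCat.{u} A) p).map
        (ModuleCat.ofHom (I ^ n • ⊤ : Submodule A M).subtype)).app (ModuleCat.of A N) = 0 := by
  classical
  obtain ⟨s, hs⟩ := (isNoetherianRing_iff_ideal_fg A).1 inferInstance I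
  have hl : Ideal.span {a | a ∈ s.toList} = I := by
    rw [← hs]
    congr 1
    ext a
    simp
  obtain ⟨n, hn, hmain⟩ := main_alg M s.toList
  rw [hl] at hmain
  refine ⟨n, hn, fun p => ?_⟩
  obtain ⟨Q⟩ : Nonempty (ProjectiveResolution (ModuleCat.of A N)) := HasProjectiveResolution.out
  change (NatTrans.leftDerived ((tensoringLeft (ModuleCat.{u} A)).map
    (ModuleCat.ofHom (I ^ n • ⊤ : Submodule A M).subtype)) p).app (ModuleCat.of A N) = 0
  rw [Q.leftDerived_app_eq]
  suffices h : HomologicalComplex.homologyMap ((NatTrans.mapHomologicalComplex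
      ((tensoringLeft (ModuleCat.{u} A)).map (ModuleCat.ofHom (I ^ n • ⊤ : Submodule A M).subtype))
      (ComplexShape.down ℕ)).app Q.complex) p = 0 by
    rw [HomologicalComplex.homologyFunctor_map, h]
    erw [Limits.zero_comp, Limits.comp_zero]
  apply homologyMap_eq_zero_of
  intro x0 hx
  obtain ⟨x, rfl⟩ : ∃ x : ↥(I ^ n • ⊤ : Submodule A M) ⊗[A] (Q.complex.X p), x = x0 := ⟨x0, rfl⟩
  -- the total module
  let C := Q.complex
  haveI : ∀ q, Module.Flat A (C.X q) := fun q => by
    haveI : Projective (C.X q) := Q.projective q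
    exact flat_of_projective (C.X q)
  have hh : ∀ a ∈ s.toList, ∃ h : Tot C →ₗ[A] Tot C,
      dTot C ∘ₗ h + h ∘ₗ dTot C = a • LinearMap.id := by
    intro a ha
    have haI : a ∈ I := by
      rw [← hs]
      exact Ideal.subset_span (by simpa using ha)
    exact ⟨_, htpy_tot C a (nullHomotopy Q a (hN a haI))⟩
  -- the cycle
  let g : ↥(I ^ n • ⊤ : Submodule A M) →ₗ[A] M := (I ^ n • ⊤ : Submodule A M).subtype
  have hx' : ∀ j, (LinearMap.lTensor ↥(I ^ n • ⊤ : Submodule A M) (C.d p j).hom) x = 0 := hx
  let z : M ⊗[A] Tot C :=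
    (DirectSum.lof A ℕ (fun q => C.X q) p).lTensor M (g.rTensor (C.X p) x)
  have hz1 : z ∈ RS (Tot C) (I ^ n • ⊤ : Submodule A M) := by
    refine ⟨(DirectSum.lof A ℕ (fun q => C.X q) p).lTensor _ x, ?_⟩
    change g.rTensor (Tot C) ((DirectSum.lof A ℕ (fun q => C.X q) p).lTensor _ x) =
      (DirectSum.lof A ℕ (fun q => C.X q) p).lTensor M (g.rTensor (C.X p) x)
    rw [← LinearMap.comp_apply, ← LinearMap.comp_apply, LinearMap.rTensor_comp_lTensor,
      LinearMap.lTensor_comp_rTensor]
  have hz2 : (dTot C).lTensor M z = 0 := by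
    change (dTot C).lTensor M ((DirectSum.lof A ℕ (fun q => C.X q) p).lTensor M _) = 0
    rw [← LinearMap.lTensor_comp_apply]
    cases p with
    | zero =>
      have : dTot C ∘ₗ DirectSum.lof A ℕ (fun q => C.X q) 0 = 0 :=
        LinearMap.ext fun y => dTot_lof_zero C y
      rw [this, LinearMap.lTensor_zero, LinearMap.zero_apply]
    | succ p =>
      have : dTot C ∘ₗ DirectSum.lof A ℕ (fun q => C.X q) (p + 1) =
          DirectSum.lof A ℕ (fun q => C.X q) p ∘ₗ (C.d (p + 1) p).hom :=
        LinearMap.ext fun y => dTot_lof_succ C p y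
      rw [this, LinearMap.lTensor_comp_apply]
      have h3 : (C.d (p + 1) p).hom.lTensor M (g.rTensor (C.X (p + 1)) x) = 0 := by
        rw [← LinearMap.comp_apply, LinearMap.lTensor_comp_rTensor,
          ← LinearMap.rTensor_comp_lTensor, LinearMap.comp_apply, hx' p, map_zero]
      rw [h3, map_zero]
  obtain ⟨w, hw⟩ := hmain (Tot C) (dTot C) (dTot_dTot C) hh z hz1 hz2
  refine ⟨(DirectSum.component A ℕ (fun q => C.X q) (p + 1)).lTensor M w, ?_⟩
  change (C.d (p + 1) p).hom.lTensor M _ = g.rTensor (C.X p) x
  rw [← LinearMap.lTensor_comp_apply]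
  have hcomp : (C.d (p + 1) p).hom ∘ₗ DirectSum.component A ℕ (fun q => C.X q) (p + 1) =
      DirectSum.component A ℕ (fun q => C.X q) p ∘ₗ dTot C :=
    LinearMap.ext fun v => (component_dTot C p v).symm
  rw [hcomp, LinearMap.lTensor_comp_apply, hw]
  change (DirectSum.component A ℕ (fun q => C.X q) p).lTensor M
    ((DirectSum.lof A ℕ (fun q => C.X q) p).lTensor M _) = _
  rw [← LinearMap.lTensor_comp_apply, DirectSum.component_comp_lof_same, LinearMap.lTensor_id,
    LinearMap.id_apply]

end Final

end Groth.Agent.Lib.helper19.TorUnif
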