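import Mathlib
import Groth.Agent.Lib.Helper13.TorBal6
import Groth.Agent.Lib.Helper19.TorUnif
import Groth.Agent.Lib.Helper19.TorDual1
import Groth.Agent.Lib.Helper19.ExtTorPair
set_option autoImplicit false

/-! `Ext`-effaceability vs `Tor`-effaceability of a map out of a finite module over a Noetherian ring
(helper19). `exists_of_homologyMap_eq_zero` (converse of `TorUnif.homologyMap_eq_zero_of`),
`tor_map_eq_zero_iff` (vanishing of `Tor_{m+1}(f, N)` in terms of a lift of `f` to projective
resolutions), `ext_comp_eq_zero_iff` (vanishing of `f^* : Ext^{m+1}(Y, N) → Ext^{m+1}(X, N)` in the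
derived category in terms of a lift), `main`. -/

universe u
open CategoryTheory
attribute [local instance] HasDerivedCategory.standard
namespace Groth.Agent.Lib.helper19.ExtTorGlue
open TensorProduct MonoidalCategory

variable {A : Type u} [CommRing A]

/-- converse of `homologyMap_eq_zero_of`. -/
lemma exists_of_homologyMap_eq_zero {K L : ChainComplex (ModuleCat.{u} A) ℕ} (φ : K ⟶ L) (p : ℕ)
    (h : HomologicalComplex.homologyMap φ p = 0)
    (x : K.X p) (hx : ∀ j, (K.d p j).hom x = 0) :
    ∃ y : L.X (p + 1), (L.d (p + 1) p).hom y = (φ.f p).hom x := by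
  have hS : (ShortComplex.mk (K.iCycles p) (K.d p ((ComplexShape.down ℕ).next p))
      (K.iCycles_d p _)).Exact :=
    ShortComplex.exact_of_f_is_kernel _ (K.cyclesIsKernel p _ rfl)
  obtain ⟨z, hz⟩ := (ShortComplex.moduleCat_exact_iff _).1 hS x (hx _)
  have hS2 : (ShortComplex.mk (L.toCycles (p + 1) p) (L.homologyπ p)
      (L.toCycles_comp_homologyπ (p + 1) p)).Exact :=
    ShortComplex.exact_of_g_is_cokernel _ (L.homologyIsCokernel (p + 1) p (by simp))
  have h1 : (L.homologyπ p).hom ((HomologicalComplex.cyclesMap φ p).hom z) = 0 := by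
    have e1 := congrArg (fun f => f.hom z) (HomologicalComplex.homologyπ_naturality φ p)
    simp only [ModuleCat.hom_comp, LinearMap.comp_apply] at e1
    rw [← e1, h]
    rfl
  obtain ⟨y, hy⟩ := (ShortComplex.moduleCat_exact_iff _).1 hS2 _ h1
  refine ⟨y, ?_⟩
  have e1 := congrArg (fun f => f.hom z) (HomologicalComplex.cyclesMap_i φ p)
  have e2 := congrArg (fun f => f.hom y) (L.toCycles_i (p + 1) p)
  simp only [ModuleCat.hom_comp, LinearMap.comp_apply] at e1 e2
  rw [← e2]
  change (L.iCycles p).hom ((L.toCycles (p + 1) p).hom y) = _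
  have hy' : (L.toCycles (p + 1) p).hom y = (HomologicalComplex.cyclesMap φ p).hom z := hy
  rw [hy', e1]
  congr 1

open Groth.Agent.Lib.helper19.TorUnif in
theorem tor_map_eq_zero_iff (N : Type u) [AddCommGroup N] [Module A N] {X Y : ModuleCat.{u} A}
    (f : X ⟶ Y) (P : ProjectiveResolution X) (Q : ProjectiveResolution Y)
    (g : P.complex ⟶ Q.complex) (w : g ≫ Q.π = P.π ≫ (ChainComplex.single₀ _).map f) (m : ℕ) :
    ((CategoryTheory.Tor (ModuleCat.{u} A) (m + 1)).map f).app (ModuleCat.of A N) = 0 ↔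
      ∀ z : N ⊗[A] P.complex.X (m + 1), (P.complex.d (m + 1) m).hom.lTensor N z = 0 →
        ∃ y : N ⊗[A] Q.complex.X (m + 2),
          (Q.complex.d (m + 2) (m + 1)).hom.lTensor N y = (g.f (m + 1)).hom.lTensor N z := by
  classical
  let B := Groth.Agent.Lib.helper13.TorBal.bal (A := A) (m + 1)
  have hnat := B.nat₁ f (ModuleCat.of A N)
  have h1 : ((CategoryTheory.Tor (ModuleCat.{u} A) (m + 1)).map f).app (ModuleCat.of A N) = 0 ↔
      ((CategoryTheory.Tor (ModuleCat.{u} A) (m + 1)).obj (ModuleCat.of A N)).map f = 0 := by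
    constructor
    · intro h
      rw [h, Limits.zero_comp] at hnat
      rw [← cancel_epi (B.iso X (ModuleCat.of A N)).hom, ← hnat, Limits.comp_zero]
    · intro h
      rw [h, Limits.comp_zero] at hnat
      rw [← cancel_mono (B.iso Y (ModuleCat.of A N)).hom, hnat, Limits.zero_comp]
  rw [h1]
  let G : ModuleCat.{u} A ⥤ ModuleCat.{u} A :=
    (tensoringLeft (ModuleCat.{u} A)).obj (ModuleCat.of A N)
  change (G.leftDerived (m + 1)).map f = 0 ↔ _
  rw [Functor.leftDerived_map_eq G (m + 1) f g w]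
  have h2 : (P.isoLeftDerivedObj G (m + 1)).hom ≫
        (G.mapHomologicalComplex _ ⋙ HomologicalComplex.homologyFunctor _ _ (m + 1)).map g ≫
          (Q.isoLeftDerivedObj G (m + 1)).inv = 0 ↔
      HomologicalComplex.homologyMap ((G.mapHomologicalComplex (ComplexShape.down ℕ)).map g)
        (m + 1) = 0 := by
    constructor
    · intro h
      change (G.mapHomologicalComplex _ ⋙
        HomologicalComplex.homologyFunctor _ _ (m + 1)).map g = 0
      rw [← cancel_epi (P.isoLeftDerivedObj G (m + 1)).hom,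
        ← cancel_mono (Q.isoLeftDerivedObj G (m + 1)).inv, Limits.comp_zero, Limits.zero_comp,
        Category.assoc]
      exact h
    · intro h
      rw [Functor.comp_map, HomologicalComplex.homologyFunctor_map, h]
      erw [Limits.zero_comp, Limits.comp_zero]
  rw [h2]
  constructor
  · intro h z hz
    exact exists_of_homologyMap_eq_zero _ (m + 1) h z (fun j => by
      by_cases hj : j + 1 = m + 1
      · obtain rfl : j = m := by omega
        exact hz
      · have : ((G.mapHomologicalComplex (ComplexShape.down ℕ)).obj P.complex).d (m + 1) j = 0 :=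
          HomologicalComplex.shape _ _ _ (by simpa using hj)
        rw [this]
        rfl)
  · intro h
    apply homologyMap_eq_zero_of
    intro x0 hx
    obtain ⟨x, rfl⟩ : ∃ x : N ⊗[A] (P.complex.X (m + 1)), x = x0 := ⟨x0, rfl⟩
    exact h x (hx m)

theorem ext_comp_eq_zero_iff {X Y : ModuleCat.{u} A} (f : X ⟶ Y) (P : ProjectiveResolution X)
    (Q : ProjectiveResolution Y) (g : P.complex ⟶ Q.complex)
    (w : g ≫ Q.π = P.π ≫ (ChainComplex.single₀ _).map f) (N : ModuleCat.{u} A) (m : ℕ)
    (k : ℤ) (hk : k = ((m + 1 : ℕ) : ℤ)) :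
    (∀ φ : (DerivedCategory.singleFunctor (ModuleCat.{u} A) 0).obj Y ⟶
        ((DerivedCategory.singleFunctor (ModuleCat.{u} A) 0).obj N)⟦k⟧,
      (DerivedCategory.singleFunctor (ModuleCat.{u} A) 0).map f ≫ φ = 0) ↔
    (∀ c : Q.complex.X (m + 1) ⟶ N, Q.complex.d (m + 2) (m + 1) ≫ c = 0 →
      ∃ b : P.complex.X m ⟶ N, P.complex.d (m + 1) m ≫ b = g.f (m + 1) ≫ c) := by
  subst hk
  let φH : ProjectiveResolution.Hom P Q f := ⟨g, by
    have := congrArg (fun t => t.f 0) w
    exact this⟩
  constructor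
  · intro h c hc
    let z : Abelian.Ext.{u} Y N (m + 1) := Q.extMk c (m + 2) rfl hc
    have h0 := h z.hom
    have e := ProjectiveResolution.mk₀_comp_extMk c (m + 2) rfl hc φH
    have e0 : (Abelian.Ext.mk₀ f).comp z (zero_add _) = 0 := by
      apply Abelian.Ext.ext
      rw [Abelian.Ext.comp_hom, Abelian.Ext.mk₀_hom, ShiftedHom.mk₀_comp, Abelian.Ext.zero_hom]
      exact h0
    rw [e] at e0
    exact (P.extMk_eq_zero_iff _ (m + 2) rfl _ m rfl).1 e0
  · intro h φ
    let z : Abelian.Ext.{u} Y N (m + 1) := Abelian.Ext.homEquiv.symm φ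
    obtain ⟨c, hc, hz⟩ := Q.extMk_surjective z (m + 2) rfl
    obtain ⟨b, hb⟩ := h c hc
    have e0 : (Abelian.Ext.mk₀ f).comp z (zero_add _) = 0 := by
      rw [← hz, ProjectiveResolution.mk₀_comp_extMk c (m + 2) rfl hc φH,
        P.extMk_eq_zero_iff _ (m + 2) rfl _ m rfl]
      exact ⟨b, hb⟩
    have h1 := congrArg Abelian.Ext.hom e0
    rw [Abelian.Ext.comp_hom, Abelian.Ext.mk₀_hom, ShiftedHom.mk₀_comp, Abelian.Ext.zero_hom] at h1
    have h2 : z.hom = φ := Equiv.apply_symm_apply _ _
    rw [h2] at h1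
    exact h1


open Groth.Agent.Lib.helper19.ExtTorPair in
theorem main (R : Type u) [CommRing R] [IsNoetherianRing R] (M M' : Type u) [AddCommGroup M]
    [Module R M] [Module.Finite R M] [AddCommGroup M'] [Module R M'] (α : M →ₗ[R] M') (e : ℕ) :
    (∀ (N : Type u) [AddCommGroup N] [Module R N]
      (φ : (DerivedCategory.singleFunctor (ModuleCat.{u} R) 0).obj (ModuleCat.of R M') ⟶
        ((DerivedCategory.singleFunctor (ModuleCat.{u} R) 0).obj (ModuleCat.of R N))⟦((e : ℤ) + 1)⟧),
      (DerivedCategory.singleFunctor (ModuleCat.{u} R) 0).map (ModuleCat.ofHom α) ≫ φ = 0) ↔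
    (∀ (N : Type u) [AddCommGroup N] [Module R N],
      ((CategoryTheory.Tor (ModuleCat.{u} R) (e + 1)).map (ModuleCat.ofHom α)).app
        (ModuleCat.of R N) = 0) := by
  classical
  obtain ⟨Fres⟩ := Groth.Agent.Lib.helper19.TorDual.exists_res (A := R) M
  let F := Fres.projRes
  obtain ⟨P'⟩ : Nonempty (ProjectiveResolution (ModuleCat.of R M')) := HasProjectiveResolution.out
  let a := ProjectiveResolution.lift (ModuleCat.ofHom α) F P'
  have w : a ≫ P'.π = F.π ≫ (ChainComplex.single₀ _).map (ModuleCat.ofHom α) :=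
    ProjectiveResolution.lift_commutes _ _ _
  have hk : ((e : ℤ) + 1) = ((e + 1 : ℕ) : ℤ) := by push_cast; rfl
  constructor
  · intro hE N _ _
    rw [tor_map_eq_zero_iff N (ModuleCat.ofHom α) F P' a w e]
    intro z hz
    refine tor_of_ext N (F.complex.d (e + 1) e).hom (a.f (e + 1)).hom
      (P'.complex.d (e + 2) (e + 1)).hom ?_ z hz
    intro f hf
    have hE' := (ext_comp_eq_zero_iff (ModuleCat.ofHom α) F P' a w
      (ModuleCat.of R (CharacterModule N)) e ((e : ℤ) + 1) hk).1
        (fun φ => hE (CharacterModule N) φ)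
    obtain ⟨b, hb⟩ := hE' (ModuleCat.ofHom f) (by
      apply ModuleCat.hom_ext
      exact hf)
    refine ⟨b.hom, ?_⟩
    have := congrArg ModuleCat.Hom.hom hb
    exact this
  · intro hT N _ _ φ
    refine (ext_comp_eq_zero_iff (ModuleCat.ofHom α) F P' a w (ModuleCat.of R N) e
      ((e : ℤ) + 1) hk).2 ?_ φ
    intro c hc
    have hT' := (tor_map_eq_zero_iff (CharacterModule N) (ModuleCat.ofHom α) F P' a w e).1
      (hT (CharacterModule N))
    obtain ⟨g, hg⟩ := ext_of_tor N (Fres.rk e) (Fres.rk (e + 1))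
      (F.complex.d (e + 1) e).hom (a.f (e + 1)).hom (P'.complex.d (e + 2) (e + 1)).hom
      hT' c.hom (by
        have := congrArg ModuleCat.Hom.hom hc
        exact this)
    refine ⟨ModuleCat.ofHom g, ?_⟩
    apply ModuleCat.hom_ext
    exact hg

end Groth.Agent.Lib.helper19.ExtTorGlue
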