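import Mathlib
import Groth.Agent.Lib.Helper19.LCBridge
import Groth.Agent.Lib.Helper19.LCLes
import Groth.Agent.LibDT29c

/-!
# helper19: `coker (M → D_I(M)) ≃ H^1_I(M)` (uses helper29's `LibDT29`).
-/

open CategoryTheory Limits Opposite

universe u

namespace Groth.Agent.Lib.helper19.LCDT

open Groth.Agent.Lib.helper19.LCBridge Groth.Agent.Lib.helper19.LCLes Groth.Agent.LibDT29

variable {R : Type u} [CommRing R] (I : Ideal R) (M : Type u) [AddCommGroup M] [Module R M]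

/-- SES `0 → I^n → R → R/I^n → 0` -/
noncomputable def sesPow (n : ℕ) : ShortComplex (ModuleCat.{u} R) :=
  ShortComplex.mk (ModuleCat.ofHom (Submodule.subtype (I ^ n)))
    (ModuleCat.ofHom (Submodule.mkQ (I ^ n))) (by
      apply ModuleCat.hom_ext
      apply LinearMap.ext
      intro x
      exact (Submodule.Quotient.mk_eq_zero _).2 x.2)

lemma sesPow_shortExact (n : ℕ) : (sesPow I n).ShortExact :=
  ModuleCat.shortComplex_shortExact _ (LinearMap.exact_subtype_mkQ _)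
    (Submodule.injective_subtype _) (Submodule.mkQ_surjective _)

/-- the map of SES for `n ≤ k` -/
noncomputable def sesPowMap {n k : ℕ} (h : n ≤ k) : sesPow I k ⟶ sesPow I n :=
  ShortComplex.homMk (ModuleCat.ofHom (Submodule.inclusion (Ideal.pow_le_pow_right h)))
    (𝟙 _) (quotMap I h) (by
      apply ModuleCat.hom_ext
      apply LinearMap.ext
      intro x
      rfl) (by
      apply ModuleCat.hom_ext
      apply LinearMap.ext
      intro x
      rfl)

/-- the extension class of `0 → I^n → R → R/I^n → 0` -/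
noncomputable def ec (n : ℕ) : Abelian.Ext.{u} (Q I n) (ModuleCat.of R ↥(I ^ n)) 1 :=
  (sesPow_shortExact I n).extClass

lemma ec_naturality {n k : ℕ} (h : n ≤ k) :
    (ec I k).comp (Abelian.Ext.mk₀ (ModuleCat.ofHom (Submodule.inclusion (Ideal.pow_le_pow_right h))))
      (add_zero 1) = (Abelian.Ext.mk₀ (quotMap I h)).comp (ec I n) (zero_add 1) :=
  ShortComplex.ShortExact.extClass_naturality (sesPow_shortExact I k)
    (sesPow_shortExact I n) (sesPowMap I h)

/-- the connecting map `Hom(I^n, M) → Ext^1(R/I^n, M)` -/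
noncomputable def δ (n : ℕ) (f : ↥(I ^ n) →ₗ[R] M) : Abelian.Ext.{u} (Q I n) (ModuleCat.of R M) 1 :=
  (ec I n).comp (Abelian.Ext.mk₀ (ModuleCat.ofHom f)) (add_zero 1)

lemma δ_add (n : ℕ) (f g : ↥(I ^ n) →ₗ[R] M) : δ I M n (f + g) = δ I M n f + δ I M n g := by
  unfold δ
  rw [ModuleCat.ofHom_add, Abelian.Ext.mk₀_add, Abelian.Ext.comp_add]

lemma δ_smul (n : ℕ) (r : R) (f : ↥(I ^ n) →ₗ[R] M) : δ I M n (r • f) = r • δ I M n f := by
  unfold δ
  have h : ModuleCat.ofHom (r • f) = r • ModuleCat.ofHom f := rfl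
  rw [h, Abelian.Ext.mk₀_smul, Abelian.Ext.comp_smul]

lemma δ_restrict {n k : ℕ} (h : n ≤ k) (f : ↥(I ^ n) →ₗ[R] M) :
    δ I M k (f ∘ₗ Submodule.inclusion (Ideal.pow_le_pow_right h)) =
      (Abelian.Ext.mk₀ (quotMap I h)).comp (δ I M n f) (zero_add 1) := by
  unfold δ
  have h1 : ModuleCat.ofHom (f ∘ₗ Submodule.inclusion (Ideal.pow_le_pow_right h)) =
      ModuleCat.ofHom (Submodule.inclusion (Ideal.pow_le_pow_right h)) ≫ ModuleCat.ofHom f := rfl
  rw [h1, ← Abelian.Ext.mk₀_comp_mk₀, ← Abelian.Ext.comp_assoc_of_second_deg_zero, ec_naturality,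
    Abelian.Ext.comp_assoc_of_third_deg_zero]

/-- the class map at level `n` -/
noncomputable def Φ0 (n : ℕ) (f : ↥(I ^ n) →ₗ[R] M) :
    ((localCohomology I 1).obj (ModuleCat.of R M) : ModuleCat.{u} R) :=
  toH' I 1 (ModuleCat.of R M) n (δ I M n f)

lemma Φ0_restrict {n k : ℕ} (h : n ≤ k) (f : ↥(I ^ n) →ₗ[R] M) :
    Φ0 I M k (f ∘ₗ Submodule.inclusion (Ideal.pow_le_pow_right h)) = Φ0 I M n f := by
  unfold Φ0
  rw [δ_restrict I M h, toH'_comp I 1 _ h]

lemma Φ0_congr {n m : ℕ} (f : ↥(I ^ n) →ₗ[R] M) (g : ↥(I ^ m) →ₗ[R] M)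
    (h : rep I (ModuleCat.of R M) n f = rep I (ModuleCat.of R M) m g) :
    Φ0 I M n f = Φ0 I M m g := by
  obtain ⟨k, hn, hm, hk⟩ := (rep_eq_iff I (ModuleCat.of R M) n m f g).1 h
  rw [← Φ0_restrict I M hn f, ← Φ0_restrict I M hm g, hk]

/-- the map `D_I(M) → H^1_I(M)` -/
noncomputable def Φ : LocCoh.DT I M →ₗ[R] ((localCohomology I 1).obj (ModuleCat.of R M) : ModuleCat.{u} R) where
  toFun x := Φ0 I M (rep_surj I (ModuleCat.of R M) x).choose
    (rep_surj I (ModuleCat.of R M) x).choose_spec.choose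
  map_add' x y := by
    have hΦ : ∀ (z : LocCoh.DT I M) (n : ℕ) (f : ↥(I ^ n) →ₗ[R] M),
        rep I (ModuleCat.of R M) n f = z →
        Φ0 I M (rep_surj I (ModuleCat.of R M) z).choose
          (rep_surj I (ModuleCat.of R M) z).choose_spec.choose = Φ0 I M n f := by
      intro z n f hz
      apply Φ0_congr
      rw [(rep_surj I (ModuleCat.of R M) z).choose_spec.choose_spec, hz]
    obtain ⟨n, f, hf⟩ := rep_surj I (ModuleCat.of R M) x
    obtain ⟨m, g, hg⟩ := rep_surj I (ModuleCat.of R M) y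
    have hn := le_max_left n m
    have hm := le_max_right n m
    rw [hΦ x _ _ ((rep_restrict I (ModuleCat.of R M) hn f).symm.trans hf),
      hΦ y _ _ ((rep_restrict I (ModuleCat.of R M) hm g).symm.trans hg),
      hΦ (x + y) (max n m) (f ∘ₗ Submodule.inclusion (Ideal.pow_le_pow_right hn) +
        g ∘ₗ Submodule.inclusion (Ideal.pow_le_pow_right hm)) (by
        rw [rep_add, ← rep_restrict I _ hn, ← rep_restrict I _ hm, hf, hg])]
    unfold Φ0
    rw [δ_add, map_add]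
  map_smul' r x := by
    have hΦ : ∀ (z : LocCoh.DT I M) (n : ℕ) (f : ↥(I ^ n) →ₗ[R] M),
        rep I (ModuleCat.of R M) n f = z →
        Φ0 I M (rep_surj I (ModuleCat.of R M) z).choose
          (rep_surj I (ModuleCat.of R M) z).choose_spec.choose = Φ0 I M n f := by
      intro z n f hz
      apply Φ0_congr
      rw [(rep_surj I (ModuleCat.of R M) z).choose_spec.choose_spec, hz]
    obtain ⟨n, f, hf⟩ := rep_surj I (ModuleCat.of R M) x
    rw [hΦ x _ _ hf, hΦ (r • x) n (r • f) (by rw [rep_smul, hf]), RingHom.id_apply]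
    unfold Φ0
    rw [δ_smul, map_smul]

lemma Φ_rep (n : ℕ) (f : ↥(I ^ n) →ₗ[R] M) :
    Φ I M (rep I (ModuleCat.of R M) n f) = Φ0 I M n f := by
  apply Φ0_congr
  exact (rep_surj I (ModuleCat.of R M) _).choose_spec.choose_spec

instance projR : Projective (ModuleCat.of R R) :=
  (IsProjective.iff_projective (R := R) (P := R)).1 inferInstance

lemma Φ_surjective : Function.Surjective (Φ I M) := by
  intro y
  obtain ⟨n, z, rfl⟩ := toH'_surj I 1 (ModuleCat.of R M) y
  have hz : (Abelian.Ext.mk₀ (sesPow I n).g).comp z (zero_add 1) = 0 :=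
    @Abelian.Ext.eq_zero_of_projective _ _ _ _ (ModuleCat.of R R) _ _ projR _
  obtain ⟨x₁, hx₁⟩ := Abelian.Ext.contravariant_sequence_exact₃ (sesPow_shortExact I n) _ z hz
    (add_zero 1)
  obtain ⟨φ, rfl⟩ := (Abelian.Ext.mk₀_bijective _ _).2 x₁
  refine ⟨rep I (ModuleCat.of R M) n φ.hom, ?_⟩
  rw [Φ_rep]
  unfold Φ0
  congr 1

lemma δ_smulMap (n : ℕ) (m : M) : δ I M n (smulMap I M n m) = 0 := by
  unfold δ
  have h1 : ModuleCat.ofHom (smulMap I M n m) =
      ModuleCat.ofHom (Submodule.subtype (I ^ n)) ≫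
        ModuleCat.ofHom ((LinearMap.lsmul R M).flip m) := rfl
  have h2 : (ec I n).comp (Abelian.Ext.mk₀ (ModuleCat.ofHom (Submodule.subtype (I ^ n))))
      (add_zero 1) = 0 := (sesPow_shortExact I n).extClass_comp
  rw [h1, ← Abelian.Ext.mk₀_comp_mk₀, ← Abelian.Ext.comp_assoc_of_second_deg_zero, h2,
    Abelian.Ext.zero_comp]

lemma Φ_toDT (m : M) : Φ I M (LocCoh.toDT I M m) = 0 := by
  rw [toDT_eq_rep' I M 0 m, Φ_rep]
  unfold Φ0
  rw [δ_smulMap, map_zero]

lemma Φ_ker : LinearMap.ker (Φ I M) = LinearMap.range (LocCoh.toDT I M) := by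
  apply le_antisymm
  · intro x hx
    obtain ⟨n, f, rfl⟩ := rep_surj I (ModuleCat.of R M) x
    rw [LinearMap.mem_ker, Φ_rep] at hx
    unfold Φ0 at hx
    rw [toH'_eq_zero_iff] at hx
    obtain ⟨k, h, hk⟩ := hx
    rw [← δ_restrict I M h] at hk
    unfold δ ec at hk
    obtain ⟨x₂, hx₂⟩ := Abelian.Ext.contravariant_sequence_exact₁ (sesPow_shortExact I k) _
      (Abelian.Ext.mk₀ (ModuleCat.ofHom (f ∘ₗ Submodule.inclusion (Ideal.pow_le_pow_right h))))
      (add_zero 1) hk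
    obtain ⟨g, rfl⟩ := (Abelian.Ext.mk₀_bijective _ _).2 x₂
    rw [Abelian.Ext.mk₀_comp_mk₀] at hx₂
    have h3 := (Abelian.Ext.mk₀_bijective _ _).1 hx₂
    refine ⟨g.hom (1 : R), ?_⟩
    rw [toDT_eq_rep' I M k, rep_restrict I (ModuleCat.of R M) h f]
    congr 1
    apply LinearMap.ext
    intro a
    have h4 : g.hom (a : R) = (f ∘ₗ Submodule.inclusion (Ideal.pow_le_pow_right h)) a :=
      congrArg (fun t => t.hom a) h3
    rw [← h4]
    change (a : R) • g.hom (1 : R) = _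
    have h5 : g.hom ((a : R) • (1 : R)) = (a : R) • g.hom (1 : R) := map_smul g.hom (a : R) (1 : R)
    rw [← h5, smul_eq_mul, mul_one]
  · rintro x ⟨m, rfl⟩
    exact Φ_toDT I M m

/-- coker of `toDT` is `H^1`. -/
noncomputable def cokerEquiv :
    (LocCoh.DT I M ⧸ LinearMap.range (LocCoh.toDT I M)) ≃ₗ[R]
      ((localCohomology I 1).obj (ModuleCat.of R M) : ModuleCat.{u} R) :=
  (Submodule.quotEquivOfEq _ _ (Φ_ker I M).symm) ≪≫ₗ
    (Φ I M).quotKerEquivOfSurjective (Φ_surjective I M)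


end Groth.Agent.Lib.helper19.LCDT
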