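import Mathlib
import Groth.Prelude.Def_Wider
import Groth.Agent.Lib.Helper26.Depth7
import Groth.Agent.Lib.Helper26.PDQuot
import Groth.Agent.Lib.Helper26.ProjDimRegular
import Groth.Agent.Lib.Helper26.DepthLoc3
import Groth.Agent.Lib.Helper23.RegPD
set_option autoImplicit false

/-! # Faltings' annihilator theorem, part 2 (helper19): projective dimension versus depth over
regular rings; transport of depth and heights to localizations

* `pd_add_depth` : Auslander–Buchsbaum over a regular local ring in the form `pd N + depth N = dim A`.
* `pd_lt_iff` : `pd N < t ↔ N = 0 ∨ dim A < t + depth N`.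
* `pdAt_lt_iff` : the same at a prime of a regular ring.
* `isClosed_setOf_not_pd_lt` : `{p | ¬ pd M_p < t}` is closed.
* `depth_loc_loc`, `height_comap_eq`, `height_sup_le` : transport to `Localization S`.
-/

universe u

namespace Groth.Agent.Lib.helper19.Falt
open CategoryTheory IsLocalRing LocCoh Groth.Agent.Lib.helper26.Depth

section localRing
variable (A : Type u) [CommRing A] [IsRegularLocalRing A] (N : Type u) [AddCommGroup N]
  [Module A N] [Module.Finite A N]

theorem pd_add_depth [Nontrivial N] (h : ℕ∞) (hh : ringKrullDim A = (h : WithBot ℕ∞)) :
    ∃ k : ℕ, projectiveDimension (ModuleCat.of A N) = (k : WithBot ℕ∞) ∧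
      (k : ℕ∞) + depth A N = h := by
  have h1 : HasProjectiveDimensionLE (ModuleCat.of A N) (maximalIdeal A).spanFinrank :=
    Groth.Agent.Lib.helper26.PDReg.hasProjectiveDimensionLE_of_isRegularLocalRing _ A rfl N
  have hne : projectiveDimension (ModuleCat.of A N) ≠ ⊤ :=
    (projectiveDimension_ne_top_iff _).mpr ⟨_, h1⟩
  obtain ⟨k, hk⟩ := Groth.Agent.Lib.helper26.PDQuot.exists_nat_projectiveDimension (A := A) N hne
  have hAB := auslander_buchsbaum (A := A) k N hk
  have hreg := depth_eq_ringKrullDim_of_isRegularLocalRing A
  refine ⟨k, hk, ?_⟩
  rw [hh] at hreg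
  have := WithBot.coe_injective hreg
  rw [← hAB]
  exact this

theorem pd_lt_iff (h : ℕ∞) (hh : ringKrullDim A = (h : WithBot ℕ∞)) (t : ℕ) :
    HasProjectiveDimensionLT (ModuleCat.of A N) t ↔ (Subsingleton N ∨ h < t + depth A N) := by
  rcases subsingleton_or_nontrivial N with hsub | hnt
  · constructor
    · intro _; exact Or.inl hsub
    · intro _
      have hz : Limits.IsZero (ModuleCat.of A N) := ModuleCat.isZero_of_subsingleton _
      haveI := hz.hasProjectiveDimensionLT_zero
      exact hasProjectiveDimensionLT_of_ge _ 0 t (Nat.zero_le t)
  · obtain ⟨k, hk, hkd⟩ := pd_add_depth A N h hh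
    have hδ : depth A N ≠ ⊤ := depth_ne_top N
    have hns : ¬ Subsingleton N := not_subsingleton N
    rw [← projectiveDimension_lt_iff, hk, ← hkd]
    constructor
    · intro hlt
      right
      have hkt : k < t := by exact_mod_cast hlt
      exact (ENat.add_lt_add_iff_right hδ).2 (by exact_mod_cast hkt)
    · rintro (h' | h')
      · exact absurd h' hns
      · have := (ENat.add_lt_add_iff_right hδ).1 h'
        have hkt : k < t := by exact_mod_cast this
        exact_mod_cast hkt

end localRing

section atPrime
variable {R : Type u} [CommRing R] [IsNoetherianRing R] (M : Type u) [AddCommGroup M] [Module R M]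
  [Module.Finite R M]

omit [IsNoetherianRing R] in
theorem pdAt_lt_iff (p : Ideal R) [p.IsPrime] [IsRegularLocalRing (Localization.AtPrime p)]
    (t : ℕ) :
    HasProjectiveDimensionLT (ModuleCat.of (Localization.AtPrime p)
      (LocalizedModule p.primeCompl M)) t ↔
      (Subsingleton (LocalizedModule p.primeCompl M) ∨
        p.height < t + depth (Localization.AtPrime p) (LocalizedModule p.primeCompl M)) :=
  pd_lt_iff (Localization.AtPrime p) (LocalizedModule p.primeCompl M) p.height
    (IsLocalization.AtPrime.ringKrullDim_eq_height p (Localization.AtPrime p)) t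

/-- the set of primes at which `pd M_p ≥ t` is closed -/
theorem isClosed_setOf_not_pd_lt (t : ℕ) :
    IsClosed {p : PrimeSpectrum R | ¬ HasProjectiveDimensionLT
      (ModuleCat.of (Localization.AtPrime p.asIdeal)
        (LocalizedModule p.asIdeal.primeCompl M)) t} := by
  cases t with
  | zero =>
    have : {p : PrimeSpectrum R | ¬ HasProjectiveDimensionLT
        (ModuleCat.of (Localization.AtPrime p.asIdeal)
          (LocalizedModule p.asIdeal.primeCompl M)) 0} = Module.support R M := by
      ext p
      rw [Set.mem_ofPred_eq, hasProjectiveDimensionLT_zero_iff_isZero, Module.mem_support_iff,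
        ← not_subsingleton_iff_nontrivial]
      constructor
      · intro h hs
        exact h (ModuleCat.isZero_of_subsingleton _)
      · intro h hz
        exact h (ModuleCat.subsingleton_of_isZero hz)
    rw [this, Module.support_eq_zeroLocus]
    exact PrimeSpectrum.isClosed_zeroLocus _
  | succ k =>
    have hopen := Groth.Agent.Lib.helper23.RegPD.isOpen_pdLocus k (ModuleCat.of R M)
    have : {p : PrimeSpectrum R | ¬ HasProjectiveDimensionLT
        (ModuleCat.of (Localization.AtPrime p.asIdeal)
          (LocalizedModule p.asIdeal.primeCompl M)) (k + 1)} =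
        (Groth.Agent.Lib.helper23.RegPD.pdLocus (ModuleCat.of R M) k)ᶜ := by
      ext p
      rw [Set.mem_ofPred_eq, Set.mem_compl_iff]
      apply not_congr
      let e : ((ModuleCat.of R M).localizedModule p.asIdeal.primeCompl) ≃ₗ[Localization.AtPrime p.asIdeal]
          LocalizedModule p.asIdeal.primeCompl M :=
        Shrink.linearEquiv (Localization.AtPrime p.asIdeal) (LocalizedModule p.asIdeal.primeCompl M)
      constructor
      · intro h
        exact hasProjectiveDimensionLT_of_iso e.toModuleIso.symm _
      · intro h
        have h' : HasProjectiveDimensionLT ((ModuleCat.of R M).localizedModule p.asIdeal.primeCompl)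
            (k + 1) := h
        exact hasProjectiveDimensionLT_of_iso e.toModuleIso _
    rw [this]
    exact hopen.isClosed_compl

end atPrime

section transport
variable {R : Type u} [CommRing R] [IsNoetherianRing R] (S : Submonoid R)
  (M : Type u) [AddCommGroup M] [Module R M] [Module.Finite R M]

/-- localizing `S⁻¹M` at a prime `P` of `S⁻¹R` gives the localization of `M` at `P ∩ R`. -/
theorem depth_loc_loc (P : Ideal (Localization S)) [P.IsPrime] :
    depth (Localization.AtPrime P) (LocalizedModule P.primeCompl (LocalizedModule S M)) =
      depth (Localization.AtPrime (P.comap (algebraMap R (Localization S))))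
        (LocalizedModule (P.comap (algebraMap R (Localization S))).primeCompl M) := by
  let f0 : M →ₗ[R] LocalizedModule S M := LocalizedModule.mkLinearMap S M
  let g : LocalizedModule S M →ₗ[Localization S]
      LocalizedModule P.primeCompl (LocalizedModule S M) :=
    LocalizedModule.mkLinearMap P.primeCompl (LocalizedModule S M)
  have hf0 : IsBaseChange (Localization S) f0 := IsLocalizedModule.isBaseChange S _ f0
  have hg : IsBaseChange (Localization.AtPrime P) g :=
    IsLocalizedModule.isBaseChange P.primeCompl _ g
  have hfg := IsBaseChange.comp hf0 hg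
  haveI : IsLocalization.AtPrime (Localization.AtPrime P)
      (P.comap (algebraMap R (Localization S))) :=
    IsLocalization.isLocalization_isLocalization_atPrime_isLocalization S (Localization.AtPrime P) P
  have hloc : IsLocalizedModule (P.comap (algebraMap R (Localization S))).primeCompl
      ((g.restrictScalars R).comp f0) :=
    (isLocalizedModule_iff_isBaseChange
      (P.comap (algebraMap R (Localization S))).primeCompl (Localization.AtPrime P) _).mpr hfg
  exact depth_eq_of_isLocalizedModule (P.comap (algebraMap R (Localization S))) M
    (Localization.AtPrime P) _ ((g.restrictScalars R).comp f0)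

omit [IsNoetherianRing R] in
theorem height_comap_eq (P : Ideal (Localization S)) :
    (P.comap (algebraMap R (Localization S))).height = P.height :=
  IsLocalization.height_under S P

omit [IsNoetherianRing R] in
theorem height_sup_le (a : Ideal R) (P : Ideal (Localization S)) :
    (a ⊔ P.comap (algebraMap R (Localization S))).height ≤
      (a.map (algebraMap R (Localization S)) ⊔ P).height := by
  rw [← IsLocalization.height_under S (a.map (algebraMap R (Localization S)) ⊔ P)]
  apply Ideal.height_mono
  refine sup_le ?_ ?_
  · exact (Ideal.le_comap_map).trans (Ideal.comap_mono le_sup_left)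
  · exact Ideal.comap_mono le_sup_right

end transport

end Groth.Agent.Lib.helper19.Falt
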