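import Mathlib
import Groth.Prelude.Def_Wider
import Groth.Prelude.Def_W4bk5brsh7111920
import Groth.Prelude.Def_SGA2
import Groth.Agent.Lib.Helper19.Falt5
import Groth.Agent.Lib.Helper19.DimF
import Groth.Agent.Lib.Helper26.Depth5
import Groth.Agent.Lib.Helper26.DepthLoc
set_option autoImplicit false

/-! # Faltings' annihilator theorem, part 6 (helper19): the Cohen–Macaulay case of the finiteness
criterion (SGA 2 VIII 2.3, affine form).
-/

universe u

namespace Groth.Agent.Lib.helper19.Falt
open CategoryTheory LocCoh IsLocalRing Groth.Agent.Lib.helper26.Depth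
open Groth.Agent.Lib.helper19.QuotHeight

section CM
variable {A : Type u} [CommRing A] [IsNoetherianRing A] (M : Type u) [AddCommGroup M] [Module A M]
  [Module.Finite A M]

omit [IsNoetherianRing A] in
/-- the dimension of `A_p / p0 A_p` is the height of `p/p0` -/
theorem ringKrullDim_quot_map_eq (p0 p : Ideal A) [p0.IsPrime] [p.IsPrime] (hle : p0 ≤ p) :
    ringKrullDim (Localization.AtPrime p ⧸ p0.map (algebraMap A (Localization.AtPrime p))) =
      ((p.map (Ideal.Quotient.mk p0)).height : WithBot ℕ∞) := by
  haveI := map_mk_isPrime p0 p hle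
  haveI : IsLocalization.AtPrime
      (Localization.AtPrime p ⧸ p0.map (algebraMap A (Localization.AtPrime p)))
      (p.map (Ideal.Quotient.mk p0)) := by
    show IsLocalization (p.map (Ideal.Quotient.mk p0)).primeCompl _
    rw [← Groth.Agent.Lib.helper19.DimF.algebraMapSubmonoid_primeCompl p0 p hle]
    infer_instance
  exact IsLocalization.AtPrime.ringKrullDim_eq_height (p.map (Ideal.Quotient.mk p0)) _

/-- for a Cohen–Macaulay localization `M_p` and a minimal prime `p0 ⊆ p` of the support,
`depth M_p = ht(p/p0)` -/
theorem depth_eq_height_quot_of_CM (p0 p : Ideal A) [p0.IsPrime] [p.IsPrime] (hle : p0 ≤ p)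
    (hmin : p0 ∈ (Module.annihilator A M).minimalPrimes)
    (hCM : IsCohenMacaulayModule (Localization.AtPrime p) (LocalizedModule p.primeCompl M)) :
    depth (Localization.AtPrime p) (LocalizedModule p.primeCompl M) =
      (p.map (Ideal.Quotient.mk p0)).height := by
  set B := Localization.AtPrime p with hB
  set N := LocalizedModule p.primeCompl M with hN
  have hdisj : Disjoint (p.primeCompl : Set A) (p0 : Set A) := by
    rw [Set.disjoint_left]
    intro x hx hx0
    exact hx (hle hx0)
  set P0 : Ideal B := p0.map (algebraMap A B) with hP0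
  haveI hP0p : P0.IsPrime :=
    IsLocalization.isPrime_of_isPrime_disjoint p.primeCompl B p0 inferInstance hdisj
  have hcomap : P0.comap (algebraMap A B) = p0 :=
    IsLocalization.under_map_of_isPrime_disjoint p.primeCompl B inferInstance hdisj
  have hass0 : p0 ∈ associatedPrimes A M :=
    Module.associatedPrimes.minimalPrimes_annihilator_subset_associatedPrimes A M hmin
  have hass : P0 ∈ associatedPrimes B N :=
    Module.associatedPrimes.mem_associatedPrimes_of_comap_mem_associatedPrimes_of_isLocalizedModule
      p.primeCompl (LocalizedModule.mkLinearMap p.primeCompl M) P0 (by rw [hcomap]; exact hass0)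
  have h1 := depth_le_ringKrullDim_quotient_of_mem_associatedPrimes N P0 hass
  have h2 : ringKrullDim (B ⧸ P0) ≤ Module.supportDim B N := by
    obtain ⟨hprime, f, hf⟩ := (isAssociatedPrime_iff_exists_injective_linearMap P0 N).mp hass
    rw [← Module.supportDim_quotient_eq_ringKrullDim]
    exact Module.supportDim_le_of_injective f hf
  have h3 : ringKrullDim (B ⧸ P0) = ((depth B N : ℕ∞) : WithBot ℕ∞) :=
    le_antisymm (h2.trans (le_of_eq hCM)) h1
  rw [ringKrullDim_quot_map_eq p0 p hle] at h3
  exact_mod_cast h3.symm

end CM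

section catenary
variable {R : Type u} [CommRing R] [IsRegularRing R] {A : Type u} [CommRing A]
  (π : R →+* A) (hπ : Function.Surjective π)

include hπ in
/-- quotients of regular rings are catenary, numerically -/
theorem height_quot_le_add (p0 p q : Ideal A) [p0.IsPrime] [p.IsPrime] [q.IsPrime]
    (h0 : p0 ≤ p) (h1 : p ≤ q) :
    (q.map (Ideal.Quotient.mk p0)).height ≤
      (p.map (Ideal.Quotient.mk p0)).height + (q.map (Ideal.Quotient.mk p)).height := by
  rw [← Groth.Agent.Lib.helper19.DimF.height_quot_comap π hπ p0 q,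
    ← Groth.Agent.Lib.helper19.DimF.height_quot_comap π hπ p0 p,
    ← Groth.Agent.Lib.helper19.DimF.height_quot_comap π hπ p q]
  set P0 := p0.comap π
  set P := p.comap π
  set Q := q.comap π
  have hP0P : P0 ≤ P := Ideal.comap_mono h0
  have hPQ : P ≤ Q := Ideal.comap_mono h1
  have e1 := Groth.Agent.Lib.helper19.DimF.height_eq_add P0 Q (hP0P.trans hPQ)
  have e2 := Groth.Agent.Lib.helper19.DimF.height_eq_add P Q hPQ
  have e3 := Groth.Agent.Lib.helper19.DimF.height_eq_add P0 P hP0P
  have hfin : P0.height ≠ ⊤ := Ideal.height_ne_top (Ideal.IsPrime.ne_top inferInstance)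
  rw [e3, e1, add_assoc] at e2
  exact le_of_eq ((ENat.add_right_injective_of_ne_top hfin) e2)

end catenary

section criterionCM
variable {R : Type u} [CommRing R] [IsRegularRing R] {A : Type u} [CommRing A] [IsNoetherianRing A]
  (π : R →+* A) (hπ : Function.Surjective π) (I : Ideal A)
  (M : Type u) [AddCommGroup M] [Module A M] [Module.Finite A M]
open Groth.Agent.S5172

include hπ in
theorem forall_lt_iff_of_CM
    (hCM : ∀ p : PrimeSpectrum A, ¬ I ≤ p.asIdeal →
      Subsingleton (LocalizedModule p.asIdeal.primeCompl M) ∨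
      LocCoh.IsCohenMacaulayModule (Localization.AtPrime p.asIdeal)
        (LocalizedModule p.asIdeal.primeCompl M)) (n : ℕ) :
    (∀ p : PrimeSpectrum A, ¬ I ≤ p.asIdeal →
        (n : ℕ∞) < LocCoh.depth (Localization.AtPrime p.asIdeal)
          (LocalizedModule p.asIdeal.primeCompl M) + SGA2.relCodim I p) ↔
    ∀ p : PrimeSpectrum A, ¬ I ≤ p.asIdeal →
      p.asIdeal ∈ (Module.annihilator A M).minimalPrimes → (n : ℕ∞) < SGA2.relCodim I p := by
  constructor
  · intro h p hIp hmin
    have h1 := h p hIp
    have hass : p.asIdeal ∈ associatedPrimes A M :=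
      Module.associatedPrimes.minimalPrimes_annihilator_subset_associatedPrimes A M hmin
    obtain ⟨_, h0⟩ := depth_localization_eq_zero_of_mem_associatedPrimes M p.asIdeal hass
    rw [h0, zero_add] at h1
    exact h1
  · intro h p hIp
    rcases subsingleton_or_nontrivial (LocalizedModule p.asIdeal.primeCompl M) with hs | hnt
    · rw [Groth.Agent.Lib.helper19.FaltB.depth_eq_top_of_subsingleton, top_add]
      exact ENat.natCast_lt_top n
    · have hcm : LocCoh.IsCohenMacaulayModule (Localization.AtPrime p.asIdeal)
          (LocalizedModule p.asIdeal.primeCompl M) := by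
        rcases hCM p hIp with h' | h'
        · exact absurd h' (not_subsingleton _)
        · exact h'
      have hann : Module.annihilator A M ≤ p.asIdeal := by
        have hp : p ∈ Module.support A M := Module.mem_support_iff.2 hnt
        rw [Module.support_eq_zeroLocus, PrimeSpectrum.mem_zeroLocus, SetLike.coe_subset_coe] at hp
        exact hp
      obtain ⟨p0, hp0min, hp0p⟩ := Ideal.exists_minimalPrimes_le hann
      haveI hp0prime : p0.IsPrime := hp0min.1.1
      have hIp0 : ¬ I ≤ p0 := fun hle => hIp (hle.trans hp0p)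
      have h0 := h ⟨p0, hp0prime⟩ hIp0 hp0min
      have hdepth := depth_eq_height_quot_of_CM M p0 p.asIdeal hp0p hp0min hcm
      refine lt_of_lt_of_le h0 ?_
      rw [hdepth, relCodim_eq I p]
      rcases isEmpty_or_nonempty {q : PrimeSpectrum A // p ≤ q ∧ I ≤ q.asIdeal} with hemp | hne
      · rw [iInf_of_empty, add_top]
        exact le_top
      · obtain ⟨q, hq⟩ := ENat.exists_eq_iInf
          (fun q : {q : PrimeSpectrum A // p ≤ q ∧ I ≤ q.asIdeal} =>
            (q.1.asIdeal.map (Ideal.Quotient.mk p.asIdeal)).height)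
        rw [← hq]
        have hpq' : p.asIdeal ≤ q.1.asIdeal := (PrimeSpectrum.asIdeal_le_asIdeal p q.1).2 q.2.1
        have hp0q : (⟨p0, hp0prime⟩ : PrimeSpectrum A) ≤ q.1 :=
          (PrimeSpectrum.asIdeal_le_asIdeal _ _).1 (hp0p.trans hpq')
        refine (relCodim_le I ⟨p0, hp0prime⟩ q.1 hp0q q.2.2).trans ?_
        exact height_quot_le_add π hπ p0 p.asIdeal q.1.asIdeal hp0p hpq'

end criterionCM

end Groth.Agent.Lib.helper19.Falt
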