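import Mathlib
import Groth.Prelude.Def_DualSh
import Groth.Agent.Lib.Helper23.KzReg2
import Groth.Agent.Lib.Helper19.CanMod2

/-!
# Cohomology of the algebraic upper shriek `φ^!(R)` as `Ext` over the polynomial ring (helper19)

* `nonempty_lbc_unit`: `R[0] ⊗^L_R B ≅ B[0]` for `B` flat over `R`.
* `nonempty_HD_shriekVia_equiv`: `H^i(φ^!(R))`, restricted to `P = R[x₁..xₙ]`, is `Hom_{D(P)}(A[0], P[n + i])`
  (via helper23's `KzReg.nonempty_homologyRightAdjointEquiv`).
* `hom_single_shift_eq_zero`: `Hom_{D(P)}(M[0], N[j]) = 0` for `j < 0`.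
-/

set_option autoImplicit false
universe u
open CategoryTheory CategoryTheory.Limits DerivedCategory Pretriangulated TensorProduct

attribute [local instance] HasDerivedCategory.standard

namespace Groth.Agent.Lib.helper19.Shriek1

open Groth.Agent.Lib.helper23 Groth.Agent.Lib.helper23.FBC Groth.Agent.Lib.helper23.RAdj
  Groth.Agent.Lib.helper23.KzReg

/-- derived base change of the unit along a flat ring map -/
theorem nonempty_lbc_unit {A B : Type u} [CommRing A] [CommRing B] [Algebra A B] [Module.Flat A B]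
    [DRing.HasLBaseChange (algebraMap A B)] :
    Nonempty ((DRing.LBaseChange (algebraMap A B)).obj (Dual.inD A A) ≅ Dual.inD B B) := by
  haveI := FlatBC.preservesFiniteLimits_extendScalars_algebraMap (A := A) (B := B)
  let e1 := (FlatBC.lbcIso (algebraMap A B)).app (Dual.inD A A)
  let e2 := EEsingleIso B (ModuleCat.of A A)
  let e3 : (ModuleCat.extendScalars.{u, u, u} (algebraMap A B)).obj (ModuleCat.of A A) ≅
      ModuleCat.of B B :=
    ((Groth.Agent.Lib.helper19.BassFlat.extendScalarsEquiv A B (ModuleCat.of A A)).trans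
      (TensorProduct.AlgebraTensorModule.rid A B B)).toModuleIso
  exact ⟨e1 ≪≫ e2 ≪≫ (singleFunctor (ModuleCat.{u} B) 0).mapIso e3⟩

variable (R A : Type u) [CommRing R] [CommRing A] [Algebra R A] (n : ℕ)
  (ψ : MvPolynomial (Fin n) R →ₐ[R] A)
  [DRing.HasLBaseChange (algebraMap R (MvPolynomial (Fin n) R))]
  (Rψ : Dual.D (MvPolynomial (Fin n) R) ⥤ Dual.D A) (adj : DRing.restrictD ψ.toRingHom ⊣ Rψ)

include adj in
/-- `H^i(φ^!(R))`, restricted to `P = R[x₁..xₙ]`, is `Hom_{D(P)}(A[0], P[n + i])`. -/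
theorem nonempty_HD_shriekVia_equiv (i : ℤ) :
    Nonempty (((Φm ψ.toRingHom).obj ((homologyFunctor (ModuleCat.{u} A) i).obj
        (Dual2.shriekVia n Rψ (Dual.inD R R)))) ≃ₗ[MvPolynomial (Fin n) R]
      ((singleFunctor (ModuleCat.{u} (MvPolynomial (Fin n) R)) 0).obj (BA ψ.toRingHom) ⟶
        (Dual.inD (MvPolynomial (Fin n) R) (MvPolynomial (Fin n) R))⟦(n : ℤ) + i⟧)) := by
  obtain ⟨e0⟩ := nonempty_lbc_unit (A := R) (B := MvPolynomial (Fin n) R)
  let eX : Dual2.shriekVia n Rψ (Dual.inD R R) ≅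
      (Rψ.obj (Dual.inD (MvPolynomial (Fin n) R) (MvPolynomial (Fin n) R)))⟦(n : ℤ)⟧ :=
    (shiftFunctor (Dual.D A) (n : ℤ)).mapIso (Rψ.mapIso e0)
  let e1 : (homologyFunctor (ModuleCat.{u} A) i).obj (Dual2.shriekVia n Rψ (Dual.inD R R)) ≅
      (homologyFunctor (ModuleCat.{u} A) ((n : ℤ) + i)).obj
        (Rψ.obj (Dual.inD (MvPolynomial (Fin n) R) (MvPolynomial (Fin n) R))) :=
    (homologyFunctor (ModuleCat.{u} A) i).mapIso eX ≪≫
      ((homologyFunctor (ModuleCat.{u} A) 0).shiftIso (n : ℤ) i ((n : ℤ) + i) rfl).app _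
  have hKa : ∀ j : ℤ, j < 0 →
      IsZero ((homologyFunctor (ModuleCat.{u} (MvPolynomial (Fin n) R)) j).obj
        (Dual.inD (MvPolynomial (Fin n) R) (MvPolynomial (Fin n) R))) := by
    intro j hj
    haveI : (Dual.inD (MvPolynomial (Fin n) R) (MvPolynomial (Fin n) R)).IsGE 0 := by
      dsimp [Dual.inD]; infer_instance
    exact DerivedCategory.isZero_of_isGE _ 0 j hj
  obtain ⟨e2⟩ := nonempty_homologyRightAdjointEquiv ψ.toRingHom Rψ adj
    (Dual.inD (MvPolynomial (Fin n) R) (MvPolynomial (Fin n) R)) 0 hKa ((n : ℤ) + i)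
  exact ⟨((Φm ψ.toRingHom).mapIso e1).toLinearEquiv ≪≫ₗ e2⟩

/-- `Hom_{D(P)}(M[0], N[j]) = 0` for `j < 0`. -/
theorem hom_single_shift_eq_zero {P : Type u} [CommRing P] (M N : ModuleCat.{u} P) (j : ℤ)
    (hj : j < 0) (f : (singleFunctor (ModuleCat.{u} P) 0).obj M ⟶
      ((singleFunctor (ModuleCat.{u} P) 0).obj N)⟦j⟧) : f = 0 := by
  haveI : ((singleFunctor (ModuleCat.{u} P) 0).obj M).IsLE 0 := inferInstance
  haveI : ((singleFunctor (ModuleCat.{u} P) 0).obj N).IsGE 0 := inferInstance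
  haveI : (((singleFunctor (ModuleCat.{u} P) 0).obj N)⟦j⟧).IsGE (-j) :=
    TStructure.t.isGE_shift _ 0 j (-j) (by omega)
  exact TStructure.t.zero_of_isLE_of_isGE f 0 (-j) (by omega) inferInstance inferInstance

end Groth.Agent.Lib.helper19.Shriek1
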