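import Mathlib
import Groth.Agent.Lib.Helper24.FlatDepth5
import Groth.Agent.Lib.Helper24.FibreRegular
import Groth.Agent.Lib.Helper26.AffEquidim
import Groth.Agent.Lib.Helper26.Depth7
import Groth.Agent.Lib.Helper3.FibreParam

/-!
# Depth of the local rings of a polynomial ring over a Noetherian ring (helper19)

`le_depth_add_of_td_le`: for a prime `Q` of `P = R[x₁..xₙ]` over `p`, `n ≤ depth P_Q + trdeg κ(Q)/κ(p)`
(flat depth formula of helper24 + the fibre ring `κ(p)[x₁..xₙ]` is regular of dimension `n`).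
-/

set_option autoImplicit false
universe u
open TensorProduct

namespace Groth.Agent.Lib.helper19.Shriek2

open Groth.Agent.Lib.helper3.DimIneq Groth.Agent.Lib.helper3.FibreParam
  Groth.Agent.Lib.Helper24.FlatDepth Groth.Agent.Lib.helper26.Depth LocCoh

variable (R : Type u) [CommRing R] [IsNoetherianRing R] (n : ℕ)

/-- the fibre rings of a polynomial ring are polynomial rings over the residue fields -/
noncomputable def fiberEquiv (p : Ideal R) [p.IsPrime] :
    p.Fiber (MvPolynomial (Fin n) R) ≃ₐ[p.ResidueField] MvPolynomial (Fin n) p.ResidueField :=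
  MvPolynomial.algebraTensorAlgEquiv R p.ResidueField

instance (p : Ideal R) [p.IsPrime] : IsRegularRing (p.Fiber (MvPolynomial (Fin n) R)) :=
  IsRegularRing.of_ringEquiv (fiberEquiv R n p).symm.toRingEquiv

instance (p : Ideal R) [p.IsPrime] : IsDomain (p.Fiber (MvPolynomial (Fin n) R)) :=
  MulEquiv.isDomain (MvPolynomial (Fin n) p.ResidueField) (fiberEquiv R n p).toRingEquiv.toMulEquiv

omit [IsNoetherianRing R] in
theorem ringKrullDim_fiber (p : Ideal R) [p.IsPrime] :
    ringKrullDim (p.Fiber (MvPolynomial (Fin n) R)) = n := by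
  rw [ringKrullDim_eq_of_ringEquiv (fiberEquiv R n p).toRingEquiv,
    MvPolynomial.ringKrullDim_of_isNoetherianRing, ringKrullDim_eq_zero_of_field]
  simp


/-- **depth of the local rings of a polynomial ring**: `n ≤ depth R[x₁..xₙ]_Q + trdeg κ(Q)/κ(Q ∩ R)` -/
theorem le_depth_add_of_td_le (Q : Ideal (MvPolynomial (Fin n) R)) [Q.IsPrime] (t : ℕ)
    (ht : td (Ideal.quotientMap Q (algebraMap R (MvPolynomial (Fin n) R)) le_rfl) ≤
      (t : Cardinal.{u})) :
    (n : ℕ∞) ≤ depth (Localization.AtPrime Q) (Localization.AtPrime Q) + t := by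
  set P := MvPolynomial (Fin n) R with hP
  set p : Ideal R := Q.under R with hp
  haveI : p.IsPrime := Ideal.IsPrime.under R Q
  haveI : Q.LiesOver p := ⟨rfl⟩
  obtain ⟨h1, -⟩ := depth_dim_atPrime R P p Q
  haveI hreg : IsRegularLocalRing (FibLoc R P p Q) :=
    Groth.Agent.Lib.Helper24.FibreRegular.isRegularLocalRing_fibLocRing R P p Q
  have h2 := depth_eq_ringKrullDim_of_isRegularLocalRing (FibLoc R P p Q)
  -- the prime of the fibre ring
  obtain ⟨q, hq, hqQ⟩ := Groth.Agent.Lib.Helper24.FibreRegular.exists_fiber_prime R P p Q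
  haveI := hq
  have e : Localization.AtPrime q ≃+* (Localization.AtPrime
      (q.comap (Algebra.TensorProduct.includeRight : P →ₐ[R] p.Fiber P)) ⧸
      (p.map (algebraMap R P)).map (algebraMap P (Localization.AtPrime
        (q.comap (Algebra.TensorProduct.includeRight : P →ₐ[R] p.Fiber P))))) :=
    (Ideal.Fiber.algEquivAux₂ p q).toRingEquiv
  have aux : ∀ (r : Ideal P) [r.IsPrime], r = Q →
      (Localization.AtPrime q ≃+* (Localization.AtPrime r ⧸
        (p.map (algebraMap R P)).map (algebraMap P (Localization.AtPrime r)))) →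
      Nonempty (Localization.AtPrime q ≃+* FibLoc R P p Q) := by
    intro r _ hr e'
    subst hr
    exact ⟨e'⟩
  obtain ⟨e'⟩ := aux _ hqQ e
  have h3 : ringKrullDim (FibLoc R P p Q) = q.height := by
    rw [← ringKrullDim_eq_of_ringEquiv e']
    exact IsLocalization.AtPrime.ringKrullDim_eq_height q (Localization.AtPrime q)
  have h4 := Groth.Agent.Lib.helper26.DimFormula.height_add_dim_quotient_of_domain
    p.ResidueField (p.Fiber P) q
  rw [ringKrullDim_fiber] at h4
  haveI : IsDomain (p.Fiber P ⧸ q) := Ideal.Quotient.isDomain q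
  obtain ⟨m, hm, hdm⟩ := Groth.Agent.Lib.helper26.DimFormula.exists_nat_trdeg_eq_ringKrullDim
    p.ResidueField (p.Fiber P ⧸ q)
  have h5 := trdeg_fiber_quotient p q
  have h6 : contr p q = Q := hqQ
  have hmt : m ≤ t := by
    have : (m : Cardinal.{u}) ≤ t := by
      rw [← hm, h5, td_quotientMap_congr_prime (algebraMap R P) _ _ h6]
      exact ht
    exact_mod_cast this
  obtain ⟨h, hh⟩ := ENat.ne_top_iff_exists.mp (Ideal.height_ne_top_of_isPrime (I := q))
  rw [hdm, ← hh] at h4
  have h7 : h + m = n := by exact_mod_cast h4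
  rw [h3, ← hh] at h2
  have h8 : depth (FibLoc R P p Q) (FibLoc R P p Q) = h := by exact_mod_cast h2
  rw [h1, h8]
  calc (n : ℕ∞) = (h : ℕ∞) + m := by rw [← h7]; push_cast; rfl
    _ ≤ (h : ℕ∞) + t := by gcongr
    _ ≤ depth (Localization.AtPrime p) (Localization.AtPrime p) + h + t := by
        rw [add_comm (depth _ _) (h : ℕ∞), add_assoc]
        gcongr
        exact le_add_self

end Groth.Agent.Lib.helper19.Shriek2
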