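import Mathlib
import Groth.Agent.S0402
import Groth.Agent.Lib.Helper3.TdSpecBridge
import Groth.Agent.Lib.Helper3.FibreDimChar
import Groth.Agent.Lib.Helper3.FibreChev

/-!
# Residue transcendence degrees bounded by the local fibre dimension (helper19)

`td_le_of_fibreDimAt_le`: `R → A` of finite type, `dim_q (fibre) ≤ d`; then `trdeg κ(Q)/κ(Q ∩ R) ≤ d` for EVERY prime
`Q ⊆ q` (Chevalley's semicontinuity S0402 + helper3's characterization of the fibre dimension);
`td_le_of_fibreDimAt_le_presentation`: the same for the primes of a polynomial ring presenting `A`.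
-/

set_option autoImplicit false
universe u
open TensorProduct AlgebraicGeometry CategoryTheory

namespace Groth.Agent.Lib.helper19.Shriek3

open Groth.Agent.Lib.helper3.DimIneq Groth.Agent.Lib.helper3.FibreParam

/-- the residue transcendence degree at every generization of `q` is bounded by the local fibre dimension at `q`
(Chevalley). -/
theorem td_le_of_fibreDimAt_le (R A : Type u) [CommRing R] [CommRing A] [Algebra R A]
    [Algebra.FiniteType R A] (q : PrimeSpectrum A) (d : ℕ)
    (hd : FlatMor.fibreDimAt (Spec.map (CommRingCat.ofHom (algebraMap R A))) q ≤ (d : WithBot ℕ∞))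
    (Q : Ideal A) [hQp : Q.IsPrime] (hQ : Q ≤ q.asIdeal) :
    td (Ideal.quotientMap Q (algebraMap R A) le_rfl) ≤ (d : Cardinal.{u}) := by
  set f := Spec.map (CommRingCat.ofHom (algebraMap R A)) with hf
  haveI : LocallyOfFiniteType f := by
    rw [HasRingHomProperty.Spec_iff (P := @LocallyOfFiniteType)]
    change (algebraMap R A).FiniteType
    rw [RingHom.finiteType_algebraMap]
    infer_instance
  have hopen := Groth.Agent.S0402.result f d
  set x' : PrimeSpectrum A := ⟨Q, hQp⟩ with hx'
  have hsp : x' ⤳ q := (PrimeSpectrum.le_iff_specializes x' q).mp hQ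
  have hx : FlatMor.fibreDimAt f x' ≤ (d : WithBot ℕ∞) := hsp.mem_open hopen hd
  have h3 := (Groth.Agent.Lib.helper3.DimFibre.fibreDimAt_le_iff f x' d).mp hx x' specializes_rfl rfl
  rw [td_residueFieldMap_Spec] at h3
  exact h3

/-- the same bound for the primes of a polynomial ring presenting `A`. -/
theorem td_le_of_fibreDimAt_le_presentation (R A : Type u) [CommRing R] [CommRing A] [Algebra R A]
    (n : ℕ) (ψ : MvPolynomial (Fin n) R →ₐ[R] A) (hψ : Function.Surjective ψ)
    (q : PrimeSpectrum A) (d : ℕ)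
    (hd : FlatMor.fibreDimAt (Spec.map (CommRingCat.ofHom (algebraMap R A))) q ≤ (d : WithBot ℕ∞))
    (Q' : Ideal (MvPolynomial (Fin n) R)) [Q'.IsPrime] (hker : RingHom.ker ψ.toRingHom ≤ Q')
    (hQ' : Q' ≤ q.asIdeal.comap ψ.toRingHom) :
    td (Ideal.quotientMap Q' (algebraMap R (MvPolynomial (Fin n) R)) le_rfl) ≤ (d : Cardinal.{u}) := by
  haveI : Algebra.FiniteType R A := Algebra.FiniteType.of_surjective ψ hψ
  set Q : Ideal A := Q'.map ψ.toRingHom with hQdef
  have hψ' : Function.Surjective ψ.toRingHom := hψ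
  haveI hQp : Q.IsPrime := Ideal.map_isPrime_of_surjective hψ' hker
  have hcomap : Q.comap ψ.toRingHom = Q' := by
    rw [hQdef, Ideal.comap_map_of_surjective _ hψ', ← RingHom.ker_eq_comap_bot]
    exact sup_eq_left.mpr hker
  have hQq : Q ≤ q.asIdeal := Ideal.map_le_iff_le_comap.mpr hQ'
  have h1 := td_le_of_fibreDimAt_le R A q d hd Q hQq
  have h2 := td_quotientMap_comp (algebraMap R (MvPolynomial (Fin n) R)) ψ.toRingHom Q
  have h3 : ψ.toRingHom.comp (algebraMap R (MvPolynomial (Fin n) R)) = algebraMap R A :=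
    ψ.comp_algebraMap
  rw [td_quotientMap_congr_hom _ _ h3 Q] at h2
  rw [h2] at h1
  rw [← td_quotientMap_congr_prime (algebraMap R (MvPolynomial (Fin n) R)) _ _ hcomap]
  exact le_trans le_self_add h1

end Groth.Agent.Lib.helper19.Shriek3
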