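import Mathlib
import Groth.Agent.Lib.Helper19.CanMod2
import Groth.Agent.Lib.Helper26.Depth1
import Groth.Agent.Lib.Helper26.DepthLoc
import Groth.Agent.Lib.Helper26.DepthLoc3

/-!
# Local vanishing of `Ext^k_P(M, P)` below the depths of the local rings on the support (helper19)

`exists_smul_ext_eq_zero`: `P` Noetherian, `M` finite, `q` prime, `c ≤ depth P_Q` for all primes `Q ⊆ q` in the
support of `M`; then every class of `Ext^k_P(M, P)`, `k < c`, is killed by some `t ∉ q`
(flat base change of `Ext` + Rees + `depth_I = inf depth_Q`).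
-/

set_option autoImplicit false
universe u
open TensorProduct CategoryTheory

namespace Groth.Agent.Lib.helper19.Shriek4

open Groth.Agent.Lib.helper26.Depth LocCoh

variable (P : Type u) [CommRing P] [IsNoetherianRing P]

/-- **local vanishing of `Ext^k_P(M, P)`** below the depth of the local rings `P_Q`, `Q ∈ Supp M`, `Q ⊆ q`. -/
theorem exists_smul_ext_eq_zero (M : Type u) [AddCommGroup M] [Module P M] [Module.Finite P M]
    (q : Ideal P) [q.IsPrime] (c : ℕ)
    (hdepth : ∀ (Q : Ideal P) [Q.IsPrime], Module.annihilator P M ≤ Q → Q ≤ q →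
      (c : ℕ∞) ≤ depth (Localization.AtPrime Q) (Localization.AtPrime Q))
    (k : ℕ) (hk : k < c) (x : Abelian.Ext.{u} (ModuleCat.of P M) (ModuleCat.of P P) k) :
    ∃ t : P, t ∉ q ∧ t • x = 0 := by
  set B := Localization.AtPrime q with hB
  set N' := LocalizedModule q.primeCompl P with hN'
  have hN : IsBaseChange B (LocalizedModule.mkLinearMap q.primeCompl P) :=
    IsLocalizedModule.isBaseChange q.primeCompl B _
  have hM : IsBaseChange B (TensorProduct.mk P B M 1) := TensorProduct.isBaseChange P M B
  obtain ⟨e⟩ := Groth.Agent.Lib.helper19.CanMod.nonempty_extBaseChange' P B M P (B ⊗[P] M) N'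
    (TensorProduct.mk P B M 1) hM (LocalizedModule.mkLinearMap q.primeCompl P) hN k
  set I : Ideal B := Module.annihilator B (B ⊗[P] M) with hI
  have hsupp : Module.support B (B ⊗[P] M) ⊆ PrimeSpectrum.zeroLocus (I : Set B) :=
    (Module.support_eq_zeroLocus (R := B) (M := B ⊗[P] M)).le
  have hlt : (k : ℕ∞) < idealDepth I N' := by
    refine lt_of_lt_of_le (by exact_mod_cast hk : (k : ℕ∞) < (c : ℕ∞)) ?_
    rw [idealDepth_eq_iInf_depth_localization]
    refine le_iInf₂ fun Q'' hQ'' => ?_
    haveI := Q''.isPrime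
    rw [depth_localization_localization q P Q''.asIdeal]
    set Q : Ideal P := Q''.asIdeal.comap (algebraMap P B) with hQ
    haveI : Q.IsPrime := Ideal.comap_isPrime _ _
    rw [← depth_eq_of_isLocalizedModule Q P (Localization.AtPrime Q) (Localization.AtPrime Q)
      (Algebra.linearMap P (Localization.AtPrime Q))]
    refine hdepth Q ?_ ?_
    · intro a ha
      apply hQ''
      rw [hI, Module.mem_annihilator]
      intro z
      induction z using TensorProduct.induction_on with
      | zero => simp
      | tmul b m =>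
        rw [TensorProduct.smul_tmul', algebraMap_smul, TensorProduct.smul_tmul,
          Module.mem_annihilator.mp ha m, TensorProduct.tmul_zero]
      | add z₁ z₂ h₁ h₂ => rw [smul_add, h₁, h₂, add_zero]
    · have h1 : Q''.asIdeal ≤ IsLocalRing.maximalIdeal B := IsLocalRing.le_maximalIdeal Q''.isPrime.ne_top
      have h2 := Ideal.comap_mono (f := algebraMap P B) h1
      have h3 : (IsLocalRing.maximalIdeal B).comap (algebraMap P B) = q :=
        IsLocalization.AtPrime.under_maximalIdeal B q
      rw [h3] at h2
      exact h2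
  haveI hsub : Subsingleton (Abelian.Ext.{u} (ModuleCat.of B (B ⊗[P] M)) (ModuleCat.of B N') k) :=
    subsingleton_ext_of_lt_idealDepth I N' (ModuleCat.of B (B ⊗[P] M)) hsupp k hlt
  have h0 : (1 : B) ⊗ₜ[P] x = 0 := e.injective (Subsingleton.elim _ _)
  haveI : IsLocalizedModule q.primeCompl (TensorProduct.mk P B
      (Abelian.Ext.{u} (ModuleCat.of P M) (ModuleCat.of P P) k) 1) :=
    (isLocalizedModule_iff_isBaseChange q.primeCompl B _).mpr (TensorProduct.isBaseChange P _ B)
  obtain ⟨t, ht⟩ := (IsLocalizedModule.eq_zero_iff q.primeCompl (TensorProduct.mk P B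
      (Abelian.Ext.{u} (ModuleCat.of P M) (ModuleCat.of P P) k) 1)).mp h0
  exact ⟨t.1, t.2, ht⟩

end Groth.Agent.Lib.helper19.Shriek4
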