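import Mathlib
import Groth.Agent.Lib.Helper19.Shriek1
import Groth.Agent.Lib.Helper19.Shriek2
import Groth.Agent.Lib.Helper19.Shriek3
import Groth.Agent.Lib.Helper19.Shriek4

/-!
# `H^i(φ^!(R))_q = 0` for `i < - dim_q (fibre)` (helper19; = S1785, Stacks 0E9N-type)

`R → A` of finite type between Noetherian rings, presented by `ψ : P = R[x₁..xₙ] → A`, `q` a prime of `A` with
`dim_q (fibre) ≤ d`.
* `exists_smul_hom_eq_zero`: every morphism `A[0] ⟶ P[j]` of `D(P)` with `j + d < n` is killed by some `t ∈ P` with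
  `ψ t ∉ q`;
* `subsingleton_localizedModule_HD_shriekVia`: `H^i(φ^!(R))_q = 0` for `i + d < 0`.
-/

set_option autoImplicit false
universe u
open CategoryTheory CategoryTheory.Limits DerivedCategory Pretriangulated TensorProduct AlgebraicGeometry

attribute [local instance] HasDerivedCategory.standard

namespace Groth.Agent.Lib.helper19.Shriek5

open Groth.Agent.Lib.helper23 Groth.Agent.Lib.helper23.RAdj Groth.Agent.Lib.helper23.KzReg
  Groth.Agent.Lib.helper19.Shriek1 Groth.Agent.Lib.helper19.Shriek2 Groth.Agent.Lib.helper19.Shriek3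
  Groth.Agent.Lib.helper19.Shriek4 LocCoh

variable (R A : Type u) [CommRing R] [CommRing A] [IsNoetherianRing R] [Algebra R A] (n : ℕ)
  (ψ : MvPolynomial (Fin n) R →ₐ[R] A) (hψ : Function.Surjective ψ)
  (q : PrimeSpectrum A) (d : ℕ)
  (hd : FlatMor.fibreDimAt (Spec.map (CommRingCat.ofHom (algebraMap R A))) q ≤ (d : WithBot ℕ∞))

include hψ hd in
/-- the depth bound on the support of `A` inside `Spec P`, near `q`. -/
theorem le_depth_of_le_comap (Q : Ideal (MvPolynomial (Fin n) R)) [Q.IsPrime]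
    (hker : RingHom.ker ψ.toRingHom ≤ Q) (hQ : Q ≤ q.asIdeal.comap ψ.toRingHom) :
    ((n - d : ℕ) : ℕ∞) ≤ depth (Localization.AtPrime Q) (Localization.AtPrime Q) := by
  have h1 := td_le_of_fibreDimAt_le_presentation R A n ψ hψ q d hd Q hker hQ
  have h2 := le_depth_add_of_td_le R n Q d h1
  rw [ENat.natCast_sub]
  exact tsub_le_iff_right.mpr h2

include hψ hd in
/-- morphisms `A[0] ⟶ P[j]` in `D(P)` vanish near `q` for `j + d < n`. -/
theorem exists_smul_hom_eq_zero (j : ℤ) (hj : j + d < n)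
    (f : (singleFunctor (ModuleCat.{u} (MvPolynomial (Fin n) R)) 0).obj (BA ψ.toRingHom) ⟶
      (Dual.inD (MvPolynomial (Fin n) R) (MvPolynomial (Fin n) R))⟦j⟧) :
    ∃ t : MvPolynomial (Fin n) R, ψ t ∉ q.asIdeal ∧ t • f = 0 := by
  by_cases hneg : j < 0
  · refine ⟨1, ?_, ?_⟩
    · rw [map_one]
      exact fun h => q.isPrime.ne_top ((Ideal.eq_top_iff_one _).mpr h)
    · rw [one_smul]
      exact hom_single_shift_eq_zero _ _ j hneg f
  · obtain ⟨k, rfl⟩ : ∃ k : ℕ, j = k := ⟨j.toNat, by omega⟩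
    haveI : (q.asIdeal.comap ψ.toRingHom).IsPrime := Ideal.comap_isPrime _ _
    haveI : Module.Finite (MvPolynomial (Fin n) R) (BA ψ.toRingHom) := by
      refine Module.Finite.of_surjective
        ((Algebra.linearMap (MvPolynomial (Fin n) R) (MvPolynomial (Fin n) R)).smulRight
          (show (BA ψ.toRingHom) from (1 : A))) ?_
      intro b
      obtain ⟨p, hp⟩ := hψ (show A from b)
      refine ⟨p, ?_⟩
      change ψ.toRingHom p • (1 : A) = (show A from b)
      rw [smul_eq_mul, mul_one]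
      exact hp
    let x : Abelian.Ext.{u} (ModuleCat.of (MvPolynomial (Fin n) R) (BA ψ.toRingHom))
        (ModuleCat.of (MvPolynomial (Fin n) R) (MvPolynomial (Fin n) R)) k :=
      (Abelian.Ext.homLinearEquiv (R := MvPolynomial (Fin n) R)).symm f
    obtain ⟨t, ht, htx⟩ := exists_smul_ext_eq_zero (MvPolynomial (Fin n) R) (BA ψ.toRingHom)
      (q.asIdeal.comap ψ.toRingHom) (n - d) (fun Q _ hann hQ => by
        refine le_depth_of_le_comap R A n ψ hψ q d hd Q ?_ hQ
        intro a ha
        apply hann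
        rw [Module.mem_annihilator]
        intro b
        change ψ.toRingHom a • (b : A) = 0
        rw [(RingHom.mem_ker).mp ha, zero_smul]) k (by omega) x
    refine ⟨t, ht, ?_⟩
    have h1 : t • f = (Abelian.Ext.homLinearEquiv (R := MvPolynomial (Fin n) R)) (t • x) := by
      rw [map_smul, LinearEquiv.apply_symm_apply]
    rw [h1, htx, map_zero]

variable [DRing.HasLBaseChange (algebraMap R (MvPolynomial (Fin n) R))]
  (Rψ : Dual.D (MvPolynomial (Fin n) R) ⥤ Dual.D A) (adj : DRing.restrictD ψ.toRingHom ⊣ Rψ)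

include hψ hd adj in
/-- **`H^i(ω_{A/R})_q = 0` for `i < -d`**, `d` the local dimension at `q` of the fibre. -/
theorem subsingleton_localizedModule_HD_shriekVia (i : ℤ) (hi : i + d < 0) :
    Subsingleton (LocalizedModule q.asIdeal.primeCompl
      (Dual.HD A (Dual2.shriekVia n Rψ (Dual.inD R R)) i)) := by
  obtain ⟨e⟩ := nonempty_HD_shriekVia_equiv R A n ψ Rψ adj i
  rw [LocalizedModule.subsingleton_iff]
  intro m
  obtain ⟨t, ht, htf⟩ := exists_smul_hom_eq_zero R A n ψ hψ q d hd ((n : ℤ) + i) (by omega) (e m)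
  refine ⟨ψ t, ht, ?_⟩
  have h1 : e (t • (show ((Φm ψ.toRingHom).obj ((homologyFunctor (ModuleCat.{u} A) i).obj
      (Dual2.shriekVia n Rψ (Dual.inD R R)))) from m)) = 0 := by
    rw [map_smul]
    exact htf
  have h2 := e.injective (h1.trans (map_zero e).symm)
  exact h2

end Groth.Agent.Lib.helper19.Shriek5
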