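import Mathlib
import Groth.Prelude.Def_DRing2
import Groth.Prelude.Def_DDual2
import Groth.Agent.Lib.Helper23.LBCComp
import Groth.Agent.Lib.Helper23.TA4
import Groth.Agent.Lib.Helper23.TA5
import Groth.Agent.Lib.Helper13.RKF1

/-!
# Lowering the tor amplitude by testing on cyclic modules (helper19)

* `flat_quotient_range_of_cyclic`: if `f : X → Y`, `Y` flat, satisfies `f⁻¹(IY) = IX` for all ideals `I` then
  `Y / f(X)` is flat; `lTensor_injective_of_cyclic`: then `N ⊗ f` is injective for all `N`.
* `iota`, `mem_of_iota_eq_zero`, `iota_eq_zero_of_mem`: the kernel of `M → S ⊗_R M` for `R → S` surjective.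
* `hasTorAmplitudeIn_succ_of_cyclic`: if `K` has tor amplitude in `[a, b]` and `H^a(K ⊗^L R/I) = 0` for all ideals
  `I` then `K` has tor amplitude in `[a + 1, b]`.
* `hasTorAmplitudeIn_of_cyclic`: if `K` has tor amplitude in `[a', b]` and `H^i(K ⊗^L R/I) = 0` for all `i < a` and
  all ideals `I` then `K` has tor amplitude in `[a, b]`.
-/

set_option autoImplicit false
universe u
open CategoryTheory CategoryTheory.Limits TensorProduct MonoidalCategory

attribute [local instance] HasDerivedCategory.standard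

namespace Groth.Agent.Lib.helper19.Shriek6

open Groth.Agent.Lib.helper23.TA Groth.Agent.Lib.helper13.RKF

section Mod

variable {R : Type u} [CommRing R]

/-- `I ⊗ M → M`, `i ⊗ m ↦ i • m`. -/
noncomputable def mu (I : Ideal R) (M : Type u) [AddCommGroup M] [Module R M] : I ⊗[R] M →ₗ[R] M :=
  TensorProduct.lift ((LinearMap.lsmul R M).comp I.subtype)

@[simp] lemma mu_tmul (I : Ideal R) (M : Type u) [AddCommGroup M] [Module R M] (i : I) (m : M) :
    mu I M (i ⊗ₜ m) = (i : R) • m := by
  simp [mu]

lemma mu_nat (I : Ideal R) {M N : Type u} [AddCommGroup M] [Module R M] [AddCommGroup N]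
    [Module R N] (g : M →ₗ[R] N) (t : I ⊗[R] M) : mu I N (g.lTensor I t) = g (mu I M t) := by
  induction t using TensorProduct.induction_on with
  | zero => simp
  | tmul i m => simp
  | add a b ha hb => simp [ha, hb]

lemma mu_mem (I : Ideal R) (M : Type u) [AddCommGroup M] [Module R M] (t : I ⊗[R] M) :
    mu I M t ∈ (I • ⊤ : Submodule R M) := by
  induction t using TensorProduct.induction_on with
  | zero => simp
  | tmul i m =>
    rw [mu_tmul]
    exact Submodule.smul_mem_smul i.2 Submodule.mem_top
  | add a b ha hb =>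
    rw [map_add]
    exact Submodule.add_mem _ ha hb

lemma exists_mu_eq (I : Ideal R) (M : Type u) [AddCommGroup M] [Module R M] (x : M)
    (hx : x ∈ (I • ⊤ : Submodule R M)) : ∃ w : I ⊗[R] M, mu I M w = x := by
  induction hx using Submodule.smul_induction_on' with
  | smul r hr m _ => exact ⟨(⟨r, hr⟩ : I) ⊗ₜ m, by simp⟩
  | add a _ b _ ha hb =>
    obtain ⟨wa, rfl⟩ := ha
    obtain ⟨wb, rfl⟩ := hb
    exact ⟨wa + wb, map_add _ _ _⟩

/-- if `f : X → Y` with `Y` flat satisfies `f⁻¹(IY) = IX` for all ideals `I`, then `Y / f(X)` is flat. -/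
theorem flat_quotient_range_of_cyclic {X Y : Type u} [AddCommGroup X] [Module R X]
    [AddCommGroup Y] [Module R Y] [Module.Flat R Y] (f : X →ₗ[R] Y)
    (h : ∀ (I : Ideal R) (x : X), f x ∈ (I • ⊤ : Submodule R Y) → x ∈ (I • ⊤ : Submodule R X)) :
    Module.Flat R (Y ⧸ LinearMap.range f) := by
  rw [Module.Flat.iff_lift_lsmul_comp_subtype_injective]
  intro I hI
  have hμY : Function.Injective (mu I Y) :=
    Module.Flat.iff_lift_lsmul_comp_subtype_injective.mp inferInstance hI
  change Function.Injective (mu I (Y ⧸ LinearMap.range f))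
  rw [injective_iff_map_eq_zero]
  intro z hz
  obtain ⟨y, rfl⟩ := LinearMap.lTensor_surjective I (Submodule.mkQ_surjective (LinearMap.range f)) z
  rw [mu_nat] at hz
  obtain ⟨x, hx⟩ : mu I Y y ∈ LinearMap.range f := by
    rwa [Submodule.mkQ_apply, Submodule.Quotient.mk_eq_zero] at hz
  have hx' : x ∈ (I • ⊤ : Submodule R X) := h I x (hx ▸ mu_mem I Y y)
  obtain ⟨w, hw⟩ := exists_mu_eq I X x hx'
  have h1 : f.lTensor I w = y := hμY (by rw [mu_nat, hw, hx])
  rw [← h1, ← LinearMap.lTensor_comp_apply]
  have h2 : (LinearMap.range f).mkQ ∘ₗ f = 0 := by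
    ext a
    simp
  rw [h2, LinearMap.lTensor_zero]
  rfl

/-- consequently `N ⊗ X → N ⊗ Y` is injective for all `N` (if moreover `X → Y` is injective). -/
theorem lTensor_injective_of_cyclic {X Y : Type u} [AddCommGroup X] [Module R X]
    [AddCommGroup Y] [Module R Y] [Module.Flat R Y] (f : X →ₗ[R] Y)
    (h : ∀ (I : Ideal R) (x : X), f x ∈ (I • ⊤ : Submodule R Y) → x ∈ (I • ⊤ : Submodule R X))
    (N : Type u) [AddCommGroup N] [Module R N] : Function.Injective (f.lTensor N) := by
  haveI := flat_quotient_range_of_cyclic f h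
  have hf : Function.Injective f := by
    rw [injective_iff_map_eq_zero]
    intro x hx
    have := h ⊥ x (by rw [hx]; exact Submodule.zero_mem _)
    simpa using this
  exact LinearMap.lTensor_injective_of_exact_of_flat (LinearMap.range f).mkQ
    (Submodule.mkQ_surjective _) f hf (LinearMap.exact_map_mkQ_range f) N


end Mod

section Cx

open Groth.Agent.Lib.helper23.TA Groth.Agent.Lib.helper13.RKF

variable {R : Type u} [CommRing R] {S : Type u} [CommRing S] (φ : R →+* S)

/-- `R ⧸ ker φ ≃ S` as `R`-modules, `φ` surjective. -/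
noncomputable def quotKerEquivAR (hφ : Function.Surjective φ) :
    (R ⧸ RingHom.ker φ) ≃ₗ[R] (AR φ) :=
  let f : R →ₗ[R] (AR φ) :=
    { toFun := fun r => φ r
      map_add' := map_add φ
      map_smul' := fun r x => map_mul φ r x }
  (Submodule.quotEquivOfEq (RingHom.ker φ) (LinearMap.ker f) (by
    ext x
    rfl)).trans (f.quotKerEquivOfSurjective hφ)

lemma quotKerEquivAR_mk (hφ : Function.Surjective φ) (r : R) :
    quotKerEquivAR φ hφ (Ideal.Quotient.mk _ r) = (show (AR φ) from φ r) := rfl

/-- `m ↦ 1 ⊗ m`. -/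
noncomputable def iota (M : ModuleCat.{u} R) : M →ₗ[R] (AR φ) ⊗[R] M :=
  (TensorProduct.mk R (AR φ) M) (show (AR φ) from (1 : S))

lemma iota_eq_zero_of_mem (M : ModuleCat.{u} R) (m : M)
    (hm : m ∈ (RingHom.ker φ • ⊤ : Submodule R M)) : iota φ M m = 0 := by
  induction hm using Submodule.smul_induction_on' with
  | smul r hr x _ =>
    show (show (AR φ) from (1 : S)) ⊗ₜ[R] (r • x) = 0
    rw [← TensorProduct.smul_tmul]
    have : r • (show (AR φ) from (1 : S)) = 0 := by
      show φ r * 1 = 0
      rw [(RingHom.mem_ker).mp hr, zero_mul]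
    rw [this, TensorProduct.zero_tmul]
  | add a _ b _ ha hb => rw [map_add, ha, hb, add_zero]

lemma mem_of_iota_eq_zero (hφ : Function.Surjective φ) (M : ModuleCat.{u} R) (m : M)
    (hm : iota φ M m = 0) : m ∈ (RingHom.ker φ • ⊤ : Submodule R M) := by
  let e := (TensorProduct.congr (quotKerEquivAR φ hφ).symm (LinearEquiv.refl R M)).trans
    (TensorProduct.quotTensorEquivQuotSMul M (RingHom.ker φ))
  have h1 : e (iota φ M m) = Submodule.Quotient.mk m := by
    show (TensorProduct.quotTensorEquivQuotSMul M (RingHom.ker φ))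
      ((TensorProduct.congr (quotKerEquivAR φ hφ).symm (LinearEquiv.refl R M))
        ((show (AR φ) from (1 : S)) ⊗ₜ[R] m)) = _
    rw [TensorProduct.congr_tmul]
    have h2 : (quotKerEquivAR φ hφ).symm (show (AR φ) from (1 : S)) = Ideal.Quotient.mk _ 1 := by
      rw [LinearEquiv.symm_apply_eq, quotKerEquivAR_mk, map_one]
    rw [h2, LinearEquiv.refl_apply, TensorProduct.quotTensorEquivQuotSMul_mk_tmul, one_smul]
  rw [hm, map_zero] at h1
  exact (Submodule.Quotient.mk_eq_zero _).mp h1.symm

lemma extend_map_iota {M M' : ModuleCat.{u} R} (g : M ⟶ M') (m : M) :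
    ((ModuleCat.extendScalars.{u, u, u} φ).map g).hom
      (show ((ModuleCat.extendScalars.{u, u, u} φ).obj M) from iota φ M m) =
      (show ((ModuleCat.extendScalars.{u, u, u} φ).obj M') from iota φ M' (g.hom m)) := rfl


/-- one step of lowering the tor amplitude: cyclic modules suffice. -/
theorem hasTorAmplitudeIn_succ_of_cyclic [∀ I : Ideal R, DRing.HasLBaseChange (Ideal.Quotient.mk I)]
    (K : Dual.D R) (a b : ℤ) (hK : DRing.HasTorAmplitudeIn R a b K)
    (h : ∀ I : Ideal R, IsZero ((DerivedCategory.homologyFunctor (ModuleCat.{u} (R ⧸ I)) a).obj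
      ((DRing.LBaseChange (Ideal.Quotient.mk I)).obj K))) :
    DRing.HasTorAmplitudeIn R (a + 1) b K := by
  obtain ⟨E, hV, hfl, ⟨e⟩⟩ := hK
  have hVa : DRing.VanishesAbove E b := fun i hi => hV i (Or.inr hi)
  haveI := hfl (a + 1)
  -- the purity condition for cyclic modules
  have hcyc : ∀ (I : Ideal R) (x : E.X a), (E.d a (a + 1)).hom x ∈ (I • ⊤ : Submodule R (E.X (a + 1))) →
      x ∈ (I • ⊤ : Submodule R (E.X a)) := by
    intro I x hx
    have hφ : Function.Surjective (Ideal.Quotient.mk I) := Ideal.Quotient.mk_surjective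
    obtain ⟨e1⟩ := Groth.Agent.Lib.helper23.LBCComp.lbc_iso (Ideal.Quotient.mk I) E b hVa hfl
    have hex : (((ModuleCat.extendScalars.{u, u, u} (Ideal.Quotient.mk I)).mapHomologicalComplex
        (ComplexShape.up ℤ)).obj E).ExactAt a := by
      rw [HomologicalComplex.exactAt_iff_isZero_homology]
      exact (h I).of_iso (((DerivedCategory.homologyFunctorFactors _ a).app _).symm ≪≫
        (DerivedCategory.homologyFunctor _ a).mapIso
          (e1.symm ≪≫ (DRing.LBaseChange (Ideal.Quotient.mk I)).mapIso e))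
    rw [HomologicalComplex.exactAt_iff' _ (a - 1) a (a + 1) (by simp) (by simp),
      ShortComplex.ShortExact.moduleCat_exact_iff_function_exact] at hex
    have hsub : Subsingleton ((ModuleCat.extendScalars.{u, u, u} (Ideal.Quotient.mk I)).obj (E.X (a - 1))) :=
      ModuleCat.subsingleton_of_isZero
        ((ModuleCat.extendScalars.{u, u, u} (Ideal.Quotient.mk I)).map_isZero (hV (a - 1) (Or.inl (by omega))))
    have h0 : iota (Ideal.Quotient.mk I) (E.X a) x = 0 := by
      obtain ⟨w, hw⟩ := (hex (show ((ModuleCat.extendScalars.{u, u, u} (Ideal.Quotient.mk I)).obj (E.X a))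
        from iota (Ideal.Quotient.mk I) (E.X a) x)).1 (by
          have := extend_map_iota (Ideal.Quotient.mk I) (E.d a (a + 1)) x
          refine this.trans ?_
          exact iota_eq_zero_of_mem (Ideal.Quotient.mk I) (E.X (a + 1)) _ (by rwa [Ideal.mk_ker]))
      have hw0 : w = 0 := hsub.elim _ _
      rw [hw0, map_zero] at hw
      exact hw.symm
    have := mem_of_iota_eq_zero (Ideal.Quotient.mk I) hφ _ x h0
    rwa [Ideal.mk_ker] at this
  refine hasTorAmplitudeIn_of_iso e (hasTorAmplitudeIn_of_tvl E b hVa hfl (a + 1) b ?_ ?_)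
  · intro N i hi
    rcases lt_or_eq_of_le (Int.lt_add_one_iff.mp hi) with hi' | rfl
    · exact HomologicalComplex.ExactAt.of_isZero ((tensorLeft N).map_isZero (hV i (Or.inl hi')))
    · rw [HomologicalComplex.exactAt_iff' _ (i - 1) i (i + 1) (by simp) (by simp),
        ShortComplex.ShortExact.moduleCat_exact_iff_function_exact]
      have hinj : Function.Injective ((E.d i (i + 1)).hom.lTensor N) :=
        lTensor_injective_of_cyclic _ hcyc N
      have hsub : Subsingleton (N ⊗[R] (E.X (i - 1))) := by
        haveI : Subsingleton (E.X (i - 1)) :=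
          ModuleCat.subsingleton_of_isZero (hV (i - 1) (Or.inl (by omega)))
        infer_instance
      intro y
      constructor
      · intro hy
        refine ⟨0, ?_⟩
        rw [map_zero]
        exact (hinj (hy.trans (map_zero _).symm)).symm
      · rintro ⟨x, rfl⟩
        have hx0 : x = 0 := hsub.elim _ _
        rw [hx0, map_zero, map_zero]
  · intro i hi
    exact HomologicalComplex.ExactAt.of_isZero (hVa i hi)


/-- lowering the tor amplitude: cyclic modules suffice. -/
theorem hasTorAmplitudeIn_of_cyclic [∀ I : Ideal R, DRing.HasLBaseChange (Ideal.Quotient.mk I)]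
    (K : Dual.D R) (a b : ℤ)
    (h : ∀ (I : Ideal R) (i : ℤ), i < a →
      IsZero ((DerivedCategory.homologyFunctor (ModuleCat.{u} (R ⧸ I)) i).obj
        ((DRing.LBaseChange (Ideal.Quotient.mk I)).obj K))) :
    ∀ (m : ℕ), DRing.HasTorAmplitudeIn R (a - m) b K → DRing.HasTorAmplitudeIn R a b K := by
  intro m
  induction m with
  | zero =>
    intro hK
    simpa using hK
  | succ m ih =>
    intro hK
    apply ih
    have h1 := hasTorAmplitudeIn_succ_of_cyclic K (a - ((m + 1 : ℕ) : ℤ)) b hK
      (fun I => h I _ (by push_cast; omega))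
    have e : a - ((m + 1 : ℕ) : ℤ) + 1 = a - (m : ℤ) := by push_cast; ring
    rwa [e] at h1

end Cx

end Groth.Agent.Lib.helper19.Shriek6
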