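import Mathlib
import Groth.Prelude.Def_DRing4
import Groth.Prelude.Def_DualSh
import Groth.Agent.Lib.Helper23.PerfT8
import Groth.Agent.Lib.Helper23.TA6
import Groth.Agent.Lib.Helper23.RelDual2

/-!
# `φ^!(R)` for `φ : R → A` flat of finite type: upper bounds (helper19)

`ψ : P = R[x₁..xₙ] → A` surjective, `A` flat over the Noetherian ring `R`.
* `hasProjectiveDimensionLT_of_flat`: `pd_P A ≤ n` (sharpening helper23's `exists_hasProjectiveDimensionLT_of_flat`);
* `hasTorAmplitudeIn_shriekVia_self`: `φ^!(R)|_R` has tor amplitude in `[-n, 0]`;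
* `subsingleton_HD_shriekVia_self_of_pos`: `H^i(φ^!(R)) = 0` for `i > 0`.
-/

set_option autoImplicit false
universe u
open CategoryTheory CategoryTheory.Limits MonoidalCategory Opposite DerivedCategory TensorProduct
open HomologicalComplex

attribute [local instance] HasDerivedCategory.standard

namespace Groth.Agent.Lib.helper19.Shriek7

open Groth.Agent.Lib.helper23.RAdj Groth.Agent.Lib.helper23.TA
  Groth.Agent.Lib.helper23.PCohCore Groth.Agent.Lib.helper23.DRingPC
  Groth.Agent.Lib.helper23.PerfT Groth.Agent.Lib.helper23.DualD Groth.Agent.Lib.helper23.TensHom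
  Groth.Agent.Lib.helper23.RelDual Groth.Agent.Lib.helper23.PCohAmp

/-- a flat quotient `A` of `P = R[x₁..xₙ]`, `R` Noetherian, has projective dimension `≤ n` over `P`. -/
theorem hasProjectiveDimensionLT_of_flat (R A : Type u) [CommRing R] [CommRing A]
    [IsNoetherianRing R] [Algebra R A] [Module.Flat R A] (n : ℕ)
    (ψ : MvPolynomial (Fin n) R →ₐ[R] A) (hψ : Function.Surjective ψ) :
    HasProjectiveDimensionLT (BA ψ.toRingHom) (n + 1) := by
  let P := MvPolynomial (Fin n) R
  have hfin : Module.Finite P (BA ψ.toRingHom) := by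
    letI := ψ.toRingHom.toAlgebra
    exact Module.Finite.of_surjective (Algebra.linearMap P A) hψ
  let K : Dual.D P := (DerivedCategory.singleFunctor (ModuleCat.{u} P) 0).obj (BA ψ.toRingHom)
  have hnpc : ∀ m : ℤ, NPC (FF P) m K :=
    (forall_npc_single_iff_of_noetherian P (BA ψ.toRingHom)).2 hfin
  have hK : DRing.IsPseudoCoherent' P K := by
    rw [isPseudoCoherent'_iff_npc]
    exact hnpc
  have hflat : Module.Flat R ((ModuleCat.restrictScalars.{u} (algebraMap R P)).obj
      (BA ψ.toRingHom)) := by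
    let l : A ≃ₗ[R] ((ModuleCat.restrictScalars.{u} (algebraMap R P)).obj (BA ψ.toRingHom)) :=
      { toFun := fun a => a
        invFun := fun a => a
        left_inv := fun _ => rfl
        right_inv := fun _ => rfl
        map_add' := fun _ _ => rfl
        map_smul' := fun r a => by
          show r • a = (ψ (algebraMap R P r)) * a
          rw [AlgHom.commutes, Algebra.smul_def] }
    exact Module.Flat.of_linearEquiv l.symm
  have hKa : DRing.HasTorAmplitudeIn R 0 0 ((DRing.restrictD (algebraMap R P)).obj K) := by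
    refine hasTorAmplitudeIn_of_iso
      (((ModuleCat.restrictScalars.{u} (algebraMap R P)).mapDerivedCategorySingleFunctor 0).app
        (BA ψ.toRingHom)).symm ?_
    exact hasTorAmplitudeIn_single_flat _ hflat 0
  have hTA := (Groth.Agent.Lib.helper23.RegFibre.isPerfect_of_fibres_globalDimension (A := R) (B := P) n
    (fun p M _ _ => hgl_mvPolynomial R n p M) 0 0 K hK hKa).2
  obtain ⟨E, hE, hz, ⟨e⟩⟩ := amp_FP_of_npc_of_hasTorAmplitudeIn K (0 - (n : ℤ)) 0 (hnpc _) hTA
  apply HasProjectiveDimensionLT.mk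
  intro i hi Y x
  apply (Abelian.Ext.homEquiv (C := ModuleCat.{u} P)).injective
  have hsub : Subsingleton ((DerivedCategory.singleFunctor (ModuleCat.{u} P) 0).obj (BA ψ.toRingHom) ⟶
      (Dual.inD P Y)⟦(i : ℤ)⟧) :=
    Groth.Agent.Lib.helper23.ProjAmp.extD_subsingleton_of_projAmp _ (0 - (n : ℤ)) 0
      ⟨E, hz, fun j => (hE j).2, ⟨e⟩⟩ Y (i : ℤ) (Or.inr (by omega))
  exact hsub.elim _ _


/-- the tor amplitude over `R` of `φ^!(R)` is in `[-n, 0]`, `φ : R → A` flat of finite type presented with `n` variables. -/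
theorem hasTorAmplitudeIn_shriekVia_self (R A : Type u) [CommRing R] [CommRing A]
    [IsNoetherianRing R] [Algebra R A] [Module.Flat R A] (n : ℕ)
    (ψ : MvPolynomial (Fin n) R →ₐ[R] A) (hψ : Function.Surjective ψ)
    [DRing.HasLBaseChange (algebraMap R (MvPolynomial (Fin n) R))]
    (Rψ : Dual.D (MvPolynomial (Fin n) R) ⥤ Dual.D A) (adj : DRing.restrictD ψ.toRingHom ⊣ Rψ) :
    DRing.HasTorAmplitudeIn R (-(n : ℤ)) 0
      ((DRing.restrictD (algebraMap R A)).obj (Dual2.shriekVia n Rψ (Dual.inD R R))) := by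
  classical
  let P := MvPolynomial (Fin n) R
  let ψ' : P →+* A := ψ.toRingHom
  obtain ⟨hfin, -⟩ := exists_hasProjectiveDimensionLT_of_flat R A n ψ hψ
  have hpd := hasProjectiveDimensionLT_of_flat R A n ψ hψ
  haveI := hfin
  haveI := hpd
  haveI : IsNoetherianRing P := inferInstance
  obtain ⟨I, u, hI, hu, -, hIinj⟩ :=
    Groth.Agent.Lib.Helper25.KInjMain.exists_kInjective_resolution (𝟙_ (DRing.Cx P))
  haveI := hI
  haveI := hu
  haveI : ∀ j, Injective (I.X j) := hIinj
  haveI : CochainComplex.IsKInjective (Gc ψ' I) := isKInjective_map_of_adj (adjm ψ') I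
  let e4 : Rψ.obj ((DRing.LBaseChange (algebraMap R P)).obj (Dual.inD R R)) ≅ Q.obj (Gc ψ' I) :=
    Rψ.mapIso (lbcUnitIso ≪≫ asIso (Q.map u)) ≪≫ (compIso (adjm ψ') Rψ adj I).symm
  let eu : Q.obj (𝟙_ (DRing.Cx P)) ≅ Q.obj I := asIso (Q.map u)
  have hIamp : DRing.HasTorAmplitudeIn P 0 0 (Q.obj I) :=
    hasTorAmplitudeIn_of_iso
      ((DerivedCategory.singleFunctorIsoCompQ (ModuleCat.{u} P) 0).app (ModuleCat.of P P) ≪≫ eu)
      (hasTorAmplitudeIn_single_flat (ModuleCat.of P P) (inferInstance : Module.Flat P P) 0)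
  have h1 : DRing.HasTorAmplitudeIn P 0 n (Q.obj ((homCx I).obj (op (BA ψ')))) :=
    hasTorAmplitudeIn_homCx I hIamp n (BA ψ')
  have h2 : DRing.HasTorAmplitudeIn P 0 n
      ((DRing.restrictD ψ').obj (Rψ.obj ((DRing.LBaseChange (algebraMap R P)).obj
        (Dual.inD R R)))) :=
    hasTorAmplitudeIn_of_iso ((ρ ψ' I).symm ≪≫ (DRing.restrictD ψ').mapIso e4.symm) h1
  have hPfl : DRing.HasTorAmplitudeIn R (-((0 : ℕ) : ℤ)) 0 (Dual.inD R P) := by
    have := hasTorAmplitudeIn_single_flat (ModuleCat.of R P) (inferInstance : Module.Flat R P) 0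
    simpa using this
  have h3 := hasTorAmplitudeIn_restrict (A := R) (B := P) 0 hPfl _ 0 n h2
  have hcomp : algebraMap R A = ψ'.comp (algebraMap R P) := by
    ext r
    exact (ψ.commutes r).symm
  have h4 : DRing.HasTorAmplitudeIn R 0 n ((DRing.restrictD (algebraMap R A)).obj
      (Rψ.obj ((DRing.LBaseChange (algebraMap R P)).obj (Dual.inD R R)))) := by
    have := hasTorAmplitudeIn_of_iso
      ((Groth.Agent.Lib.helper23.Kz.restrictDCompIso (algebraMap R P) ψ' (algebraMap R A) hcomp).app _) h3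
    simpa using this
  have h5 := hasTorAmplitudeIn_shift h4 (n : ℤ)
  have h6 := hasTorAmplitudeIn_of_iso
    (((DRing.restrictD (algebraMap R A)).commShiftIso (n : ℤ)).app _).symm h5
  have e1 : (0 : ℤ) - (n : ℤ) = -(n : ℤ) := by ring
  have e2 : (n : ℤ) - (n : ℤ) = 0 := by ring
  rw [e1, e2] at h6
  exact h6

/-- `H^i(φ^!(R)) = 0` for `i > 0`, `φ : R → A` flat of finite type. -/
theorem subsingleton_HD_shriekVia_self_of_pos (R A : Type u) [CommRing R] [CommRing A]
    [IsNoetherianRing R] [Algebra R A] [Module.Flat R A] (n : ℕ)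
    (ψ : MvPolynomial (Fin n) R →ₐ[R] A) (hψ : Function.Surjective ψ)
    [DRing.HasLBaseChange (algebraMap R (MvPolynomial (Fin n) R))]
    (Rψ : Dual.D (MvPolynomial (Fin n) R) ⥤ Dual.D A) (adj : DRing.restrictD ψ.toRingHom ⊣ Rψ)
    (i : ℤ) (hi : 0 < i) :
    Subsingleton (Dual.HD A (Dual2.shriekVia n Rψ (Dual.inD R R)) i) :=
  subsingleton_HD_of_isZero_restrictD (algebraMap R A) _ i
    (isZero_homology_of_hasTorAmplitudeIn (hasTorAmplitudeIn_shriekVia_self R A n ψ hψ Rψ adj) i
      (Or.inr hi))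

end Groth.Agent.Lib.helper19.Shriek7
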