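import Mathlib
import Groth.Prelude.Def_TrivBC
import Groth.Prelude.Def_DualSh
import Groth.Agent.Lib.Helper23.TIB8
import Groth.Agent.Lib.Helper23.RelDual7
import Groth.Agent.Lib.Helper23.RelDual2
import Groth.Agent.Lib.Helper3.FibreDimBC
import Groth.Agent.Lib.Helper19.Shriek5

/-!
# `φ^!(R)|_R ⊗^L_R R/I` for `φ : R → A` flat of finite type (helper19)

* `fibreDimAt_baseChange_le`: local fibre dimensions do not increase under base change;
* `subsingleton_HD_shriekVia_of_fibreDim_le`: `H^i(φ^!(R)) = 0` for `i < -d` if all fibres have local dimension `≤ d`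
  (global form of `Shriek5`);
* `isZero_homology_LBaseChange_restrictD_shriekVia`: for `φ` flat, `H^i(φ^!(R)|_R ⊗^L_R R/I) = 0` for `i < -d` (base
  change for `φ^!` (helper23, S1807) + tor independent base change (helper23, `TIB4.isIso_cmp`)).
-/

set_option autoImplicit false
universe u
open CategoryTheory CategoryTheory.Limits MonoidalCategory Opposite DerivedCategory TensorProduct
  AlgebraicGeometry

attribute [local instance] HasDerivedCategory.standard

namespace Groth.Agent.Lib.helper19.Shriek8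

open Groth.Agent.Lib.helper23.TBC Groth.Agent.Lib.helper23.PerfT Groth.Agent.Lib.helper13.ExtKFlat
  Groth.Agent.Lib.helper13.KFlat Groth.Agent.Lib.helper13.RKF Groth.Agent.Lib.helper23.RelDual
  Groth.Agent.Lib.helper23.TIB Groth.Agent.Lib.helper23

/-- the local fibre dimensions of a base change are bounded by those of the original map. -/
theorem fibreDimAt_baseChange_le (R A R' : Type u) [CommRing R] [CommRing A] [CommRing R']
    [Algebra R A] [Algebra R R'] [Algebra.FiniteType R A] (d : ℕ)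
    (hd : ∀ q : PrimeSpectrum A,
      FlatMor.fibreDimAt (Spec.map (CommRingCat.ofHom (algebraMap R A))) q ≤ (d : WithBot ℕ∞))
    (q' : PrimeSpectrum (R' ⊗[R] A)) :
    FlatMor.fibreDimAt (Spec.map (CommRingCat.ofHom (algebraMap R' (R' ⊗[R] A)))) q' ≤
      (d : WithBot ℕ∞) := by
  haveI : LocallyOfFiniteType (Spec.map (CommRingCat.ofHom (algebraMap R A))) := by
    rw [HasRingHomProperty.Spec_iff (P := @LocallyOfFiniteType)]
    change (algebraMap R A).FiniteType
    rw [RingHom.finiteType_algebraMap]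
    infer_instance
  have sqT : IsPullback
      (Spec.map (CommRingCat.ofHom
        (Algebra.TensorProduct.includeRight.toRingHom : A →+* R' ⊗[R] A)))
      (Spec.map (CommRingCat.ofHom
        (Algebra.TensorProduct.includeLeftRingHom : R' →+* R' ⊗[R] A)))
      (Spec.map (CommRingCat.ofHom (algebraMap R A)))
      (Spec.map (CommRingCat.ofHom (algebraMap R R'))) :=
    (isPullback_SpecMap_of_isPushout _ _ _ _
      (CommRingCat.isPushout_tensorProduct R R' A)).flip
  have h1 := Groth.Agent.Lib.helper3.FibreDimBC.fibreDimAt_eq_of_isPullback _ _ _ _ sqT q'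
  have h2 : (Algebra.TensorProduct.includeLeftRingHom : R' →+* R' ⊗[R] A) =
      algebraMap R' (R' ⊗[R] A) := rfl
  rw [h2] at h1
  rw [h1]
  exact hd _


open Groth.Agent.Lib.helper19

/-- `H^i(φ^!(R)) = 0` for `i < -d` if all fibres have local dimension `≤ d` everywhere. -/
theorem subsingleton_HD_shriekVia_of_fibreDim_le (R A : Type u) [CommRing R] [CommRing A]
    [IsNoetherianRing R] [Algebra R A] (n : ℕ)
    (ψ : MvPolynomial (Fin n) R →ₐ[R] A) (hψ : Function.Surjective ψ)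
    [DRing.HasLBaseChange (algebraMap R (MvPolynomial (Fin n) R))]
    (Rψ : Dual.D (MvPolynomial (Fin n) R) ⥤ Dual.D A) (adj : DRing.restrictD ψ.toRingHom ⊣ Rψ)
    (d : ℕ) (hd : ∀ q : PrimeSpectrum A,
      FlatMor.fibreDimAt (Spec.map (CommRingCat.ofHom (algebraMap R A))) q ≤ (d : WithBot ℕ∞))
    (i : ℤ) (hi : i + d < 0) :
    Subsingleton (Dual.HD A (Dual2.shriekVia n Rψ (Dual.inD R R)) i) := by
  refine Module.subsingleton_of_localization_maximal (R := A)
    (M := Dual.HD A (Dual2.shriekVia n Rψ (Dual.inD R R)) i)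
    (fun P _ => LocalizedModule P.primeCompl (Dual.HD A (Dual2.shriekVia n Rψ (Dual.inD R R)) i))
    (fun P _ => LocalizedModule.mkLinearMap P.primeCompl
      (Dual.HD A (Dual2.shriekVia n Rψ (Dual.inD R R)) i)) ?_
  intro P hP
  exact Shriek5.subsingleton_localizedModule_HD_shriekVia R A n ψ hψ ⟨P, hP.isPrime⟩ d (hd _)
    Rψ adj i hi

attribute [local instance] Algebra.TensorProduct.rightAlgebra

open Groth.Agent.Lib.helper7.TorAPI in
/-- **vanishing of `H^i(φ^!(R)|_R ⊗^L_R R/I)` for `i < -d`**, `φ` flat with fibres of local dimension `≤ d`. -/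
theorem isZero_homology_LBaseChange_restrictD_shriekVia (R A : Type u) [CommRing R] [CommRing A]
    [IsNoetherianRing R] [IsNoetherianRing A] [Algebra R A] [Module.Flat R A] (n : ℕ)
    (ψ : MvPolynomial (Fin n) R →ₐ[R] A) (hψ : Function.Surjective ψ)
    [DRing.HasLBaseChange (algebraMap R (MvPolynomial (Fin n) R))]
    (Rψ : Dual.D (MvPolynomial (Fin n) R) ⥤ Dual.D A) (adj : DRing.restrictD ψ.toRingHom ⊣ Rψ)
    (d : ℕ) (hd : ∀ q : PrimeSpectrum A,
      FlatMor.fibreDimAt (Spec.map (CommRingCat.ofHom (algebraMap R A))) q ≤ (d : WithBot ℕ∞))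
    (I : Ideal R) [DRing.HasLBaseChange (Ideal.Quotient.mk I)] (i : ℤ) (hi : i + d < 0) :
    IsZero ((DerivedCategory.homologyFunctor (ModuleCat.{u} (R ⧸ I)) i).obj
      ((DRing.LBaseChange (Ideal.Quotient.mk I)).obj
        ((DRing.restrictD (algebraMap R A)).obj (Dual2.shriekVia n Rψ (Dual.inD R R))))) := by
  obtain ⟨ψ'', hψ''⟩ := exists_presentation_baseChange R (R ⧸ I) A n ψ hψ
  haveI : IsNoetherianRing ((R ⧸ I) ⊗[R] A) :=
    isNoetherianRing_of_surjective _ _ ψ''.toRingHom hψ''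
  obtain ⟨Rψ'', ⟨adj''⟩⟩ := RHomEx.exists_rightAdjoint_restrictD ψ''.toRingHom
  haveI : DRing.HasLBaseChange (algebraMap (R ⧸ I) (MvPolynomial (Fin n) (R ⧸ I))) :=
    hasLBaseChange _
  haveI : DRing.HasLBaseChange (algebraMap R (R ⧸ I)) := hasLBaseChange _
  haveI : DRing.HasLBaseChange
      (Algebra.TensorProduct.includeRight : A →ₐ[R] (R ⧸ I) ⊗[R] A).toRingHom := hasLBaseChange _
  obtain ⟨j⟩ := shriekVia_baseChange_of_flat R (R ⧸ I) A n ψ hψ Rψ adj n ψ'' hψ'' Rψ'' adj''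
    (Dual.inD R R)
  obtain ⟨e1⟩ := nonempty_lbc_unit_iso (R := R) (k := R ⧸ I)
  let e4 : Dual2.shriekVia n Rψ'' ((DRing.LBaseChange (algebraMap R (R ⧸ I))).obj (Dual.inD R R)) ≅
      Dual2.shriekVia n Rψ'' (Dual.inD (R ⧸ I) (R ⧸ I)) :=
    (shiftFunctor (Dual.D ((R ⧸ I) ⊗[R] A)) (n : ℤ)).mapIso
      (Rψ''.mapIso ((DRing.LBaseChange
        (algebraMap (R ⧸ I) (MvPolynomial (Fin n) (R ⧸ I)))).mapIso e1))
  haveI : Algebra.FiniteType R A := Algebra.FiniteType.of_surjective ψ hψ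
  have hsub : Subsingleton (Dual.HD ((R ⧸ I) ⊗[R] A)
      (Dual2.shriekVia n Rψ'' (Dual.inD (R ⧸ I) (R ⧸ I))) i) :=
    subsingleton_HD_shriekVia_of_fibreDim_le (R ⧸ I) ((R ⧸ I) ⊗[R] A) n ψ'' hψ'' Rψ'' adj'' d
      (fibreDimAt_baseChange_le R A (R ⧸ I) d hd) i hi
  have hz1 : IsZero ((DerivedCategory.homologyFunctor (ModuleCat.{u} ((R ⧸ I) ⊗[R] A)) i).obj
      ((DRing.LBaseChange
        (Algebra.TensorProduct.includeRight : A →ₐ[R] (R ⧸ I) ⊗[R] A).toRingHom).obj
        (Dual2.shriekVia n Rψ (Dual.inD R R)))) :=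
    (ModuleCat.isZero_of_subsingleton _).of_iso
      ((DerivedCategory.homologyFunctor _ i).mapIso (j ≪≫ e4))
  -- the comparison isomorphism
  haveI : DRing.HasLBaseChange (algebraMap A ((R ⧸ I) ⊗[R] A)) :=
    (inferInstance : DRing.HasLBaseChange
      (Algebra.TensorProduct.includeRight.toRingHom : A →+* (R ⧸ I) ⊗[R] A))
  obtain ⟨adjρ, -⟩ := exists_adjunction (algebraMap R (R ⧸ I))
  obtain ⟨adjα, -⟩ := exists_adjunction (algebraMap A ((R ⧸ I) ⊗[R] A))
  haveI p1 : Algebra.IsPushout R A (R ⧸ I) ((R ⧸ I) ⊗[R] A) := TensorProduct.isPushout'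
  have h : (algebraMap A ((R ⧸ I) ⊗[R] A)).comp (algebraMap R A) =
      (algebraMap (R ⧸ I) ((R ⧸ I) ⊗[R] A)).comp (algebraMap R (R ⧸ I)) := by
    rw [← IsScalarTower.algebraMap_eq, ← IsScalarTower.algebraMap_eq]
  have htor : ∀ p : ℕ, 1 ≤ p → Subsingleton (DRing.Tor R p A (R ⧸ I)) := by
    intro p hp
    obtain ⟨q, rfl⟩ : ∃ q, p = q + 1 := ⟨p - 1, by omega⟩
    haveI : Module.Flat R (ModuleCat.of R A) := inferInstanceAs (Module.Flat R A)
    exact ModuleCat.subsingleton_of_isZero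
      (isZero_T_flat (ModuleCat.of R A) (ModuleCat.of R (R ⧸ I)) q)
  haveI := isIso_cmp R A (R ⧸ I) ((R ⧸ I) ⊗[R] A) htor adjρ adjα h
    (Dual2.shriekVia n Rψ (Dual.inD R R))
  have hz2 : IsZero ((DerivedCategory.homologyFunctor (ModuleCat.{u} (R ⧸ I)) i).obj
      ((DRing.restrictD (algebraMap (R ⧸ I) ((R ⧸ I) ⊗[R] A))).obj
        ((DRing.LBaseChange (algebraMap A ((R ⧸ I) ⊗[R] A))).obj
          (Dual2.shriekVia n Rψ (Dual.inD R R))))) :=
    ((ModuleCat.restrictScalars.{u} (algebraMap (R ⧸ I) ((R ⧸ I) ⊗[R] A))).map_isZero hz1).of_iso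
      ((HomNat.homologyNatIso (ModuleCat.restrictScalars.{u}
        (algebraMap (R ⧸ I) ((R ⧸ I) ⊗[R] A))) i).app _)
  exact hz2.of_iso ((DerivedCategory.homologyFunctor _ i).mapIso
    (asIso (TrivBC.cmp adjρ adjα h (Dual2.shriekVia n Rψ (Dual.inD R R)))))

end Groth.Agent.Lib.helper19.Shriek8
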