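import Mathlib
import Groth.Prelude.Def_Disc
import Groth.Prelude.Def_Wider
import Groth.Prelude.Def_DDual2
import Groth.Agent.Lib.Helper23.RAdj6
import Groth.Agent.Lib.Helper23.KzReg2

/-!
# `H^0(RHom_A(B, A)) = Hom_A(B, A)` as `B`-modules (helper19)

* `coextEquivOmega`: the coextension of scalars of `A` along `A → B` is `Disc.Omega A B` (`B`-linearly);
* `nonempty_HD_rightAdjoint_equiv_omega`: for any right adjoint `R'` of restriction of scalars `D(B) ⥤ D(A)`,
  `H^0(R'(A[0])) ≃ₗ[B] Disc.Omega A B` (left exactness of coextension + helper23's model `cω`).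
-/

set_option autoImplicit false
universe u
open CategoryTheory CategoryTheory.Limits DerivedCategory Pretriangulated Opposite

attribute [local instance] HasDerivedCategory.standard

namespace Groth.Agent.Lib.helper19.ShriekOmega1

open Groth.Agent.Lib.helper23.DualD Groth.Agent.Lib.helper23.RAdj

variable {A B : Type u} [CommRing A] [CommRing B] [Algebra A B]

/-- the coextension of scalars of `A` is `ω_{B/A} = Hom_A(B, A)`. -/
noncomputable def coextEquivOmega :
    ((Gm (algebraMap A B)).obj (ModuleCat.of A A)) ≃ₗ[B] Disc.Omega A B where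
  toFun g := ⟨(show (BA (algebraMap A B)) →ₗ[A] A from g) ∘ₗ (equivBA (A := A) (B := B)).toLinearMap⟩
  invFun f := (show (Gm (algebraMap A B)).obj (ModuleCat.of A A) from
    (f.toLinearMap ∘ₗ (equivBA (A := A) (B := B)).symm.toLinearMap))
  left_inv g := by
    apply LinearMap.ext
    intro x
    rfl
  right_inv f := by
    apply Disc.Omega.ext
    apply LinearMap.ext
    intro x
    rfl
  map_add' g g' := by
    apply Disc.Omega.ext
    apply LinearMap.ext
    intro x
    rfl
  map_smul' b g := by
    apply Disc.Omega.ext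
    apply LinearMap.ext
    intro x
    show (show (BA (algebraMap A B)) →ₗ[A] A from g) (show BA (algebraMap A B) from (x * b)) =
      (show (BA (algebraMap A B)) →ₗ[A] A from g) (show BA (algebraMap A B) from (b * x))
    rw [mul_comm]


/-- `H^0(RHom_A(B, A)) ≃ₗ[B] ω_{B/A}` for `R'` a right adjoint of restriction of scalars `D(B) ⥤ D(A)`. -/
theorem nonempty_HD_rightAdjoint_equiv_omega (R' : Dual.D A ⥤ Dual.D B)
    (adjR : DRing.restrictD (algebraMap A B) ⊣ R') :
    Nonempty (Dual.HD B (R'.obj (Dual.inD A A)) 0 ≃ₗ[B] Disc.Omega A B) := by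
  have hK : ∀ j : ℤ, j < 0 → IsZero ((homologyFunctor (ModuleCat.{u} A) j).obj (Dual.inD A A)) :=
    fun j hj => DerivedCategory.isZero_of_isGE (Dual.inD A A) 0 j hj
  obtain ⟨I, hI, hIge, ⟨e⟩⟩ := exists_bddBelow_model (Dual.inD A A) 0 hK
  haveI := hI
  haveI := hIge
  haveI : I.IsKInjective := CochainComplex.isKInjective_of_injective I 0
  haveI := isKInjective_Gc (algebraMap A B) I 0
  have e1 : (homologyFunctor (ModuleCat.{u} B) 0).obj (R'.obj (Dual.inD A A)) ≅
      (Gc (algebraMap A B) I).homology 0 :=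
    (homologyFunctor (ModuleCat.{u} B) 0).mapIso (cω (algebraMap A B) I R' adjR e).symm ≪≫
      (homologyFunctorFactors (ModuleCat.{u} B) 0).app (Gc (algebraMap A B) I)
  have hf : (I.sc 0).f = 0 := by
    apply IsZero.eq_of_src
    exact CochainComplex.isZero_of_isStrictlyGE I 0 _ (by simp)
  haveI : PreservesLimits (Gm (algebraMap A B)) := (adjm (algebraMap A B)).rightAdjoint_preservesLimits
  haveI := Functor.preservesLeftHomology_of_zero_f (Gm (algebraMap A B)) (I.sc 0) hf
  have e2 : (Gc (algebraMap A B) I).homology 0 ≅ (Gm (algebraMap A B)).obj (I.homology 0) :=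
    (I.sc 0).mapHomologyIso (Gm (algebraMap A B))
  have e3 : I.homology 0 ≅ ModuleCat.of A A :=
    ((homologyFunctorFactors (ModuleCat.{u} A) 0).app I).symm ≪≫
      (homologyFunctor (ModuleCat.{u} A) 0).mapIso e ≪≫
      (DerivedCategory.singleFunctorCompHomologyFunctorIso (ModuleCat.{u} A) 0).app (ModuleCat.of A A)
  exact ⟨(e1 ≪≫ e2 ≪≫ (Gm (algebraMap A B)).mapIso e3).toLinearEquiv ≪≫ₗ coextEquivOmega⟩

end Groth.Agent.Lib.helper19.ShriekOmega1
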