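import Mathlib
import Groth.Agent.LibFibreDimBridge29
import Groth.Agent.S5792
import Groth.Agent.S1790
import Groth.Agent.S8953
import Groth.Agent.Lib.Helper23.RHomEx
import Groth.Agent.Lib.Helper13.RKF2

/-!
# FlatOmega1 (helper19): the relative dualizing module of a flat quasi-finite algebra is flat

For `A → B' → B` with `A → B'` finite and `Spec B → Spec B'` an open immersion:
* `quasiFinite_of_finite_of_isOpenImmersion`, `finiteType_of_finite_of_isOpenImmersion`;
* `fibreDimAt_le_zero_of_quasiFinite`: fibre dimension `≤ 0` at every point of a quasi-finite algebra;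
* `homologyRestrictIso`: `H^n` commutes with restriction of scalars;
* `flat_homology_zero_of_hasTorAmplitudeIn`: tor amplitude `[0,0]` ⇒ `H^0` flat;
* `flat_omega`: if moreover `A → B` is flat (Noetherian rings), `B ⊗[B'] Hom_A(B', A)` is `A`-flat
  (S1790(b) with `d = 0` and S8953).
-/

set_option autoImplicit false
universe u
open CategoryTheory CategoryTheory.Limits AlgebraicGeometry DerivedCategory
open scoped TensorProduct
attribute [local instance] HasDerivedCategory.standard

namespace Groth.Agent.Lib.helper19.FlatOmega1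


variable (R S : Type u) [CommRing R] [CommRing S] [Algebra R S]

/-- the fibre dimension at a point is at most the Krull dimension of the fibre ring
(copied from helper22's `SyntRetractB` to keep the import closure small). -/
theorem fibreDimAt_le_ringKrullDim_fiber (q : PrimeSpectrum S) (p : Ideal R) [p.IsPrime]
    (hq : q.asIdeal.comap (algebraMap R S) = p) :
    FlatMor.fibreDimAt (Spec.map (CommRingCat.ofHom (algebraMap R S))) q ≤
      ringKrullDim (p.Fiber S) := by
  have hq' : q ∈ PrimeSpectrum.comap (algebraMap R S) ⁻¹'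
      {(⟨p, inferInstance⟩ : PrimeSpectrum R)} := PrimeSpectrum.ext hq
  set Q := PrimeSpectrum.preimageHomeomorphFiber R S ⟨p, inferInstance⟩ ⟨q, hq'⟩ with hQ
  have h1 : (PrimeSpectrum.comap Algebra.TensorProduct.includeRight.toRingHom Q :
      PrimeSpectrum S) = q := by
    have := (PrimeSpectrum.preimageHomeomorphFiber R S ⟨p, inferInstance⟩).symm_apply_apply
      ⟨q, hq'⟩
    exact congrArg Subtype.val this
  rw [← h1, Groth.Agent.LibFibreDimBridge29.fibreDimAt_comap_includeRight R S ⟨p, inferInstance⟩ Q]
  rw [← PrimeSpectrum.topologicalKrullDim_eq_ringKrullDim, Groth.Agent.S5792.result]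
  exact le_iSup (fun x => FlatMor.localDim (PrimeSpectrum (p.Fiber S)) x) Q

/-- a quasi-finite algebra has fibre dimension `≤ 0` everywhere. -/
theorem fibreDimAt_le_zero_of_quasiFinite [Algebra.QuasiFinite R S] (q : PrimeSpectrum S) :
    FlatMor.fibreDimAt (Spec.map (CommRingCat.ofHom (algebraMap R S))) q ≤ 0 := by
  set p : Ideal R := q.asIdeal.comap (algebraMap R S) with hp
  haveI : p.IsPrime := Ideal.comap_isPrime _ _
  refine (fibreDimAt_le_ringKrullDim_fiber R S q p rfl).trans ?_
  haveI : IsArtinianRing (p.Fiber S) := inferInstance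
  haveI : Ring.KrullDimLE 0 (p.Fiber S) := inferInstance
  exact Ring.krullDimLE_iff.mp inferInstance

variable (A B B' : Type u) [CommRing A] [CommRing B] [CommRing B']
  [Algebra A B] [Algebra A B'] [Algebra B' B] [IsScalarTower A B' B]

/-- `A → B' → B` finite followed by an open immersion is quasi-finite. -/
theorem quasiFinite_of_finite_of_isOpenImmersion [Module.Finite A B']
    (hopen : IsOpenImmersion (Spec.map (CommRingCat.ofHom (algebraMap B' B)))) :
    Algebra.QuasiFinite A B := by
  have h1 : LocallyQuasiFinite (Spec.map (CommRingCat.ofHom (algebraMap B' B))) := inferInstance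
  have h2 := (HasRingHomProperty.Spec_iff (P := @LocallyQuasiFinite)).1 h1
  haveI : Algebra.QuasiFinite B' B := RingHom.quasiFinite_algebraMap.mp h2
  exact Algebra.QuasiFinite.trans A B' B

/-- `A → B' → B` finite followed by an open immersion is of finite type. -/
theorem finiteType_of_finite_of_isOpenImmersion [Module.Finite A B']
    (hopen : IsOpenImmersion (Spec.map (CommRingCat.ofHom (algebraMap B' B)))) :
    Algebra.FiniteType A B := by
  have h1 : LocallyOfFiniteType (Spec.map (CommRingCat.ofHom (algebraMap B' B))) := inferInstance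
  have h2 := (HasRingHomProperty.Spec_iff (P := @LocallyOfFiniteType)).1 h1
  haveI : Algebra.FiniteType B' B := RingHom.finiteType_algebraMap.mp h2
  exact Algebra.FiniteType.trans (inferInstance : Algebra.FiniteType A B') inferInstance



section Restrict

variable {A B : Type u} [CommRing A] [CommRing B] (φ : A →+* B)

/-- `H^n` commutes with restriction of scalars (copy of helper23's `DCompl.homologyRestrictIso`,
to keep the import closure small). -/
noncomputable def homologyRestrictIso (L : DerivedCategory (ModuleCat.{u} B)) (n : ℤ) :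
    (DerivedCategory.homologyFunctor (ModuleCat.{u} A) n).obj
      ((ModuleCat.restrictScalars.{u} φ).mapDerivedCategory.obj L) ≅
    (ModuleCat.restrictScalars.{u} φ).obj
      ((DerivedCategory.homologyFunctor (ModuleCat.{u} B) n).obj L) := by
  let F := ModuleCat.restrictScalars.{u} φ
  let E := DerivedCategory.Q.objPreimage L
  let e : DerivedCategory.Q.obj E ≅ L := DerivedCategory.Q.objObjPreimageIso L
  refine (DerivedCategory.homologyFunctor (ModuleCat.{u} A) n).mapIso
    (F.mapDerivedCategory.mapIso e.symm) ≪≫ ?_
  refine (DerivedCategory.homologyFunctor (ModuleCat.{u} A) n).mapIso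
    (F.mapDerivedCategoryFactors.app E) ≪≫ ?_
  refine (DerivedCategory.homologyFunctorFactors (ModuleCat.{u} A) n).app _ ≪≫ ?_
  refine (E.sc n).mapHomologyIso F ≪≫ ?_
  refine F.mapIso ((DerivedCategory.homologyFunctorFactors (ModuleCat.{u} B) n).app E).symm ≪≫ ?_
  exact F.mapIso ((DerivedCategory.homologyFunctor (ModuleCat.{u} B) n).mapIso e)

end Restrict

section Single

variable {A : Type u} [CommRing A]

/-- the cohomology in degree `i` of a complex concentrated in degree `i`. -/
noncomputable def homologyIsoOfVanishesOutside (S : DRing.Cx A) (i : ℤ)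
    (hv : DRing.VanishesOutside S i i) : S.homology i ≅ S.X i :=
  S.isoHomologyι i (i + 1) (by simp) (IsZero.eq_of_tgt (hv (i + 1) (Or.inr (by omega))) _ _) ≪≫
    (S.pOpcyclesIso (i - 1) i (by simp) (IsZero.eq_of_src (hv (i - 1) (Or.inl (by omega))) _ _)).symm

/-- tor amplitude in `[0, 0]` ⇒ `H^0` is flat. -/
theorem flat_homology_zero_of_hasTorAmplitudeIn (K : Dual.D A)
    (h : DRing.HasTorAmplitudeIn A 0 0 K) :
    Module.Flat A ((DerivedCategory.homologyFunctor (ModuleCat.{u} A) 0).obj K) := by
  obtain ⟨E, hv, hf, ⟨e⟩⟩ := h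
  haveI := hf 0
  have i1 : (DerivedCategory.homologyFunctor (ModuleCat.{u} A) 0).obj K ≅ E.X 0 :=
    (DerivedCategory.homologyFunctor (ModuleCat.{u} A) 0).mapIso e.symm ≪≫
      (DerivedCategory.homologyFunctorFactors (ModuleCat.{u} A) 0).app E ≪≫
      homologyIsoOfVanishesOutside E 0 hv
  exact Module.Flat.of_linearEquiv i1.toLinearEquiv

end Single


section Main

variable (A B B' : Type u) [CommRing A] [CommRing B] [CommRing B']
  [IsNoetherianRing A] [IsNoetherianRing B]
  [Algebra A B] [Algebra A B'] [Algebra B' B] [IsScalarTower A B' B]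

/-- **`ω_{B/A} = B ⊗[B'] Hom_A(B', A)` is `A`-flat for `A → B` flat quasi-finite.** -/
theorem flat_omega [Module.Flat A B] [Module.Finite A B']
    (hopen : IsOpenImmersion (Spec.map (CommRingCat.ofHom (algebraMap B' B)))) :
    Module.Flat A (B ⊗[B'] Disc.Omega A B') := by
  classical
  haveI : Algebra.FiniteType A B := finiteType_of_finite_of_isOpenImmersion A B B' hopen
  obtain ⟨n, ψ, hψ⟩ := Algebra.FiniteType.iff_quotient_mvPolynomial''.mp
    (inferInstance : Algebra.FiniteType A B)
  haveI : DRing.HasLBaseChange (algebraMap A (MvPolynomial (Fin n) A)) :=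
    Groth.Agent.Lib.helper13.RKF.hasLBaseChange _
  obtain ⟨Rψ, ⟨adj⟩⟩ := Groth.Agent.Lib.helper23.RHomEx.exists_rightAdjoint_restrictD ψ.toRingHom
  haveI : Algebra.QuasiFinite A B := quasiFinite_of_finite_of_isOpenImmersion A B B' hopen
  have h := (Groth.Agent.S1790.result A B n ψ hψ Rψ adj 0).2
    (fun q => by simpa using fibreDimAt_le_zero_of_quasiFinite A B q)
  have h' : DRing.HasTorAmplitudeIn A 0 0 ((DRing.restrictD (algebraMap A B)).obj
      (Dual2.shriekVia n Rψ (Dual.inD A A))) := by simpa using h
  haveI hflat := flat_homology_zero_of_hasTorAmplitudeIn _ h'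
  obtain ⟨e0⟩ := Groth.Agent.S8953.result A B B' hopen n ψ hψ Rψ adj
  set K := Dual2.shriekVia n Rψ (Dual.inD A A) with hK
  have i1 := (homologyRestrictIso (algebraMap A B) K 0).toLinearEquiv
  let e1 : ((ModuleCat.restrictScalars.{u} (algebraMap A B)).obj
      ((DerivedCategory.homologyFunctor (ModuleCat.{u} B) 0).obj K)) ≃ₗ[A]
      (B ⊗[B'] Disc.Omega A B') :=
    { toFun := fun x => e0 x
      map_add' := fun x y => e0.map_add x y
      map_smul' := fun a x => by
        exact (e0.map_smul (algebraMap A B a) x).trans (algebraMap_smul B a (e0 x))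
      invFun := fun y => e0.symm y
      left_inv := fun x => e0.symm_apply_apply x
      right_inv := fun y => e0.apply_symm_apply y }
  exact Module.Flat.of_linearEquiv (i1.trans e1).symm

end Main

end Groth.Agent.Lib.helper19.FlatOmega1
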