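import Groth.Agent.Lib.Helper7.TopDiffInv

/-!
# `Ω_{X/S}` of a smooth morphism is free of rank `r` on small basic opens (helper19, for helper20's S11924 plan)

* `exists_free_basicOpen`: for `f : X ⟶ S` quasi-separated and smooth of relative dimension `r`, every point `x`
  of an affine open `V` of `X` has a basic open neighbourhood `D(s) ⊆ V` such that for every basic open
  `D(s') ⊆ D(s)` of `V`, the module of sections `Γ(Ω_{X/S}, D(s'))` is free of rank `r` over `Γ(X, D(s'))`.
* `exists_free_of_le`: the underlying statement for arbitrary affine opens contained in a standard smooth chart.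
-/

set_option autoImplicit false
set_option linter.style.haveILetI false
set_option linter.unusedSectionVars false
universe u
open CategoryTheory CategoryTheory.Limits AlgebraicGeometry TopologicalSpace Opposite
open Scheme.Modules
open Groth.Agent.Lib.helper7

namespace Groth.Agent.Lib.helper19.FreeOmega

variable {X S : Scheme.{u}} (f : X ⟶ S) [QuasiSeparated f]

/-- Around every point there is an affine open `V₁` such that `Ω_{X/S}` restricted to `V₁` is free of rank `r`. -/
theorem exists_chart_iso (r : ℕ) [SmoothOfRelativeDimension r f] (x : X) :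
    ∃ V₁ : X.Opens, IsAffineOpen V₁ ∧ x ∈ V₁ ∧
      Nonempty ((Omega.sheaf f).restrict V₁.ι ≅ FlatMod.freeMod (↑V₁) r) := by
  haveI : (Omega.sheaf f).IsQuasicoherent := OmegaAffine.omega_qcoh f
  obtain ⟨W, hW, V, hV, hxV, e, hst⟩ :=
    SmoothOfRelativeDimension.exists_isStandardSmoothOfRelativeDimension (n := r) (f := f) x
  refine ⟨V, hV, hxV, ?_⟩
  letI := (f.appLE W V e).hom.toAlgebra
  obtain ⟨ψ, -⟩ := OmegaStruct.exists_sectionsEquiv f (OmegaSh.dOmega f)
    (OmegaUniv.isUniversal_dOmega f) hV hW e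
  haveI : Algebra.IsStandardSmoothOfRelativeDimension r Γ(S, W) Γ(X, V) := hst
  haveI : Nonempty V := ⟨⟨x, hxV⟩⟩
  haveI : Nontrivial Γ(X, V) := Scheme.component_nontrivial X V
  haveI : Algebra.IsStandardSmooth Γ(S, W) Γ(X, V) :=
    Algebra.IsStandardSmoothOfRelativeDimension.isStandardSmooth r
  have hrank : Module.rank Γ(X, V) Ω[Γ(X, V)⁄Γ(S, W)] = r :=
    Algebra.IsStandardSmoothOfRelativeDimension.rank_kaehlerDifferential r
  haveI : Module.Finite Γ(X, V) Ω[Γ(X, V)⁄Γ(S, W)] := inferInstance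
  have hfr : Module.finrank Γ(X, V) Ω[Γ(X, V)⁄Γ(S, W)] = r := by
    rw [Module.finrank, hrank]
    simp
  let b := Module.finBasisOfFinrankEq Γ(X, V) Ω[Γ(X, V)⁄Γ(S, W)] hfr
  let b' : Module.Basis (Fin r) Γ(X, V) Γ(Omega.sheaf f, V) := b.map ψ.symm
  exact Groth.Agent.Lib.helper16.FLF.restrict_iso_freeMod_of_sections (Omega.sheaf f) hV r b'.equivFun

/-- Around every point there is an open `V₁` such that `Γ(Ω_{X/S}, D)` is free of rank `r` for every affine open
`D ⊆ V₁`. -/
theorem exists_free_of_le (r : ℕ) [SmoothOfRelativeDimension r f] (x : X) :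
    ∃ V₁ : X.Opens, IsAffineOpen V₁ ∧ x ∈ V₁ ∧ ∀ D : X.Opens, IsAffineOpen D → D ≤ V₁ →
      Nonempty (Module.Basis (Fin r) Γ(X, D) Γ(Omega.sheaf f, D)) := by
  obtain ⟨V₁, hV₁, hx, ⟨iso⟩⟩ := exists_chart_iso f r x
  refine ⟨V₁, hV₁, hx, fun D hD hle => ?_⟩
  obtain ⟨iso'⟩ := Groth.Agent.Lib.helper16.FLF.restrict_iso_freeMod_of_le (Omega.sheaf f) hle r iso
  obtain ⟨e⟩ := Groth.Agent.Lib.helper16.FLF.sections_of_restrict_iso_freeMod (Omega.sheaf f) hD r iso'
  exact ⟨Module.Basis.ofEquivFun e⟩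

/-- **Ω of a smooth morphism is free of rank `r` on small basic opens of any affine open.** -/
theorem exists_free_basicOpen (r : ℕ) [SmoothOfRelativeDimension r f] (V : X.affineOpens) (x : X)
    (hx : x ∈ V.1) :
    ∃ s : Γ(X, V.1), x ∈ X.basicOpen s ∧ ∀ s' : Γ(X, V.1), X.basicOpen s' ≤ X.basicOpen s →
      Nonempty (Module.Basis (Fin r) Γ(X, X.basicOpen s') Γ(Omega.sheaf f, X.basicOpen s')) := by
  obtain ⟨V₁, hV₁, hxV₁, hfree⟩ := exists_free_of_le f r x
  obtain ⟨s, g, hsg, hxs⟩ := exists_basicOpen_le_affine_inter V.2 hV₁ x ⟨hx, hxV₁⟩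
  refine ⟨s, hxs, fun s' hs' => ?_⟩
  refine hfree (X.basicOpen s') (V.2.basicOpen s') ?_
  exact hs'.trans (hsg.le.trans (X.basicOpen_le g))

end Groth.Agent.Lib.helper19.FreeOmega
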