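import Mathlib
import Groth.Prelude.Def_GrSeg
import Groth.Agent.Lib.Helper19.Segre

/-!
# Helper lemmas for the graded dual (`GrSeg.IsGDual` of the prelude)
-/

set_option autoImplicit false
universe u
open scoped TensorProduct

namespace Groth.Agent.Lib.helper19.GDual

open Groth.Agent.Lib.helper19.Segre

section Proj

variable {k : Type u} [Field k] {R : Type u} [CommRing R] [Algebra k R] (𝒜 : ℤ → Submodule k R)
  [GradedAlgebra 𝒜]
  {M : Type u} [AddCommGroup M] [Module R M] [Module k M] [IsScalarTower k R M]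
  (ℳ : ℤ → AddSubgroup M) [DirectSum.Decomposition ℳ] [SetLike.GradedSMul 𝒜 ℳ]

theorem coe_decompose_congr (x : M) {i j : ℤ} (h : i = j) :
    ((DirectSum.decompose ℳ x i : ℳ i) : M) = ((DirectSum.decompose ℳ x j : ℳ j) : M) := by
  subst h; rfl

/-- the `k`-linear projection to the degree-`n` piece -/
noncomputable def projK (n : ℤ) : M →ₗ[k] M where
  toFun x := ((DirectSum.decompose ℳ x n : ℳ n) : M)
  map_add' x y := by rw [DirectSum.decompose_add, DirectSum.add_apply, AddSubgroup.coe_add]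
  map_smul' c x := by
    have h1 : c • x = (algebraMap k R c) • x := by rw [algebraMap_smul]
    rw [RingHom.id_apply, h1, decompose_smul_apply 𝒜 ℳ (SetLike.algebraMap_mem_graded 𝒜 c) x n,
      algebraMap_smul]
    congr 1
    exact coe_decompose_congr ℳ x (sub_zero n)

theorem projK_apply (n : ℤ) (x : M) :
    projK 𝒜 ℳ n x = ((DirectSum.decompose ℳ x n : ℳ n) : M) := rfl

theorem projK_mem (n : ℤ) (x : M) : projK 𝒜 ℳ n x ∈ ℳ n := SetLike.coe_mem _

theorem projK_of_mem {n : ℤ} {x : M} (hx : x ∈ ℳ n) : projK 𝒜 ℳ n x = x :=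
  DirectSum.decompose_of_mem_same ℳ hx

theorem projK_of_mem_ne {n m : ℤ} {x : M} (hx : x ∈ ℳ m) (h : m ≠ n) : projK 𝒜 ℳ n x = 0 :=
  DirectSum.decompose_of_mem_ne ℳ hx h

/-- elements with no component in degrees `< s`, a submodule when `R` is non-negatively graded -/
def geSub (hpos : ∀ n : ℤ, n < 0 → 𝒜 n = ⊥) (s : ℤ) : Submodule R M where
  carrier := {y | ∀ m : ℤ, m < s → ((DirectSum.decompose ℳ y m : ℳ m) : M) = 0}
  add_mem' {x y} hx hy m hm := by
    rw [DirectSum.decompose_add, DirectSum.add_apply, AddSubgroup.coe_add, hx m hm, hy m hm, add_zero]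
  zero_mem' m _ := by rw [DirectSum.decompose_zero]; rfl
  smul_mem' r y hy m hm := by
    classical
    show ((DirectSum.decompose ℳ (r • y) m : ℳ m) : M) = 0
    have h3 : r • y = ∑ c ∈ (DirectSum.decompose 𝒜 r).support, ((DirectSum.decompose 𝒜 r c : 𝒜 c) : R) • y := by
      conv_lhs => rw [← DirectSum.sum_support_decompose 𝒜 r]
      rw [Finset.sum_smul]
    rw [h3, DirectSum.decompose_sum, DFinsupp.finsetSum_apply, AddSubmonoidClass.coe_finsetSum]
    apply Finset.sum_eq_zero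
    intro c _
    rw [decompose_smul_apply 𝒜 ℳ (SetLike.coe_mem _) y m]
    by_cases hc : c < 0
    · have h' : ∀ z ∈ 𝒜 c, z = 0 := by
        intro z hz
        rwa [hpos c hc, Submodule.mem_bot] at hz
      rw [h' _ (SetLike.coe_mem _), zero_smul]
    · rw [hy (m - c) (by omega), smul_zero]

theorem mem_geSub (hpos : ∀ n : ℤ, n < 0 → 𝒜 n = ⊥) (s : ℤ) (y : M) :
    y ∈ geSub 𝒜 ℳ hpos s ↔ ∀ m : ℤ, m < s → ((DirectSum.decompose ℳ y m : ℳ m) : M) = 0 := Iff.rfl

theorem mem_geSub_of_mem (hpos : ∀ n : ℤ, n < 0 → 𝒜 n = ⊥) {s n : ℤ} (h : s ≤ n) {y : M} (hy : y ∈ ℳ n) :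
    y ∈ geSub 𝒜 ℳ hpos s := by
  intro m hm
  exact DirectSum.decompose_of_mem_ne ℳ hy (by omega)

theorem geSub_mono (hpos : ∀ n : ℤ, n < 0 → 𝒜 n = ⊥) {i j : ℤ} (hij : i ≤ j) :
    geSub 𝒜 ℳ hpos j ≤ geSub 𝒜 ℳ hpos i :=
  fun _ hy m hm => hy m (by omega)

theorem exists_mem_geSub (hpos : ∀ n : ℤ, n < 0 → 𝒜 n = ⊥) (a : M) :
    ∃ ja : ℤ, a ∈ geSub 𝒜 ℳ hpos ja := by
  classical
  by_cases hne : (DirectSum.decompose ℳ a).support.Nonempty
  · refine ⟨(DirectSum.decompose ℳ a).support.min' hne, ?_⟩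
    intro m hm
    by_contra hcon
    have hmem : m ∈ (DirectSum.decompose ℳ a).support := by
      rw [DFinsupp.mem_support_iff]
      intro h0
      exact hcon (by rw [h0]; rfl)
    have := Finset.min'_le _ m hmem
    omega
  · refine ⟨0, ?_⟩
    intro m _
    rw [Finset.not_nonempty_iff_eq_empty] at hne
    have : m ∉ (DirectSum.decompose ℳ a).support := by rw [hne]; simp
    rw [DFinsupp.notMem_support_iff] at this
    rw [this]; rfl

theorem exists_forall_mem_geSub (hpos : ∀ n : ℤ, n < 0 → 𝒜 n = ⊥) (s : Finset M) :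
    ∃ j0 : ℤ, ∀ x ∈ s, x ∈ geSub 𝒜 ℳ hpos j0 := by
  classical
  induction s using Finset.induction_on with
  | empty => exact ⟨0, by simp⟩
  | insert a t _ ih =>
    obtain ⟨ja, hja⟩ := exists_mem_geSub 𝒜 ℳ hpos a
    obtain ⟨jt, hjt⟩ := ih
    refine ⟨min ja jt, ?_⟩
    intro x hx
    rw [Finset.mem_insert] at hx
    rcases hx with rfl | hx
    · exact geSub_mono 𝒜 ℳ hpos (min_le_left _ _) hja
    · exact geSub_mono 𝒜 ℳ hpos (min_le_right _ _) (hjt x hx)

/-- a finitely generated graded module over a non-negatively graded ring is bounded below -/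
theorem exists_bound_below [Module.Finite R M] (hpos : ∀ n : ℤ, n < 0 → 𝒜 n = ⊥) :
    ∃ j0 : ℤ, ∀ j : ℤ, j < j0 → ∀ y ∈ ℳ j, y = 0 := by
  classical
  obtain ⟨s, hs⟩ := (Module.Finite.fg_top : (⊤ : Submodule R M).FG)
  obtain ⟨j0, hj0⟩ := exists_forall_mem_geSub 𝒜 ℳ hpos s
  refine ⟨j0, ?_⟩
  intro j hj y hy
  have h1 : Submodule.span R (s : Set M) ≤ geSub 𝒜 ℳ hpos j0 := Submodule.span_le.2 hj0
  rw [hs] at h1
  have h2 : y ∈ geSub 𝒜 ℳ hpos j0 := h1 trivial
  have h3 := h2 j hj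
  rwa [DirectSum.decompose_of_mem_same ℳ hy] at h3

end Proj


section Dual

variable {k : Type u} [Field k] {R : Type u} [CommRing R] [Algebra k R] (𝒜 : ℤ → Submodule k R)
  [GradedAlgebra 𝒜]
  {M : Type u} [AddCommGroup M] [Module R M] [Module k M] [IsScalarTower k R M]
  (ℳ : ℤ → AddSubgroup M) [DirectSum.Decomposition ℳ] [SetLike.GradedSMul 𝒜 ℳ]
  {D : Type u} [AddCommGroup D] [Module R D] [Module k D] [IsScalarTower k R D]
  (𝒟 : ℤ → AddSubgroup D) [DirectSum.Decomposition 𝒟]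
  (β : D →ₗ[k] M →ₗ[k] k) (hD : GrSeg.IsGDual R ℳ 𝒟 β)

include hD in
/-- pairing with a homogeneous element of `M` only sees one component of `d` -/
theorem beta_decompose_left (d : D) {n : ℤ} {x : M} (hx : x ∈ ℳ (-n)) :
    β d x = β ((DirectSum.decompose 𝒟 d n : 𝒟 n) : D) x := by
  classical
  conv_lhs => rw [← DirectSum.sum_support_decompose 𝒟 d]
  rw [map_sum, LinearMap.sum_apply]
  by_cases hn : n ∈ (DirectSum.decompose 𝒟 d).support
  · rw [Finset.sum_eq_single_of_mem n hn]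
    intro l _ hl
    exact hD.vanish l _ (SetLike.coe_mem _) (-n) (by omega) x hx
  · rw [DFinsupp.notMem_support_iff.1 hn]
    rw [Finset.sum_eq_zero]
    · simp
    · intro l _
      by_cases hl : l = n
      · subst hl
        rw [DFinsupp.notMem_support_iff.1 hn]; simp
      · exact hD.vanish l _ (SetLike.coe_mem _) (-n) (by omega) x hx

include hD in
/-- pairing with a homogeneous element of `D` only sees one component of `x` -/
theorem beta_decompose_right {n : ℤ} {d : D} (hd : d ∈ 𝒟 n) (x : M) :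
    β d x = β d ((DirectSum.decompose ℳ x (-n) : ℳ (-n)) : M) := by
  classical
  conv_lhs => rw [← DirectSum.sum_support_decompose ℳ x]
  rw [map_sum]
  by_cases hn : (-n) ∈ (DirectSum.decompose ℳ x).support
  · rw [Finset.sum_eq_single_of_mem (-n) hn]
    intro l _ hl
    exact hD.vanish n d hd l hl _ (SetLike.coe_mem _)
  · rw [DFinsupp.notMem_support_iff.1 hn]
    rw [Finset.sum_eq_zero]
    · simp
    · intro l _
      by_cases hl : l = -n
      · subst hl
        rw [DFinsupp.notMem_support_iff.1 hn]; simp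
      · exact hD.vanish n d hd l hl _ (SetLike.coe_mem _)

include hD in
/-- an element of `D` pairing to zero with all pieces but `M_{-n}` is homogeneous of degree `n` -/
theorem mem_of_vanish (d : D) (n : ℤ) (h : ∀ m : ℤ, m ≠ -n → ∀ x ∈ ℳ m, β d x = 0) : d ∈ 𝒟 n := by
  classical
  have hcomp : ∀ l : ℤ, l ≠ n → ((DirectSum.decompose 𝒟 d l : 𝒟 l) : D) = 0 := by
    intro l hl
    apply hD.eq_zero l _ (SetLike.coe_mem _)
    intro x hx
    rw [← beta_decompose_left ℳ 𝒟 β hD d hx]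
    exact h (-l) (by omega) x hx
  have h1 : d = ((DirectSum.decompose 𝒟 d n : 𝒟 n) : D) := by
    conv_lhs => rw [← DirectSum.sum_support_decompose 𝒟 d]
    by_cases hn : n ∈ (DirectSum.decompose 𝒟 d).support
    · rw [Finset.sum_eq_single_of_mem n hn]
      intro l _ hl
      exact hcomp l hl
    · rw [DFinsupp.notMem_support_iff.1 hn]
      rw [Finset.sum_eq_zero]
      · simp
      · intro l _
        by_cases hl : l = n
        · subst hl
          rw [DFinsupp.notMem_support_iff.1 hn]; simp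
        · exact hcomp l hl
  rw [h1]
  exact SetLike.coe_mem _

include hD in
theorem eq_zero_of_forall (d : D) (h : ∀ x, β d x = 0) : d = 0 := by
  have h1 : d ∈ 𝒟 0 := mem_of_vanish ℳ 𝒟 β hD d 0 (fun m _ x _ => h x)
  exact hD.eq_zero 0 d h1 (fun x _ => h x)

include hD in
/-- every functional, cut down to degree `-n`, is represented by an element of `D_n` -/
theorem exists_dual (n : ℤ) (lam : M →ₗ[k] k) :
    ∃ d ∈ 𝒟 n, ∀ x, β d x = lam (projK 𝒜 ℳ (-n) x) := by
  obtain ⟨d, hd, hdx⟩ := hD.exists_eq n (lam.comp (projK 𝒜 ℳ (-n)))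
  refine ⟨d, hd, ?_⟩
  intro x
  rw [beta_decompose_right ℳ 𝒟 β hD hd x, hdx _ (SetLike.coe_mem _), LinearMap.comp_apply,
    projK_apply, projK_apply]
  congr 1
  exact DirectSum.decompose_of_mem_same ℳ (SetLike.coe_mem _)

include 𝒜 hD in
theorem eq_zero_of_forall_right (x : M) (h : ∀ d, β d x = 0) : x = 0 := by
  classical
  by_contra hx
  have h1 : ∃ n : ℤ, ((DirectSum.decompose ℳ x n : ℳ n) : M) ≠ 0 := by
    by_contra hcon
    push Not at hcon
    apply hx
    rw [← DirectSum.sum_support_decompose ℳ x]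
    exact Finset.sum_eq_zero (fun n _ => hcon n)
  obtain ⟨n, hn⟩ := h1
  obtain ⟨f, hf⟩ : ∃ f : Module.Dual k M, f ((DirectSum.decompose ℳ x n : ℳ n) : M) ≠ 0 := by
    by_contra hcon
    push Not at hcon
    exact hn ((Module.forall_dual_apply_eq_zero_iff k _).1 hcon)
  obtain ⟨d, _, hdx⟩ := exists_dual 𝒜 ℳ 𝒟 β hD (-n) f
  have h2 := hdx x
  rw [h d, projK_apply, coe_decompose_congr ℳ x (neg_neg n)] at h2
  exact hf h2.symm

end Dual


section FinPiece

variable {k : Type u} [Field k] {R : Type u} [CommRing R] [Algebra k R] (𝒜 : ℤ → Submodule k R)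
  [GradedAlgebra 𝒜]
  {M : Type u} [AddCommGroup M] [Module R M] [Module k M] [IsScalarTower k R M]
  (ℳ : ℤ → AddSubgroup M) [DirectSum.Decomposition ℳ] [SetLike.GradedSMul 𝒜 ℳ]

/-- the degree-`n` component of `r • y` when `y` has no components below degree `n` -/
theorem projK_smul_of_mem_geSub (hpos : ∀ n : ℤ, n < 0 → 𝒜 n = ⊥) (h0 : 𝒜 0 = Submodule.span k {(1 : R)})
    (n : ℤ) (r : R) {y : M} (hy : y ∈ geSub 𝒜 ℳ hpos n) :
    ∃ c : k, projK 𝒜 ℳ n (r • y) = c • projK 𝒜 ℳ n y := by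
  classical
  have h4 : ∀ z ∈ 𝒜 0, ∃ c : k, c • (1 : R) = z := by
    intro z hz
    rw [h0, Submodule.mem_span_singleton] at hz
    exact hz
  obtain ⟨c, hc⟩ := h4 _ (SetLike.coe_mem (DirectSum.decompose 𝒜 r 0))
  refine ⟨c, ?_⟩
  have h3 : r • y = ∑ a ∈ (DirectSum.decompose 𝒜 r).support, ((DirectSum.decompose 𝒜 r a : 𝒜 a) : R) • y := by
    conv_lhs => rw [← DirectSum.sum_support_decompose 𝒜 r]
    rw [Finset.sum_smul]
  rw [h3, map_sum]
  have hterm : ∀ a : ℤ, a ≠ 0 → projK 𝒜 ℳ n (((DirectSum.decompose 𝒜 r a : 𝒜 a) : R) • y) = 0 := by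
    intro a ha
    rw [projK_apply, decompose_smul_apply 𝒜 ℳ (SetLike.coe_mem _) y n]
    rcases lt_or_gt_of_ne ha with h | h
    · have h' : ∀ z ∈ 𝒜 a, z = 0 := by
        intro z hz
        rwa [hpos a h, Submodule.mem_bot] at hz
      rw [h' _ (SetLike.coe_mem _), zero_smul]
    · rw [hy (n - a) (by omega), smul_zero]
  have hzero : projK 𝒜 ℳ n (((DirectSum.decompose 𝒜 r 0 : 𝒜 0) : R) • y) = c • projK 𝒜 ℳ n y := by
    rw [← hc, smul_assoc, one_smul, map_smul]
  by_cases h0' : (0 : ℤ) ∈ (DirectSum.decompose 𝒜 r).support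
  · rw [Finset.sum_eq_single_of_mem 0 h0' (fun a _ ha => hterm a ha)]
    exact hzero
  · rw [Finset.sum_eq_zero]
    · rw [← hzero, DFinsupp.notMem_support_iff.1 h0']
      simp
    · intro a ha
      by_cases ha0 : a = 0
      · subst ha0; exact absurd ha h0'
      · exact hterm a ha0

/-- the pieces of a finitely generated graded module over a graded ring defined over `k` are
finite-dimensional. -/
theorem exists_finset_span_piece [IsNoetherianRing R] [Module.Finite R M]
    (hpos : ∀ n : ℤ, n < 0 → 𝒜 n = ⊥) (h0 : 𝒜 0 = Submodule.span k {(1 : R)}) (n : ℤ) :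
    ∃ s : Finset M, (∀ x ∈ s, x ∈ ℳ n) ∧ ∀ x ∈ ℳ n, x ∈ Submodule.span k (s : Set M) := by
  classical
  have : IsNoetherian R M := isNoetherian_of_isNoetherianRing_of_finite R M
  obtain ⟨t, ht⟩ := (IsNoetherian.noetherian (geSub 𝒜 ℳ hpos n) : (geSub 𝒜 ℳ hpos n).FG)
  refine ⟨t.image (projK 𝒜 ℳ n), ?_, ?_⟩
  · intro x hx
    obtain ⟨y, _, rfl⟩ := Finset.mem_image.1 hx
    exact projK_mem 𝒜 ℳ n y
  · intro x hx
    have hx' : x ∈ Submodule.span R (t : Set M) := by
      rw [ht]; exact mem_geSub_of_mem 𝒜 ℳ hpos le_rfl hx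
    have key : ∀ y ∈ Submodule.span R (t : Set M),
        projK 𝒜 ℳ n y ∈ Submodule.span k ((t.image (projK 𝒜 ℳ n) : Finset M) : Set M) := by
      intro y hy
      induction hy using Submodule.span_induction with
      | mem y hy => exact Submodule.subset_span (Finset.mem_coe.2 (Finset.mem_image_of_mem _ hy))
      | zero => rw [map_zero]; exact zero_mem _
      | add y y' _ _ h h' => rw [map_add]; exact add_mem h h'
      | smul r y hy h =>
        rw [ht] at hy
        obtain ⟨c, hc⟩ := projK_smul_of_mem_geSub 𝒜 ℳ hpos h0 n r hy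
        rw [hc]
        exact Submodule.smul_mem _ _ h
    have := key x hx'
    rwa [projK_of_mem 𝒜 ℳ hx] at this

end FinPiece

end Groth.Agent.Lib.helper19.GDual
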