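import Mathlib
import Groth.Prelude.Def_GrSeg
import Groth.Agent.Lib.Helper19.GDual

/-!
# Graded duality over a field (helper19), part 2: basic tools

`R` a non-negatively graded `k`-algebra with `R_0 = k`, `M` a graded `R`-module.
* `irrK 𝒜` : the irrelevant ideal; `exists_sub_mem_irrK` : `R = k ⊕ R_+`
* `smul_mem_geSub_succ`, `pow_smul_mem_geSub` : `R_+^t M_{≥ s} ⊆ M_{≥ s+t}`
* `pc 𝒜 ℳ n` : the piece `M_n` as a `k`-subspace
* `projK_span_mem` : the degree-`n` component of `R·U` is `U`, for a subspace `U ⊆ M_n`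
* `finite_pc_of_isArtinian`, `exists_bound_above_of_isArtinian`
-/

set_option autoImplicit false
universe u

namespace Groth.Agent.Lib.helper19.GDual

open Groth.Agent.Lib.helper19.Segre

section Irr

variable {k : Type u} [Field k] {R : Type u} [CommRing R] [Algebra k R] (𝒜 : ℤ → Submodule k R)
  [GradedAlgebra 𝒜]

/-- the irrelevant ideal -/
def irrK : Ideal R := Ideal.span (⋃ n ∈ Set.Ioi (0 : ℤ), (𝒜 n : Set R))

theorem mem_irrK_of_mem {n : ℤ} (hn : 0 < n) {r : R} (hr : r ∈ 𝒜 n) : r ∈ irrK 𝒜 :=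
  Ideal.subset_span (Set.mem_biUnion (Set.mem_Ioi.2 hn) hr)

theorem exists_sub_mem_irrK (hpos : ∀ n : ℤ, n < 0 → 𝒜 n = ⊥) (h0 : 𝒜 0 = Submodule.span k {(1 : R)})
    (r : R) : ∃ c : k, r - c • (1 : R) ∈ irrK 𝒜 := by
  classical
  have h5 : ∀ z ∈ 𝒜 0, ∃ c : k, c • (1 : R) = z := by
    intro z hz
    rw [h0, Submodule.mem_span_singleton] at hz
    exact hz
  have h4 : ∃ c : k, c • (1 : R) = ((DirectSum.decompose 𝒜 r 0 : 𝒜 0) : R) :=
    h5 _ (SetLike.coe_mem _)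
  obtain ⟨c, hc⟩ := h4
  refine ⟨c, ?_⟩
  rw [hc, ← Ideal.Quotient.eq]
  conv_lhs => rw [← DirectSum.sum_support_decompose 𝒜 r, map_sum]
  apply Finset.sum_eq_single 0
  · intro j _ hj
    rcases lt_or_gt_of_ne hj with h | h
    · have h' : ∀ z ∈ 𝒜 j, z = 0 := by
        intro z hz
        rwa [hpos j h, Submodule.mem_bot] at hz
      rw [h' _ (SetLike.coe_mem _), map_zero]
    · exact Ideal.Quotient.eq_zero_iff_mem.2 (mem_irrK_of_mem 𝒜 h (SetLike.coe_mem _))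
  · intro h0'
    rw [DFinsupp.notMem_support_iff.1 h0']
    simp

variable {M : Type u} [AddCommGroup M] [Module R M] [Module k M] [IsScalarTower k R M]
  (ℳ : ℤ → AddSubgroup M) [DirectSum.Decomposition ℳ] [SetLike.GradedSMul 𝒜 ℳ]

theorem smul_mem_geSub_of_mem (hpos : ∀ n : ℤ, n < 0 → 𝒜 n = ⊥) {i : ℤ} {r : R} (hr : r ∈ 𝒜 i)
    {s : ℤ} {y : M} (hy : y ∈ geSub 𝒜 ℳ hpos s) : r • y ∈ geSub 𝒜 ℳ hpos (s + i) := by
  classical
  intro m hm
  rw [decompose_smul_apply 𝒜 ℳ hr y m, hy (m - i) (by omega), smul_zero]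

theorem smul_mem_geSub_succ (hpos : ∀ n : ℤ, n < 0 → 𝒜 n = ⊥) {r : R} (hr : r ∈ irrK 𝒜)
    {s : ℤ} {y : M} (hy : y ∈ geSub 𝒜 ℳ hpos s) : r • y ∈ geSub 𝒜 ℳ hpos (s + 1) := by
  classical
  have key : ∀ r ∈ irrK 𝒜, ∀ y ∈ geSub 𝒜 ℳ hpos s, r • y ∈ geSub 𝒜 ℳ hpos (s + 1) := by
    intro r hr
    induction hr using Submodule.span_induction with
    | mem r hr =>
      intro y hy
      obtain ⟨i, hi, hri⟩ := Set.mem_iUnion₂.1 hr
      exact geSub_mono 𝒜 ℳ hpos (by have := Set.mem_Ioi.1 hi; omega)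
        (smul_mem_geSub_of_mem 𝒜 ℳ hpos hri hy)
    | zero => intro y _; rw [zero_smul]; exact zero_mem _
    | add a b _ _ ha hb => intro y hy; rw [add_smul]; exact add_mem (ha y hy) (hb y hy)
    | smul a b _ hb =>
      intro y hy
      rw [smul_eq_mul, mul_smul]
      exact Submodule.smul_mem _ _ (hb y hy)
  exact key r hr y hy

theorem pow_smul_mem_geSub (hpos : ∀ n : ℤ, n < 0 → 𝒜 n = ⊥) (t : ℕ) : ∀ {r : R}, r ∈ irrK 𝒜 ^ t →
    ∀ {s : ℤ} {y : M}, y ∈ geSub 𝒜 ℳ hpos s → r • y ∈ geSub 𝒜 ℳ hpos (s + t) := by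
  induction t with
  | zero =>
    intro r _ s y hy
    simpa using Submodule.smul_mem _ r hy
  | succ t ih =>
    intro r hr s y hy
    rw [pow_succ] at hr
    refine Submodule.mul_induction_on hr ?_ ?_
    · intro a ha b hb
      rw [mul_smul]
      have h1 := smul_mem_geSub_succ 𝒜 ℳ hpos hb hy
      have h2 := ih ha h1
      have h3 : s + 1 + (t : ℤ) = s + ((t + 1 : ℕ) : ℤ) := by push_cast; ring
      rw [h3] at h2
      exact h2
    · intro a b ha hb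
      rw [add_smul]
      exact add_mem ha hb

theorem geSub_eq_bot (hpos : ∀ n : ℤ, n < 0 → 𝒜 n = ⊥) (n₁ : ℤ)
    (h : ∀ n : ℤ, n₁ ≤ n → ∀ x ∈ ℳ n, x = 0) : geSub 𝒜 ℳ hpos n₁ = ⊥ := by
  classical
  rw [eq_bot_iff]
  intro y hy
  rw [Submodule.mem_bot, ← DirectSum.sum_support_decompose ℳ y]
  refine Finset.sum_eq_zero (fun m _ => ?_)
  rcases lt_or_ge m n₁ with hm | hm
  · exact hy m hm
  · exact h m hm _ (SetLike.coe_mem _)

/-- the piece `M_n` as a `k`-subspace -/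
noncomputable def pc (n : ℤ) : Submodule k M := LinearMap.range (projK 𝒜 ℳ n)

theorem mem_pc {n : ℤ} {x : M} : x ∈ pc 𝒜 ℳ n ↔ x ∈ ℳ n := by
  constructor
  · rintro ⟨y, rfl⟩
    exact projK_mem 𝒜 ℳ n y
  · intro hx
    exact ⟨x, projK_of_mem 𝒜 ℳ hx⟩

/-- the degree-`n` component of an element of `R·U` lies in `U`, for a subspace `U ⊆ M_n` -/
theorem projK_span_mem (hpos : ∀ n : ℤ, n < 0 → 𝒜 n = ⊥) (h0 : 𝒜 0 = Submodule.span k {(1 : R)})
    (n : ℤ) (U : Submodule k M) (hU : ∀ x ∈ U, x ∈ ℳ n) {y : M}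
    (hy : y ∈ Submodule.span R (U : Set M)) : projK 𝒜 ℳ n y ∈ U := by
  have hle : Submodule.span R (U : Set M) ≤ geSub 𝒜 ℳ hpos n :=
    Submodule.span_le.2 (fun x hx => mem_geSub_of_mem 𝒜 ℳ hpos le_rfl (hU x hx))
  induction hy using Submodule.span_induction with
  | mem y hy => rw [projK_of_mem 𝒜 ℳ (hU y hy)]; exact hy
  | zero => rw [map_zero]; exact zero_mem _
  | add a b _ _ ha hb => rw [map_add]; exact add_mem ha hb
  | smul r y hy h =>
    obtain ⟨c, hc⟩ := projK_smul_of_mem_geSub 𝒜 ℳ hpos h0 n r (hle hy)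
    rw [hc]
    exact Submodule.smul_mem _ _ h

/-- the pieces of an Artinian graded module are finite-dimensional -/
theorem finite_pc_of_isArtinian (hpos : ∀ n : ℤ, n < 0 → 𝒜 n = ⊥)
    (h0 : 𝒜 0 = Submodule.span k {(1 : R)}) [IsArtinian R M] (n : ℤ) :
    Module.Finite k ↥(pc 𝒜 ℳ n) := by
  let f : Submodule k ↥(pc 𝒜 ℳ n) → Submodule R M :=
    fun U => Submodule.span R ((U.map (pc 𝒜 ℳ n).subtype : Submodule k M) : Set M)
  have hf : StrictMono f := by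
    intro U U' hlt
    have hle : U.map (pc 𝒜 ℳ n).subtype ≤ U'.map (pc 𝒜 ℳ n).subtype := Submodule.map_mono hlt.le
    refine lt_of_le_of_ne (Submodule.span_mono hle) ?_
    intro heq
    apply hlt.not_ge
    intro u hu
    have h1 : (u : M) ∈ f U' := Submodule.subset_span ⟨u, hu, rfl⟩
    rw [← heq] at h1
    have hU : ∀ x ∈ U.map (pc 𝒜 ℳ n).subtype, x ∈ ℳ n := by
      rintro _ ⟨v, _, rfl⟩
      exact (mem_pc 𝒜 ℳ).1 v.2
    have h2 := projK_span_mem 𝒜 ℳ hpos h0 n _ hU h1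
    rw [projK_of_mem 𝒜 ℳ ((mem_pc 𝒜 ℳ).1 u.2)] at h2
    obtain ⟨v, hv, hvu⟩ := h2
    have : v = u := Subtype.ext hvu
    rw [← this]
    exact hv
  haveI : WellFoundedLT (Submodule k ↥(pc 𝒜 ℳ n)) := hf.wellFoundedLT
  have hart : IsArtinian k ↥(pc 𝒜 ℳ n) := ‹_›
  exact ((IsArtinianRing.tfae k ↥(pc 𝒜 ℳ n)).out 2 0).mp hart

/-- an Artinian graded module is bounded above -/
theorem exists_bound_above_of_isArtinian (hpos : ∀ n : ℤ, n < 0 → 𝒜 n = ⊥) [IsArtinian R M] :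
    ∃ n₁ : ℤ, ∀ n : ℤ, n₁ ≤ n → ∀ x ∈ ℳ n, x = 0 := by
  classical
  let L : ℕ →o (Submodule R M)ᵒᵈ :=
    { toFun := fun t => OrderDual.toDual (geSub 𝒜 ℳ hpos (t : ℤ))
      monotone' := fun a b hab => geSub_mono 𝒜 ℳ hpos (by exact_mod_cast hab) }
  obtain ⟨t, ht⟩ := (monotone_stabilizes_iff_artinian.2 inferInstance) L
  refine ⟨(t : ℤ), fun n hn x hx => ?_⟩
  have h1 : geSub 𝒜 ℳ hpos (t : ℤ) = geSub 𝒜 ℳ hpos ((n.toNat + 1 : ℕ) : ℤ) := by
    have := ht (n.toNat + 1) (by omega)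
    exact OrderDual.toDual.injective this
  have h2 : x ∈ geSub 𝒜 ℳ hpos (t : ℤ) := mem_geSub_of_mem 𝒜 ℳ hpos hn hx
  rw [h1] at h2
  have h3 := h2 n (by push_cast; omega)
  rwa [DirectSum.decompose_of_mem_same ℳ hx] at h3

end Irr

end Groth.Agent.Lib.helper19.GDual
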