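import Mathlib
import Groth.Prelude.Def_GrSeg
import Groth.Agent.Lib.Helper19.GDual2

/-!
# Graded duality over a field (helper19), part 3: reflexivity

* `pairMap` : `D_n → (M_m)^*`, bijective for `m = -n` (`pairMap_injective`, `pairMap_surjective`)
* `finite_pc_dual` : `D_n` is finite-dimensional if `M_{-n}` is
* `isGDual_flip` : if the pieces of `M` are finite-dimensional, `M` is the graded dual of `D = M^*`
* `piece_dual_eq_zero`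
-/

set_option autoImplicit false
universe u

namespace Groth.Agent.Lib.helper19.GDual

open Groth.Agent.Lib.helper19.Segre

section Refl

variable {k : Type u} [Field k] {R : Type u} [CommRing R] [Algebra k R] (𝒜 : ℤ → Submodule k R)
  [GradedAlgebra 𝒜]
  {M : Type u} [AddCommGroup M] [Module R M] [Module k M] [IsScalarTower k R M]
  (ℳ : ℤ → AddSubgroup M) [DirectSum.Decomposition ℳ] [SetLike.GradedSMul 𝒜 ℳ]
  {D : Type u} [AddCommGroup D] [Module R D] [Module k D] [IsScalarTower k R D]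
  (𝒟 : ℤ → AddSubgroup D) [DirectSum.Decomposition 𝒟] [SetLike.GradedSMul 𝒜 𝒟]
  (β : D →ₗ[k] M →ₗ[k] k) (hD : GrSeg.IsGDual R ℳ 𝒟 β)

/-- the pairing restricted to pieces -/
noncomputable def pairMap (n m : ℤ) : ↥(pc 𝒜 𝒟 n) →ₗ[k] Module.Dual k ↥(pc 𝒜 ℳ m) :=
  (LinearMap.lcomp k k (pc 𝒜 ℳ m).subtype) ∘ₗ β ∘ₗ (pc 𝒜 𝒟 n).subtype

theorem pairMap_apply (n m : ℤ) (d : ↥(pc 𝒜 𝒟 n)) (x : ↥(pc 𝒜 ℳ m)) :
    pairMap 𝒜 ℳ 𝒟 β n m d x = β (d : D) (x : M) := rfl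

include hD in
theorem pairMap_injective (n m : ℤ) (hm : m = -n) : Function.Injective (pairMap 𝒜 ℳ 𝒟 β n m) := by
  subst hm
  rw [injective_iff_map_eq_zero]
  intro d hd
  apply Subtype.ext
  apply hD.eq_zero n (d : D) ((mem_pc 𝒜 𝒟).1 d.2)
  intro x hx
  have := congrArg (fun φ => φ ⟨x, (mem_pc 𝒜 ℳ).2 hx⟩) hd
  exact this

include hD in
theorem pairMap_surjective (n m : ℤ) (hm : m = -n) : Function.Surjective (pairMap 𝒜 ℳ 𝒟 β n m) := by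
  subst hm
  intro φ
  let φ' : M →ₗ[k] k := φ ∘ₗ (projK 𝒜 ℳ (-n)).rangeRestrict
  obtain ⟨d, hd, hdx⟩ := hD.exists_eq n φ'
  refine ⟨⟨d, (mem_pc 𝒜 𝒟).2 hd⟩, ?_⟩
  ext x
  rw [pairMap_apply]
  show β d (x : M) = φ x
  rw [hdx (x : M) ((mem_pc 𝒜 ℳ).1 x.2)]
  show φ ((projK 𝒜 ℳ (-n)).rangeRestrict (x : M)) = φ x
  congr 1
  apply Subtype.ext
  exact projK_of_mem 𝒜 ℳ ((mem_pc 𝒜 ℳ).1 x.2)

include hD in
theorem finite_pc_dual (n m : ℤ) (hm : m = -n) [Module.Finite k ↥(pc 𝒜 ℳ m)] :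
    Module.Finite k ↥(pc 𝒜 𝒟 n) :=
  Module.Finite.of_injective (pairMap 𝒜 ℳ 𝒟 β n m) (pairMap_injective 𝒜 ℳ 𝒟 β hD n m hm)

include hD in
theorem piece_dual_eq_zero (n : ℤ) (h : ∀ x ∈ ℳ (-n), x = 0) : ∀ d ∈ 𝒟 n, d = 0 := by
  intro d hd
  apply hD.eq_zero n d hd
  intro x hx
  rw [h x hx, map_zero]

include hD in
/-- reflexivity: if the pieces of `M` are finite-dimensional then `M` is the graded dual of `M^*` -/
theorem isGDual_flip (hfin : ∀ n : ℤ, Module.Finite k ↥(pc 𝒜 ℳ n)) : GrSeg.IsGDual R 𝒟 ℳ β.flip where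
  map_smul r x d := (hD.map_smul r d x).symm
  vanish n x hx m hm d hd := hD.vanish m d hd n (by omega) x hx
  eq_zero n x hx h := by
    apply eq_zero_of_forall_right 𝒜 ℳ 𝒟 β hD x
    intro d
    have hx' : x ∈ ℳ (- -n) := by rwa [neg_neg]
    rw [beta_decompose_left ℳ 𝒟 β hD d hx']
    exact h _ (SetLike.coe_mem _)
  exists_eq n g := by
    haveI := hfin n
    let Φ : ↥(pc 𝒜 𝒟 (-n)) ≃ₗ[k] Module.Dual k ↥(pc 𝒜 ℳ n) :=
      LinearEquiv.ofBijective (pairMap 𝒜 ℳ 𝒟 β (-n) n)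
        ⟨pairMap_injective 𝒜 ℳ 𝒟 β hD (-n) n (neg_neg n).symm,
          pairMap_surjective 𝒜 ℳ 𝒟 β hD (-n) n (neg_neg n).symm⟩
    let θ : Module.Dual k (Module.Dual k ↥(pc 𝒜 ℳ n)) :=
      (g ∘ₗ (pc 𝒜 𝒟 (-n)).subtype) ∘ₗ Φ.symm.toLinearMap
    let x : ↥(pc 𝒜 ℳ n) := (Module.evalEquiv k ↥(pc 𝒜 ℳ n)).symm θ
    refine ⟨(x : M), (mem_pc 𝒜 ℳ).1 x.2, ?_⟩
    intro d hd
    show β d (x : M) = g d
    have h1 : Φ ⟨d, (mem_pc 𝒜 𝒟).2 hd⟩ x = θ (Φ ⟨d, (mem_pc 𝒜 𝒟).2 hd⟩) :=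
      Module.apply_evalEquiv_symm_apply k ↥(pc 𝒜 ℳ n) (Φ ⟨d, (mem_pc 𝒜 𝒟).2 hd⟩) θ
    have h2 : θ (Φ ⟨d, (mem_pc 𝒜 𝒟).2 hd⟩) = g d := by
      show g ((pc 𝒜 𝒟 (-n)).subtype (Φ.symm (Φ ⟨d, (mem_pc 𝒜 𝒟).2 hd⟩))) = g d
      rw [LinearEquiv.symm_apply_apply]
      rfl
    rw [← h2, ← h1]
    rfl

end Refl

end Groth.Agent.Lib.helper19.GDual
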