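import Mathlib
import Groth.Prelude.Def_GrSeg
import Groth.Agent.Lib.Helper19.GDual3
import Groth.Agent.Lib.Helper19.Melkersson

/-!
# Graded duality over a field (helper19), part 4: the dual of a finitely generated module is Artinian

* `exists_finite_complement` : `M = Z + R_+ M` with `Z` a finite-dimensional subspace
* `beta_eq_zero_of_socle` : socle elements of `M^*` vanish on `R_+ M`
* `isArtinian_dual` : `M^*` is Artinian for `M` finitely generated
-/

set_option autoImplicit false
universe u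

namespace Groth.Agent.Lib.helper19.GDual

open Groth.Agent.Lib.helper19.Segre

section Art

variable {k : Type u} [Field k] {R : Type u} [CommRing R] [Algebra k R] (𝒜 : ℤ → Submodule k R)
  [GradedAlgebra 𝒜]
  {M : Type u} [AddCommGroup M] [Module R M] [Module k M] [IsScalarTower k R M]
  (ℳ : ℤ → AddSubgroup M) [DirectSum.Decomposition ℳ] [SetLike.GradedSMul 𝒜 ℳ]
  {D : Type u} [AddCommGroup D] [Module R D] [Module k D] [IsScalarTower k R D]
  (𝒟 : ℤ → AddSubgroup D) [DirectSum.Decomposition 𝒟] [SetLike.GradedSMul 𝒜 𝒟]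
  (β : D →ₗ[k] M →ₗ[k] k) (hD : GrSeg.IsGDual R ℳ 𝒟 β)

omit [DirectSum.Decomposition ℳ] [SetLike.GradedSMul 𝒜 ℳ] in
/-- `M = Z + R_+ M` for a finite-dimensional subspace `Z` -/
theorem exists_finite_complement (hpos : ∀ n : ℤ, n < 0 → 𝒜 n = ⊥)
    (h0 : 𝒜 0 = Submodule.span k {(1 : R)}) [Module.Finite R M] :
    ∃ S : Finset M, ∀ x : M, ∃ z ∈ Submodule.span k (S : Set M),
      x - z ∈ (irrK 𝒜 • (⊤ : Submodule R M)) := by
  classical
  obtain ⟨S, hS⟩ := (Module.Finite.fg_top : (⊤ : Submodule R M).FG)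
  refine ⟨S, fun x => ?_⟩
  have hx : x ∈ Submodule.span R (S : Set M) := by rw [hS]; trivial
  induction hx using Submodule.span_induction with
  | mem x hx => exact ⟨x, Submodule.subset_span hx, by rw [sub_self]; exact zero_mem _⟩
  | zero => exact ⟨0, zero_mem _, by rw [sub_self]; exact zero_mem _⟩
  | add a b _ _ ha hb =>
    obtain ⟨z, hz, hza⟩ := ha
    obtain ⟨w, hw, hwb⟩ := hb
    refine ⟨z + w, add_mem hz hw, ?_⟩
    have : a + b - (z + w) = (a - z) + (b - w) := by abel
    rw [this]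
    exact add_mem hza hwb
  | smul r a _ ha =>
    obtain ⟨z, hz, hza⟩ := ha
    obtain ⟨c, hc⟩ := exists_sub_mem_irrK 𝒜 hpos h0 r
    refine ⟨c • z, Submodule.smul_mem _ _ hz, ?_⟩
    have h1 : r • a - c • z = r • (a - z) + (r - c • (1 : R)) • z := by
      rw [smul_sub, sub_smul, smul_assoc, one_smul]
      abel
    rw [h1]
    exact add_mem (Submodule.smul_mem _ _ hza) (Submodule.smul_mem_smul hc Submodule.mem_top)

include hD in
/-- socle elements of the dual vanish on `R_+ M` -/
theorem beta_eq_zero_of_socle {d : D} (hd : ∀ r ∈ irrK 𝒜, r • d = 0) {x : M}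
    (hx : x ∈ irrK 𝒜 • (⊤ : Submodule R M)) : β d x = 0 := by
  refine Submodule.smul_induction_on hx ?_ ?_
  · intro r hr y _
    rw [← hD.map_smul, hd r hr, map_zero, LinearMap.zero_apply]
  · intro a b ha hb
    rw [map_add, ha, hb, add_zero]

include hD in
/-- the graded dual of a finitely generated module is Artinian -/
theorem isArtinian_dual [IsNoetherianRing R] [Module.Finite R M] (hpos : ∀ n : ℤ, n < 0 → 𝒜 n = ⊥)
    (h0 : 𝒜 0 = Submodule.span k {(1 : R)}) : IsArtinian R D := by
  classical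
  apply Groth.Agent.Lib.helper19.Melkersson.isArtinian_of_ideal (irrK 𝒜) D
  · -- power torsion
    intro d
    obtain ⟨j0, hj0⟩ := exists_bound_below 𝒜 ℳ hpos
    have hbot : geSub 𝒜 𝒟 hpos (-j0 + 1) = ⊥ := by
      apply geSub_eq_bot
      intro n hn
      exact piece_dual_eq_zero ℳ 𝒟 β hD n (fun x hx => hj0 (-n) (by omega) x hx)
    obtain ⟨s, hs⟩ := exists_mem_geSub 𝒜 𝒟 hpos d
    refine ⟨(-j0 + 1 - s).toNat, fun c hc => ?_⟩
    have h1 := pow_smul_mem_geSub 𝒜 𝒟 hpos _ hc hs
    have h2 : c • d ∈ geSub 𝒜 𝒟 hpos (-j0 + 1) := geSub_mono 𝒜 𝒟 hpos (by omega) h1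
    rw [hbot] at h2
    exact (Submodule.mem_bot R).1 h2
  · -- the socle is finite-dimensional
    obtain ⟨S, hS⟩ := exists_finite_complement (M := M) 𝒜 hpos h0
    let Soc : Submodule R D := Submodule.torsionBySet R D (irrK 𝒜 : Set R)
    let Ψ : ↥Soc →ₗ[k] Module.Dual k ↥(Submodule.span k (S : Set M)) :=
      (LinearMap.lcomp k k (Submodule.span k (S : Set M)).subtype) ∘ₗ β ∘ₗ
        (Soc.restrictScalars k).subtype
    have hΨ : Function.Injective Ψ := by
      rw [injective_iff_map_eq_zero]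
      intro d hd
      apply Subtype.ext
      apply eq_zero_of_forall ℳ 𝒟 β hD (d : D)
      intro x
      obtain ⟨z, hz, hxz⟩ := hS x
      have h1 : β (d : D) (x - z) = 0 :=
        beta_eq_zero_of_socle 𝒜 ℳ 𝒟 β hD
          (fun r hr => (Submodule.mem_torsionBySet_iff _ _).1 d.2 ⟨r, hr⟩) hxz
      have h2 : β (d : D) z = 0 := by
        have := congrArg (fun φ => φ ⟨z, hz⟩) hd
        exact this
      rw [map_sub, h2, sub_zero] at h1
      exact h1
    haveI : Module.Finite k ↥(Submodule.span k (S : Set M)) :=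
      Module.Finite.span_of_finite k (Finset.finite_toSet S)
    haveI : Module.Finite k ↥Soc := Module.Finite.of_injective Ψ hΨ
    exact isArtinian_of_tower k (inferInstance : IsArtinian k ↥Soc)

end Art

end Groth.Agent.Lib.helper19.GDual
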