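import Mathlib
import Groth.Prelude.Def_GrSeg
import Groth.Agent.Lib.Helper19.GDual4

/-!
# Graded duality over a field (helper19), part 5: the dual of an Artinian module is finitely generated

* `exists_homogeneous_generators` : homogeneous generators of `R_+`
* `socle_span_eq`, `finite_socle`, `exists_socle_bound` : the socle of an Artinian graded module
* `exists_sum_smul` : if `M` has no socle in degree `-n` then `D_n ⊆ R_+ D`
* `finite_dual` : `M^*` is finitely generated for `M` Artinian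
-/

set_option autoImplicit false
universe u

namespace Groth.Agent.Lib.helper19.GDual

open Groth.Agent.Lib.helper19.Segre

section Gen

variable {k : Type u} [Field k] {R : Type u} [CommRing R] [Algebra k R] (𝒜 : ℤ → Submodule k R)
  [GradedAlgebra 𝒜]

theorem exists_homogeneous_generators [IsNoetherianRing R] :
    ∃ (s : ℕ) (r : Fin s → R) (e : Fin s → ℤ), (∀ i, 0 < e i) ∧ (∀ i, r i ∈ 𝒜 (e i)) ∧
      irrK 𝒜 = Ideal.span (Set.range r) := by
  classical
  have hfg : (Submodule.span R (⋃ n ∈ Set.Ioi (0 : ℤ), (𝒜 n : Set R))).FG :=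
    IsNoetherian.noetherian (irrK 𝒜)
  obtain ⟨T, hT, hspan⟩ := (Submodule.fg_span_iff_fg_span_finset_subset _).1 hfg
  have hdeg : ∀ t : T, ∃ n : ℤ, 0 < n ∧ (t : R) ∈ 𝒜 n := by
    intro t
    obtain ⟨n, hn, htn⟩ := Set.mem_iUnion₂.1 (hT t.2)
    exact ⟨n, Set.mem_Ioi.1 hn, htn⟩
  choose deg hdeg0 hdegm using hdeg
  refine ⟨T.card, fun i => ((T.equivFin.symm i : T) : R), fun i => deg (T.equivFin.symm i),
    fun i => hdeg0 _, fun i => hdegm _, ?_⟩
  have hrange : Set.range (fun i : Fin T.card => ((T.equivFin.symm i : T) : R)) = (T : Set R) := by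
    ext x
    constructor
    · rintro ⟨i, rfl⟩
      exact (T.equivFin.symm i).2
    · intro hx
      exact ⟨T.equivFin ⟨x, hx⟩, by simp⟩
  rw [hrange]
  exact hspan

end Gen

section Soc

variable {k : Type u} [Field k] {R : Type u} [CommRing R] [Algebra k R] (𝒜 : ℤ → Submodule k R)
  [GradedAlgebra 𝒜]
  {M : Type u} [AddCommGroup M] [Module R M] [Module k M] [IsScalarTower k R M]
  (ℳ : ℤ → AddSubgroup M) [DirectSum.Decomposition ℳ] [SetLike.GradedSMul 𝒜 ℳ]

/-- on the socle `R` acts through `k`: `k`-subspaces of the socle are `R`-submodules -/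
theorem socle_span_eq (hpos : ∀ n : ℤ, n < 0 → 𝒜 n = ⊥) (h0 : 𝒜 0 = Submodule.span k {(1 : R)})
    (U : Submodule k M) (hU : ∀ x ∈ U, ∀ r ∈ irrK 𝒜, r • x = 0) {y : M}
    (hy : y ∈ Submodule.span R (U : Set M)) : y ∈ U := by
  induction hy using Submodule.span_induction with
  | mem y hy => exact hy
  | zero => exact zero_mem _
  | add a b _ _ ha hb => exact add_mem ha hb
  | smul r y _ h =>
    obtain ⟨c, hc⟩ := exists_sub_mem_irrK 𝒜 hpos h0 r
    have h1 : r • y = c • y + (r - c • (1 : R)) • y := by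
      rw [sub_smul, smul_assoc, one_smul]
      abel
    rw [h1, hU y h _ hc, add_zero]
    exact Submodule.smul_mem _ _ h

/-- the socle as a `k`-subspace -/
def socK : Submodule k M where
  carrier := {x | ∀ r ∈ irrK 𝒜, r • x = 0}
  add_mem' {a b} ha hb r hr := by rw [smul_add, ha r hr, hb r hr, add_zero]
  zero_mem' r _ := smul_zero r
  smul_mem' c x hx r hr := by rw [smul_comm, hx r hr, smul_zero]

theorem finite_socle (hpos : ∀ n : ℤ, n < 0 → 𝒜 n = ⊥) (h0 : 𝒜 0 = Submodule.span k {(1 : R)})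
    [IsArtinian R M] : Module.Finite k ↥(socK (M := M) 𝒜) := by
  let f : Submodule k ↥(socK (M := M) 𝒜) → Submodule R M :=
    fun U => Submodule.span R ((U.map (socK (M := M) 𝒜).subtype : Submodule k M) : Set M)
  have hf : StrictMono f := by
    intro U U' hlt
    have hle : U.map (socK (M := M) 𝒜).subtype ≤ U'.map (socK (M := M) 𝒜).subtype :=
      Submodule.map_mono hlt.le
    refine lt_of_le_of_ne (Submodule.span_mono hle) ?_
    intro heq
    apply hlt.not_ge
    intro u hu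
    have h1 : (u : M) ∈ f U' := Submodule.subset_span ⟨u, hu, rfl⟩
    rw [← heq] at h1
    have hU : ∀ x ∈ U.map (socK (M := M) 𝒜).subtype, ∀ r ∈ irrK 𝒜, r • x = 0 := by
      rintro _ ⟨v, _, rfl⟩ r hr
      exact v.2 r hr
    obtain ⟨v, hv, hvu⟩ := socle_span_eq 𝒜 hpos h0 _ hU h1
    have : v = u := Subtype.ext hvu
    rw [← this]
    exact hv
  haveI : WellFoundedLT (Submodule k ↥(socK (M := M) 𝒜)) := hf.wellFoundedLT
  have hart : IsArtinian k ↥(socK (M := M) 𝒜) := ‹_›
  exact ((IsArtinianRing.tfae k ↥(socK (M := M) 𝒜)).out 2 0).mp hart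

/-- the socle of an Artinian graded module lives in degrees `≥ s₀` -/
theorem exists_socle_bound (hpos : ∀ n : ℤ, n < 0 → 𝒜 n = ⊥) (h0 : 𝒜 0 = Submodule.span k {(1 : R)})
    [IsArtinian R M] :
    ∃ s₀ : ℤ, ∀ j : ℤ, j < s₀ → ∀ x ∈ ℳ j, (∀ r ∈ irrK 𝒜, r • x = 0) → x = 0 := by
  classical
  haveI := finite_socle (M := M) 𝒜 hpos h0
  obtain ⟨S, hS⟩ := (Module.Finite.iff_fg.1 (inferInstance : Module.Finite k ↥(socK (M := M) 𝒜)))
  obtain ⟨j0, hj0⟩ := exists_forall_mem_geSub 𝒜 ℳ hpos S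
  refine ⟨j0, fun j hj x hx hsoc => ?_⟩
  have h1 : x ∈ Submodule.span k (S : Set M) := by rw [hS]; exact hsoc
  have h2 : Submodule.span k (S : Set M) ≤ (geSub 𝒜 ℳ hpos j0).restrictScalars k :=
    Submodule.span_le.2 (fun y hy => hj0 y hy)
  have h3 := h2 h1 j hj
  rwa [DirectSum.decompose_of_mem_same ℳ hx] at h3

end Soc

section Fin

variable {k : Type u} [Field k] {R : Type u} [CommRing R] [Algebra k R] (𝒜 : ℤ → Submodule k R)
  [GradedAlgebra 𝒜]
  {M : Type u} [AddCommGroup M] [Module R M] [Module k M] [IsScalarTower k R M]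
  (ℳ : ℤ → AddSubgroup M) [DirectSum.Decomposition ℳ] [SetLike.GradedSMul 𝒜 ℳ]
  {D : Type u} [AddCommGroup D] [Module R D] [Module k D] [IsScalarTower k R D]
  (𝒟 : ℤ → AddSubgroup D) [DirectSum.Decomposition 𝒟] [SetLike.GradedSMul 𝒜 𝒟]
  (β : D →ₗ[k] M →ₗ[k] k) (hD : GrSeg.IsGDual R ℳ 𝒟 β)

include hD in
/-- if `M` has no socle in degree `-n`, every element of `D_n` is a combination of the generators of
`R_+` with coefficients in `D` of lower degree -/
theorem exists_sum_smul {s : ℕ} (r : Fin s → R) (e : Fin s → ℤ) (hr : ∀ i, r i ∈ 𝒜 (e i))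
    (hgen : irrK 𝒜 = Ideal.span (Set.range r)) (n : ℤ)
    (hsoc : ∀ x ∈ ℳ (-n), (∀ a ∈ irrK 𝒜, a • x = 0) → x = 0) (d : D) (hd : d ∈ 𝒟 n) :
    ∃ c : Fin s → D, (∀ i, c i ∈ 𝒟 (n - e i)) ∧ d = ∑ i, r i • c i := by
  classical
  let T : ↥(pc 𝒜 ℳ (-n)) →ₗ[k] (Fin s → M) :=
    LinearMap.pi (fun i => ((LinearMap.lsmul R M (r i)).restrictScalars k) ∘ₗ (pc 𝒜 ℳ (-n)).subtype)
  have hT : ∀ (x : ↥(pc 𝒜 ℳ (-n))) (i : Fin s), T x i = r i • (x : M) := fun x i => rfl
  have hinj : LinearMap.ker T = ⊥ := by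
    rw [LinearMap.ker_eq_bot, injective_iff_map_eq_zero]
    intro x hx
    apply Subtype.ext
    apply hsoc (x : M) ((mem_pc 𝒜 ℳ).1 x.2)
    intro a ha
    rw [hgen] at ha
    induction ha using Submodule.span_induction with
    | mem a ha =>
      obtain ⟨i, rfl⟩ := ha
      rw [← hT x i, hx]
      rfl
    | zero => rw [zero_smul]
    | add a b _ _ ha hb => rw [add_smul, ha, hb, add_zero]
    | smul a b _ hb => rw [smul_eq_mul, mul_smul, hb, smul_zero]
  obtain ⟨g, hg⟩ := LinearMap.exists_leftInverse_of_injective T hinj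
  let lam : ↥(pc 𝒜 ℳ (-n)) →ₗ[k] k := β d ∘ₗ (pc 𝒜 ℳ (-n)).subtype
  let φ : (Fin s → M) →ₗ[k] k := lam ∘ₗ g
  have hφ : ∀ x : ↥(pc 𝒜 ℳ (-n)), φ (T x) = β d (x : M) := by
    intro x
    show lam (g (T x)) = _
    have : g (T x) = x := by
      have := congrArg (fun F => F x) hg
      exact this
    rw [this]
    rfl
  have hchoose : ∀ i : Fin s, ∃ c ∈ 𝒟 (n - e i), ∀ x, β c x =
      (φ ∘ₗ LinearMap.single k (fun _ : Fin s => M) i) (projK 𝒜 ℳ (-(n - e i)) x) :=
    fun i => exists_dual 𝒜 ℳ 𝒟 β hD (n - e i) _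
  choose c hc hcx using hchoose
  refine ⟨c, hc, ?_⟩
  have hmem : ∀ i, r i • c i ∈ 𝒟 n := by
    intro i
    have := smul_mem_add 𝒜 𝒟 (hr i) (hc i)
    rwa [add_sub_cancel] at this
  have hsum : (∑ i, r i • c i) ∈ 𝒟 n := AddSubgroup.sum_mem _ (fun i _ => hmem i)
  have hsub : d - ∑ i, r i • c i ∈ 𝒟 n := AddSubgroup.sub_mem _ hd hsum
  have := hD.eq_zero n _ hsub ?_
  · exact sub_eq_zero.1 this
  · intro x hx
    rw [map_sub, LinearMap.sub_apply, map_sum, LinearMap.sum_apply]
    have h1 : ∀ i, β (r i • c i) x = φ (Pi.single i (r i • x)) := by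
      intro i
      rw [hD.map_smul, hcx i]
      have h2 : r i • x ∈ ℳ (-(n - e i)) := by
        have := smul_mem_add 𝒜 ℳ (hr i) hx
        have h3 : e i + -n = -(n - e i) := by ring
        rwa [h3] at this
      rw [projK_of_mem 𝒜 ℳ h2]
      rfl
    rw [Finset.sum_congr rfl (fun i _ => h1 i), ← map_sum]
    have h4 : ∑ i, Pi.single i (r i • x) = T ⟨x, (mem_pc 𝒜 ℳ).2 hx⟩ := by
      funext j
      rw [Finset.sum_apply, Finset.sum_eq_single j]
      · rw [Pi.single_eq_same]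
        rfl
      · intro i _ hij
        rw [Pi.single_eq_of_ne hij.symm]
      · intro h
        exact absurd (Finset.mem_univ j) h
    rw [h4, hφ]
    exact sub_self _

include hD in
/-- the graded dual of an Artinian module is finitely generated -/
theorem finite_dual [IsNoetherianRing R] [IsArtinian R M] (hpos : ∀ n : ℤ, n < 0 → 𝒜 n = ⊥)
    (h0 : 𝒜 0 = Submodule.span k {(1 : R)}) : Module.Finite R D := by
  classical
  obtain ⟨s, r, e, he, hr, hgen⟩ := exists_homogeneous_generators 𝒜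
  obtain ⟨n₁, hn₁⟩ := exists_bound_above_of_isArtinian 𝒜 ℳ hpos
  obtain ⟨s₀, hs₀⟩ := exists_socle_bound 𝒜 ℳ hpos h0
  have hfin : ∀ n : ℤ, Module.Finite k ↥(pc 𝒜 𝒟 n) := by
    intro n
    haveI := finite_pc_of_isArtinian 𝒜 ℳ hpos h0 (-n)
    exact finite_pc_dual 𝒜 ℳ 𝒟 β hD n (-n) rfl
  have hS : ∀ n : ℤ, ∃ S : Finset D, Submodule.span k (S : Set D) = pc 𝒜 𝒟 n := fun n =>
    Module.Finite.iff_fg.1 (hfin n)
  choose S hS using hS
  let G : Finset D := (Finset.Ioc (-n₁) (-s₀)).biUnion S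
  have key : ∀ (t : ℕ) (n : ℤ), n ≤ -n₁ + t → ∀ d ∈ 𝒟 n, d ∈ Submodule.span R (G : Set D) := by
    intro t
    induction t with
    | zero =>
      intro n hn d hd
      rw [piece_dual_eq_zero ℳ 𝒟 β hD n (fun x hx => hn₁ (-n) (by push_cast at hn; omega) x hx) d hd]
      exact zero_mem _
    | succ t ih =>
      intro n hn d hd
      by_cases hn' : n ≤ -n₁ + t
      · exact ih n hn' d hd
      · by_cases hw : n ≤ -s₀
        · have h1 : d ∈ Submodule.span k (S n : Set D) := by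
            rw [hS n]
            exact (mem_pc 𝒜 𝒟).2 hd
          have h2 : Submodule.span k (S n : Set D) ≤
              (Submodule.span R (G : Set D)).restrictScalars k := by
            rw [Submodule.span_le]
            intro y hy
            apply Submodule.subset_span
            rw [Finset.mem_coe, Finset.mem_biUnion]
            exact ⟨n, Finset.mem_Ioc.2 ⟨by push_cast at hn'; omega, hw⟩, hy⟩
          exact h2 h1
        · obtain ⟨c, hc, hdc⟩ := exists_sum_smul 𝒜 ℳ 𝒟 β hD r e hr hgen n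
            (fun x hx hsoc => hs₀ (-n) (by omega) x hx hsoc) d hd
          rw [hdc]
          refine Submodule.sum_mem _ (fun i _ => Submodule.smul_mem _ _ ?_)
          exact ih (n - e i) (by have := he i; push_cast at hn; omega) (c i) (hc i)
  refine ⟨⟨G, ?_⟩⟩
  rw [eq_top_iff]
  intro d _
  rw [← DirectSum.sum_support_decompose 𝒟 d]
  refine Submodule.sum_mem _ (fun n _ => ?_)
  exact key (n + n₁).toNat n (by omega) _ (SetLike.coe_mem _)

end Fin

end Groth.Agent.Lib.helper19.GDual
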