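import Mathlib
import Groth.Prelude.Def_GrSeg

/-!
# Helper lemmas for the graded dual (`GrSeg.IsGDual`), pieces of `M` in any `AddSubgroupClass`
-/

set_option autoImplicit false
universe u

namespace Groth.Agent.Lib.helper19.GDualG

section Dual

variable {k : Type u} [Field k] {R : Type u} [CommRing R] [Algebra k R]
  {M : Type u} [AddCommGroup M] [Module R M] [Module k M] [IsScalarTower k R M]
  {τ : Type u} [SetLike τ M] [AddSubgroupClass τ M]
  (ℳ : ℤ → τ) [DirectSum.Decomposition ℳ]
  {D : Type u} [AddCommGroup D] [Module R D] [Module k D] [IsScalarTower k R D]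
  (𝒟 : ℤ → AddSubgroup D) [DirectSum.Decomposition 𝒟]
  (β : D →ₗ[k] M →ₗ[k] k) (hD : GrSeg.IsGDual R ℳ 𝒟 β)

include hD in
/-- pairing with a homogeneous element of `M` only sees one component of `d` -/
theorem beta_decompose_left (d : D) {n : ℤ} {x : M} (hx : x ∈ ℳ (-n)) :
    β d x = β ((DirectSum.decompose 𝒟 d n : 𝒟 n) : D) x := by
  classical
  conv_lhs => rw [← DirectSum.sum_support_decompose 𝒟 d]
  rw [map_sum, LinearMap.sum_apply]
  by_cases hn : n ∈ (DirectSum.decompose 𝒟 d).support
  · rw [Finset.sum_eq_single_of_mem n hn]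
    intro l _ hl
    exact hD.vanish l _ (SetLike.coe_mem _) (-n) (by omega) x hx
  · rw [DFinsupp.notMem_support_iff.1 hn]
    rw [Finset.sum_eq_zero]
    · simp
    · intro l _
      by_cases hl : l = n
      · subst hl
        rw [DFinsupp.notMem_support_iff.1 hn]; simp
      · exact hD.vanish l _ (SetLike.coe_mem _) (-n) (by omega) x hx

include hD in
/-- pairing with a homogeneous element of `D` only sees one component of `x` -/
theorem beta_decompose_right {n : ℤ} {d : D} (hd : d ∈ 𝒟 n) (x : M) :
    β d x = β d ((DirectSum.decompose ℳ x (-n) : ℳ (-n)) : M) := by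
  classical
  conv_lhs => rw [← DirectSum.sum_support_decompose ℳ x]
  rw [map_sum]
  by_cases hn : (-n) ∈ (DirectSum.decompose ℳ x).support
  · rw [Finset.sum_eq_single_of_mem (-n) hn]
    intro l _ hl
    exact hD.vanish n d hd l hl _ (SetLike.coe_mem _)
  · rw [DFinsupp.notMem_support_iff.1 hn]
    rw [Finset.sum_eq_zero]
    · simp
    · intro l _
      by_cases hl : l = -n
      · subst hl
        rw [DFinsupp.notMem_support_iff.1 hn]; simp
      · exact hD.vanish n d hd l hl _ (SetLike.coe_mem _)

include hD in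
/-- an element of `D` pairing to zero with all pieces but `M_{-n}` is homogeneous of degree `n` -/
theorem mem_of_vanish (d : D) (n : ℤ) (h : ∀ m : ℤ, m ≠ -n → ∀ x ∈ ℳ m, β d x = 0) : d ∈ 𝒟 n := by
  classical
  have hcomp : ∀ l : ℤ, l ≠ n → ((DirectSum.decompose 𝒟 d l : 𝒟 l) : D) = 0 := by
    intro l hl
    apply hD.eq_zero l _ (SetLike.coe_mem _)
    intro x hx
    rw [← beta_decompose_left ℳ 𝒟 β hD d hx]
    exact h (-l) (by omega) x hx
  have h1 : d = ((DirectSum.decompose 𝒟 d n : 𝒟 n) : D) := by
    conv_lhs => rw [← DirectSum.sum_support_decompose 𝒟 d]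
    by_cases hn : n ∈ (DirectSum.decompose 𝒟 d).support
    · rw [Finset.sum_eq_single_of_mem n hn]
      intro l _ hl
      exact hcomp l hl
    · rw [DFinsupp.notMem_support_iff.1 hn]
      rw [Finset.sum_eq_zero]
      · simp
      · intro l _
        by_cases hl : l = n
        · subst hl
          rw [DFinsupp.notMem_support_iff.1 hn]; simp
        · exact hcomp l hl
  rw [h1]
  exact SetLike.coe_mem _

include hD in
theorem eq_zero_of_forall (d : D) (h : ∀ x, β d x = 0) : d = 0 := by
  have h1 : d ∈ 𝒟 0 := mem_of_vanish ℳ 𝒟 β hD d 0 (fun m _ x _ => h x)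
  exact hD.eq_zero 0 d h1 (fun x _ => h x)


end Dual

end Groth.Agent.Lib.helper19.GDualG
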