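import Mathlib
import Groth.Prelude.Def_GrSeg
import Groth.Agent.Lib.Helper19.GDual5
import Groth.Agent.Lib.Helper19.GDualG
import Groth.Agent.Lib.Helper19.GrConv
import Groth.Agent.Lib.Helper19.GrMod

/-!
# Graded duality over a field (helper19), part 6: Artinian graded modules embed into `(R^*)^t`

`R` a non-negatively graded Noetherian `k`-algebra with `R_0 = k`, `D = R^*` its graded dual.
* `emb lam g : M →ₗ[R] D` : the `R`-linear map attached to a functional `lam` cut down to degree `g`,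
  `β (emb lam g x) r = lam ((r x)_g)`
* `exists_embedding` : an Artinian graded module embeds into a finite sum of shifted copies of `R^*`
* `isArtinian_of_embedding` : the converse
-/

set_option autoImplicit false
universe u

namespace Groth.Agent.Lib.helper19.GDual

open Groth.Agent.Lib.helper19.Segre

section Emb

variable {k : Type u} [Field k] {R : Type u} [CommRing R] [Algebra k R] (𝒜 : ℤ → Submodule k R)
  [GradedAlgebra 𝒜]
  {M : Type u} [AddCommGroup M] [Module R M] [Module k M] [IsScalarTower k R M]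
  (ℳ : ℤ → AddSubgroup M) [DirectSum.Decomposition ℳ] [SetLike.GradedSMul 𝒜 ℳ]
  {D : Type u} [AddCommGroup D] [Module R D] [Module k D] [IsScalarTower k R D]
  (𝒟 : ℤ → AddSubgroup D) [DirectSum.Decomposition 𝒟] [SetLike.GradedSMul 𝒜 𝒟]
  (β : D →ₗ[k] R →ₗ[k] k) (hD : GrSeg.IsGDual R 𝒜 𝒟 β)

omit [GradedAlgebra 𝒜] in
theorem coe_decompose_congrA [DirectSum.Decomposition 𝒜] (r : R) {i j : ℤ} (h : i = j) :
    ((DirectSum.decompose 𝒜 r i : 𝒜 i) : R) = ((DirectSum.decompose 𝒜 r j : 𝒜 j) : R) := by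
  subst h; rfl

include hD in
theorem exists_rep_of_mem (lam : M →ₗ[k] k) (g : ℤ) {m : ℤ} {x : M} (hx : x ∈ ℳ m) :
    ∃ d ∈ 𝒟 (m - g), ∀ r : R, β d r = lam (projK 𝒜 ℳ g (r • x)) := by
  classical
  let φ : R →ₗ[k] k :=
    lam.comp ((projK 𝒜 ℳ g).comp ((LinearMap.toSpanSingleton R M x).restrictScalars k))
  obtain ⟨d, hd, hdr⟩ := hD.exists_eq (m - g) φ
  refine ⟨d, hd, fun r => ?_⟩
  rw [GDualG.beta_decompose_right 𝒜 𝒟 β hD hd r, hdr _ (SetLike.coe_mem _)]
  show lam (projK 𝒜 ℳ g (((DirectSum.decompose 𝒜 r (-(m - g)) : 𝒜 (-(m - g))) : R) • x)) =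
    lam (projK 𝒜 ℳ g (r • x))
  congr 1
  have h1 : ((DirectSum.decompose 𝒜 r (-(m - g)) : 𝒜 (-(m - g))) : R) • x ∈ ℳ g := by
    have := smul_mem_add 𝒜 ℳ (SetLike.coe_mem (DirectSum.decompose 𝒜 r (-(m - g)))) hx
    have h2 : -(m - g) + m = g := by ring
    rwa [h2] at this
  rw [projK_of_mem 𝒜 ℳ h1, projK_apply, GrMod.decompose_smul_apply' 𝒜 ℳ r hx g]
  congr 1
  have h3 : -(m - g) = g - m := by ring
  exact coe_decompose_congrA 𝒜 r h3

include hD in
theorem exists_rep (lam : M →ₗ[k] k) (g : ℤ) (x : M) :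
    ∃ d : D, ∀ r : R, β d r = lam (projK 𝒜 ℳ g (r • x)) := by
  classical
  refine DirectSum.Decomposition.inductionOn ℳ ?_ ?_ ?_ x
  · exact ⟨0, fun r => by simp⟩
  · intro i y
    obtain ⟨d, _, h⟩ := exists_rep_of_mem 𝒜 ℳ 𝒟 β hD lam g y.2
    exact ⟨d, h⟩
  · rintro y y' ⟨d1, h1⟩ ⟨d2, h2⟩
    exact ⟨d1 + d2, fun r => by
      rw [map_add, LinearMap.add_apply, h1, h2, smul_add, map_add, map_add]⟩

/-- the element of `R^*` representing `r ↦ lam ((r x)_g)` -/
noncomputable def embFun (lam : M →ₗ[k] k) (g : ℤ) (x : M) : D :=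
  (exists_rep 𝒜 ℳ 𝒟 β hD lam g x).choose

theorem beta_embFun (lam : M →ₗ[k] k) (g : ℤ) (x : M) (r : R) :
    β (embFun 𝒜 ℳ 𝒟 β hD lam g x) r = lam (projK 𝒜 ℳ g (r • x)) :=
  (exists_rep 𝒜 ℳ 𝒟 β hD lam g x).choose_spec r

/-- the `R`-linear map `M → R^*` attached to a functional cut down to degree `g` -/
noncomputable def emb (lam : M →ₗ[k] k) (g : ℤ) : M →ₗ[R] D where
  toFun := embFun 𝒜 ℳ 𝒟 β hD lam g
  map_add' x y := by
    apply sub_eq_zero.1
    apply GDualG.eq_zero_of_forall 𝒜 𝒟 β hD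
    intro r
    rw [map_sub, map_add, LinearMap.sub_apply, LinearMap.add_apply, beta_embFun, beta_embFun,
      beta_embFun, smul_add, map_add, map_add, sub_self]
  map_smul' s x := by
    apply sub_eq_zero.1
    apply GDualG.eq_zero_of_forall 𝒜 𝒟 β hD
    intro r
    rw [RingHom.id_apply, map_sub, LinearMap.sub_apply, hD.map_smul, beta_embFun, beta_embFun,
      smul_eq_mul, mul_smul, smul_comm s r x, sub_self]

theorem beta_emb (lam : M →ₗ[k] k) (g : ℤ) (x : M) (r : R) :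
    β (emb 𝒜 ℳ 𝒟 β hD lam g x) r = lam (projK 𝒜 ℳ g (r • x)) :=
  beta_embFun 𝒜 ℳ 𝒟 β hD lam g x r

theorem emb_mem (lam : M →ₗ[k] k) (g : ℤ) {m : ℤ} {x : M} (hx : x ∈ ℳ m) :
    emb 𝒜 ℳ 𝒟 β hD lam g x ∈ 𝒟 (m - g) := by
  apply GDualG.mem_of_vanish 𝒜 𝒟 β hD
  intro j hj r hr
  rw [beta_emb, projK_of_mem_ne 𝒜 ℳ (smul_mem_add 𝒜 ℳ hr hx) (by omega), map_zero]

/-- every nonzero homogeneous element of a graded module bounded above has a nonzero homogeneous
multiple in the socle -/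
theorem exists_socle_multiple (n₁ : ℤ) (hn₁ : ∀ n : ℤ, n₁ ≤ n → ∀ x ∈ ℳ n, x = 0) :
    ∀ (j : ℕ) (m : ℤ), n₁ - m ≤ j → ∀ z ∈ ℳ m, z ≠ 0 →
      ∃ (a : ℤ) (r : R), r ∈ 𝒜 a ∧ r • z ≠ 0 ∧ ∀ s ∈ irrK 𝒜, s • (r • z) = 0 := by
  intro j
  induction j with
  | zero =>
    intro m hm z hz hz0
    exact absurd (hn₁ m (by push_cast at hm; omega) z hz) hz0
  | succ j ih =>
    intro m hm z hz hz0
    by_cases hsoc : ∀ s ∈ irrK 𝒜, s • z = 0
    · exact ⟨0, 1, SetLike.GradedOne.one_mem, by rwa [one_smul], fun s hs => by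
        rw [one_smul]; exact hsoc s hs⟩
    · have hex : ∃ n : ℤ, 0 < n ∧ ∃ s ∈ 𝒜 n, s • z ≠ 0 := by
        by_contra hcon
        push Not at hcon
        apply hsoc
        intro s hs
        refine Submodule.span_induction (p := fun s _ => s • z = 0) ?_ ?_ ?_ ?_ hs
        · intro y hy
          obtain ⟨n, hn, hyn⟩ := Set.mem_iUnion₂.1 hy
          exact hcon n (Set.mem_Ioi.1 hn) y hyn
        · exact zero_smul _ _
        · intro a b _ _ ha hb
          rw [add_smul, ha, hb, add_zero]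
        · intro a b _ hb
          rw [smul_eq_mul, mul_smul, hb, smul_zero]
      obtain ⟨n, hn, s, hs, hsz⟩ := hex
      obtain ⟨a, r, hr, hrz, hsoc'⟩ := ih (n + m) (by push_cast at hm; omega) (s • z)
        (smul_mem_add 𝒜 ℳ hs hz) hsz
      refine ⟨a + n, r * s, SetLike.GradedMul.mul_mem hr hs, by rwa [mul_smul], fun t ht => ?_⟩
      rw [mul_smul]
      exact hsoc' t ht

omit [DirectSum.Decomposition ℳ] in
theorem exists_separating (W : Submodule k M) [Module.Finite k W] :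
    ∃ (t : ℕ) (lam : Fin t → M →ₗ[k] k), ∀ y ∈ W, (∀ j, lam j y = 0) → y = 0 := by
  classical
  let b := Module.finBasis k W
  have hext : ∀ j, ∃ g : M →ₗ[k] k, g.comp W.subtype = b.coord j :=
    fun j => LinearMap.exists_extend _
  choose lam hlam using hext
  refine ⟨_, lam, fun y hy h => ?_⟩
  have h1 : (⟨y, hy⟩ : W) = 0 := by
    rw [← b.forall_coord_eq_zero_iff]
    intro j
    rw [← hlam j]
    exact h j
  exact congrArg Subtype.val h1

include hD in
/-- an Artinian graded module embeds, as a graded module, into a finite direct sum of shifted copies of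
`R^*` -/
theorem exists_embedding [IsArtinian R M] (hpos : ∀ n : ℤ, n < 0 → 𝒜 n = ⊥)
    (h0 : 𝒜 0 = Submodule.span k {(1 : R)}) :
    ∃ (t : ℕ) (sh : Fin t → ℤ) (f : M →ₗ[R] (Fin t → D)), Function.Injective f ∧
      ∀ (i : Fin t) (g : ℤ) (x : M), x ∈ ℳ g → f x i ∈ 𝒟 (g + sh i) := by
  classical
  obtain ⟨n₁, hn₁⟩ := exists_bound_above_of_isArtinian 𝒜 ℳ hpos
  obtain ⟨s₀, hs₀⟩ := exists_socle_bound 𝒜 ℳ hpos h0
  haveI : ∀ n, Module.Finite k ↥(pc 𝒜 ℳ n) := finite_pc_of_isArtinian 𝒜 ℳ hpos h0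
  let W : Submodule k M := (Finset.Icc s₀ n₁).sup (pc 𝒜 ℳ)
  haveI : Module.Finite k W := Submodule.finiteDimensional_finset_sup _ _
  obtain ⟨t, lam, hlam⟩ := exists_separating W
  obtain ⟨N, hN⟩ : ∃ N : ℕ, N = (n₁ - s₀ + 1).toNat := ⟨_, rfl⟩
  let e : Fin (t * N) ≃ Fin t × Fin N := finProdFinEquiv.symm
  refine ⟨t * N, fun i => -(s₀ + ((e i).2 : ℕ)),
    LinearMap.pi (fun i => emb 𝒜 ℳ 𝒟 β hD (lam (e i).1) (s₀ + ((e i).2 : ℕ))), ?_, ?_⟩
  · rw [← LinearMap.ker_eq_bot, Submodule.eq_bot_iff]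
    intro x hx
    rw [LinearMap.mem_ker] at hx
    have hkey : ∀ (j : Fin t) (q : Fin N) (r : R),
        lam j (projK 𝒜 ℳ (s₀ + ((q : ℕ) : ℤ)) (r • x)) = 0 := by
      intro j q r
      have h1 : emb 𝒜 ℳ 𝒟 β hD (lam j) (s₀ + ((q : ℕ) : ℤ)) x = 0 := by
        have h2 := congrFun hx (e.symm (j, q))
        rw [LinearMap.pi_apply, Equiv.apply_symm_apply] at h2
        exact h2
      rw [← beta_emb 𝒜 ℳ 𝒟 β hD, h1, map_zero, LinearMap.zero_apply]
    by_contra hx0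
    obtain ⟨m, hm⟩ : ∃ m : ℤ, ((DirectSum.decompose ℳ x m : ℳ m) : M) ≠ 0 := by
      by_contra hcon
      push Not at hcon
      apply hx0
      rw [← DirectSum.sum_support_decompose ℳ x]
      exact Finset.sum_eq_zero (fun m _ => hcon m)
    have hzm : ((DirectSum.decompose ℳ x m : ℳ m) : M) ∈ ℳ m := SetLike.coe_mem _
    obtain ⟨a, r, hr, hrz, hsoc⟩ := exists_socle_multiple 𝒜 ℳ n₁ hn₁ (n₁ - m).toNat m (by omega)
      _ hzm hm
    have hmem := smul_mem_add 𝒜 ℳ hr hzm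
    have h1 : s₀ ≤ a + m := by
      by_contra h
      exact hrz (hs₀ (a + m) (by omega) _ hmem hsoc)
    have h2 : a + m < n₁ := by
      by_contra h
      exact hrz (hn₁ (a + m) (by omega) _ hmem)
    apply hrz
    have h3 : projK 𝒜 ℳ (a + m) (r • x) = r • ((DirectSum.decompose ℳ x m : ℳ m) : M) := by
      rw [projK_apply, decompose_smul_apply 𝒜 ℳ hr x (a + m)]
      congr 1
      exact coe_decompose_congr ℳ x (by ring)
    have hW : r • ((DirectSum.decompose ℳ x m : ℳ m) : M) ∈ W :=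
      (Finset.le_sup (f := pc 𝒜 ℳ) (Finset.mem_Icc.2 ⟨h1, h2.le⟩)) ((mem_pc 𝒜 ℳ).2 hmem)
    apply hlam _ hW
    intro j
    have hq : (a + m - s₀).toNat < N := by omega
    have h4 := hkey j ⟨(a + m - s₀).toNat, hq⟩ r
    have hdeg : s₀ + (((a + m - s₀).toNat : ℕ) : ℤ) = a + m := by omega
    rw [hdeg, h3] at h4
    exact h4
  · intro i g x hx
    have h1 := emb_mem 𝒜 ℳ 𝒟 β hD (lam (e i).1) (s₀ + ((e i).2 : ℕ)) hx
    rw [LinearMap.pi_apply, ← sub_eq_add_neg]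
    exact h1

include hD in
/-- a module embedding into a finite power of `R^*` is Artinian -/
theorem isArtinian_of_embedding [IsNoetherianRing R] (hpos : ∀ n : ℤ, n < 0 → 𝒜 n = ⊥)
    (h0 : 𝒜 0 = Submodule.span k {(1 : R)}) {N : Type u} [AddCommGroup N] [Module R N] {t : ℕ}
    (f : N →ₗ[R] (Fin t → D)) (hf : Function.Injective f) : IsArtinian R N := by
  classical
  haveI : SetLike.GradedSMul 𝒜 (GrConv.addGr 𝒜) :=
    ⟨fun {i j a b} ha hb => SetLike.GradedMul.mul_mem ha hb⟩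
  have hD' : GrSeg.IsGDual R (GrConv.addGr 𝒜) 𝒟 β :=
    ⟨hD.map_smul, hD.vanish, hD.eq_zero, hD.exists_eq⟩
  haveI : IsArtinian R D := isArtinian_dual 𝒜 (GrConv.addGr 𝒜) 𝒟 β hD' hpos h0
  exact isArtinian_of_injective f hf

end Emb

end Groth.Agent.Lib.helper19.GDual
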