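import Mathlib
import Groth.Prelude.Def_GrLC
import Groth.Prelude.Def_GrSyz
import Groth.Agent.Lib.Helper19.GrAB1

/-!
# Graded Auslander–Buchsbaum via local cohomology (helper19), part 2: graded free modules

For the graded free module `Fin m → R` with grading `freeGr 𝒜 e`:
* `free_Hgr_eq_bot` : `H^j_a(F)_g = 0` as soon as `H^j_a(R)_{g - e_b} = 0` for all `b`
* `free_H_nontrivial` : `H^j_a(F) ≠ 0` if `H^j_a(R) ≠ 0` and `m ≠ 0`
* `free_map_socle` : a graded map of graded free modules with matrix entries in `a` is not injective on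
  `H^j_a` (when `H^j_a(R) ≠ 0` and the source is nonzero)
-/

set_option autoImplicit false
universe u

namespace Groth.Agent.Lib.helper19.GrAB

open GrLC Groth.Agent.Lib.helper19.GrMod Groth.Agent.Lib.helper19.GrLes Groth.Agent.Lib.helper19.GrShift
  Groth.Agent.Lib.helper19.GrReg

section Free

variable {R : Type u} [CommRing R] [IsNoetherianRing R] {𝒜 : ℤ → AddSubgroup R} [GradedRing 𝒜]
  (a : HomogeneousIdeal 𝒜)

theorem free_Hgr_eq_bot (j : ℕ) (g : ℤ) : ∀ (m : ℕ) (e : Fin m → ℤ) (E : StarInjRes 𝒜 (freeGr 𝒜 e)),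
    (∀ (b : Fin m) (ER : StarInjRes 𝒜 𝒜), ER.Hgr a j (g - e b) = ⊥) → E.Hgr a j g = ⊥ := by
  intro m
  induction m with
  | zero =>
    intro e E _
    exact Hgr_eq_bot_of_subsingleton a E j g
  | succ n ih =>
    intro e E he
    letI : DirectSum.Decomposition (shiftPiece 𝒜 (-(e 0))) := shiftDecomposition 𝒜 (-(e 0))
    haveI : SetLike.GradedSMul 𝒜 (shiftPiece 𝒜 (-(e 0))) := shift_gradedSMul 𝒜 𝒜 (-(e 0))
    let i : R →ₗ[R] (Fin (n + 1) → R) := LinearMap.single R (fun _ : Fin (n + 1) => R) 0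
    let p : (Fin (n + 1) → R) →ₗ[R] (Fin n → R) := LinearMap.funLeft R R Fin.succ
    have hi : IsGrHom (shiftPiece 𝒜 (-(e 0))) (freeGr 𝒜 e) i := by
      intro g x hx
      have hx' : x ∈ 𝒜 (g + -(e 0)) := hx
      have h1 := single_mem_freeGr 𝒜 e 0 hx'
      rw [neg_add_cancel_right] at h1
      exact h1
    have hp : IsGrHom (freeGr 𝒜 e) (freeGr 𝒜 (fun b => e b.succ)) p := by
      intro g v hv b
      exact hv b.succ
    have hinj : Function.Injective i := by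
      intro x y hxy
      have h1 := congrFun hxy 0
      simpa [i] using h1
    have hsurj : Function.Surjective p := by
      intro w
      refine ⟨Fin.cons 0 w, ?_⟩
      funext b
      show (Fin.cons 0 w : Fin (n + 1) → R) b.succ = w b
      rw [Fin.cons_succ]
    have hex : LinearMap.ker p = LinearMap.range i := by
      ext v
      rw [LinearMap.mem_ker, LinearMap.mem_range]
      constructor
      · intro hv
        refine ⟨v 0, ?_⟩
        funext b
        refine Fin.cases ?_ (fun b' => ?_) b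
        · show (Pi.single 0 (v 0) : Fin (n + 1) → R) 0 = v 0
          rw [Pi.single_eq_same]
        · show (Pi.single 0 (v 0) : Fin (n + 1) → R) b'.succ = v b'.succ
          rw [Pi.single_eq_of_ne (Fin.succ_ne_zero b')]
          exact (congrFun hv b').symm
      · rintro ⟨x, rfl⟩
        funext b
        show (Pi.single 0 x : Fin (n + 1) → R) b.succ = 0
        rw [Pi.single_eq_of_ne (Fin.succ_ne_zero b)]
    obtain ⟨ER⟩ := Groth.Agent.S13215.result R 𝒜 R 𝒜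
    obtain ⟨E''⟩ := Groth.Agent.S13215.result R 𝒜 (Fin n → R) (freeGr 𝒜 (fun b => e b.succ))
    have h' : (shiftRes ER (-(e 0))).Hgr a j g = ⊥ := by
      have h1 := he 0 ER
      rw [eq_bot_iff] at h1 ⊢
      intro y hy
      have h2 : y ∈ ER.Hgr a j (g + -(e 0)) := (mem_shiftRes_Hgr a ER (-(e 0)) j g y).1 hy
      rw [← sub_eq_add_neg] at h2
      exact h1 h2
    exact ses_mid i p hi hp hinj hsurj hex (shiftRes ER (-(e 0))) E E'' a j g h'
      (ih (fun b => e b.succ) E'' (fun b ER' => he b.succ ER'))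

variable {m : ℕ} (e : Fin m → ℤ)

omit [IsNoetherianRing R] in
theorem single_isGrHom (b : Fin m) [DirectSum.Decomposition (shiftPiece 𝒜 (-(e b)))]
    [SetLike.GradedSMul 𝒜 (shiftPiece 𝒜 (-(e b)))] :
    IsGrHom (shiftPiece 𝒜 (-(e b))) (freeGr 𝒜 e) (LinearMap.single R (fun _ : Fin m => R) b) := by
  intro g x hx
  have hx' : x ∈ 𝒜 (g + -(e b)) := hx
  have h1 := single_mem_freeGr 𝒜 e b hx'
  rw [neg_add_cancel_right] at h1
  exact h1

omit [IsNoetherianRing R] in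
theorem proj_isGrHom (b : Fin m) [DirectSum.Decomposition (shiftPiece 𝒜 (-(e b)))]
    [SetLike.GradedSMul 𝒜 (shiftPiece 𝒜 (-(e b)))] :
    IsGrHom (freeGr 𝒜 e) (shiftPiece 𝒜 (-(e b))) (LinearMap.proj b : (Fin m → R) →ₗ[R] R) := by
  intro g v hv
  have h1 : v b ∈ 𝒜 (g - e b) := hv b
  rw [sub_eq_add_neg] at h1
  exact h1

/-- `H^j_a` of a nonzero graded free module is nonzero when `H^j_a(R)` is -/
theorem free_H_nontrivial (j : ℕ) (ER : StarInjRes 𝒜 𝒜) [Nontrivial (ER.H a j)]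
    (E : StarInjRes 𝒜 (freeGr 𝒜 e)) (b : Fin m) : Nontrivial (E.H a j) := by
  classical
  letI : DirectSum.Decomposition (shiftPiece 𝒜 (-(e b))) := shiftDecomposition 𝒜 (-(e b))
  haveI : SetLike.GradedSMul 𝒜 (shiftPiece 𝒜 (-(e b))) := shift_gradedSMul 𝒜 𝒜 (-(e b))
  obtain ⟨cι⟩ := exists_cmap (shiftRes ER (-(e b))) E (LinearMap.single R (fun _ : Fin m => R) b)
    (single_isGrHom e b)
  obtain ⟨cp⟩ := exists_cmap E (shiftRes ER (-(e b))) (LinearMap.proj b : (Fin m → R) →ₗ[R] R)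
    (proj_isGrHom e b)
  have hcomp : (LinearMap.proj b : (Fin m → R) →ₗ[R] R) ∘ₗ LinearMap.single R (fun _ : Fin m => R) b =
      LinearMap.id := by
    ext
    simp
  have h1 : ∀ y : (shiftRes ER (-(e b))).H a j, cp.Hmap a j (cι.Hmap a j y) = y := by
    intro y
    rw [← CMap.Hmap_comp, Hmap_eq' (cι.comp cp) (CMap.id _) hcomp, CMap.Hmap_id]
  obtain ⟨η, hη⟩ := exists_ne (0 : ER.H a j)
  refine ⟨⟨cι.Hmap a j η, 0, fun h0 => hη ?_⟩⟩
  have h2 := h1 η
  rw [h0, map_zero] at h2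
  exact h2.symm

end Free

section Socle

variable {R : Type u} [CommRing R] [IsNoetherianRing R] {𝒜 : ℤ → AddSubgroup R} [GradedRing 𝒜]
  (a : HomogeneousIdeal 𝒜)
variable {m₁ m₀ : ℕ} (e₁ : Fin m₁ → ℤ) (e₀ : Fin m₀ → ℤ)

/-- a graded map between graded free modules whose matrix has entries in `a` is not injective on
`H^j_a` if `H^j_a(R) ≠ 0` and the source is nonzero -/
theorem free_map_socle (j : ℕ) (ER : StarInjRes 𝒜 𝒜) [Nontrivial (ER.H a j)]
    (D : Matrix (Fin m₀) (Fin m₁) R) (hD : ∀ c b, D c b ∈ 𝒜 (e₁ b - e₀ c)) (hDa : ∀ c b, D c b ∈ a.toIdeal)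
    (E₁ : StarInjRes 𝒜 (freeGr 𝒜 e₁)) (E₀ : StarInjRes 𝒜 (freeGr 𝒜 e₀))
    (cD : CMap E₁ E₀ (Matrix.mulVecLin D)) (b : Fin m₁) :
    ∃ z : E₁.H a j, z ≠ 0 ∧ cD.Hmap a j z = 0 := by
  classical
  letI : ∀ t : ℤ, DirectSum.Decomposition (shiftPiece 𝒜 (-t)) := fun t => shiftDecomposition 𝒜 (-t)
  haveI : ∀ t : ℤ, SetLike.GradedSMul 𝒜 (shiftPiece 𝒜 (-t)) := fun t => shift_gradedSMul 𝒜 𝒜 (-t)
  obtain ⟨η, hη, hηa⟩ := exists_socle ER a j
  obtain ⟨cι⟩ := exists_cmap (shiftRes ER (-(e₁ b))) E₁ (LinearMap.single R (fun _ : Fin m₁ => R) b)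
    (single_isGrHom e₁ b)
  obtain ⟨cp⟩ := exists_cmap E₁ (shiftRes ER (-(e₁ b))) (LinearMap.proj b : (Fin m₁ → R) →ₗ[R] R)
    (proj_isGrHom e₁ b)
  have hcomp : (LinearMap.proj b : (Fin m₁ → R) →ₗ[R] R) ∘ₗ LinearMap.single R (fun _ : Fin m₁ => R) b =
      LinearMap.id := by
    ext
    simp
  have h1 : cp.Hmap a j (cι.Hmap a j η) = η := by
    rw [← CMap.Hmap_comp, Hmap_eq' (cι.comp cp) (CMap.id _) hcomp, CMap.Hmap_id]
  refine ⟨cι.Hmap a j η, fun h0 => hη ?_, ?_⟩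
  · rw [h0, map_zero] at h1
    exact h1.symm
  -- the image vanishes: all its coordinates do
  have hcι₀ : ∀ c : Fin m₀, ∃ cι₀ : CMap (shiftRes ER (-(e₀ c))) E₀ (LinearMap.single R (fun _ : Fin m₀ => R) c),
      True := fun c => by
    obtain ⟨x⟩ := exists_cmap (shiftRes ER (-(e₀ c))) E₀ (LinearMap.single R (fun _ : Fin m₀ => R) c)
      (single_isGrHom e₀ c)
    exact ⟨x, trivial⟩
  have hcp₀ : ∀ c : Fin m₀, ∃ cp₀ : CMap E₀ (shiftRes ER (-(e₀ c))) (LinearMap.proj c : (Fin m₀ → R) →ₗ[R] R),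
      True := fun c => by
    obtain ⟨x⟩ := exists_cmap E₀ (shiftRes ER (-(e₀ c))) (LinearMap.proj c : (Fin m₀ → R) →ₗ[R] R)
      (proj_isGrHom e₀ c)
    exact ⟨x, trivial⟩
  choose cι₀ _ using hcι₀
  choose cp₀ _ using hcp₀
  set w := cD.Hmap a j (cι.Hmap a j η) with hw
  -- each coordinate of `w` is `D c b • η = 0`
  have hcoord : ∀ c : Fin m₀, (cp₀ c).Hmap a j w = 0 := by
    intro c
    have hlin : (LinearMap.proj c : (Fin m₀ → R) →ₗ[R] R) ∘ₗ
        (Matrix.mulVecLin D ∘ₗ LinearMap.single R (fun _ : Fin m₁ => R) b) =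
        D c b • (LinearMap.id : R →ₗ[R] R) := by
      ext
      simp [Matrix.mulVec_single]
    have h2 := Hmap_eq' ((cι.comp cD).comp (cp₀ c)) (mulShift ER (D c b) (e₁ b) (e₀ c) (hD c b)) hlin a j
    have h3 := LinearMap.congr_fun h2 η
    rw [CMap.Hmap_comp, CMap.Hmap_comp, mulShift_Hmap] at h3
    rw [hw, h3]
    exact hηa _ (hDa c b)
  -- `w` is the sum of its coordinates
  have hsum : ∑ c : Fin m₀, LinearMap.single R (fun _ : Fin m₀ => R) c ∘ₗ
      (LinearMap.proj c : (Fin m₀ → R) →ₗ[R] R) = LinearMap.id := by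
    ext c' c''
    simp [LinearMap.sum_apply, Finset.sum_apply, Pi.single_apply]
  obtain ⟨C, hC⟩ := exists_cmap_sum a Finset.univ
    (fun c => LinearMap.single R (fun _ : Fin m₀ => R) c ∘ₗ (LinearMap.proj c : (Fin m₀ → R) →ₗ[R] R))
    (fun c => (cp₀ c).comp (cι₀ c)) j
  have h4 : C.Hmap a j w = w := by
    rw [Hmap_eq' C (CMap.id E₀) hsum, CMap.Hmap_id]
  rw [← h4, hC]
  apply Finset.sum_eq_zero
  intro c _
  rw [CMap.Hmap_comp, hcoord c, map_zero]

end Socle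

end Groth.Agent.Lib.helper19.GrAB
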