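import Mathlib
import Groth.Prelude.Def_GrLC
import Groth.Agent.Lib.Helper19.GrAB2
import Groth.Agent.S13215

/-!
# Graded local duality (helper19), part 1: graded local cohomology as a functor; right exactness

`𝒜 : ℤ → AddSubgroup R` a graded ring, `a` a homogeneous ideal.
* `Hm a n E F f hf : E.H a n →ₗ[R] F.H a n` : the map induced by a graded map `f` (via any lift to the
  resolutions), with `Hm_eq`, `Hm_id`, `Hm_comp`, `Hm_add`, `Hm_sum`, `Hm_isGrHom`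
* `rightExact` : if `H^{n+1}_a` of the kernel vanishes, `H^n_a` is right exact on a short exact sequence
-/

set_option autoImplicit false
universe u

namespace Groth.Agent.Lib.helper19.GLD

open GrLC Groth.Agent.Lib.helper19.GrMod Groth.Agent.Lib.helper19.GrLes Groth.Agent.Lib.helper19.GrShift
  Groth.Agent.Lib.helper19.GrReg Groth.Agent.Lib.helper19.GrAB

section Hm

variable {R : Type u} [CommRing R] {𝒜 : ℤ → AddSubgroup R} [GradedRing 𝒜]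
variable {M : Type u} [AddCommGroup M] [Module R M] {ℳ : ℤ → AddSubgroup M}
  [DirectSum.Decomposition ℳ] [SetLike.GradedSMul 𝒜 ℳ]
variable {N : Type u} [AddCommGroup N] [Module R N] {𝒩 : ℤ → AddSubgroup N}
  [DirectSum.Decomposition 𝒩] [SetLike.GradedSMul 𝒜 𝒩]
variable {K : Type u} [AddCommGroup K] [Module R K] {𝒦 : ℤ → AddSubgroup K}
  [DirectSum.Decomposition 𝒦] [SetLike.GradedSMul 𝒜 𝒦]
variable (a : HomogeneousIdeal 𝒜) (n : ℕ)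

/-- the map induced on graded local cohomology by a graded map -/
noncomputable def Hm (E : StarInjRes 𝒜 ℳ) (F : StarInjRes 𝒜 𝒩) (f : M →ₗ[R] N)
    (hf : IsGrHom ℳ 𝒩 f) : E.H a n →ₗ[R] F.H a n :=
  (exists_cmap E F f hf).some.Hmap a n

theorem Hm_eq {E : StarInjRes 𝒜 ℳ} {F : StarInjRes 𝒜 𝒩} {f : M →ₗ[R] N} (c : CMap E F f)
    (hf : IsGrHom ℳ 𝒩 f) : Hm a n E F f hf = c.Hmap a n :=
  Hmap_eq _ c a n

theorem Hm_congr (E : StarInjRes 𝒜 ℳ) (F : StarInjRes 𝒜 𝒩) {f f' : M →ₗ[R] N} (h : f = f')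
    (hf : IsGrHom ℳ 𝒩 f) (hf' : IsGrHom ℳ 𝒩 f') : Hm a n E F f hf = Hm a n E F f' hf' := by
  subst h
  rfl

theorem Hm_id (E : StarInjRes 𝒜 ℳ) (y : E.H a n) :
    Hm a n E E LinearMap.id (fun _ _ h => h) y = y := by
  rw [Hm_eq a n (CMap.id E), CMap.Hmap_id]

theorem Hm_comp (E : StarInjRes 𝒜 ℳ) (F : StarInjRes 𝒜 𝒩) (G : StarInjRes 𝒜 𝒦)
    (f : M →ₗ[R] N) (g : N →ₗ[R] K) (hf : IsGrHom ℳ 𝒩 f) (hg : IsGrHom 𝒩 𝒦 g)
    (hgf : IsGrHom ℳ 𝒦 (g ∘ₗ f)) (y : E.H a n) :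
    Hm a n F G g hg (Hm a n E F f hf y) = Hm a n E G (g ∘ₗ f) hgf y := by
  obtain ⟨c⟩ := exists_cmap E F f hf
  obtain ⟨c'⟩ := exists_cmap F G g hg
  rw [Hm_eq a n c, Hm_eq a n c', Hm_eq a n (c.comp c'), CMap.Hmap_comp]

theorem Hm_zero (E : StarInjRes 𝒜 ℳ) (F : StarInjRes 𝒜 𝒩) (h0 : IsGrHom ℳ 𝒩 (0 : M →ₗ[R] N))
    (y : E.H a n) : Hm a n E F 0 h0 y = 0 := by
  rw [Hm_eq a n (cmapZero E F), Hmap_cmapZero]

theorem Hm_add (E : StarInjRes 𝒜 ℳ) (F : StarInjRes 𝒜 𝒩) (f f' : M →ₗ[R] N)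
    (hf : IsGrHom ℳ 𝒩 f) (hf' : IsGrHom ℳ 𝒩 f') (hff' : IsGrHom ℳ 𝒩 (f + f')) (y : E.H a n) :
    Hm a n E F (f + f') hff' y = Hm a n E F f hf y + Hm a n E F f' hf' y := by
  obtain ⟨c⟩ := exists_cmap E F f hf
  obtain ⟨c'⟩ := exists_cmap E F f' hf'
  rw [Hm_eq a n c, Hm_eq a n c', Hm_eq a n (cmapAdd c c'), Hmap_cmapAdd]

theorem Hm_sum (E : StarInjRes 𝒜 ℳ) (F : StarInjRes 𝒜 𝒩) {κ : Type} (s : Finset κ)
    (f : κ → M →ₗ[R] N) (hf : ∀ i, IsGrHom ℳ 𝒩 (f i)) (hs : IsGrHom ℳ 𝒩 (∑ i ∈ s, f i))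
    (y : E.H a n) :
    Hm a n E F (∑ i ∈ s, f i) hs y = ∑ i ∈ s, Hm a n E F (f i) (hf i) y := by
  have hc : ∀ i, Nonempty (CMap E F (f i)) := fun i => exists_cmap E F (f i) (hf i)
  obtain ⟨C, hC⟩ := exists_cmap_sum a s f (fun i => (hc i).some) n
  rw [Hm_eq a n C, hC]
  apply Finset.sum_congr rfl
  intro i _
  rw [Hm_eq a n (hc i).some]

theorem Hm_isGrHom (E : StarInjRes 𝒜 ℳ) (F : StarInjRes 𝒜 𝒩) (f : M →ₗ[R] N)
    (hf : IsGrHom ℳ 𝒩 f) : IsGrHom (E.Hgr a n) (F.Hgr a n) (Hm a n E F f hf) :=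
  CMap.Hmap_isGrHom a _ n

end Hm

section RightExact

variable {R : Type u} [CommRing R] {𝒜 : ℤ → AddSubgroup R} [GradedRing 𝒜]
variable {M' : Type u} [AddCommGroup M'] [Module R M'] {ℳ' : ℤ → AddSubgroup M'}
  [DirectSum.Decomposition ℳ'] [SetLike.GradedSMul 𝒜 ℳ']
variable {M : Type u} [AddCommGroup M] [Module R M] {ℳ : ℤ → AddSubgroup M}
  [DirectSum.Decomposition ℳ] [SetLike.GradedSMul 𝒜 ℳ]
variable {M'' : Type u} [AddCommGroup M''] [Module R M''] {ℳ'' : ℤ → AddSubgroup M''}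
  [DirectSum.Decomposition ℳ''] [SetLike.GradedSMul 𝒜 ℳ'']

/-- right exactness of `H^n_a` on a graded short exact sequence whose kernel has no `H^{n+1}_a` -/
theorem rightExact (a : HomogeneousIdeal 𝒜) (n : ℕ) (i : M' →ₗ[R] M) (p : M →ₗ[R] M'')
    (hi : IsGrHom ℳ' ℳ i) (hp : IsGrHom ℳ ℳ'' p)
    (hinj : Function.Injective i) (hsurj : Function.Surjective p)
    (hex : LinearMap.ker p = LinearMap.range i)
    (E' : StarInjRes 𝒜 ℳ') (E : StarInjRes 𝒜 ℳ) (E'' : StarInjRes 𝒜 ℳ'')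
    (hV : Subsingleton (E'.H a (n + 1))) :
    Function.Surjective (Hm a n E E'' p hp) ∧
      LinearMap.ker (Hm a n E E'' p hp) = LinearMap.range (Hm a n E' E i hi) := by
  obtain ⟨φ⟩ := exists_cmap E' E i hi
  obtain ⟨ψ⟩ := exists_cmap E E'' p hp
  obtain ⟨δ, _, _, hψ, hδk, _⟩ := les i p hi hp hinj hsurj hex E' E E'' φ ψ a
  rw [Hm_eq a n ψ, Hm_eq a n φ]
  refine ⟨?_, hψ n⟩
  rw [← LinearMap.range_eq_top, ← hδk n, eq_top_iff]
  intro y _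
  rw [LinearMap.mem_ker]
  exact Subsingleton.elim _ _

end RightExact

end Groth.Agent.Lib.helper19.GLD
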