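import Mathlib
import Groth.Prelude.Def_GrLC
import Groth.Agent.Lib.Helper19.GLD1

/-!
# Graded local duality (helper19), part 2: the product `H^n_a(R) × M → H^n_a(M)`

* `Tdeg a n ER EM e x hx : ER.H a n →ₗ[R] EM.H a n` : the map induced by `r ↦ r x` for `x ∈ M_e`
* `Tdeg_add`, `Tdeg_nat`, `Tdeg_smul`, `Tdeg_self`, `Tdeg_mem`
* `gen_of_generators` : `H^n_a(M)` is generated by the `Tdeg (x_i) (h)` for homogeneous generators `x_i`
  (when `H^{n+1}_a` vanishes identically)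
-/

set_option autoImplicit false
universe u

namespace Groth.Agent.Lib.helper19.GLD

open GrLC Groth.Agent.Lib.helper19.GrMod Groth.Agent.Lib.helper19.GrLes Groth.Agent.Lib.helper19.GrShift
  Groth.Agent.Lib.helper19.GrReg Groth.Agent.Lib.helper19.GrAB

section T

variable {R : Type u} [CommRing R] {𝒜 : ℤ → AddSubgroup R} [GradedRing 𝒜]
variable {M : Type u} [AddCommGroup M] [Module R M] {ℳ : ℤ → AddSubgroup M}
  [DirectSum.Decomposition ℳ] [SetLike.GradedSMul 𝒜 ℳ]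
variable {N : Type u} [AddCommGroup N] [Module R N] {𝒩 : ℤ → AddSubgroup N}
  [DirectSum.Decomposition 𝒩] [SetLike.GradedSMul 𝒜 𝒩]

attribute [local instance] shiftDecomposition

local instance instShiftSMul {X : Type u} [AddCommGroup X] [Module R X] (𝒳 : ℤ → AddSubgroup X)
    [SetLike.GradedSMul 𝒜 𝒳] (d : ℤ) : SetLike.GradedSMul 𝒜 (shiftPiece 𝒳 d) :=
  shift_gradedSMul 𝒜 𝒳 d

theorem toSpan_isGrHom {e : ℤ} {x : M} (hx : x ∈ ℳ e) :
    IsGrHom (shiftPiece 𝒜 (-e)) ℳ (LinearMap.toSpanSingleton R M x) := by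
  intro g r hr
  have hr' : r ∈ 𝒜 (g + -e) := hr
  have h1 := smul_mem_add 𝒜 ℳ hr' hx
  rw [LinearMap.toSpanSingleton_apply]
  rwa [neg_add_cancel_right] at h1

variable (a : HomogeneousIdeal 𝒜) (n : ℕ)

/-- the identity, as a map to the cohomology of the shifted resolution -/
noncomputable def shE (E : StarInjRes 𝒜 ℳ) (d : ℤ) : E.H a n ≃ₗ[R] (shiftRes E d).H a n :=
  LinearEquiv.refl R (E.H a n)

theorem mem_shE (E : StarInjRes 𝒜 ℳ) (d : ℤ) (g : ℤ) (y : E.H a n) :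
    shE a n E d y ∈ (shiftRes E d).Hgr a n g ↔ y ∈ E.Hgr a n (g + d) := Iff.rfl

theorem mulShift_shE (E : StarInjRes 𝒜 ℳ) (x : R) (e e' : ℤ) (hx : x ∈ 𝒜 (e - e')) (y : E.H a n) :
    (mulShift E x e e' hx).Hmap a n (shE a n E (-e) y) = shE a n E (-e') (x • y) :=
  mulShift_Hmap a E x e e' hx n y

/-- the map `H^n_a(R) → H^n_a(M)` induced by `r ↦ r x`, for `x` homogeneous of degree `e` -/
noncomputable def Tdeg (ER : StarInjRes 𝒜 𝒜) (EM : StarInjRes 𝒜 ℳ) (e : ℤ) (x : M) (hx : x ∈ ℳ e) :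
    ER.H a n →ₗ[R] EM.H a n :=
  (Hm a n (shiftRes ER (-e)) EM (LinearMap.toSpanSingleton R M x) (toSpan_isGrHom hx)) ∘ₗ
    (shE a n ER (-e)).toLinearMap

theorem Tdeg_apply (ER : StarInjRes 𝒜 𝒜) (EM : StarInjRes 𝒜 ℳ) (e : ℤ) (x : M) (hx : x ∈ ℳ e)
    (h : ER.H a n) :
    Tdeg a n ER EM e x hx h =
      Hm a n (shiftRes ER (-e)) EM (LinearMap.toSpanSingleton R M x) (toSpan_isGrHom hx)
        (shE a n ER (-e) h) := rfl

theorem Tdeg_add (ER : StarInjRes 𝒜 𝒜) (EM : StarInjRes 𝒜 ℳ) {e : ℤ} {x y : M} (hx : x ∈ ℳ e)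
    (hy : y ∈ ℳ e) (hxy : x + y ∈ ℳ e) :
    Tdeg a n ER EM e (x + y) hxy = Tdeg a n ER EM e x hx + Tdeg a n ER EM e y hy := by
  have h1 : LinearMap.toSpanSingleton R M (x + y) =
      LinearMap.toSpanSingleton R M x + LinearMap.toSpanSingleton R M y := by
    apply LinearMap.ext
    intro r
    simp [LinearMap.toSpanSingleton_apply, smul_add]
  apply LinearMap.ext
  intro h
  have h2 : IsGrHom (shiftPiece 𝒜 (-e)) ℳ
      (LinearMap.toSpanSingleton R M x + LinearMap.toSpanSingleton R M y) := by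
    rw [← h1]
    exact toSpan_isGrHom hxy
  rw [LinearMap.add_apply, Tdeg_apply, Tdeg_apply, Tdeg_apply,
    Hm_congr a n (shiftRes ER (-e)) EM h1 _ h2]
  exact Hm_add a n (shiftRes ER (-e)) EM _ _ (toSpan_isGrHom hx) (toSpan_isGrHom hy) h2 _

theorem Tdeg_zero (ER : StarInjRes 𝒜 𝒜) (EM : StarInjRes 𝒜 ℳ) (e : ℤ) (h0 : (0 : M) ∈ ℳ e) :
    Tdeg a n ER EM e 0 h0 = 0 := by
  have h1 : LinearMap.toSpanSingleton R M (0 : M) = 0 := LinearMap.toSpanSingleton_zero R M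
  apply LinearMap.ext
  intro h
  have h2 : IsGrHom (shiftPiece 𝒜 (-e)) ℳ (0 : R →ₗ[R] M) := fun _ _ _ => zero_mem _
  rw [Tdeg_apply, Hm_congr a n (shiftRes ER (-e)) EM h1 _ h2]
  exact Hm_zero a n (shiftRes ER (-e)) EM h2 _

/-- naturality of the product -/
theorem Tdeg_nat (ER : StarInjRes 𝒜 𝒜) (EM : StarInjRes 𝒜 ℳ) (EN : StarInjRes 𝒜 𝒩)
    (f : M →ₗ[R] N) (hf : IsGrHom ℳ 𝒩 f) {e : ℤ} {x : M} (hx : x ∈ ℳ e) (h : ER.H a n) :
    Hm a n EM EN f hf (Tdeg a n ER EM e x hx h) = Tdeg a n ER EN e (f x) (hf e x hx) h := by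
  have h1 : f ∘ₗ LinearMap.toSpanSingleton R M x = LinearMap.toSpanSingleton R N (f x) := by
    apply LinearMap.ext
    intro r
    simp [LinearMap.toSpanSingleton_apply]
  have h2 : IsGrHom (shiftPiece 𝒜 (-e)) 𝒩 (f ∘ₗ LinearMap.toSpanSingleton R M x) := by
    rw [h1]
    exact toSpan_isGrHom (hf e x hx)
  rw [Tdeg_apply, Tdeg_apply,
    Hm_comp a n (shiftRes ER (-e)) EM EN _ _ (toSpan_isGrHom hx) hf h2]
  exact LinearMap.congr_fun (Hm_congr a n (shiftRes ER (-e)) EN h1 h2 _) _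

theorem mulId_isGrHom {j e : ℤ} {r : R} (hr : r ∈ 𝒜 j) :
    IsGrHom (shiftPiece 𝒜 (-(j + e))) (shiftPiece 𝒜 (-e)) (r • (LinearMap.id : R →ₗ[R] R)) := by
  intro g s hs
  have hs' : s ∈ 𝒜 (g + -(j + e)) := hs
  have h1 : r * s ∈ 𝒜 (j + (g + -(j + e))) := SetLike.GradedMul.mul_mem hr hs'
  have h2 : j + (g + -(j + e)) = g + -e := by ring
  rw [h2] at h1
  exact h1

/-- the product is `R`-balanced -/
theorem Tdeg_smul (ER : StarInjRes 𝒜 𝒜) (EM : StarInjRes 𝒜 ℳ) {j e : ℤ} {r : R} (hr : r ∈ 𝒜 j)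
    {x : M} (hx : x ∈ ℳ e) (hrx : r • x ∈ ℳ (j + e)) (h : ER.H a n) :
    Tdeg a n ER EM (j + e) (r • x) hrx h = Tdeg a n ER EM e x hx (r • h) := by
  have hr' : r ∈ 𝒜 ((j + e) - e) := by rwa [add_sub_cancel_right]
  have h1 : Hm a n (shiftRes ER (-(j + e))) (shiftRes ER (-e)) (r • (LinearMap.id : R →ₗ[R] R))
      (mulId_isGrHom hr) (shE a n ER (-(j + e)) h) = shE a n ER (-e) (r • h) := by
    rw [Hm_eq a n (mulShift ER r (j + e) e hr')]
    exact mulShift_shE a n ER r (j + e) e hr' h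
  have h2 : LinearMap.toSpanSingleton R M x ∘ₗ (r • (LinearMap.id : R →ₗ[R] R)) =
      LinearMap.toSpanSingleton R M (r • x) := by
    apply LinearMap.ext
    intro s
    simp [LinearMap.toSpanSingleton_apply, smul_smul, mul_comm]
  have h3 : IsGrHom (shiftPiece 𝒜 (-(j + e))) ℳ
      (LinearMap.toSpanSingleton R M x ∘ₗ (r • (LinearMap.id : R →ₗ[R] R))) := by
    rw [h2]
    exact toSpan_isGrHom hrx
  rw [Tdeg_apply, Tdeg_apply, ← h1,
    Hm_comp a n (shiftRes ER (-(j + e))) (shiftRes ER (-e)) EM _ _ (mulId_isGrHom hr)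
      (toSpan_isGrHom hx) h3]
  exact (LinearMap.congr_fun (Hm_congr a n (shiftRes ER (-(j + e))) EM h2 h3 _) _).symm

/-- the product on a shift of `R` itself is the scalar multiplication -/
theorem Tdeg_self (ER : StarInjRes 𝒜 𝒜) (e b : ℤ) {v : R} (hv : v ∈ shiftPiece 𝒜 (-e) b)
    (h : ER.H a n) :
    Tdeg a n ER (shiftRes ER (-e)) b v hv h = shE a n ER (-e) (v • h) := by
  have hv' : v ∈ 𝒜 (b - e) := by
    have : v ∈ 𝒜 (b + -e) := hv
    rwa [← sub_eq_add_neg] at this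
  have h1 : LinearMap.toSpanSingleton R R v = v • (LinearMap.id : R →ₗ[R] R) := by
    apply LinearMap.ext
    intro s
    simp [LinearMap.toSpanSingleton_apply, mul_comm]
  have h2 : IsGrHom (shiftPiece 𝒜 (-b)) (shiftPiece 𝒜 (-e)) (v • (LinearMap.id : R →ₗ[R] R)) := by
    rw [← h1]
    exact toSpan_isGrHom hv
  rw [Tdeg_apply, Hm_congr a n (shiftRes ER (-b)) (shiftRes ER (-e)) h1 _ h2,
    Hm_eq a n (mulShift ER v b e hv')]
  exact mulShift_shE a n ER v b e hv' h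

/-- the product is graded -/
theorem Tdeg_mem (ER : StarInjRes 𝒜 𝒜) (EM : StarInjRes 𝒜 ℳ) {e : ℤ} {x : M} (hx : x ∈ ℳ e)
    {j : ℤ} {h : ER.H a n} (hh : h ∈ ER.Hgr a n j) :
    Tdeg a n ER EM e x hx h ∈ EM.Hgr a n (j + e) := by
  rw [Tdeg_apply]
  apply Hm_isGrHom a n (shiftRes ER (-e)) EM _ (toSpan_isGrHom hx) (j + e)
  rw [mem_shE, add_neg_cancel_right]
  exact hh

end T

section Gen

variable {R : Type u} [CommRing R] [IsNoetherianRing R] {𝒜 : ℤ → AddSubgroup R} [GradedRing 𝒜]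
variable {M : Type u} [AddCommGroup M] [Module R M] {ℳ : ℤ → AddSubgroup M}
  [DirectSum.Decomposition ℳ] [SetLike.GradedSMul 𝒜 ℳ]

attribute [local instance] shiftDecomposition

local instance instShiftSMul' {X : Type u} [AddCommGroup X] [Module R X] (𝒳 : ℤ → AddSubgroup X)
    [SetLike.GradedSMul 𝒜 𝒳] (d : ℤ) : SetLike.GradedSMul 𝒜 (shiftPiece 𝒳 d) :=
  shift_gradedSMul 𝒜 𝒳 d

variable (a : HomogeneousIdeal 𝒜) (n : ℕ)

/-- vanishing of `H^{n+1}_a` on all graded modules -/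
def Vanish : Prop :=
  ∀ (N : Type u) [AddCommGroup N] [Module R N] (𝒩 : ℤ → AddSubgroup N) [DirectSum.Decomposition 𝒩]
    [SetLike.GradedSMul 𝒜 𝒩] (EN : StarInjRes 𝒜 𝒩), Subsingleton (EN.H a (n + 1))

omit [IsNoetherianRing R] in
theorem linComb_isGrHom {r : ℕ} (e : Fin r → ℤ) (x : Fin r → M) (hx : ∀ i, x i ∈ ℳ (e i)) :
    IsGrHom (freeGr 𝒜 e) ℳ (Fintype.linearCombination R x) := by
  intro g v hv
  rw [Fintype.linearCombination_apply]
  refine sum_mem (fun i _ => ?_)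
  have h1 := smul_mem_add 𝒜 ℳ (hv i) (hx i)
  rwa [sub_add_cancel] at h1

omit [IsNoetherianRing R] in
theorem id_eq_sum_single_proj (r : ℕ) :
    (LinearMap.id : (Fin r → R) →ₗ[R] (Fin r → R)) =
      ∑ i, (LinearMap.single R (fun _ : Fin r => R) i) ∘ₗ (LinearMap.proj i) := by
  classical
  apply LinearMap.ext
  intro v
  funext j
  simp [LinearMap.sum_apply, Finset.sum_apply, Pi.single_apply]

/-- the free cover of `M` attached to homogeneous generators is surjective on `H^n_a`, and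
`H^n_a` of a graded free module is the sum of the images of the coordinate inclusions -/
theorem gen_of_generators (hV : Vanish (𝒜 := 𝒜) a n) (ER : StarInjRes 𝒜 𝒜) (EM : StarInjRes 𝒜 ℳ)
    {r : ℕ} (e : Fin r → ℤ) (x : Fin r → M) (hx : ∀ i, x i ∈ ℳ (e i))
    (hspan : Submodule.span R (Set.range x) = ⊤) (y : EM.H a n) :
    ∃ h : Fin r → ER.H a n, y = ∑ i, Tdeg a n ER EM (e i) (x i) (hx i) (h i) := by
  classical
  have hP := linComb_isGrHom (𝒜 := 𝒜) e x hx
  have hPs : Function.Surjective (Fintype.linearCombination R x) :=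
    (span_range_eq_top_iff_surjective_fintypeLinearCombination R x).1 hspan
  have hZ : (LinearMap.ker (Fintype.linearCombination R x)).IsHomogeneous (freeGr 𝒜 e) :=
    ker_isHomogeneous (freeGr 𝒜 e) ℳ _ hP
  letI := subDecomposition (freeGr 𝒜 e) (LinearMap.ker (Fintype.linearCombination R x)) hZ
  haveI := sub_gradedSMul 𝒜 (freeGr 𝒜 e) (LinearMap.ker (Fintype.linearCombination R x))
  obtain ⟨EZ⟩ := Groth.Agent.S13215.result R 𝒜 (LinearMap.ker (Fintype.linearCombination R x))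
    (subPiece (freeGr 𝒜 e) (LinearMap.ker (Fintype.linearCombination R x)))
  obtain ⟨EF⟩ := Groth.Agent.S13215.result R 𝒜 (Fin r → R) (freeGr 𝒜 e)
  obtain ⟨hsurj, _⟩ := rightExact a n (LinearMap.ker (Fintype.linearCombination R x)).subtype
    (Fintype.linearCombination R x) (subtype_isGrHom (freeGr 𝒜 e) _) hP
    (Submodule.injective_subtype _) hPs (Submodule.range_subtype _).symm EZ EF EM (hV _ _ EZ)
  obtain ⟨z, rfl⟩ := hsurj y
  refine ⟨fun i => (shE a n ER (-(e i))).symm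
    (Hm a n EF (shiftRes ER (-(e i))) (LinearMap.proj i) (proj_isGrHom e i) z), ?_⟩
  have hcomp : ∀ i, IsGrHom (freeGr 𝒜 e) (freeGr 𝒜 e)
      ((LinearMap.single R (fun _ : Fin r => R) i) ∘ₗ (LinearMap.proj i)) :=
    fun i g v hv => single_isGrHom e i g _ (proj_isGrHom e i g v hv)
  have hsum : IsGrHom (freeGr 𝒜 e) (freeGr 𝒜 e)
      (∑ i, (LinearMap.single R (fun _ : Fin r => R) i) ∘ₗ (LinearMap.proj i)) := by
    rw [← id_eq_sum_single_proj]
    exact fun _ _ h => h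
  have hz : z = ∑ i, Hm a n (shiftRes ER (-(e i))) EF (LinearMap.single R (fun _ : Fin r => R) i)
      (single_isGrHom e i)
      (Hm a n EF (shiftRes ER (-(e i))) (LinearMap.proj i) (proj_isGrHom e i) z) := by
    conv_lhs => rw [← Hm_id a n EF z, Hm_congr a n EF EF (id_eq_sum_single_proj r) _ hsum,
      Hm_sum a n EF EF Finset.univ _ hcomp hsum z]
    apply Finset.sum_congr rfl
    intro i _
    rw [Hm_comp a n EF (shiftRes ER (-(e i))) EF _ _ (proj_isGrHom e i) (single_isGrHom e i) (hcomp i)]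
  conv_lhs => rw [hz]
  rw [map_sum]
  apply Finset.sum_congr rfl
  intro i _
  have h1 : Fintype.linearCombination R x ∘ₗ LinearMap.single R (fun _ : Fin r => R) i =
      LinearMap.toSpanSingleton R M (x i) := by
    apply LinearMap.ext
    intro s
    simp [LinearMap.toSpanSingleton_apply]
  have h2 : IsGrHom (shiftPiece 𝒜 (-(e i))) ℳ
      (Fintype.linearCombination R x ∘ₗ LinearMap.single R (fun _ : Fin r => R) i) := by
    rw [h1]
    exact toSpan_isGrHom (hx i)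
  rw [Hm_comp a n (shiftRes ER (-(e i))) EF EM _ _ (single_isGrHom e i) hP h2, Tdeg_apply,
    LinearEquiv.apply_symm_apply]
  exact LinearMap.congr_fun (Hm_congr a n (shiftRes ER (-(e i))) EM h1 h2 _) _

end Gen

end Groth.Agent.Lib.helper19.GLD
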