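import Mathlib
import Groth.Prelude.Def_GrLC
import Groth.Agent.Lib.Helper19.GLD2

/-!
# Graded local duality (helper19), part 3: the universal property of `H^n_a(R) × M → H^n_a(M)`

When `H^{n+1}_a` vanishes identically (`Vanish a n`), `R` is Noetherian and `M` is finitely generated:
* `exists_lift` : every `R`-balanced biadditive map `b : M × H^n_a(R) → V` factors through `H^n_a(M)`
* `Tt a n ER EM : M →+ (ER.H a n →ₗ[R] EM.H a n)` : the total product, with `Tt_of_mem`, `Tt_smul`, `Tt_mem`,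
  `Tt_gen`, `Tt_univ`
-/

set_option autoImplicit false
universe u

namespace Groth.Agent.Lib.helper19.GLD

open GrLC Groth.Agent.Lib.helper19.GrMod Groth.Agent.Lib.helper19.GrLes Groth.Agent.Lib.helper19.GrShift
  Groth.Agent.Lib.helper19.GrReg Groth.Agent.Lib.helper19.GrAB

section Univ

variable {R : Type u} [CommRing R] [IsNoetherianRing R] {𝒜 : ℤ → AddSubgroup R} [GradedRing 𝒜]
variable {M : Type u} [AddCommGroup M] [Module R M] {ℳ : ℤ → AddSubgroup M}
  [DirectSum.Decomposition ℳ] [SetLike.GradedSMul 𝒜 ℳ]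

attribute [local instance] shiftDecomposition

local instance instShiftSMul'' {X : Type u} [AddCommGroup X] [Module R X] (𝒳 : ℤ → AddSubgroup X)
    [SetLike.GradedSMul 𝒜 𝒳] (d : ℤ) : SetLike.GradedSMul 𝒜 (shiftPiece 𝒳 d) :=
  shift_gradedSMul 𝒜 𝒳 d

omit [IsNoetherianRing R] [GradedRing 𝒜] [SetLike.GradedSMul 𝒜 ℳ] in
theorem exists_fin_generators [Module.Finite R M] :
    ∃ (r : ℕ) (e : Fin r → ℤ) (x : Fin r → M), (∀ i, x i ∈ ℳ (e i)) ∧
      Submodule.span R (Set.range x) = ⊤ := by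
  classical
  obtain ⟨T, hT, hspan⟩ := exists_homogeneous_generators (R := R) ℳ
  refine ⟨T.card, fun i => (T.equivFin.symm i).1.1, fun i => (T.equivFin.symm i).1.2,
    fun i => hT _ (T.equivFin.symm i).2, ?_⟩
  have h1 : Set.range (fun i : Fin T.card => (T.equivFin.symm i).1.2) =
      Prod.snd '' (T : Set (ℤ × M)) := by
    ext y
    constructor
    · rintro ⟨i, rfl⟩
      exact ⟨(T.equivFin.symm i).1, (T.equivFin.symm i).2, rfl⟩
    · rintro ⟨p, hp, rfl⟩
      exact ⟨T.equivFin ⟨p, hp⟩, by simp⟩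
  rw [h1]
  exact hspan

variable (a : HomogeneousIdeal 𝒜) (n : ℕ)

/-- the universal property of the product `M × H^n_a(R) → H^n_a(M)` -/
theorem exists_lift (hV : Vanish (𝒜 := 𝒜) a n) [Module.Finite R M] (ER : StarInjRes 𝒜 𝒜)
    (EM : StarInjRes 𝒜 ℳ) (V : Type u) [AddCommGroup V] (b : M →+ ER.H a n →+ V)
    (hb : ∀ (r : R) (x : M) (h : ER.H a n), b (r • x) h = b x (r • h)) :
    ∃ ℓ : EM.H a n →+ V, ∀ (e : ℤ) (x : M) (hx : x ∈ ℳ e) (h : ER.H a n),
      ℓ (Tdeg a n ER EM e x hx h) = b x h := by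
  classical
  obtain ⟨r, e, x, hx, hspan⟩ := exists_fin_generators (R := R) (ℳ := ℳ)
  have hP := linComb_isGrHom (𝒜 := 𝒜) e x hx
  have hPs : Function.Surjective (Fintype.linearCombination R x) :=
    (span_range_eq_top_iff_surjective_fintypeLinearCombination R x).1 hspan
  have hZ : (LinearMap.ker (Fintype.linearCombination R x)).IsHomogeneous (freeGr 𝒜 e) :=
    ker_isHomogeneous (freeGr 𝒜 e) ℳ _ hP
  letI := subDecomposition (freeGr 𝒜 e) (LinearMap.ker (Fintype.linearCombination R x)) hZ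
  haveI := sub_gradedSMul 𝒜 (freeGr 𝒜 e) (LinearMap.ker (Fintype.linearCombination R x))
  obtain ⟨EZ⟩ := Groth.Agent.S13215.result R 𝒜 (LinearMap.ker (Fintype.linearCombination R x))
    (subPiece (freeGr 𝒜 e) (LinearMap.ker (Fintype.linearCombination R x)))
  obtain ⟨EF⟩ := Groth.Agent.S13215.result R 𝒜 (Fin r → R) (freeGr 𝒜 e)
  have hincl := subtype_isGrHom (freeGr 𝒜 e) (LinearMap.ker (Fintype.linearCombination R x))
  obtain ⟨hsurj, hker⟩ := rightExact a n (LinearMap.ker (Fintype.linearCombination R x)).subtype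
    (Fintype.linearCombination R x) hincl hP
    (Submodule.injective_subtype _) hPs (Submodule.range_subtype _).symm EZ EF EM (hV _ _ EZ)
  -- the functional on `H(F)`
  let ℓ₀ : EF.H a n →+ V := AddMonoidHom.mk' (fun z => ∑ i, b (x i) ((shE a n ER (-(e i))).symm
      (Hm a n EF (shiftRes ER (-(e i))) (LinearMap.proj i) (proj_isGrHom e i) z))) (by
    intro z z'
    simp only [map_add]
    rw [Finset.sum_add_distrib])
  have hℓ₀ : ∀ z, ℓ₀ z = ∑ i, b (x i) ((shE a n ER (-(e i))).symm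
      (Hm a n EF (shiftRes ER (-(e i))) (LinearMap.proj i) (proj_isGrHom e i) z)) := fun _ => rfl
  have key : ∀ (g : ℤ) (v : Fin r → R) (hv : v ∈ freeGr 𝒜 e g) (h : ER.H a n),
      ℓ₀ (Tdeg a n ER EF g v hv h) = b (Fintype.linearCombination R x v) h := by
    intro g v hv h
    rw [hℓ₀, Fintype.linearCombination_apply, map_sum, AddMonoidHom.finsetSum_apply]
    apply Finset.sum_congr rfl
    intro i _
    rw [Tdeg_nat a n ER EF (shiftRes ER (-(e i))) (LinearMap.proj i) (proj_isGrHom e i) hv h]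
    have h1 : (LinearMap.proj i : (Fin r → R) →ₗ[R] R) v = v i := rfl
    rw [Tdeg_self a n ER (e i) g (proj_isGrHom e i g v hv) h, LinearEquiv.symm_apply_apply, hb]
    rfl
  have hkerle : (Hm a n EF EM (Fintype.linearCombination R x) hP).toAddMonoidHom.ker ≤ ℓ₀.ker := by
    intro z hz
    have hz' : z ∈ LinearMap.ker (Hm a n EF EM (Fintype.linearCombination R x) hP) := hz
    rw [hker] at hz'
    obtain ⟨w, rfl⟩ := hz'
    haveI : Module.Finite R ↥(LinearMap.ker (Fintype.linearCombination R x)) :=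
      Module.Finite.of_injective (LinearMap.ker (Fintype.linearCombination R x)).subtype
        (Submodule.injective_subtype _)
    obtain ⟨s, b', y, hy, hspanZ⟩ := exists_fin_generators (R := R)
      (ℳ := subPiece (freeGr 𝒜 e) (LinearMap.ker (Fintype.linearCombination R x)))
    obtain ⟨g, rfl⟩ := gen_of_generators a n hV ER EZ b' y hy hspanZ w
    rw [AddMonoidHom.mem_ker, map_sum, map_sum]
    apply Finset.sum_eq_zero
    intro j _
    rw [Tdeg_nat a n ER EZ EF _ hincl (hy j) (g j), key]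
    have h1 : Fintype.linearCombination R x
        ((LinearMap.ker (Fintype.linearCombination R x)).subtype (y j)) = 0 := (y j).2
    rw [h1, map_zero, AddMonoidHom.zero_apply]
  refine ⟨AddMonoidHom.liftOfSurjective
    (f := (Hm a n EF EM (Fintype.linearCombination R x) hP).toAddMonoidHom) hsurj ⟨ℓ₀, hkerle⟩, ?_⟩
  intro e' x' hx' h
  obtain ⟨v0, hv0⟩ := hPs x'
  obtain ⟨v, hv, hPv⟩ := exists_mem_of_isGrHom (freeGr 𝒜 e) ℳ
    (DirectSum.Decomposition.isInternal _) (DirectSum.Decomposition.isInternal _)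
    (Fintype.linearCombination R x) hP hx' v0 hv0
  subst hPv
  rw [← Tdeg_nat a n ER EF EM _ hP hv h]
  exact (AddMonoidHom.liftOfRightInverse_comp_apply _ _ _ ⟨ℓ₀, hkerle⟩ _).trans (key e' v hv h)

end Univ

section Total

variable {R : Type u} [CommRing R] [IsNoetherianRing R] {𝒜 : ℤ → AddSubgroup R} [GradedRing 𝒜]
variable {M : Type u} [AddCommGroup M] [Module R M] {ℳ : ℤ → AddSubgroup M}
  [DirectSum.Decomposition ℳ] [SetLike.GradedSMul 𝒜 ℳ]
variable (a : HomogeneousIdeal 𝒜) (n : ℕ)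

omit [IsNoetherianRing R] in
/-- the product as an additive map on the degree-`e` piece -/
noncomputable def TdegHom (ER : StarInjRes 𝒜 𝒜) (EM : StarInjRes 𝒜 ℳ) (e : ℤ) :
    ℳ e →+ (ER.H a n →ₗ[R] EM.H a n) where
  toFun x := Tdeg a n ER EM e x x.2
  map_zero' := Tdeg_zero a n ER EM e _
  map_add' x y := Tdeg_add a n ER EM x.2 y.2 _

omit [IsNoetherianRing R] in
/-- the total product `M → Hom_R(H^n_a(R), H^n_a(M))` -/
noncomputable def Tt (ER : StarInjRes 𝒜 𝒜) (EM : StarInjRes 𝒜 ℳ) :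
    M →+ (ER.H a n →ₗ[R] EM.H a n) :=
  (DirectSum.toAddMonoid (fun e => TdegHom a n ER EM e)).comp
    (DirectSum.decomposeAddEquiv ℳ).toAddMonoidHom

omit [IsNoetherianRing R] in
theorem Tt_of_mem (ER : StarInjRes 𝒜 𝒜) (EM : StarInjRes 𝒜 ℳ) {e : ℤ} {x : M} (hx : x ∈ ℳ e) :
    Tt a n ER EM x = Tdeg a n ER EM e x hx := by
  show (DirectSum.toAddMonoid _) (DirectSum.decompose ℳ x) = _
  rw [DirectSum.decompose_of_mem ℳ hx, DirectSum.toAddMonoid_of]
  rfl

omit [IsNoetherianRing R] in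
theorem Tt_smul (ER : StarInjRes 𝒜 𝒜) (EM : StarInjRes 𝒜 ℳ) (r : R) (x : M) (h : ER.H a n) :
    Tt a n ER EM (r • x) h = Tt a n ER EM x (r • h) := by
  classical
  induction x using DirectSum.Decomposition.inductionOn ℳ with
  | zero => rw [smul_zero, map_zero, LinearMap.zero_apply, LinearMap.zero_apply]
  | @homogeneous e x =>
    induction r using DirectSum.Decomposition.inductionOn 𝒜 with
    | zero => rw [zero_smul, map_zero, LinearMap.zero_apply, zero_smul, map_zero]
    | @homogeneous j r =>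
      rw [Tt_of_mem a n ER EM (smul_mem_add 𝒜 ℳ r.2 x.2), Tt_of_mem a n ER EM x.2]
      exact Tdeg_smul a n ER EM r.2 x.2 _ h
    | add r r' hr hr' =>
      rw [add_smul, map_add, LinearMap.add_apply, hr, hr', add_smul, map_add]
  | add x y hx hy =>
    rw [smul_add, map_add, LinearMap.add_apply, hx, hy, map_add, LinearMap.add_apply]

omit [IsNoetherianRing R] in
theorem Tt_mem (ER : StarInjRes 𝒜 𝒜) (EM : StarInjRes 𝒜 ℳ) {e : ℤ} {x : M} (hx : x ∈ ℳ e)
    {j : ℤ} {h : ER.H a n} (hh : h ∈ ER.Hgr a n j) : Tt a n ER EM x h ∈ EM.Hgr a n (j + e) := by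
  rw [Tt_of_mem a n ER EM hx]
  exact Tdeg_mem a n ER EM hx hh

theorem Tt_gen (hV : Vanish (𝒜 := 𝒜) a n) [Module.Finite R M] (ER : StarInjRes 𝒜 𝒜)
    (EM : StarInjRes 𝒜 ℳ) (y : EM.H a n) :
    ∃ (r : ℕ) (x : Fin r → M) (h : Fin r → ER.H a n), y = ∑ i, Tt a n ER EM (x i) (h i) := by
  obtain ⟨r, e, x, hx, hspan⟩ := exists_fin_generators (R := R) (ℳ := ℳ)
  obtain ⟨h, hh⟩ := gen_of_generators a n hV ER EM e x hx hspan y
  refine ⟨r, x, h, ?_⟩
  rw [hh]
  apply Finset.sum_congr rfl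
  intro i _
  rw [Tt_of_mem a n ER EM (hx i)]

theorem Tt_univ (hV : Vanish (𝒜 := 𝒜) a n) [Module.Finite R M] (ER : StarInjRes 𝒜 𝒜)
    (EM : StarInjRes 𝒜 ℳ) (V : Type u) [AddCommGroup V] (b : M →+ ER.H a n →+ V)
    (hb : ∀ (r : R) (x : M) (h : ER.H a n), b (r • x) h = b x (r • h)) :
    ∃ ℓ : EM.H a n →+ V, ∀ (x : M) (h : ER.H a n), ℓ (Tt a n ER EM x h) = b x h := by
  classical
  obtain ⟨ℓ, hℓ⟩ := exists_lift a n hV ER EM V b hb
  refine ⟨ℓ, fun x h => ?_⟩
  induction x using DirectSum.Decomposition.inductionOn ℳ with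
  | zero => rw [map_zero, LinearMap.zero_apply, map_zero, map_zero, AddMonoidHom.zero_apply]
  | @homogeneous e x => rw [Tt_of_mem a n ER EM x.2]; exact hℓ e x x.2 h
  | add x y hx hy =>
    rw [map_add, LinearMap.add_apply, map_add, hx, hy, map_add, AddMonoidHom.add_apply]

end Total

end Groth.Agent.Lib.helper19.GLD
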