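import Mathlib
import Groth.Prelude.Def_GrSeg
import Groth.Prelude.Def_GrLC
import Groth.Agent.Lib.Helper19.GDual
import Groth.Agent.Lib.Helper19.GrConv
import Groth.Agent.Lib.Helper19.GrShift

/-!
# Graded local duality (helper19), part 4: the duality argument

`k` a field, `R` a graded `k`-algebra, `M` a finitely generated graded `R`-module, `HR`, `HM` graded `R`-modules
with an `R`-balanced graded product `T : M → Hom_R(HR, HM)` which is "a tensor product"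
(`hTg` : the products generate `HM`, `hTu` : balanced biadditive forms on `M × HR` factor through `HM`).
Then the graded dual of `HM` is `Hom_R(M, HR^*)`, as graded modules (`exists_equiv`).
-/

set_option autoImplicit false
universe u

namespace Groth.Agent.Lib.helper19.GLD

open Groth.Agent.Lib.helper19.GDual Groth.Agent.Lib.helper19.Segre

section Duality

variable {k : Type u} [Field k] {R : Type u} [CommRing R] [Algebra k R] (𝒜 : ℤ → Submodule k R)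
  [GradedAlgebra 𝒜]
  {M : Type u} [AddCommGroup M] [Module R M]
  (ℳ : ℤ → AddSubgroup M) [DirectSum.Decomposition ℳ] [SetLike.GradedSMul 𝒜 ℳ]
  {HR : Type u} [AddCommGroup HR] [Module R HR] [Module k HR] [IsScalarTower k R HR]
  (ℋR : ℤ → AddSubgroup HR) [DirectSum.Decomposition ℋR] [SetLike.GradedSMul 𝒜 ℋR]
  {HM : Type u} [AddCommGroup HM] [Module R HM] [Module k HM] [IsScalarTower k R HM]
  (ℋM : ℤ → AddSubgroup HM) [DirectSum.Decomposition ℋM] [SetLike.GradedSMul 𝒜 ℋM]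
  {K : Type u} [AddCommGroup K] [Module R K] [Module k K] [IsScalarTower k R K]
  (𝒦 : ℤ → AddSubgroup K) [DirectSum.Decomposition 𝒦] [SetLike.GradedSMul 𝒜 𝒦]
  (βK : K →ₗ[k] HR →ₗ[k] k) (hK : GrSeg.IsGDual R ℋR 𝒦 βK)
  {D : Type u} [AddCommGroup D] [Module R D] [Module k D] [IsScalarTower k R D]
  (𝒟 : ℤ → AddSubgroup D) [DirectSum.Decomposition 𝒟] [SetLike.GradedSMul 𝒜 𝒟]
  (βD : D →ₗ[k] HM →ₗ[k] k) (hD : GrSeg.IsGDual R ℋM 𝒟 βD)
  (T : M →+ (HR →ₗ[R] HM))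
  (hTs : ∀ (r : R) (x : M) (h : HR), T (r • x) h = T x (r • h))
  (hTm : ∀ (e : ℤ) (x : M), x ∈ ℳ e → ∀ (j : ℤ) (h : HR), h ∈ ℋR j → T x h ∈ ℋM (j + e))

include hTm in
/-- a graded map of degree `e` commutes with the projections -/
theorem proj_T {e : ℤ} {x : M} (hx : x ∈ ℳ e) (m : ℤ) (h : HR) :
    projK 𝒜 ℋM m (T x h) = T x (projK 𝒜 ℋR (m - e) h) := by
  classical
  induction h using DirectSum.Decomposition.inductionOn ℋR with
  | zero => rw [map_zero, map_zero, map_zero, map_zero]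
  | @homogeneous j h =>
    have h1 := hTm e x hx j h h.2
    by_cases hj : j + e = m
    · rw [projK_of_mem 𝒜 ℋM (hj ▸ h1)]
      have h2 : (h : HR) ∈ ℋR (m - e) := by
        have : j = m - e := by omega
        rw [← this]
        exact h.2
      rw [projK_of_mem 𝒜 ℋR h2]
    · rw [projK_of_mem_ne 𝒜 ℋM h1 hj, projK_of_mem_ne 𝒜 ℋR h.2 (by omega), map_zero]
  | add h h' hh hh' => rw [map_add, map_add, hh, hh', map_add, map_add]

include 𝒜 hK hD hTs hTm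

theorem exists_eps_of_mem {g e : ℤ} {d : D} (hd : d ∈ 𝒟 g) {x : M} (hx : x ∈ ℳ e) :
    ∃ κ ∈ 𝒦 (g + e), ∀ h : HR, βK κ h = βD d (T x h) := by
  classical
  let lam : HR →ₗ[k] k := (βD d).comp ((T x).restrictScalars k)
  obtain ⟨κ, hκ, hκh⟩ := exists_dual 𝒜 ℋR 𝒦 βK hK (g + e) lam
  refine ⟨κ, hκ, fun h => ?_⟩
  rw [hκh h]
  show βD d (T x (projK 𝒜 ℋR (-(g + e)) h)) = βD d (T x h)
  have h1 : -(g + e) = -g - e := by ring
  rw [h1, ← proj_T 𝒜 ℳ ℋR ℋM T hTm hx (-g) h, beta_decompose_right ℋM 𝒟 βD hD hd (T x h)]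
  rfl

theorem exists_eps (d : D) (x : M) : ∃ κ : K, ∀ h : HR, βK κ h = βD d (T x h) := by
  classical
  induction x using DirectSum.Decomposition.inductionOn ℳ with
  | zero => exact ⟨0, fun h => by simp⟩
  | @homogeneous e x =>
    induction d using DirectSum.Decomposition.inductionOn 𝒟 with
    | zero => exact ⟨0, fun h => by simp⟩
    | @homogeneous g d =>
      obtain ⟨κ, _, hκ⟩ := exists_eps_of_mem 𝒜 ℳ ℋR ℋM 𝒦 βK hK 𝒟 βD hD T hTs hTm d.2 x.2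
      exact ⟨κ, hκ⟩
    | add d d' hd hd' =>
      obtain ⟨κ, hκ⟩ := hd
      obtain ⟨κ', hκ'⟩ := hd'
      exact ⟨κ + κ', fun h => by rw [map_add, LinearMap.add_apply, hκ, hκ', map_add, LinearMap.add_apply]⟩
  | add x y hx hy =>
    obtain ⟨κ, hκ⟩ := hx
    obtain ⟨κ', hκ'⟩ := hy
    exact ⟨κ + κ', fun h => by
      rw [map_add, LinearMap.add_apply, hκ, hκ', map_add, LinearMap.add_apply, map_add]⟩

/-- the element of `HR^*` representing `h ↦ βD d (T x h)` -/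
noncomputable def epsFun (d : D) (x : M) : K :=
  (exists_eps 𝒜 ℳ ℋR ℋM 𝒦 βK hK 𝒟 βD hD T hTs hTm d x).choose

theorem beta_epsFun (d : D) (x : M) (h : HR) :
    βK (epsFun 𝒜 ℳ ℋR ℋM 𝒦 βK hK 𝒟 βD hD T hTs hTm d x) h = βD d (T x h) :=
  (exists_eps 𝒜 ℳ ℋR ℋM 𝒦 βK hK 𝒟 βD hD T hTs hTm d x).choose_spec h

/-- `x ↦ epsFun d x` as an `R`-linear map -/
noncomputable def epsLin (d : D) : M →ₗ[R] K where
  toFun := epsFun 𝒜 ℳ ℋR ℋM 𝒦 βK hK 𝒟 βD hD T hTs hTm d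
  map_add' x y := by
    apply sub_eq_zero.1
    apply eq_zero_of_forall ℋR 𝒦 βK hK
    intro h
    rw [map_sub, map_add, LinearMap.sub_apply, LinearMap.add_apply, beta_epsFun, beta_epsFun,
      beta_epsFun, map_add, LinearMap.add_apply, map_add, sub_self]
  map_smul' r x := by
    apply sub_eq_zero.1
    apply eq_zero_of_forall ℋR 𝒦 βK hK
    intro h
    rw [RingHom.id_apply, map_sub, LinearMap.sub_apply, hK.map_smul, beta_epsFun, beta_epsFun, hTs,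
      sub_self]

theorem beta_epsLin (d : D) (x : M) (h : HR) :
    βK (epsLin 𝒜 ℳ ℋR ℋM 𝒦 βK hK 𝒟 βD hD T hTs hTm d x) h = βD d (T x h) :=
  beta_epsFun 𝒜 ℳ ℋR ℋM 𝒦 βK hK 𝒟 βD hD T hTs hTm d x h

/-- the duality map `HM^* → Hom_R(M, HR^*)` -/
noncomputable def eps : D →ₗ[R] (M →ₗ[R] K) where
  toFun := epsLin 𝒜 ℳ ℋR ℋM 𝒦 βK hK 𝒟 βD hD T hTs hTm
  map_add' d d' := by
    apply LinearMap.ext
    intro x
    apply sub_eq_zero.1
    apply eq_zero_of_forall ℋR 𝒦 βK hK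
    intro h
    rw [LinearMap.add_apply, map_sub, map_add, LinearMap.sub_apply, LinearMap.add_apply, beta_epsLin,
      beta_epsLin, beta_epsLin, map_add, LinearMap.add_apply, sub_self]
  map_smul' r d := by
    apply LinearMap.ext
    intro x
    apply sub_eq_zero.1
    apply eq_zero_of_forall ℋR 𝒦 βK hK
    intro h
    rw [RingHom.id_apply, LinearMap.smul_apply, map_sub, LinearMap.sub_apply, hK.map_smul, beta_epsLin,
      beta_epsLin, hD.map_smul, ← map_smul, sub_self]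

theorem beta_eps (d : D) (x : M) (h : HR) :
    βK (eps 𝒜 ℳ ℋR ℋM 𝒦 βK hK 𝒟 βD hD T hTs hTm d x) h = βD d (T x h) :=
  beta_epsFun 𝒜 ℳ ℋR ℋM 𝒦 βK hK 𝒟 βD hD T hTs hTm d x h

theorem eps_mem {g e : ℤ} {d : D} (hd : d ∈ 𝒟 g) {x : M} (hx : x ∈ ℳ e) :
    eps 𝒜 ℳ ℋR ℋM 𝒦 βK hK 𝒟 βD hD T hTs hTm d x ∈ 𝒦 (e + g) := by
  apply mem_of_vanish ℋR 𝒦 βK hK
  intro j hj h hh
  rw [beta_eps]
  exact hD.vanish g d hd (j + e) (by omega) _ (hTm e x hx j h hh)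

variable (hTg : ∀ y : HM, ∃ (r : ℕ) (x : Fin r → M) (h : Fin r → HR), y = ∑ i, T (x i) (h i))

include hTg

theorem eps_injective : Function.Injective (eps 𝒜 ℳ ℋR ℋM 𝒦 βK hK 𝒟 βD hD T hTs hTm) := by
  rw [injective_iff_map_eq_zero]
  intro d hd
  apply eq_zero_of_forall ℋM 𝒟 βD hD
  intro y
  obtain ⟨r, x, h, rfl⟩ := hTg y
  rw [map_sum]
  apply Finset.sum_eq_zero
  intro i _
  rw [← beta_eps 𝒜 ℳ ℋR ℋM 𝒦 βK hK 𝒟 βD hD T hTs hTm, hd, LinearMap.zero_apply, map_zero,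
    LinearMap.zero_apply]

variable (hTu : ∀ (b : M →+ HR →+ k), (∀ (r : R) (x : M) (h : HR), b (r • x) h = b x (r • h)) →
    ∃ ℓ : HM →+ k, ∀ (x : M) (h : HR), ℓ (T x h) = b x h)

include hTu

/-- homogeneous maps `M → HR^*` are in the image of `eps` -/
theorem eps_surjective_of_mem (g : ℤ) (φ : M →ₗ[R] K) (hφ : ∀ (e : ℤ) (x : M), x ∈ ℳ e → φ x ∈ 𝒦 (e + g)) :
    ∃ d ∈ 𝒟 g, eps 𝒜 ℳ ℋR ℋM 𝒦 βK hK 𝒟 βD hD T hTs hTm d = φ := by
  classical
  let b : M →+ HR →+ k := AddMonoidHom.mk' (fun x => (βK (φ x)).toAddMonoidHom) (by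
    intro x y
    apply AddMonoidHom.ext
    intro h
    simp [map_add])
  have hb : ∀ (r : R) (x : M) (h : HR), b (r • x) h = b x (r • h) := by
    intro r x h
    show βK (φ (r • x)) h = βK (φ x) (r • h)
    rw [map_smul, hK.map_smul]
  obtain ⟨ℓ, hℓ⟩ := hTu b hb
  have hℓ' : ∀ (x : M) (h : HR), ℓ (T x h) = βK (φ x) h := hℓ
  let ℓk : HM →ₗ[k] k :=
    { toFun := ℓ
      map_add' := map_add ℓ
      map_smul' := by
        intro c y
        obtain ⟨r, x, h, rfl⟩ := hTg y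
        rw [RingHom.id_apply, Finset.smul_sum, map_sum, map_sum, Finset.smul_sum]
        apply Finset.sum_congr rfl
        intro i _
        rw [← LinearMap.map_smul_of_tower, hℓ', hℓ', map_smul] }
  obtain ⟨d, hd, hdy⟩ := exists_dual 𝒜 ℋM 𝒟 βD hD g ℓk
  refine ⟨d, hd, ?_⟩
  apply LinearMap.ext
  intro x
  induction x using DirectSum.Decomposition.inductionOn ℳ with
  | zero => rw [map_zero, map_zero]
  | @homogeneous e x =>
    apply sub_eq_zero.1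
    apply eq_zero_of_forall ℋR 𝒦 βK hK
    intro h
    rw [map_sub, LinearMap.sub_apply, beta_eps, hdy, proj_T 𝒜 ℳ ℋR ℋM T hTm x.2 (-g) h]
    show ℓ (T x (projK 𝒜 ℋR (-g - e) h)) - βK (φ x) h = 0
    rw [hℓ', beta_decompose_right ℋR 𝒦 βK hK (hφ e x x.2) h]
    have h1 : -(e + g) = -g - e := by ring
    rw [h1]
    exact sub_self _
  | add x y hx hy => rw [map_add, map_add, hx, hy]

/-- graded local duality, abstract form -/
theorem exists_equiv [Module.Finite R M] :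
    ∃ ε : D ≃ₗ[R] (M →ₗ[R] K), ∀ (g : ℤ) (d : D), d ∈ 𝒟 g → ∀ (e : ℤ) (x : M), x ∈ ℳ e →
      ε d x ∈ 𝒦 (e + g) := by
  classical
  have hsurj : Function.Surjective (eps 𝒜 ℳ ℋR ℋM 𝒦 βK hK 𝒟 βD hD T hTs hTm) := by
    intro φ
    haveI : SetLike.GradedSMul (GrConv.addGr 𝒜) ℳ :=
      ⟨fun {i j a b} ha hb => SetLike.GradedSMul.smul_mem (A := 𝒜) (B := ℳ) ha hb⟩
    haveI : SetLike.GradedSMul (GrConv.addGr 𝒜) 𝒦 :=
      ⟨fun {i j a b} ha hb => SetLike.GradedSMul.smul_mem (A := 𝒜) (B := 𝒦) ha hb⟩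
    obtain ⟨Tg, hTgm, hspan⟩ := GrShift.exists_homogeneous_generators (R := R) ℳ
    obtain ⟨S, hS⟩ := GrShift.exists_finset_sum_comp (GrConv.addGr 𝒜) ℳ 𝒦 φ Tg hTgm hspan
    have hc : ∀ g : ℤ, ∃ d : D, eps 𝒜 ℳ ℋR ℋM 𝒦 βK hK 𝒟 βD hD T hTs hTm d =
        GrShift.comp (GrConv.addGr 𝒜) ℳ 𝒦 g φ := by
      intro g
      obtain ⟨d, _, hd⟩ := eps_surjective_of_mem 𝒜 ℳ ℋR ℋM 𝒦 βK hK 𝒟 βD hD T hTs hTm hTg hTu g
        (GrShift.comp (GrConv.addGr 𝒜) ℳ 𝒦 g φ)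
        (fun e x hx => GrShift.comp_isGrHom (GrConv.addGr 𝒜) ℳ 𝒦 g φ e x hx)
      exact ⟨d, hd⟩
    choose dd hdd using hc
    refine ⟨∑ g ∈ S, dd g, ?_⟩
    rw [map_sum]
    conv_rhs => rw [hS]
    exact Finset.sum_congr rfl (fun g _ => hdd g)
  refine ⟨LinearEquiv.ofBijective (eps 𝒜 ℳ ℋR ℋM 𝒦 βK hK 𝒟 βD hD T hTs hTm)
    ⟨eps_injective 𝒜 ℳ ℋR ℋM 𝒦 βK hK 𝒟 βD hD T hTs hTm hTg, hsurj⟩, ?_⟩
  intro g d hd e x hx
  exact eps_mem 𝒜 ℳ ℋR ℋM 𝒦 βK hK 𝒟 βD hD T hTs hTm hd hx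

end Duality

end Groth.Agent.Lib.helper19.GLD
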