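import Mathlib
import Groth.Prelude.Def_GrSeg
import Groth.Prelude.Def_GrLC
import Groth.Agent.Lib.Helper19.GLD3
import Groth.Agent.Lib.Helper19.GLD4
import Groth.Agent.Lib.Helper19.LCGroth
import Groth.Agent.S13224

/-!
# Graded local duality (helper19), part 5: `(H^n_m(M))^* ≅ Hom_R(M, (H^n_m(R))^*)` for `n = dim R`

* `vanish_of_dim` : `H^{n+1}_a` vanishes identically for `n ≥ dim R` (Grothendieck vanishing)
* `main` : graded local duality in top degree over a graded algebra over a field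
-/

set_option autoImplicit false
universe u

namespace Groth.Agent.Lib.helper19.GLD

open GrLC Groth.Agent.Lib.helper19.GrConv

section Vanish

variable {R : Type u} [CommRing R] [IsNoetherianRing R] {𝒜 : ℤ → AddSubgroup R} [GradedRing 𝒜]

theorem vanish_of_dim (a : HomogeneousIdeal 𝒜) (n : ℕ) (hn : ringKrullDim R ≤ n) :
    Vanish (𝒜 := 𝒜) a n := by
  intro N _ _ 𝒩 _ _ EN
  obtain ⟨e⟩ := Groth.Agent.S13224.result R 𝒜 a N 𝒩 EN (n + 1)
  have h1 : Module.supportDim R N < ((n + 1 : ℕ) : WithBot ℕ∞) := by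
    refine lt_of_le_of_lt ((Module.supportDim_le_ringKrullDim R N).trans hn) ?_
    exact_mod_cast Nat.lt_succ_self n
  have := Groth.Agent.Lib.helper19.LCGroth.vanish a.toIdeal N (n + 1) h1
  exact e.toEquiv.subsingleton

end Vanish

section Main

variable {k : Type u} [Field k] {R : Type u} [CommRing R] [Algebra k R] [IsNoetherianRing R]
  (𝒜 : ℤ → Submodule k R) [GradedAlgebra 𝒜]

/-- graded local duality in top degree -/
theorem main (mR : HomogeneousIdeal 𝒜) (n : ℕ) (hn : ringKrullDim R = n)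
    (I : GrLC.StarInjRes 𝒜 𝒜) [Module k (I.H mR n)] [IsScalarTower k R (I.H mR n)]
    [DirectSum.Decomposition (I.Hgr mR n)]
    (K : Type u) [AddCommGroup K] [Module R K] [Module k K] [IsScalarTower k R K]
    (𝒦 : ℤ → AddSubgroup K) [DirectSum.Decomposition 𝒦] [SetLike.GradedSMul 𝒜 𝒦]
    (βK : K →ₗ[k] I.H mR n →ₗ[k] k) (hK : GrSeg.IsGDual R (I.Hgr mR n) 𝒦 βK)
    (M : Type u) [AddCommGroup M] [Module R M]
    (ℳ : ℤ → AddSubgroup M) [DirectSum.Decomposition ℳ] [SetLike.GradedSMul 𝒜 ℳ] [Module.Finite R M]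
    (EM : GrLC.StarInjRes 𝒜 ℳ) [Module k (EM.H mR n)] [IsScalarTower k R (EM.H mR n)]
    [DirectSum.Decomposition (EM.Hgr mR n)]
    (D : Type u) [AddCommGroup D] [Module R D] [Module k D] [IsScalarTower k R D]
    (𝒟 : ℤ → AddSubgroup D) [DirectSum.Decomposition 𝒟] [SetLike.GradedSMul 𝒜 𝒟]
    (βD : D →ₗ[k] EM.H mR n →ₗ[k] k) (hD : GrSeg.IsGDual R (EM.Hgr mR n) 𝒟 βD) :
    ∃ ε : D ≃ₗ[R] (M →ₗ[R] K), ∀ (g : ℤ) (d : D), d ∈ 𝒟 g → ∀ (e : ℤ) (x : M), x ∈ ℳ e →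
      ε d x ∈ 𝒦 (e + g) := by
  classical
  haveI : SetLike.GradedSMul (addGr 𝒜) ℳ :=
    ⟨fun {i j a b} ha hb => SetLike.GradedSMul.smul_mem (A := 𝒜) (B := ℳ) ha hb⟩
  let a : HomogeneousIdeal (addGr 𝒜) := idealAdd 𝒜 mR
  let ER : GrLC.StarInjRes (addGr 𝒜) (addGr 𝒜) := resAdd 𝒜 𝒜 I
  let EM' : GrLC.StarInjRes (addGr 𝒜) ℳ :=
    { X := fun n => toA 𝒜 (EM.X n)
      d := EM.d
      ε := EM.ε
      d_grHom := EM.d_grHom
      ε_grHom := EM.ε_grHom
      ε_injective := EM.ε_injective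
      exact_zero := EM.exact_zero
      exact_succ := EM.exact_succ
      starInj := fun n => isStarInj_toA 𝒜 (EM.X n) (EM.starInj n) }
  have hV : Vanish (𝒜 := addGr 𝒜) a n := vanish_of_dim a n (le_of_eq hn)
  haveI : SetLike.GradedSMul 𝒜 (I.Hgr mR n) :=
    ⟨fun {i j r y} hr hy => Groth.Agent.Lib.helper19.GrLes.smul_mem_Hgr ER a n
      (show r ∈ addGr 𝒜 i from hr) hy⟩
  haveI : SetLike.GradedSMul 𝒜 (EM.Hgr mR n) :=
    ⟨fun {i j r y} hr hy => Groth.Agent.Lib.helper19.GrLes.smul_mem_Hgr EM' a n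
      (show r ∈ addGr 𝒜 i from hr) hy⟩
  let T : M →+ (I.H mR n →ₗ[R] EM.H mR n) := Tt a n ER EM'
  exact exists_equiv 𝒜 ℳ (I.Hgr mR n) (EM.Hgr mR n) 𝒦 βK hK 𝒟 βD hD T
    (fun r x h => Tt_smul a n ER EM' r x h)
    (fun e x hx j h hh => Tt_mem a n ER EM' hx hh)
    (fun y => Tt_gen a n hV ER EM' y)
    (fun b hb => Tt_univ a n hV ER EM' k b hb)

end Main

end Groth.Agent.Lib.helper19.GLD
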