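import Mathlib
import Groth.Agent.Lib.Helper12.SubFam3
import Groth.Agent.Lib.Helper19.FreeOmega

/-!
# Good basic opens for a smooth closed subscheme of a smooth scheme (helper19)

Block BAS of helper20's plan for S11924: around every point of `P` there is a basic open `D(s)` of
one of the given affine opens `U l`, inside a given neighbourhood, which either misses `X` or on
which a subfamily of `c = N - r` of the given generators cuts out `X` and `Ω_{X/S}` is free of
rank `r`.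
-/

set_option autoImplicit false
set_option linter.style.haveILetI false
set_option linter.unusedSectionVars false
universe u
open CategoryTheory AlgebraicGeometry

namespace Groth.Agent.Lib.helper19.GoodBasis

theorem exists_good_basicOpen {X P S : Scheme.{u}} (i : X ⟶ P) [IsClosedImmersion i]
    [IsLocallyNoetherian S]
    (p : P ⟶ S) [QuasiSeparated (i ≫ p)] (N r c : ℕ) (hc : c + r = N)
    [SmoothOfRelativeDimension N p] [SmoothOfRelativeDimension r (i ≫ p)]
    {L : Type*} (U : L → P.affineOpens) (hcov : ∀ x : P, ∃ l, x ∈ (U l).1) {m : ℕ}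
    (γ : ∀ l, Fin m → Γ(P, (U l).1)) (hγ : ∀ l, Ideal.span (Set.range (γ l)) = i.ker.ideal (U l))
    (x : P) (W : P.Opens) (hxW : x ∈ W) :
    ∃ (l : L) (s : Γ(P, (U l).1)), x ∈ P.basicOpen s ∧ P.basicOpen s ≤ W ∧
      (i ⁻¹ᵁ (P.basicOpen s) = ⊥ ∨
        ((∃ S₀ : Finset (Fin m), S₀.card = c ∧
            Ideal.span ((fun j => (P.presheaf.map (homOfLE (P.basicOpen_le s)).op).hom (γ l j)) ''
              (S₀ : Set (Fin m))) = i.ker.ideal (P.affineBasicOpen s)) ∧
          Nonempty (Module.Basis (Fin r) Γ(X, i ⁻¹ᵁ (P.basicOpen s))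
            Γ(Omega.sheaf (i ≫ p), i ⁻¹ᵁ (P.basicOpen s))))) := by
  obtain ⟨l, hl⟩ := hcov x
  by_cases hx : x ∈ Set.range i
  · -- `x = i x'`
    obtain ⟨x', rfl⟩ := hx
    obtain ⟨S₀, s₁, hcard, hxs₁, hgood⟩ :=
      Groth.Agent.Lib.helper12.SubFam.exists_subfamily i p N r x' (U l) hl (γ l) (hγ l)
    obtain ⟨V₁, hV₁, hx'V₁, hfree⟩ :=
      Groth.Agent.Lib.helper19.FreeOmega.exists_free_of_le (i ≫ p) r x'
    obtain ⟨t, ht, hpre⟩ := (i.isEmbedding.isInducing.isOpen_iff).mp V₁.isOpen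
    let W₁ : P.Opens := ⟨t, ht⟩
    have hxW₁ : i x' ∈ W₁ := by
      change i x' ∈ t
      have : x' ∈ i ⁻¹' t := by rw [hpre]; exact hx'V₁
      exact this
    have hxV : i x' ∈ W ⊓ P.basicOpen s₁ ⊓ W₁ := ⟨⟨hxW, hxs₁⟩, hxW₁⟩
    obtain ⟨s, hle, hxs⟩ := (U l).2.exists_basicOpen_le (V := W ⊓ P.basicOpen s₁ ⊓ W₁)
      ⟨i x', hxV⟩ hl
    refine ⟨l, s, hxs, hle.trans (inf_le_left.trans inf_le_left), Or.inr ⟨⟨S₀, by omega, ?_⟩, ?_⟩⟩
    · exact hgood s (hle.trans (inf_le_left.trans inf_le_right))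
    · have haff : IsAffineOpen (i ⁻¹ᵁ (P.basicOpen s)) := (P.affineBasicOpen s).2.preimage i
      refine hfree _ haff ?_
      intro y hy
      have h1 : i y ∈ W₁ := (hle.trans inf_le_right) hy
      have h2 : y ∈ i ⁻¹' t := h1
      rw [hpre] at h2
      exact h2
  · -- `x` is not in the (closed) image of `i`
    have hcl : IsClosed (Set.range i) := i.isClosedEmbedding.isClosed_range
    let C : P.Opens := ⟨(Set.range i)ᶜ, hcl.isOpen_compl⟩
    have hxC : x ∈ C := hx
    have hxV : x ∈ W ⊓ C := ⟨hxW, hxC⟩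
    obtain ⟨s, hle, hxs⟩ := (U l).2.exists_basicOpen_le (V := W ⊓ C) ⟨x, hxV⟩ hl
    refine ⟨l, s, hxs, hle.trans inf_le_left, Or.inl ?_⟩
    rw [eq_bot_iff]
    intro y hy
    have h1 : i y ∈ C := (hle.trans inf_le_right) hy
    exact (h1 ⟨y, rfl⟩).elim

end Groth.Agent.Lib.helper19.GoodBasis
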