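import Mathlib
import Groth.Agent.Lib.Helper19.Gor2
import Groth.Agent.Lib.Helper26.FinRestr2
import Groth.Agent.Lib.Helper26.CMPoly3
import Groth.Agent.Lib.Helper26.Depth5
import Groth.Agent.S0553
set_option autoImplicit false

/-! Dimension theory in the support of a module: `dim M_p + dim R/p ≤ dim M`, with equality for
equidimensional modules over catenary local rings. -/

universe u

namespace Groth.Agent.Lib.helper19.Gor
open IsLocalRing

section Dim

variable {R : Type u} [CommRing R] (M : Type u) [AddCommGroup M] [Module R M]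

/-- the coheight in the support equals the coheight in the spectrum -/
lemma coheight_support (p : Module.support R M) : Order.coheight p = Order.coheight p.1 :=
  Order.coheight_eq_of_strictMono Subtype.val (fun _ _ h => h)
    (fun a b hab => ⟨⟨b, Module.mem_support_mono hab.le a.2⟩, hab, rfl⟩) p

/-- `ht_{Supp M} p + dim R/p ≤ dim M` -/
theorem height_add_coheight_le (p : Module.support R M) :
    ((Order.height p + Order.coheight p.1 : ℕ∞) : WithBot ℕ∞) ≤ Module.supportDim R M := by
  haveI : Nonempty (Module.support R M) := ⟨p⟩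
  unfold Module.supportDim
  rw [Order.krullDim_eq_iSup_height_add_coheight_of_nonempty, ← coheight_support]
  exact_mod_cast le_iSup (fun a : Module.support R M => Order.height a + Order.coheight a) p

variable [IsNoetherianRing R] [IsLocalRing R]

omit [IsLocalRing R] in
lemma exists_covBy_le {q p : PrimeSpectrum R} (h : q < p) : ∃ q', q ⋖ q' ∧ q' ≤ p := by
  classical
  have hex : ∃ n : ℕ, ∃ Q' : PrimeSpectrum R, q < Q' ∧ Q' ≤ p ∧
      Q'.asIdeal.height = n := by
    obtain ⟨n, hn⟩ := ENat.ne_top_iff_exists.1 (Ideal.height_ne_top (I := p.asIdeal)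
      (Ideal.IsPrime.ne_top p.2))
    exact ⟨n, p, h, le_rfl, hn.symm⟩
  obtain ⟨Q', hqQ', hQ'p, hQ'⟩ := Nat.find_spec hex
  refine ⟨Q', ⟨hqQ', ?_⟩, hQ'p⟩
  intro c hqc hcQ'
  have h1 : c.asIdeal.height < Q'.asIdeal.height :=
    Ideal.height_strict_mono_of_isPrime_of_isPrime (show c.asIdeal < Q'.asIdeal from hcQ')
  obtain ⟨nc, hnc⟩ := ENat.ne_top_iff_exists.1 (ne_top_of_lt h1)
  rw [hQ', ← hnc] at h1
  have h1' : nc < Nat.find hex := by exact_mod_cast h1
  exact Nat.find_min hex h1' ⟨c, hqc, hcQ'.le.trans hQ'p, hnc.symm⟩

/-- in a catenary Noetherian local ring `dim R/p + ht_{Supp M} p` is nondecreasing on `Supp M` -/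
theorem coheight_add_height_mono (hcat : CAlg.IsCatenary R) :
    ∀ (k : ℕ) (q p : Module.support R M), q ≤ p → Order.coheight q.1 = k →
      Order.coheight q.1 + Order.height q ≤ Order.coheight p.1 + Order.height p := by
  intro k
  induction k using Nat.strong_induction_on with
  | _ k ih =>
    intro q p hqp hk
    rcases eq_or_lt_of_le hqp with rfl | hlt
    · exact le_rfl
    · obtain ⟨q', hcov, hq'p⟩ := exists_covBy_le (show q.1 < p.1 from hlt)
      let q'' : Module.support R M := ⟨q', Module.mem_support_mono hcov.1.le q.2⟩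
      have hc := Groth.Agent.Lib.Helper24.CatEquidim.coheight_covBy hcat hcov
      obtain ⟨k', hk'⟩ := ENat.ne_top_iff_exists.mp (Order.coheight_lt_top q').ne
      have hkk : k = k' + 1 := by
        rw [hk, ← hk'] at hc
        exact_mod_cast hc
      have h1 := ih k' (by omega) q'' p hq'p hk'.symm
      have h2 : Order.height q + 1 ≤ Order.height q'' :=
        Order.height_add_one_le (show q < q'' from hcov.1)
      calc Order.coheight q.1 + Order.height q
          = Order.coheight q' + (Order.height q + 1) := by rw [hc]; ring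
        _ ≤ Order.coheight q' + Order.height q'' := by gcongr
        _ ≤ _ := h1

end Dim

end Groth.Agent.Lib.helper19.Gor
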