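import Mathlib

/-!
# QFSynt1 (helper19): invertibility of a module is Zariski-local

Pure commutative algebra over Mathlib.  Main result:
`invertible_of_forall_exists_away`: a finitely presented `B`-module `M` such that every prime `q`
has a basic open neighbourhood `D(f)` on which `M_f ≃ B_f` is an invertible `B`-module.
-/

set_option autoImplicit false
universe u
open TensorProduct

namespace Groth.Agent.Lib.helper19.QFSynt1

variable {B : Type u} [CommRing B] (M : Type u) [AddCommGroup M] [Module B M]

section Local
variable (S : Submonoid B)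

/-- evaluation `Hom_B(S⁻¹M, S⁻¹B) ⊗_B S⁻¹M → S⁻¹B`. -/
noncomputable def ev : ((LocalizedModule S M →ₗ[B] Localization S) ⊗[B] LocalizedModule S M) →ₗ[B]
    Localization S :=
  TensorProduct.lift LinearMap.id

lemma ev_tmul (φ : LocalizedModule S M →ₗ[B] Localization S) (m : LocalizedModule S M) :
    ev M S (φ ⊗ₜ m) = φ m := by
  simp [ev]

lemma ev_bijective (e : LocalizedModule S M ≃ₗ[Localization S] Localization S) :
    Function.Bijective (ev M S) := by
  set BJ := Localization S with hBJ
  set MJ := LocalizedModule S M with hMJ
  let u : MJ := e.symm 1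
  let φ₀ : MJ →ₗ[B] BJ := (e : MJ →ₗ[BJ] BJ).restrictScalars B
  have hφ₀ : ∀ x : BJ, φ₀ (x • u) = x := by
    intro x
    change e (x • e.symm 1) = x
    rw [map_smul, LinearEquiv.apply_symm_apply, smul_eq_mul, mul_one]
  have hu : ∀ m : MJ, m = (e m) • u := by
    intro m
    apply e.injective
    rw [map_smul, LinearEquiv.apply_symm_apply, smul_eq_mul, mul_one]
  -- `S⁻¹B`-linearity of `B`-linear maps
  have hlin : ∀ (φ : MJ →ₗ[B] BJ) (y : BJ) (m : MJ), φ (y • m) = y * φ m := by
    intro φ y m
    have := (φ.extendScalarsOfIsLocalization S BJ).map_smul y m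
    exact this
  let s : BJ → (MJ →ₗ[B] BJ) ⊗[B] MJ := fun x => φ₀ ⊗ₜ[B] (x • u)
  have hs_add : ∀ x y, s (x + y) = s x + s y := by
    intro x y
    simp only [s, add_smul, tmul_add]
  have hev : ∀ x, ev M S (s x) = x := fun x => by rw [ev_tmul, hφ₀]
  have hsurj : Function.Surjective s := by
    intro z
    induction z using TensorProduct.induction_on with
    | zero => exact ⟨0, by simp [s]⟩
    | tmul φ m =>
      refine ⟨φ u * e m, ?_⟩
      have h1 : φ = φ u • φ₀ := by
        apply LinearMap.ext
        intro m'
        rw [LinearMap.smul_apply, smul_eq_mul]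
        conv_lhs => rw [hu m', hlin]
        change e m' * φ u = φ u * e m'
        rw [mul_comm]
      change φ₀ ⊗ₜ[B] ((φ u * e m) • u) = φ ⊗ₜ[B] m
      conv_rhs => rw [h1, hu m]
      rw [mul_smul]
      exact (TensorProduct.smul_tmul (R := B) (R' := BJ) (φ u) φ₀ ((e m) • u)).symm
    | add z₁ z₂ h₁ h₂ =>
      obtain ⟨x₁, rfl⟩ := h₁
      obtain ⟨x₂, rfl⟩ := h₂
      exact ⟨x₁ + x₂, hs_add x₁ x₂⟩
  refine ⟨?_, fun x => ⟨s x, hev x⟩⟩
  intro z₁ z₂ h
  obtain ⟨x₁, rfl⟩ := hsurj z₁
  obtain ⟨x₂, rfl⟩ := hsurj z₂
  rw [hev, hev] at h
  rw [h]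

/-- the localization of the contraction `M^∨ ⊗ M → B` is the evaluation. -/
lemma map_contractLeft [Module.FinitePresentation B M] :
    IsLocalizedModule.map S
      (TensorProduct.map
        (IsLocalizedModule.map S (LocalizedModule.mkLinearMap S M) (Algebra.linearMap B (Localization S)))
        (LocalizedModule.mkLinearMap S M))
      (Algebra.linearMap B (Localization S)) (contractLeft B M) = ev M S := by
  apply IsLocalizedModule.linearMap_ext S
    (TensorProduct.map
      (IsLocalizedModule.map S (LocalizedModule.mkLinearMap S M) (Algebra.linearMap B (Localization S)))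
      (LocalizedModule.mkLinearMap S M))
    (Algebra.linearMap B (Localization S))
  rw [IsLocalizedModule.map_comp]
  apply TensorProduct.ext'
  intro φ m
  simp only [LinearMap.coe_comp, Function.comp_apply, TensorProduct.map_tmul, ev_tmul,
    contractLeft_apply]
  exact (IsLocalizedModule.map_apply S (LocalizedModule.mkLinearMap S M)
    (Algebra.linearMap B (Localization S)) φ m).symm

end Local

/-- **local–global principle for invertible modules** (maximal ideals): a finitely presented module which is locally free of
rank one at all maximal ideals is invertible. -/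
theorem invertible_of_forall_maximal [Module.FinitePresentation B M]
    (h : ∀ (J : Ideal B) [J.IsMaximal], Nonempty (LocalizedModule J.primeCompl M ≃ₗ[Localization.AtPrime J]
      Localization.AtPrime J)) : Module.Invertible B M := by
  refine ⟨?_⟩
  refine bijective_of_isLocalized_maximal
    (fun (J : Ideal B) [J.IsMaximal] => (LocalizedModule J.primeCompl M →ₗ[B] Localization.AtPrime J) ⊗[B]
      LocalizedModule J.primeCompl M)
    (fun (J : Ideal B) [J.IsMaximal] => TensorProduct.map
      (IsLocalizedModule.map J.primeCompl (LocalizedModule.mkLinearMap J.primeCompl M)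
        (Algebra.linearMap B (Localization.AtPrime J)))
      (LocalizedModule.mkLinearMap J.primeCompl M))
    (fun (J : Ideal B) [J.IsMaximal] => Localization.AtPrime J)
    (fun (J : Ideal B) [J.IsMaximal] => Algebra.linearMap B (Localization.AtPrime J))
    (contractLeft B M) ?_
  intro J hJ
  obtain ⟨e⟩ := h J
  rw [map_contractLeft M J.primeCompl]
  exact ev_bijective M J.primeCompl e

/-- **local–global principle for invertible modules** (covers by basic opens): a finitely presented module `M` with
`M_r ≃ B_r` for all `r` in a set generating the unit ideal is invertible. -/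
theorem invertible_of_span [Module.FinitePresentation B M] (s : Set B) (hs : Ideal.span s = ⊤)
    (h : ∀ r : s, Nonempty (LocalizedModule (Submonoid.powers r.1) M ≃ₗ[Localization.Away r.1]
      Localization.Away r.1)) : Module.Invertible B M := by
  refine ⟨?_⟩
  refine bijective_of_isLocalized_span s hs
    (fun r : s => (LocalizedModule (Submonoid.powers r.1) M →ₗ[B] Localization.Away r.1) ⊗[B]
      LocalizedModule (Submonoid.powers r.1) M)
    (fun r : s => TensorProduct.map
      (IsLocalizedModule.map (Submonoid.powers r.1) (LocalizedModule.mkLinearMap (Submonoid.powers r.1) M)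
        (Algebra.linearMap B (Localization.Away r.1)))
      (LocalizedModule.mkLinearMap (Submonoid.powers r.1) M))
    (fun r : s => Localization.Away r.1)
    (fun r : s => Algebra.linearMap B (Localization.Away r.1))
    (contractLeft B M) ?_
  intro r
  obtain ⟨e⟩ := h r
  rw [map_contractLeft M (Submonoid.powers r.1)]
  exact ev_bijective M (Submonoid.powers r.1) e

/-- a finitely presented module which is free of rank one on a basic open neighbourhood of every prime is invertible. -/
theorem invertible_of_forall_exists_away [Module.FinitePresentation B M]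
    (h : ∀ q : PrimeSpectrum B, ∃ f : B, f ∉ q.asIdeal ∧
      Nonempty ((Localization.Away f) ⊗[B] M ≃ₗ[Localization.Away f] Localization.Away f)) :
    Module.Invertible B M := by
  let s : Set B := {f | Nonempty ((Localization.Away f) ⊗[B] M ≃ₗ[Localization.Away f] Localization.Away f)}
  have hs : Ideal.span s = ⊤ := by
    by_contra hne
    obtain ⟨J, hJ, hle⟩ := Ideal.exists_le_maximal _ hne
    obtain ⟨f, hf, hmem⟩ := h ⟨J, hJ.isPrime⟩
    exact hf (hle (Ideal.subset_span hmem))
  refine invertible_of_span M s hs (fun r => ?_)
  obtain ⟨e⟩ := r.2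
  have hbc := IsLocalizedModule.isBaseChange (Submonoid.powers r.1) (Localization.Away r.1)
    (LocalizedModule.mkLinearMap (Submonoid.powers r.1) M)
  exact ⟨hbc.equiv.symm.trans e⟩

end Groth.Agent.Lib.helper19.QFSynt1
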