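import Mathlib
import Groth.Agent.S1799
import Groth.Agent.S1784
import Groth.Agent.S8943
import Groth.Agent.Lib.Helper23.RHomEx
import Groth.Agent.Lib.Helper23.FlatBC2
import Groth.Agent.Lib.Helper23.OpenImm3
import Groth.Agent.Lib.Helper13.RKF2
import Groth.Agent.Lib.Helper19.Shriek1
import Groth.Agent.Lib.Helper19.Shriek7

/-!
# QFSynt3 (helper19): `φ^!(A)` of a flat quasi-finite algebra lives in degree `0`

For `A → B' → B` with `A → B'` finite and `Spec B → Spec B'` an open immersion: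
* `nonempty_shriekVia_iso_lbc`: `φ^!(A) ≅ RHom_A(B', A) ⊗^L_{B'} B`;
* `subsingleton_HD_shriekVia_of_neg`: `H^i(φ^!(A)) = 0` for `i < 0`;
* `subsingleton_HD_shriekVia_of_ne`: if moreover `A → B` is flat, `H^i(φ^!(A)) = 0` for `i ≠ 0`.
-/

set_option autoImplicit false
universe u
open CategoryTheory CategoryTheory.Limits AlgebraicGeometry DerivedCategory
open scoped TensorProduct
attribute [local instance] HasDerivedCategory.standard

namespace Groth.Agent.Lib.helper19.QFSynt3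

open Groth.Agent.Lib.helper23 Groth.Agent.Lib.helper23.RAdj Groth.Agent.Lib.helper23.KzReg
  Groth.Agent.Lib.helper19.Shriek1

variable (A B B' : Type u) [CommRing A] [CommRing B] [CommRing B'] [IsNoetherianRing A] [IsNoetherianRing B]
  [Algebra A B] [Algebra A B'] [Algebra B' B] [IsScalarTower A B' B] [Module.Finite A B']
  (hopen : IsOpenImmersion (Spec.map (CommRingCat.ofHom (algebraMap B' B))))
  (n : ℕ) (ψ : MvPolynomial (Fin n) A →ₐ[A] B) (hψ : Function.Surjective ψ)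
  [DRing.HasLBaseChange (algebraMap A (MvPolynomial (Fin n) A))]
  (Rψ : Dual.D (MvPolynomial (Fin n) A) ⥤ Dual.D B) (adj : DRing.restrictD ψ.toRingHom ⊣ Rψ)
  (R' : Dual.D A ⥤ Dual.D B') (adjR : DRing.restrictD (algebraMap A B') ⊣ R')
  [DRing.HasLBaseChange (algebraMap B' B)]

include hopen hψ adj adjR in
/-- `φ^!(A) ≅ RHom_A(B', A) ⊗^L_{B'} B` for `A → B' → B` finite followed by an open immersion. -/
theorem nonempty_shriekVia_iso_lbc :
    Nonempty (Dual2.shriekVia n Rψ (Dual.inD A A) ≅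
      (DRing.LBaseChange (algebraMap B' B)).obj (R'.obj (Dual.inD A A))) := by
  classical
  haveI : IsNoetherianRing B' := IsNoetherianRing.of_finite A B'
  haveI : Algebra.FiniteType A B' := inferInstance
  obtain ⟨n₁, ψ₁, hψ₁⟩ := Algebra.FiniteType.iff_quotient_mvPolynomial''.mp
    (inferInstance : Algebra.FiniteType A B')
  haveI : Algebra.FiniteType A B := Algebra.FiniteType.of_surjective ψ hψ
  haveI : Algebra.FiniteType B' B := Algebra.FiniteType.of_restrictScalars_finiteType A B' B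
  obtain ⟨m, χ, hχ⟩ := Algebra.FiniteType.iff_quotient_mvPolynomial''.mp
    (inferInstance : Algebra.FiniteType B' B)
  obtain ⟨Rψ₁, ⟨adj₁⟩⟩ := Groth.Agent.Lib.helper23.RHomEx.exists_rightAdjoint_restrictD ψ₁.toRingHom
  obtain ⟨Rχ, ⟨adjχ⟩⟩ := Groth.Agent.Lib.helper23.RHomEx.exists_rightAdjoint_restrictD χ.toRingHom
  haveI : DRing.HasLBaseChange (algebraMap A (MvPolynomial (Fin n₁) A)) :=
    Groth.Agent.Lib.helper13.RKF.hasLBaseChange _
  haveI : DRing.HasLBaseChange (algebraMap B' (MvPolynomial (Fin m) B')) :=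
    Groth.Agent.Lib.helper13.RKF.hasLBaseChange _
  have hK : ∀ i : ℤ, i < 0 → Subsingleton (Dual.HD A (Dual.inD A A) i) := fun i hi =>
    ModuleCat.subsingleton_of_isZero (DerivedCategory.isZero_of_isGE (Dual.inD A A) 0 i hi)
  obtain ⟨j1⟩ := Groth.Agent.S1799.result A B' B n₁ ψ₁ hψ₁ Rψ₁ adj₁ m χ hχ Rχ adjχ n ψ hψ Rψ adj
    (Dual.inD A A) 0 hK
  obtain ⟨j2⟩ := Groth.Agent.S8943.result B' B hopen m χ hχ Rχ adjχ
    (Dual2.shriekVia n₁ Rψ₁ (Dual.inD A A))
  obtain ⟨j3⟩ := Groth.Agent.S1784.result A B' n₁ ψ₁ hψ₁ Rψ₁ adj₁ R' adjR (Dual.inD A A)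
  exact ⟨j1 ≪≫ j2 ≪≫ (DRing.LBaseChange (algebraMap B' B)).mapIso j3⟩

omit [IsNoetherianRing A] [Module.Finite A B'] in
include adjR in
/-- `H^i(RHom_A(B', A)) = 0` for `i < 0`. -/
theorem isZero_homology_rightAdjoint_of_neg (i : ℤ) (hi : i < 0) :
    IsZero ((homologyFunctor (ModuleCat.{u} B') i).obj (R'.obj (Dual.inD A A))) := by
  have hKa : ∀ j : ℤ, j < 0 →
      IsZero ((homologyFunctor (ModuleCat.{u} A) j).obj (Dual.inD A A)) := fun j hj =>
    DerivedCategory.isZero_of_isGE (Dual.inD A A) 0 j hj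
  obtain ⟨e⟩ := nonempty_homologyRightAdjointEquiv (algebraMap A B') R' adjR (Dual.inD A A) 0 hKa i
  rw [ModuleCat.isZero_iff_subsingleton]
  refine ⟨fun x y => ?_⟩
  apply e.injective
  rw [hom_single_shift_eq_zero _ _ i hi (e x), hom_single_shift_eq_zero _ _ i hi (e y)]

include hopen hψ adj adjR in
/-- `H^i(φ^!(A)) = 0` for `i < 0`, `A → B` quasi-finite (finite followed by an open immersion). -/
theorem subsingleton_HD_shriekVia_of_neg (i : ℤ) (hi : i < 0) :
    Subsingleton (Dual.HD B (Dual2.shriekVia n Rψ (Dual.inD A A)) i) := by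
  obtain ⟨j⟩ := nonempty_shriekVia_iso_lbc A B B' hopen n ψ hψ Rψ adj R' adjR
  obtain ⟨hflat, -, -⟩ := Groth.Agent.Lib.helper23.OpenImm.flat_epi_open_of_isOpenImmersion B' B hopen
  haveI := hflat
  haveI : PreservesFiniteLimits (ModuleCat.extendScalars.{u, u, u} (algebraMap B' B)) :=
    Groth.Agent.Lib.helper23.FlatBC.preservesFiniteLimits_extendScalars_algebraMap
  have h1 := Groth.Agent.Lib.helper23.FlatBC.isZero_homology_extD (algebraMap B' B)
    (R'.obj (Dual.inD A A)) i (isZero_homology_rightAdjoint_of_neg A B' R' adjR i hi)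
  have h2 : IsZero ((homologyFunctor (ModuleCat.{u} B) i).obj (Dual2.shriekVia n Rψ (Dual.inD A A))) :=
    h1.of_iso ((homologyFunctor (ModuleCat.{u} B) i).mapIso
      (j ≪≫ (Groth.Agent.Lib.helper23.FlatBC.lbcIso (algebraMap B' B)).app _))
  exact ModuleCat.subsingleton_of_isZero h2

omit [DRing.HasLBaseChange (algebraMap B' B)] in
include hopen hψ adj in
/-- `H^i(φ^!(A)) = 0` for `i ≠ 0`, `A → B` flat and quasi-finite. -/
theorem subsingleton_HD_shriekVia_of_ne [Module.Flat A B] (i : ℤ) (hi : i ≠ 0) :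
    Subsingleton (Dual.HD B (Dual2.shriekVia n Rψ (Dual.inD A A)) i) := by
  rcases lt_or_gt_of_ne hi with h | h
  · obtain ⟨R', ⟨adjR⟩⟩ := Groth.Agent.Lib.helper23.RHomEx.exists_rightAdjoint_restrictD (algebraMap A B')
    haveI : DRing.HasLBaseChange (algebraMap B' B) := Groth.Agent.Lib.helper13.RKF.hasLBaseChange _
    exact subsingleton_HD_shriekVia_of_neg A B B' hopen n ψ hψ Rψ adj R' adjR i h
  · exact Groth.Agent.Lib.helper19.Shriek7.subsingleton_HD_shriekVia_self_of_pos A B n ψ hψ Rψ adj i h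

end Groth.Agent.Lib.helper19.QFSynt3
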