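import Mathlib
import Groth.Agent.S9808
import Groth.Agent.Lib.Helper26.CM7
import Groth.Agent.Lib.Helper19.Shriek2
import Groth.Agent.Lib.Helper19.Shriek3

/-!
# Cohen–Macaulayness and depth of the local rings of `R[x₁..xₙ]` over a Cohen–Macaulay point of `Spec R` (helper19)

* `cm_of_le`: `R_p` CM and `p' ⊆ p` imply `R_{p'}` CM;
* `cm_mvPolynomial_atPrime`: `P_Q` is CM if `R_{Q ∩ R}` is (`P = R[x₁..xₙ]`);
* `le_height_add_of_td_le`: `n ≤ ht Q + trdeg κ(Q)/κ(Q ∩ R)`;
* `cm_and_le_depth`: if `R_p` is CM and `trdeg ≤ r` at all minimal primes of `A = P/ker ψ`, then `P_Q` is CM of depth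
  `≥ n - r` for all primes `Q ⊇ ker ψ` with `Q ∩ R ⊆ p`.
-/

set_option autoImplicit false
universe u
open TensorProduct AlgebraicGeometry CategoryTheory

namespace Groth.Agent.Lib.helper19.ShriekCM1

open Groth.Agent.Lib.helper3.DimIneq Groth.Agent.Lib.helper3.FibreParam
  Groth.Agent.Lib.Helper24.FlatDepth Groth.Agent.Lib.helper26.Depth LocCoh
  Groth.Agent.Lib.helper19.Shriek2

variable (R : Type u) [CommRing R] [IsNoetherianRing R]

omit [IsNoetherianRing R] in
/-- localizations of a Cohen–Macaulay local ring `R_p` at smaller primes are Cohen–Macaulay. -/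
theorem cm_of_le (p p' : Ideal R) [p.IsPrime] [hp' : p'.IsPrime] (h : p' ≤ p)
    [hcm : IsCohenMacaulayLocalRing (Localization.AtPrime p)] :
    IsCohenMacaulayLocalRing (Localization.AtPrime p') := by
  have hdisj : Disjoint (p.primeCompl : Set R) (p' : Set R) := by
    rw [Set.disjoint_left]
    intro x hx hx'
    exact hx (h hx')
  set P' : Ideal (Localization.AtPrime p) := p'.map (algebraMap R (Localization.AtPrime p)) with hP'
  haveI hP'prime : P'.IsPrime :=
    IsLocalization.isPrime_of_isPrime_disjoint p.primeCompl (Localization.AtPrime p) p' hp' hdisj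
  have hcomap : P'.comap (algebraMap R (Localization.AtPrime p)) = p' :=
    IsLocalization.under_map_of_isPrime_disjoint p.primeCompl (Localization.AtPrime p) hp' hdisj
  haveI := Groth.Agent.S9808.cm_localization (Localization.AtPrime p) P'
  have e := (IsLocalization.localizationLocalizationAtPrimeIsoLocalization p.primeCompl P').toRingEquiv
  have aux : ∀ (q : Ideal R) [q.IsPrime], q = p' →
      (Localization.AtPrime q ≃+* Localization.AtPrime P') →
      IsCohenMacaulayLocalRing (Localization.AtPrime p') := by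
    intro q _ hq e'
    subst hq
    exact Groth.Agent.S9808.cm_of_ringEquiv e'.symm
  haveI : (P'.comap (algebraMap R (Localization p.primeCompl))).IsPrime :=
    Ideal.comap_isPrime _ _
  exact aux _ hcomap e


variable (n : ℕ)

/-- `P_Q` is Cohen–Macaulay if `R_{Q ∩ R}` is, `P = R[x₁..xₙ]`. -/
theorem cm_mvPolynomial_atPrime (Q : Ideal (MvPolynomial (Fin n) R)) [Q.IsPrime]
    (h : IsCohenMacaulayLocalRing (Localization.AtPrime (Q.under R))) :
    IsCohenMacaulayLocalRing (Localization.AtPrime Q) := by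
  haveI : Q.LiesOver (Q.under R) := ⟨rfl⟩
  rw [cm_atPrime_iff R (MvPolynomial (Fin n) R) (Q.under R) Q]
  refine ⟨h, ?_⟩
  haveI hreg : IsRegularLocalRing (FibLoc R (MvPolynomial (Fin n) R) (Q.under R) Q) :=
    Groth.Agent.Lib.Helper24.FibreRegular.isRegularLocalRing_fibLocRing R (MvPolynomial (Fin n) R)
      (Q.under R) Q
  exact { supportDim_eq_depth := by
            rw [Module.supportDim_self_eq_ringKrullDim]
            exact (depth_eq_ringKrullDim_of_isRegularLocalRing _).symm }

/-- `n ≤ ht Q + trdeg κ(Q)/κ(Q ∩ R)`. -/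
theorem le_height_add_of_td_le (Q : Ideal (MvPolynomial (Fin n) R)) [Q.IsPrime] (t : ℕ)
    (ht : td (Ideal.quotientMap Q (algebraMap R (MvPolynomial (Fin n) R)) le_rfl) ≤
      (t : Cardinal.{u})) :
    (n : ℕ∞) ≤ Q.height + t := by
  refine (le_depth_add_of_td_le R n Q t ht).trans ?_
  gcongr
  exact depth_localization_le_height (MvPolynomial (Fin n) R) Q


/-- **the depth bound**: `R_p` Cohen–Macaulay, `trdeg ≤ r` at the minimal primes of `A = P/ker ψ`; then for every prime
`Q ⊇ ker ψ` of `P = R[x₁..xₙ]` with `Q ∩ R ⊆ p`, `P_Q` is Cohen–Macaulay of depth `≥ n - r`. -/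
theorem cm_and_le_depth (A : Type u) [CommRing A] [Algebra R A]
    (ψ : MvPolynomial (Fin n) R →ₐ[R] A) (hψ : Function.Surjective ψ)
    (p : Ideal R) [p.IsPrime] [IsCohenMacaulayLocalRing (Localization.AtPrime p)] (r : ℕ)
    (hr : ∀ q : PrimeSpectrum A, q.asIdeal ∈ minimalPrimes A →
      td (Ideal.quotientMap q.asIdeal (algebraMap R A) le_rfl) ≤ (r : Cardinal.{u}))
    (Q : Ideal (MvPolynomial (Fin n) R)) [Q.IsPrime] (hker : RingHom.ker ψ.toRingHom ≤ Q)
    (hQp : Q.under R ≤ p) :
    IsCohenMacaulayLocalRing (Localization.AtPrime Q) ∧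
      ((n - r : ℕ) : ℕ∞) ≤ depth (Localization.AtPrime Q) (Localization.AtPrime Q) := by
  have hcmQ := cm_mvPolynomial_atPrime R n Q (cm_of_le R p (Q.under R) hQp)
  refine ⟨hcmQ, ?_⟩
  rw [depth_localization_eq_height_of_isCohenMacaulayLocalRing _ Q hcmQ]
  obtain ⟨Q₀, hQ₀min, hQ₀Q⟩ := Ideal.exists_minimalPrimes_le hker
  have hψ' : Function.Surjective ψ.toRingHom := hψ
  rw [RingHom.ker_eq_comap_bot, Ideal.comap_minimalPrimes_eq_of_surjective hψ'] at hQ₀min
  obtain ⟨q₀, hq₀, rfl⟩ := hQ₀min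
  haveI hq₀p : q₀.IsPrime := hq₀.1.1
  have h1 : td (Ideal.quotientMap (q₀.comap ψ.toRingHom)
      (algebraMap R (MvPolynomial (Fin n) R)) le_rfl) ≤ (r : Cardinal.{u}) := by
    have h2 := td_quotientMap_comp (algebraMap R (MvPolynomial (Fin n) R)) ψ.toRingHom q₀
    have h3 : ψ.toRingHom.comp (algebraMap R (MvPolynomial (Fin n) R)) = algebraMap R A :=
      ψ.comp_algebraMap
    rw [td_quotientMap_congr_hom _ _ h3 q₀] at h2
    have h4 := hr ⟨q₀, hq₀p⟩ hq₀
    rw [h2] at h4
    exact le_trans le_self_add h4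
  have h5 := le_height_add_of_td_le R n (q₀.comap ψ.toRingHom) r h1
  have h6 : (q₀.comap ψ.toRingHom).height ≤ Q.height := Ideal.height_mono hQ₀Q
  rw [ENat.natCast_sub]
  exact tsub_le_iff_right.mpr (h5.trans (by gcongr))

end Groth.Agent.Lib.helper19.ShriekCM1
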