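import Mathlib
import Groth.Agent.Lib.Helper19.Shriek1
import Groth.Agent.Lib.Helper19.Shriek4
import Groth.Agent.Lib.Helper19.ShriekCM1

/-!
# Vanishing of `S⁻¹H^i(ω_{A/R})` for `i < -r` over a Cohen–Macaulay point (helper19)

`R → A` finite type with presentation `ψ : P = R[x₁..xₙ] ↠ A`, `p` a prime of `R` with `R_p` Cohen–Macaulay, `r` a bound for
the transcendence degrees at minimal primes of `A`, `S` the image of `R ∖ p`.

* `exists_smul_ext_eq_zero_submonoid`: `Ext^k_P(M,P)` is `S`-torsion for `k <` the depths of `P_Q`, `Q ∈ Supp M`, `Q ∩ S = ∅`;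
* `le_depth_of_disjoint`: `P_Q` is CM of depth `≥ n - r` for `Q ⊇ Ann_P A` disjoint from `S`;
* `exists_smul_hom_eq_zero_of_cm`, `subsingleton_localizedModule_HD_of_cm`: `S⁻¹H^i(ω_{A/R}) = 0` for `i + r < 0`.
-/

set_option autoImplicit false
universe u
open CategoryTheory CategoryTheory.Limits DerivedCategory Pretriangulated TensorProduct AlgebraicGeometry

attribute [local instance] HasDerivedCategory.standard

namespace Groth.Agent.Lib.helper19.ShriekCM2

open Groth.Agent.Lib.helper23 Groth.Agent.Lib.helper23.RAdj Groth.Agent.Lib.helper23.KzReg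
  Groth.Agent.Lib.helper19.Shriek1 Groth.Agent.Lib.helper19.Shriek4 Groth.Agent.Lib.helper19.ShriekCM1 LocCoh
  Groth.Agent.Lib.helper3.DimIneq

/-- vanishing of `Ext^k_P(M, P)` after inverting a multiplicative set `S`, below the depths of the local rings `P_Q`,
`Q ∈ Supp M`, `Q ∩ S = ∅`. -/
theorem exists_smul_ext_eq_zero_submonoid (P : Type u) [CommRing P] [IsNoetherianRing P]
    (M : Type u) [AddCommGroup M] [Module P M] [Module.Finite P M] (S : Submonoid P) (c : ℕ)
    (hdepth : ∀ (Q : Ideal P) [Q.IsPrime], Module.annihilator P M ≤ Q →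
      Disjoint (Q : Set P) (S : Set P) →
      (c : ℕ∞) ≤ depth (Localization.AtPrime Q) (Localization.AtPrime Q))
    (k : ℕ) (hk : k < c) (x : Abelian.Ext.{u} (ModuleCat.of P M) (ModuleCat.of P P) k) :
    ∃ t : P, t ∈ S ∧ t • x = 0 := by
  by_contra hcon
  push Not at hcon
  have hdisj : Disjoint (Ideal.torsionOf P _ x : Set P) (S : Set P) := by
    rw [Set.disjoint_left]
    intro t ht hS
    exact hcon t hS ((Ideal.mem_torsionOf_iff x t).mp ht)
  obtain ⟨Q, hQp, hJQ, hQS⟩ := Ideal.exists_le_prime_disjoint (Ideal.torsionOf P _ x) S hdisj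
  haveI := hQp
  obtain ⟨t, htQ, htx⟩ := exists_smul_ext_eq_zero P M Q c (fun Q' _ hann hQ' =>
    hdepth Q' hann (Set.disjoint_of_subset_left hQ' hQS)) k hk x
  exact htQ (hJQ ((Ideal.mem_torsionOf_iff x t).mpr htx))


variable (R A : Type u) [CommRing R] [CommRing A] [IsNoetherianRing R] [Algebra R A] (n : ℕ)
  (ψ : MvPolynomial (Fin n) R →ₐ[R] A) (hψ : Function.Surjective ψ)
  (p : Ideal R) [p.IsPrime] [IsCohenMacaulayLocalRing (Localization.AtPrime p)] (r : ℕ)
  (hr : ∀ q : PrimeSpectrum A, q.asIdeal ∈ minimalPrimes A →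
    td (Ideal.quotientMap q.asIdeal (algebraMap R A) le_rfl) ≤ (r : Cardinal.{u}))

include hψ hr in
/-- the depth bound in the form needed below. -/
theorem le_depth_of_disjoint (Q : Ideal (MvPolynomial (Fin n) R)) [Q.IsPrime]
    (hann : Module.annihilator (MvPolynomial (Fin n) R) (BA ψ.toRingHom) ≤ Q)
    (hdisj : Disjoint (Q : Set (MvPolynomial (Fin n) R))
      (Algebra.algebraMapSubmonoid (MvPolynomial (Fin n) R) p.primeCompl : Set _)) :
    IsCohenMacaulayLocalRing (Localization.AtPrime Q) ∧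
      ((n - r : ℕ) : ℕ∞) ≤ depth (Localization.AtPrime Q) (Localization.AtPrime Q) := by
  refine cm_and_le_depth R n A ψ hψ p r hr Q ?_ ?_
  · intro a ha
    apply hann
    rw [Module.mem_annihilator]
    intro b
    change ψ.toRingHom a • (b : A) = 0
    rw [(RingHom.mem_ker).mp ha, zero_smul]
  · intro a ha
    by_contra hap
    exact (Set.disjoint_left.mp hdisj) (Ideal.mem_comap.mp ha) ⟨a, hap, rfl⟩

include hψ hr in
/-- morphisms `A[0] ⟶ P[j]` in `D(P)` die after inverting `R ∖ p` for `j + r < n`. -/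
theorem exists_smul_hom_eq_zero_of_cm (j : ℤ) (hj : j + r < n)
    (f : (singleFunctor (ModuleCat.{u} (MvPolynomial (Fin n) R)) 0).obj (BA ψ.toRingHom) ⟶
      (Dual.inD (MvPolynomial (Fin n) R) (MvPolynomial (Fin n) R))⟦j⟧) :
    ∃ t : MvPolynomial (Fin n) R,
      t ∈ Algebra.algebraMapSubmonoid (MvPolynomial (Fin n) R) p.primeCompl ∧ t • f = 0 := by
  by_cases hneg : j < 0
  · refine ⟨1, Submonoid.one_mem _, ?_⟩
    rw [one_smul]
    exact hom_single_shift_eq_zero _ _ j hneg f
  · obtain ⟨k, rfl⟩ : ∃ k : ℕ, j = k := ⟨j.toNat, by omega⟩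
    haveI : Module.Finite (MvPolynomial (Fin n) R) (BA ψ.toRingHom) := by
      refine Module.Finite.of_surjective
        ((Algebra.linearMap (MvPolynomial (Fin n) R) (MvPolynomial (Fin n) R)).smulRight
          (show (BA ψ.toRingHom) from (1 : A))) ?_
      intro b
      obtain ⟨q, hq⟩ := hψ (show A from b)
      refine ⟨q, ?_⟩
      change ψ.toRingHom q • (1 : A) = (show A from b)
      rw [smul_eq_mul, mul_one]
      exact hq
    let x : Abelian.Ext.{u} (ModuleCat.of (MvPolynomial (Fin n) R) (BA ψ.toRingHom))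
        (ModuleCat.of (MvPolynomial (Fin n) R) (MvPolynomial (Fin n) R)) k :=
      (Abelian.Ext.homLinearEquiv (R := MvPolynomial (Fin n) R)).symm f
    obtain ⟨t, ht, htx⟩ := exists_smul_ext_eq_zero_submonoid (MvPolynomial (Fin n) R) (BA ψ.toRingHom)
      (Algebra.algebraMapSubmonoid (MvPolynomial (Fin n) R) p.primeCompl) (n - r)
      (fun Q _ hann hdisj => (le_depth_of_disjoint R A n ψ hψ p r hr Q hann hdisj).2) k (by omega) x
    refine ⟨t, ht, ?_⟩
    have h1 : t • f = (Abelian.Ext.homLinearEquiv (R := MvPolynomial (Fin n) R)) (t • x) := by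
      rw [map_smul, LinearEquiv.apply_symm_apply]
    rw [h1, htx, map_zero]

variable [DRing.HasLBaseChange (algebraMap R (MvPolynomial (Fin n) R))]
  (Rψ : Dual.D (MvPolynomial (Fin n) R) ⥤ Dual.D A) (adj : DRing.restrictD ψ.toRingHom ⊣ Rψ)

include hψ hr adj in
/-- **`S⁻¹H^i(ω_{A/R}) = 0` for `i < -r`**, `S` the image of `R ∖ p`, `R_p` Cohen–Macaulay. -/
theorem subsingleton_localizedModule_HD_of_cm (i : ℤ) (hi : i + r < 0) :
    Subsingleton (LocalizedModule (Algebra.algebraMapSubmonoid A p.primeCompl)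
      (Dual.HD A (Dual2.shriekVia n Rψ (Dual.inD R R)) i)) := by
  obtain ⟨e⟩ := nonempty_HD_shriekVia_equiv R A n ψ Rψ adj i
  rw [LocalizedModule.subsingleton_iff]
  intro m
  obtain ⟨t, ht, htf⟩ := exists_smul_hom_eq_zero_of_cm R A n ψ hψ p r hr ((n : ℤ) + i) (by omega) (e m)
  obtain ⟨a, ha, rfl⟩ := ht
  refine ⟨ψ (algebraMap R (MvPolynomial (Fin n) R) a), ⟨a, ha, (ψ.commutes a).symm⟩, ?_⟩
  have h1 : e ((algebraMap R (MvPolynomial (Fin n) R) a) •
      (show ((Φm ψ.toRingHom).obj ((homologyFunctor (ModuleCat.{u} A) i).obj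
      (Dual2.shriekVia n Rψ (Dual.inD R R)))) from m)) = 0 := by
    rw [map_smul]
    exact htf
  have h2 := e.injective (h1.trans (map_zero e).symm)
  exact h2

end Groth.Agent.Lib.helper19.ShriekCM2
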