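import Mathlib
import Groth.Agent.Lib.Helper26.Depth8
import Groth.Agent.Lib.Helper26.CM2
import Groth.Agent.Lib.Helper19.PairDuality

/-!
# The `(S_2)` inequality for `Ext^c_T(N, T)` over a Cohen–Macaulay local ring (helper19)

* `isSMulRegular_hom`, `quotHom`, `quotHom_injective`, `isWeaklyRegular_hom`: regular sequences of length `≤ 2` on `C` are
  regular on `Hom(N, C)`;
* `le_idealDepth_hom`: `depth_J Hom(N, C) ≥ min(2, depth_J C)`;
* `ext_equiv_hom_quot` (**Rees**): `Ext^t(N, M) ≃ Hom(N, M/(rs)M)` for an `M`-regular sequence `rs` of length `t` in `Ann N`;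
* `s2_ext_local`: for `T` Cohen–Macaulay local, `N` finite nonzero and `c ≤ depth_{Ann N} T`:
  `min(2, dim Ext^c_T(N, T)) ≤ depth Ext^c_T(N, T)`.
-/

set_option autoImplicit false
universe u
open CategoryTheory RingTheory.Sequence LocCoh IsLocalRing
open scoped Pointwise

namespace Groth.Agent.Lib.helper19.ShriekCM3
open Groth.Agent.Lib.helper26.Depth Groth.Agent.Lib.helper19.PairDuality Groth.Agent.Lib.helper19.TopSurj

section Hom
variable {T : Type u} [CommRing T] {N C : Type u} [AddCommGroup N] [Module T N]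
  [AddCommGroup C] [Module T C]

/-- a `C`-regular element is `Hom(N, C)`-regular. -/
lemma isSMulRegular_hom (x : T) (hx : IsSMulRegular C x) : IsSMulRegular (N →ₗ[T] C) x := by
  intro f g hfg
  apply LinearMap.ext
  intro n
  apply hx
  have := LinearMap.congr_fun hfg n
  simpa using this

/-- the map `Hom(N, C)/x Hom(N, C) → Hom(N, C/xC)`. -/
noncomputable def quotHom (x : T) : QuotSMulTop x (N →ₗ[T] C) →ₗ[T] (N →ₗ[T] QuotSMulTop x C) :=
  Submodule.liftQ _ (LinearMap.compRight T (Submodule.mkQ (x • (⊤ : Submodule T C)))) (by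
    intro f hf
    rw [Submodule.mem_smul_pointwise_iff_exists] at hf
    obtain ⟨g, -, rfl⟩ := hf
    rw [LinearMap.mem_ker]
    apply LinearMap.ext
    intro n
    simp only [LinearMap.compRight_apply, LinearMap.coe_comp, Function.comp_apply,
      LinearMap.smul_apply, Submodule.mkQ_apply, LinearMap.zero_apply]
    rw [Submodule.Quotient.mk_eq_zero]
    exact Submodule.smul_mem_pointwise_smul _ _ _ Submodule.mem_top)

lemma quotHom_injective (x : T) (hx : IsSMulRegular C x) :
    Function.Injective (quotHom (N := N) (C := C) x) := by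
  rw [← LinearMap.ker_eq_bot, LinearMap.ker_eq_bot']
  intro z hz
  obtain ⟨f, rfl⟩ := Submodule.mkQ_surjective _ z
  have h1 : ∀ n : N, ∃ c : C, x • c = f n := by
    intro n
    have h2 := LinearMap.congr_fun hz n
    simp only [quotHom, Submodule.mkQ_apply, Submodule.liftQ_apply, LinearMap.compRight_apply,
      LinearMap.coe_comp, Function.comp_apply, LinearMap.zero_apply] at h2
    rw [Submodule.Quotient.mk_eq_zero, Submodule.mem_smul_pointwise_iff_exists] at h2
    obtain ⟨c, -, hc⟩ := h2
    exact ⟨c, hc⟩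
  choose g hg using h1
  let g' : N →ₗ[T] C :=
    { toFun := g
      map_add' := fun a b => hx (by
        change x • g (a + b) = x • (g a + g b)
        rw [smul_add, hg, hg, hg, map_add])
      map_smul' := fun t a => hx (by
        change x • g (t • a) = x • (t • g a)
        rw [smul_comm x t, hg, hg, map_smul]) }
  rw [Submodule.mkQ_apply, Submodule.Quotient.mk_eq_zero, Submodule.mem_smul_pointwise_iff_exists]
  refine ⟨g', Submodule.mem_top, ?_⟩
  apply LinearMap.ext
  intro n
  exact hg n

/-- weakly regular sequences of length at most two on `C` are weakly regular on `Hom(N, C)`. -/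
lemma isWeaklyRegular_hom (rs : List T) (hlen : rs.length ≤ 2) (h : IsWeaklyRegular C rs) :
    IsWeaklyRegular (N →ₗ[T] C) rs := by
  match rs, hlen, h with
  | [], _, _ => exact IsWeaklyRegular.nil T _
  | [x], _, h =>
    rw [isWeaklyRegular_singleton_iff] at h ⊢
    exact isSMulRegular_hom x h
  | [x, y], _, h =>
    rw [isWeaklyRegular_cons_iff, isWeaklyRegular_singleton_iff] at h ⊢
    refine ⟨isSMulRegular_hom x h.1, ?_⟩
    exact (isSMulRegular_hom (N := N) y h.2).of_injective (quotHom x) (quotHom_injective x h.1)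
  | _ :: _ :: _ :: _, hl, _ => simp at hl

/-- **depth of `Hom`**: `depth_J Hom(N, C) ≥ min(2, depth_J C)`. -/
theorem le_idealDepth_hom [IsNoetherianRing T] [Module.Finite T C] (J : Ideal T) (k : ℕ) (hk : k ≤ 2)
    (h : (k : ℕ∞) ≤ idealDepth J C) : (k : ℕ∞) ≤ idealDepth J (N →ₗ[T] C) := by
  by_cases hJ : J • (⊤ : Submodule T C) = ⊤
  · obtain ⟨r, hr1, hr0⟩ := Submodule.exists_sub_one_mem_and_smul_eq_zero_of_fg_of_le_smul J
      (⊤ : Submodule T C) Module.Finite.fg_top (le_of_eq hJ.symm)
    have htop : J • (⊤ : Submodule T (N →ₗ[T] C)) = ⊤ := by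
      rw [eq_top_iff]
      intro f _
      have h1 : f = (1 - r) • f := by
        apply LinearMap.ext
        intro n
        rw [LinearMap.smul_apply, sub_smul, one_smul, hr0 (f n) Submodule.mem_top, sub_zero]
      rw [h1]
      refine Submodule.smul_mem_smul ?_ Submodule.mem_top
      have : 1 - r = -(r - 1) := by ring
      rw [this]
      exact J.neg_mem hr1
    rw [idealDepth_eq_top_of_smul_top_eq_top J _ htop]
    exact le_top
  · obtain ⟨rs, hlen, hmem, hreg⟩ := exists_isWeaklyRegular_of_le hJ h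
    have := length_le_idealDepth (I := J) (isWeaklyRegular_hom (N := N) rs (by omega) hreg) hmem
    rwa [hlen] at this

end Hom

section Rees
variable {A : Type u} [CommRing A] [IsNoetherianRing A]

/-- **Rees**: `Ext^t(N, M) ≃ Hom(N, M/(rs)M)` for an `M`-regular sequence `rs` of length `t` in `Ann N`. -/
theorem ext_equiv_hom_quot (N : ModuleCat.{u} A) [Module.Finite A N] (rs : List A) :
    ∀ (M : Type u) [AddCommGroup M] [Module A M] [Module.Finite A M],
      (∀ r ∈ rs, r ∈ Module.annihilator A N) → IsWeaklyRegular M rs →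
      Nonempty (Abelian.Ext.{u} N (ModuleCat.of A M) rs.length ≃ₗ[A]
        (N →ₗ[A] M ⧸ (Ideal.ofList rs • ⊤ : Submodule A M))) := by
  induction rs with
  | nil =>
    intro M _ _ _ _ _
    have hbot : (Ideal.ofList ([] : List A) • ⊤ : Submodule A M) = ⊥ := by
      rw [Ideal.ofList_nil, Submodule.bot_smul]
    have e1 : Abelian.Ext.{u} N (ModuleCat.of A M) 0 ≃ₗ[A] (N →ₗ[A] M) :=
      Abelian.Ext.linearEquiv₀.trans ModuleCat.homLinearEquiv
    exact ⟨e1.trans (LinearEquiv.congrRight (Submodule.quotEquivOfEqBot _ hbot).symm)⟩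
  | cons a rs ih =>
    intro M _ _ _ hmem hreg
    have hreg' := hreg
    rw [isWeaklyRegular_cons_iff] at hreg
    obtain ⟨ha, hrs⟩ := hreg
    have haN : a ∈ Module.annihilator A N := hmem a List.mem_cons_self
    obtain ⟨e1⟩ := ih (QuotSMulTop a M) (fun r hr => hmem r (List.mem_cons_of_mem _ hr)) hrs
    have hdepth : (((a :: rs).length : ℕ) : ℕ∞) ≤ idealDepth (Module.annihilator A N) M :=
      length_le_idealDepth hreg' hmem
    have hlt : ((rs.length : ℕ) : ℕ∞) < idealDepth (Module.annihilator A N) M := by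
      refine lt_of_lt_of_le ?_ hdepth
      rw [List.length_cons]
      exact_mod_cast Nat.lt_succ_self _
    have hsupp : Module.support A N ⊆ PrimeSpectrum.zeroLocus (Module.annihilator A N : Set A) :=
      (Module.support_eq_zeroLocus (R := A) (M := N)).le
    have hvanE : Subsingleton (Abelian.Ext.{u} N (ModuleCat.of A M) rs.length) :=
      subsingleton_ext_of_lt_idealDepth (Module.annihilator A N) M N hsupp rs.length hlt
    have hS := ses3 M a ha
    let δ : Abelian.Ext.{u} N (ModuleCat.of A (QuotSMulTop a M)) rs.length →ₗ[A]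
        Abelian.Ext.{u} N (ModuleCat.of A M) (rs.length + 1) :=
      Abelian.Ext.postcompOfLinear hS.extClass A N rfl
    have hδinj : Function.Injective δ := by
      rw [← LinearMap.ker_eq_bot, LinearMap.ker_eq_bot']
      intro x₃ hx₃
      obtain ⟨x₂, hx₂⟩ := Abelian.Ext.covariant_sequence_exact₃ _ hS x₃ rfl hx₃
      have hx20 : x₂ = 0 := @Subsingleton.elim _ hvanE x₂ 0
      rw [← hx₂, hx20]
      simp
      rfl
    have hδsurj : Function.Surjective δ := by
      intro x₁
      have h0 : x₁.comp (Abelian.Ext.mk₀ (Groth.Agent.S5162.sesOf (L M a)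
          (a • (⊤ : Submodule A M)).mkQ (exact_L_mkQ M a)).f) (add_zero _) = 0 := by
        have h2 : (Groth.Agent.S5162.sesOf (L M a)
            (a • (⊤ : Submodule A M)).mkQ (exact_L_mkQ M a)).f = a • 𝟙 (ModuleCat.of A M) := by
          apply ModuleCat.hom_ext; rfl
        have h3 : a • x₁ = 0 := smul_ext_eq_zero_of_mem_annihilator_left haN x₁
        have h4 := Abelian.Ext.smul_eq_comp_mk₀ x₁ a
        rw [h3] at h4
        rw [h2]
        exact h4.symm
      obtain ⟨x₃, hx₃⟩ := Abelian.Ext.covariant_sequence_exact₁ _ hS x₁ h0 rfl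
      exact ⟨x₃, hx₃⟩
    have e2 := LinearEquiv.ofBijective δ ⟨hδinj, hδsurj⟩
    exact ⟨e2.symm.trans (e1.trans (LinearEquiv.congrRight
      (Submodule.quotOfListConsSMulTopEquivQuotSMulTopInner M a rs).symm))⟩


end Rees

/-- **local `(S_2)` inequality for `Ext^c_T(N, T)`**, `T` Cohen–Macaulay local, `c ≤ grade N`. -/
theorem s2_ext_local (T : Type u) [CommRing T] [IsCohenMacaulayLocalRing T]
    (N : Type u) [AddCommGroup N] [Module T N] [Module.Finite T N] [Nontrivial N] (c : ℕ)
    (hc : (c : ℕ∞) ≤ idealDepth (Module.annihilator T N) T) :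
    min ((2 : ℕ) : WithBot ℕ∞)
        (Module.supportDim T (Abelian.Ext.{u} (ModuleCat.of T N) (ModuleCat.of T T) c)) ≤
      ((depth T (Abelian.Ext.{u} (ModuleCat.of T N) (ModuleCat.of T T) c) : ℕ∞) : WithBot ℕ∞) := by
  set I := Module.annihilator T N with hI
  have hIne : I ≠ ⊤ := by
    intro htop
    have h1 : (1 : T) ∈ I := htop ▸ Submodule.mem_top
    rw [hI, Module.mem_annihilator] at h1
    obtain ⟨x, hx⟩ := exists_ne (0 : N)
    exact hx (by rw [← one_smul T x]; exact h1 x)
  have hIm : I ≤ maximalIdeal T := IsLocalRing.le_maximalIdeal hIne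
  have hItop : I • (⊤ : Submodule T T) ≠ ⊤ := by
    rw [smul_eq_mul, Ideal.mul_top]
    exact hIne
  obtain ⟨rs, hlen, hmem, hreg⟩ := exists_isWeaklyRegular_of_le hItop hc
  subst hlen
  haveI : Module.Finite T (ModuleCat.of T N) := ‹Module.Finite T N›
  obtain ⟨e1⟩ := ext_equiv_hom_quot (ModuleCat.of T N) rs T hmem hreg
  have hmem' : ∀ r ∈ rs, r ∈ maximalIdeal T := fun r hr => hIm (hmem r hr)
  have hM : IsCohenMacaulayModule T T := IsCohenMacaulayLocalRing.supportDim_eq_depth
  obtain ⟨hCM, -⟩ := isCohenMacaulayModule_quot_ofList T hM rs hmem' hreg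
  set C := T ⧸ (Ideal.ofList rs • ⊤ : Submodule T T) with hC
  unfold IsCohenMacaulayModule at hCM
  -- the support
  have hsuppdim : Module.supportDim T (Abelian.Ext.{u} (ModuleCat.of T N) (ModuleCat.of T T) rs.length)
      ≤ Module.supportDim T C := by
    rw [Module.supportDim_eq_of_equiv e1]
    have hsub : Module.support T (ModuleCat.of T N →ₗ[T] C) ⊆ Module.support T C := by
      rw [Module.support_eq_zeroLocus, Module.support_eq_zeroLocus]
      refine PrimeSpectrum.zeroLocus_anti_mono ?_
      intro t ht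
      rw [SetLike.mem_coe, Module.mem_annihilator] at ht ⊢
      intro f
      apply LinearMap.ext
      intro n
      exact ht (f n)
    exact Order.krullDim_le_of_strictMono (fun a => ⟨a.1, hsub a.2⟩) (fun {_ _} lt => lt)
  -- the depth
  obtain ⟨k, hk⟩ : ∃ k : ℕ, (k : ℕ∞) = min 2 (depth T C) := by
    have : min 2 (depth T C) ≠ ⊤ := ne_top_of_le_ne_top (by simp) (min_le_left _ _)
    obtain ⟨k, hk⟩ := ENat.ne_top_iff_exists.mp this
    exact ⟨k, hk⟩
  have hk2 : k ≤ 2 := by
    have : (k : ℕ∞) ≤ 2 := hk ▸ min_le_left _ _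
    exact_mod_cast this
  have hkC : (k : ℕ∞) ≤ idealDepth (maximalIdeal T) C := hk ▸ min_le_right _ _
  have hdepth : (k : ℕ∞) ≤ depth T (Abelian.Ext.{u} (ModuleCat.of T N) (ModuleCat.of T T) rs.length) := by
    unfold depth
    rw [idealDepth_congr e1]
    exact le_idealDepth_hom (maximalIdeal T) k hk2 hkC
  calc min ((2 : ℕ) : WithBot ℕ∞)
        (Module.supportDim T (Abelian.Ext.{u} (ModuleCat.of T N) (ModuleCat.of T T) rs.length))
      ≤ min ((2 : ℕ) : WithBot ℕ∞) (Module.supportDim T C) := min_le_min le_rfl hsuppdim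
    _ = ((min 2 (depth T C) : ℕ∞) : WithBot ℕ∞) := by
        rw [hCM]
        rw [WithBot.coe_min]
        rfl
    _ = ((k : ℕ∞) : WithBot ℕ∞) := by rw [hk]
    _ ≤ _ := by exact_mod_cast hdepth


end Groth.Agent.Lib.helper19.ShriekCM3
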