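import Mathlib
import Groth.Agent.Lib.Helper19.ShriekCM2
import Groth.Agent.Lib.Helper19.ShriekCM3
import Groth.Agent.Lib.Helper26.DepthCR2
import Groth.Agent.Lib.Helper26.LocTrans

/-!
# `(S_2)` for `S⁻¹H^{-r}(ω_{A/R})` over a Cohen–Macaulay point of the base (helper19)

`R → A` finite type with presentation `ψ : P = R[x₁..xₙ] ↠ A`, `ω_{A/R} = φ^!(R)`, `p` a prime of `R` with `R_p` Cohen–Macaulay,
`r` a bound for the transcendence degrees at the minimal primes of `A`, `S` the image of `R ∖ p` in `A`.

* `supportDim_eq_of_surjective`: support dimension along a surjective ring map;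
* `le_idealDepth_atPrime`: `depth_I (P_Q) ≥ c` if `depth P_{Q'} ≥ c` for the primes `Q' ⊆ Q` over `I`;
* `nonempty_HD_equiv_ext`: `H^i(ω_{A/R}) ≃ Ext^{n+i}_P(A, P)` as `P`-modules; `subsingleton_HD_of_neg`, `finite_HD`;
* `s2_at_prime`: the `(S_2)` inequality for `H^{-r}(ω_{A/R})` at a prime `q` of `A` with `q ∩ S = ∅`
  (localize `Ext`, Rees, depth of `Hom`);
* `hasSk_localization`: `S⁻¹H^{-r}(ω_{A/R})` satisfies `(S_2)` over `S⁻¹A`.
-/

set_option autoImplicit false
universe u
open CategoryTheory CategoryTheory.Limits DerivedCategory Pretriangulated TensorProduct AlgebraicGeometry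

attribute [local instance] HasDerivedCategory.standard

namespace Groth.Agent.Lib.helper19.ShriekCM4

open Groth.Agent.Lib.helper23 Groth.Agent.Lib.helper23.RAdj Groth.Agent.Lib.helper23.KzReg
  Groth.Agent.Lib.helper19.Shriek1 Groth.Agent.Lib.helper19.Shriek4 Groth.Agent.Lib.helper19.ShriekCM1
  Groth.Agent.Lib.helper19.ShriekCM2 Groth.Agent.Lib.helper19.ShriekCM3 LocCoh
  Groth.Agent.Lib.helper3.DimIneq Groth.Agent.Lib.helper26.Depth Groth.Agent.Lib.helper19.KLoc

/-- support dimension does not change along a surjective ring map (copied from helper26's `SkFlat.supportDim_eq_of_surjective`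
to avoid its imports). -/
theorem supportDim_eq_of_surjective {B F : Type u} [CommRing B] [CommRing F] [Algebra B F]
    (hsurj : Function.Surjective (algebraMap B F))
    (X : Type u) [AddCommGroup X] [Module F X] [Module B X] [IsScalarTower B F X]
    [Module.Finite F X] :
    Module.supportDim B X = Module.supportDim F X := by
  have hfinF : Module.Finite B F := Module.Finite.of_surjective (Algebra.linearMap B F) hsurj
  have hfin : Module.Finite B X := Module.Finite.trans F X
  rw [Module.supportDim_eq_ringKrullDim_quotient_annihilator,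
    Module.supportDim_eq_ringKrullDim_quotient_annihilator]
  have hann : Module.annihilator B X = (Module.annihilator F X).comap (algebraMap B F) := by
    ext r
    rw [Ideal.mem_comap, Module.mem_annihilator, Module.mem_annihilator]
    constructor
    · intro h x
      rw [algebraMap_smul]
      exact h x
    · intro h x
      rw [← algebraMap_smul F r x]
      exact h x
  rw [hann]
  have hsurj2 : Function.Surjective
      ((Ideal.Quotient.mk (Module.annihilator F X)).comp (algebraMap B F)) :=
    Ideal.Quotient.mk_surjective.comp hsurj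
  have hker : RingHom.ker ((Ideal.Quotient.mk (Module.annihilator F X)).comp (algebraMap B F)) =
      (Module.annihilator F X).comap (algebraMap B F) := by
    ext x
    rw [RingHom.mem_ker, RingHom.comp_apply, Ideal.Quotient.eq_zero_iff_mem, Ideal.mem_comap]
  exact ringKrullDim_eq_of_ringEquiv
    ((Ideal.quotEquivOfEq hker.symm).trans (RingHom.quotientKerEquivOfSurjective hsurj2))


variable (P : Type u) [CommRing P] [IsNoetherianRing P]

/-- `depth_I (P_Q) ≥ c` as soon as `depth P_{Q'} ≥ c` for all primes `Q' ⊆ Q` of `P` containing the contraction of `I`. -/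
theorem le_idealDepth_atPrime (Q : Ideal P) [Q.IsPrime] (I : Ideal (Localization.AtPrime Q)) (c : ℕ)
    (hdepth : ∀ (Q' : Ideal P) [Q'.IsPrime], I.comap (algebraMap P (Localization.AtPrime Q)) ≤ Q' → Q' ≤ Q →
      (c : ℕ∞) ≤ depth (Localization.AtPrime Q') (Localization.AtPrime Q')) :
    (c : ℕ∞) ≤ idealDepth I (Localization.AtPrime Q) := by
  set B := Localization.AtPrime Q with hB
  set N' := LocalizedModule Q.primeCompl P with hN'
  let e0 : B ≃ₗ[P] N' :=
    IsLocalizedModule.linearEquiv Q.primeCompl (Algebra.linearMap P B)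
      (LocalizedModule.mkLinearMap Q.primeCompl P)
  let e : B ≃ₗ[B] N' := e0.extendScalarsOfIsLocalization Q.primeCompl B
  rw [idealDepth_congr e, idealDepth_eq_iInf_depth_localization]
  refine le_iInf₂ fun Q'' hQ'' => ?_
  haveI := Q''.isPrime
  rw [depth_localization_localization Q P Q''.asIdeal]
  set Q' : Ideal P := Q''.asIdeal.comap (algebraMap P B) with hQ'
  haveI : Q'.IsPrime := Ideal.comap_isPrime _ _
  rw [← depth_eq_of_isLocalizedModule Q' P (Localization.AtPrime Q') (Localization.AtPrime Q')
    (Algebra.linearMap P (Localization.AtPrime Q'))]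
  refine hdepth Q' (Ideal.comap_mono hQ'') ?_
  have h1 : Q''.asIdeal ≤ IsLocalRing.maximalIdeal B := IsLocalRing.le_maximalIdeal Q''.isPrime.ne_top
  have h2 := Ideal.comap_mono (f := algebraMap P B) h1
  have h3 : (IsLocalRing.maximalIdeal B).comap (algebraMap P B) = Q :=
    IsLocalization.AtPrime.under_maximalIdeal B Q
  rw [h3] at h2
  exact h2


variable (R A : Type u) [CommRing R] [CommRing A] [Algebra R A] (n : ℕ)
  (ψ : MvPolynomial (Fin n) R →ₐ[R] A)
  [DRing.HasLBaseChange (algebraMap R (MvPolynomial (Fin n) R))]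
  (Rψ : Dual.D (MvPolynomial (Fin n) R) ⥤ Dual.D A) (adj : DRing.restrictD ψ.toRingHom ⊣ Rψ)

include adj in
/-- `H^i(ω_{A/R}) ≃ Ext^{n+i}_P(A, P)` as `P`-modules. -/
theorem nonempty_HD_equiv_ext (c : ℕ) (i : ℤ) (hi : (n : ℤ) + i = c) :
    letI : Algebra (MvPolynomial (Fin n) R) A := ψ.toRingHom.toAlgebra
    letI : Module (MvPolynomial (Fin n) R) (Dual.HD A (Dual2.shriekVia n Rψ (Dual.inD R R)) i) :=
      Module.compHom _ ψ.toRingHom
    Nonempty (Dual.HD A (Dual2.shriekVia n Rψ (Dual.inD R R)) i ≃ₗ[MvPolynomial (Fin n) R]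
      Abelian.Ext.{u} (ModuleCat.of (MvPolynomial (Fin n) R) A)
        (ModuleCat.of (MvPolynomial (Fin n) R) (MvPolynomial (Fin n) R)) c) := by
  letI : Algebra (MvPolynomial (Fin n) R) A := ψ.toRingHom.toAlgebra
  letI : Module (MvPolynomial (Fin n) R) (Dual.HD A (Dual2.shriekVia n Rψ (Dual.inD R R)) i) :=
    Module.compHom _ ψ.toRingHom
  obtain ⟨e0⟩ := nonempty_HD_shriekVia_equiv R A n ψ Rψ adj i
  rw [hi] at e0
  let e1 := (Abelian.Ext.homLinearEquiv (R := MvPolynomial (Fin n) R)
    (X := ModuleCat.of (MvPolynomial (Fin n) R) A)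
    (Y := ModuleCat.of (MvPolynomial (Fin n) R) (MvPolynomial (Fin n) R)) (n := c))
  exact ⟨e0.trans e1.symm⟩


include adj in
theorem subsingleton_HD_of_neg (i : ℤ) (hi : (n : ℤ) + i < 0) :
    Subsingleton (Dual.HD A (Dual2.shriekVia n Rψ (Dual.inD R R)) i) := by
  obtain ⟨e0⟩ := nonempty_HD_shriekVia_equiv R A n ψ Rψ adj i
  refine ⟨fun x y => ?_⟩
  apply e0.injective
  rw [hom_single_shift_eq_zero _ _ _ hi (e0 x), hom_single_shift_eq_zero _ _ _ hi (e0 y)]

variable [IsNoetherianRing R] [IsNoetherianRing A] (hψ : Function.Surjective ψ)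

include adj hψ in
theorem finite_HD (i : ℤ) : Module.Finite A (Dual.HD A (Dual2.shriekVia n Rψ (Dual.inD R R)) i) := by
  by_cases hi : (n : ℤ) + i < 0
  · haveI := subsingleton_HD_of_neg R A n ψ Rψ adj i hi
    infer_instance
  · obtain ⟨c, hc⟩ : ∃ c : ℕ, (n : ℤ) + i = c := ⟨((n : ℤ) + i).toNat, by omega⟩
    letI : Algebra (MvPolynomial (Fin n) R) A := ψ.toRingHom.toAlgebra
    letI : Module (MvPolynomial (Fin n) R) (Dual.HD A (Dual2.shriekVia n Rψ (Dual.inD R R)) i) :=
      Module.compHom _ ψ.toRingHom
    haveI : IsScalarTower (MvPolynomial (Fin n) R) A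
        (Dual.HD A (Dual2.shriekVia n Rψ (Dual.inD R R)) i) :=
      IsScalarTower.of_algebraMap_smul fun _ _ => rfl
    obtain ⟨e⟩ := nonempty_HD_equiv_ext R A n ψ Rψ adj c i hc
    have hπ : Function.Surjective (algebraMap (MvPolynomial (Fin n) R) A) := hψ
    haveI : Module.Finite (MvPolynomial (Fin n) R) A :=
      Module.Finite.of_surjective (Algebra.linearMap (MvPolynomial (Fin n) R) A) hπ
    haveI : Module.Finite (MvPolynomial (Fin n) R)
        (Dual.HD A (Dual2.shriekVia n Rψ (Dual.inD R R)) i) := Module.Finite.equiv e.symm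
    exact Module.Finite.of_restrictScalars_finite (MvPolynomial (Fin n) R) A _


variable (p : Ideal R) [p.IsPrime] [IsCohenMacaulayLocalRing (Localization.AtPrime p)] (r : ℕ)
  (hr : ∀ q : PrimeSpectrum A, q.asIdeal ∈ minimalPrimes A →
    td (Ideal.quotientMap q.asIdeal (algebraMap R A) le_rfl) ≤ (r : Cardinal.{u}))

include adj hψ hr in
/-- the `(S_2)` inequality for `H^{-r}(ω_{A/R})` at a prime `q` of `A` not meeting the image of `R ∖ p`. -/
theorem s2_at_prime (q : Ideal A) [q.IsPrime]
    (hq : Disjoint (q : Set A) (Algebra.algebraMapSubmonoid A p.primeCompl : Set A)) :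
    min ((2 : ℕ) : WithBot ℕ∞) (Module.supportDim (Localization.AtPrime q)
        (LocalizedModule q.primeCompl (Dual.HD A (Dual2.shriekVia n Rψ (Dual.inD R R)) (-(r : ℤ))))) ≤
      ((depth (Localization.AtPrime q)
        (LocalizedModule q.primeCompl (Dual.HD A (Dual2.shriekVia n Rψ (Dual.inD R R)) (-(r : ℤ)))) : ℕ∞) :
          WithBot ℕ∞) := by
  by_cases hnr : n < r
  · haveI := subsingleton_HD_of_neg R A n ψ Rψ adj (-(r : ℤ)) (by omega)
    haveI : Subsingleton (LocalizedModule q.primeCompl
        (Dual.HD A (Dual2.shriekVia n Rψ (Dual.inD R R)) (-(r : ℤ)))) := inferInstance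
    rw [Module.supportDim_eq_bot_of_subsingleton]
    simp
  · push Not at hnr
    set H := Dual.HD A (Dual2.shriekVia n Rψ (Dual.inD R R)) (-(r : ℤ)) with hH
    haveI hfinH : Module.Finite A H := finite_HD R A n ψ Rψ adj hψ (-(r : ℤ))
    letI : Algebra (MvPolynomial (Fin n) R) A := ψ.toRingHom.toAlgebra
    letI : Module (MvPolynomial (Fin n) R) H := Module.compHom _ ψ.toRingHom
    haveI : IsScalarTower (MvPolynomial (Fin n) R) A H :=
      IsScalarTower.of_algebraMap_smul fun _ _ => rfl
    obtain ⟨e⟩ := nonempty_HD_equiv_ext R A n ψ Rψ adj (n - r) (-(r : ℤ)) (by omega)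
    have hπ : Function.Surjective (algebraMap (MvPolynomial (Fin n) R) A) := hψ
    letI := algLoc (algebraMap (MvPolynomial (Fin n) R) A) q
    letI := modLoc (algebraMap (MvPolynomial (Fin n) R) A) H q
    obtain ⟨ε⟩ := Groth.Agent.Lib.helper19.CanMod.loc_ext hπ H q (n - r) e
    set Q := q.comap (algebraMap (MvPolynomial (Fin n) R) A) with hQ
    -- `P_Q` is Cohen–Macaulay
    have hannQ : ∀ (Q' : Ideal (MvPolynomial (Fin n) R)), RingHom.ker ψ.toRingHom ≤ Q' →
        Module.annihilator (MvPolynomial (Fin n) R) (BA ψ.toRingHom) ≤ Q' := by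
      intro Q' hker a ha
      apply hker
      have h1 := Module.mem_annihilator.mp ha (show BA ψ.toRingHom from (1 : A))
      have h2 : ψ.toRingHom a * 1 = 0 := h1
      rw [mul_one] at h2
      exact h2
    have hkerQ : RingHom.ker ψ.toRingHom ≤ Q := by
      intro a ha
      rw [hQ, Ideal.mem_comap]
      have : algebraMap (MvPolynomial (Fin n) R) A a = 0 := ha
      rw [this]
      exact q.zero_mem
    have hdisjQ : Disjoint (Q : Set (MvPolynomial (Fin n) R))
        (Algebra.algebraMapSubmonoid (MvPolynomial (Fin n) R) p.primeCompl : Set _) := by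
      rw [Set.disjoint_left]
      rintro t htQ ⟨a, ha, rfl⟩
      refine Set.disjoint_left.mp hq (show algebraMap (MvPolynomial (Fin n) R) A
        (algebraMap R (MvPolynomial (Fin n) R) a) ∈ q from htQ) ⟨a, ha, ?_⟩
      exact (ψ.commutes a).symm
    obtain ⟨hcmT, -⟩ := le_depth_of_disjoint R A n ψ hψ p r hr Q (hannQ Q hkerQ) hdisjQ
    haveI := hcmT
    haveI hfinAq : Module.Finite (Localization.AtPrime Q) (Localization.AtPrime q) :=
      Module.Finite.of_surjective
        (Algebra.linearMap (Localization.AtPrime Q) (Localization.AtPrime q)) (locHom_surjective q hπ)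
    -- the grade
    have hc : ((n - r : ℕ) : ℕ∞) ≤ idealDepth
        (Module.annihilator (Localization.AtPrime Q) (Localization.AtPrime q)) (Localization.AtPrime Q) := by
      refine le_idealDepth_atPrime (MvPolynomial (Fin n) R) Q _ (n - r) (fun Q' _ hle hQ'Q => ?_)
      refine (le_depth_of_disjoint R A n ψ hψ p r hr Q' (hannQ Q' ?_)
        (Set.disjoint_of_subset_left hQ'Q hdisjQ)).2
      intro a ha
      apply hle
      rw [Ideal.mem_comap, Module.mem_annihilator]
      intro y
      change locHom (algebraMap (MvPolynomial (Fin n) R) A) q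
        (algebraMap (MvPolynomial (Fin n) R) (Localization.AtPrime Q) a) * y = 0
      rw [Localization.localRingHom_to_map]
      have : algebraMap (MvPolynomial (Fin n) R) A a = 0 := ha
      rw [this, map_zero, zero_mul]
    have key := s2_ext_local (Localization.AtPrime Q) (Localization.AtPrime q) (n - r) hc
    -- transfers
    haveI : IsScalarTower (Localization.AtPrime Q) (Localization.AtPrime q)
        (LocalizedModule q.primeCompl H) := IsScalarTower.of_algebraMap_smul fun _ _ => rfl
    haveI : Module.Finite (Localization.AtPrime q) (LocalizedModule q.primeCompl H) := inferInstance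
    haveI : Module.Finite (Localization.AtPrime Q) (LocalizedModule q.primeCompl H) :=
      Module.Finite.trans (Localization.AtPrime q) _
    rw [← supportDim_eq_of_surjective (B := Localization.AtPrime Q) (F := Localization.AtPrime q)
      (locHom_surjective q hπ) (LocalizedModule q.primeCompl H),
      ← depth_eq_of_isLocalHom (A := Localization.AtPrime Q) (B := Localization.AtPrime q)
        (LocalizedModule q.primeCompl H), Module.supportDim_eq_of_equiv ε]
    unfold depth
    rw [idealDepth_congr ε]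
    exact key


include adj hψ hr in
/-- **`S⁻¹H^{-r}(ω_{A/R})` satisfies `(S_2)`** over `S⁻¹A`, `S` the image of `R ∖ p`, `R_p` Cohen–Macaulay. -/
theorem hasSk_localization :
    HasSk 2 (Localization (Algebra.algebraMapSubmonoid A p.primeCompl))
      (LocalizedModule (Algebra.algebraMapSubmonoid A p.primeCompl)
        (Dual.HD A (Dual2.shriekVia n Rψ (Dual.inD R R)) (-(r : ℤ)))) := by
  intro 𝔮 h𝔮
  haveI hfinH : Module.Finite A (Dual.HD A (Dual2.shriekVia n Rψ (Dual.inD R R)) (-(r : ℤ))) :=
    finite_HD R A n ψ Rψ adj hψ (-(r : ℤ))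
  obtain ⟨h1, h2⟩ := depth_supportDim_localization_submonoid
    (Algebra.algebraMapSubmonoid A p.primeCompl)
    (Dual.HD A (Dual2.shriekVia n Rψ (Dual.inD R R)) (-(r : ℤ))) 𝔮
  rw [h1, h2]
  refine s2_at_prime R A n ψ Rψ adj hψ p r hr
    (𝔮.comap (algebraMap A (Localization (Algebra.algebraMapSubmonoid A p.primeCompl)))) ?_
  rw [Set.disjoint_left]
  intro a ha hS
  have hu : IsUnit (algebraMap A (Localization (Algebra.algebraMapSubmonoid A p.primeCompl)) a) :=
    IsLocalization.map_units _ (⟨a, hS⟩ : Algebra.algebraMapSubmonoid A p.primeCompl)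
  exact h𝔮.ne_top (Ideal.eq_top_of_isUnit_mem _ ha hu)

end Groth.Agent.Lib.helper19.ShriekCM4
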