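import Mathlib
import Groth.Agent.S1786
import Groth.Agent.S8953
import Groth.Agent.Lib.Helper19.ShriekCM4
import Groth.Agent.Lib.Helper19.QFSynt1
import Groth.Agent.Lib.Helper19.QFSynt3

/-!
# QFSynt4 (helper19): flat quasi-finite with Gorenstein fibres ⇒ `ω_{B/A}` invertible

`invertible_omega_of_gorenstein_fibres`: for `A → B' → B` (finite, then open immersion), `A → B` flat
with Gorenstein fibres, the module `B ⊗[B'] Hom_A(B', A)` is an invertible `B`-module.
Uses S1786 (Gorenstein fibres ⇔ `φ^!(A)` locally a shifted line), S8953 (`H^0(φ^!A) ≃ ω`),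
QFSynt3 (vanishing outside degree 0) and QFSynt1 (Zariski-local invertibility).
-/

set_option autoImplicit false
universe u
open CategoryTheory CategoryTheory.Limits AlgebraicGeometry DerivedCategory
open scoped TensorProduct
attribute [local instance] HasDerivedCategory.standard

namespace Groth.Agent.Lib.helper19.QFSynt4

open Groth.Agent.Lib.helper19.QFSynt1 Groth.Agent.Lib.helper19.QFSynt3

/-- **flat quasi-finite with Gorenstein fibres ⇒ `ω_{B/A}` invertible.** -/
theorem invertible_omega_of_gorenstein_fibres (A B B' : Type u) [CommRing A] [CommRing B] [CommRing B']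
    [IsNoetherianRing A] [IsNoetherianRing B] [Algebra A B] [Algebra A B'] [Algebra B' B]
    [IsScalarTower A B' B] [Module.Finite A B'] [Module.Flat A B]
    (hopen : IsOpenImmersion (Spec.map (CommRingCat.ofHom (algebraMap B' B))))
    (n : ℕ) (ψ : MvPolynomial (Fin n) A →ₐ[A] B) (hψ : Function.Surjective ψ)
    (hG : ∀ p : PrimeSpectrum A, LocCoh.IsGorensteinRing (B ⊗[A] p.asIdeal.ResidueField)) :
    Module.Invertible B (B ⊗[B'] Disc.Omega A B') := by
  classical
  haveI : DRing.HasLBaseChange (algebraMap A (MvPolynomial (Fin n) A)) :=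
    Groth.Agent.Lib.helper13.RKF.hasLBaseChange _
  obtain ⟨Rψ, ⟨adj⟩⟩ := Groth.Agent.Lib.helper23.RHomEx.exists_rightAdjoint_restrictD ψ.toRingHom
  haveI hL : ∀ f : B, DRing.HasLBaseChange (algebraMap B (Localization.Away f)) := fun f =>
    Groth.Agent.Lib.helper13.RKF.hasLBaseChange _
  have h1786 := (Groth.Agent.S1786.result A B n ψ hψ Rψ adj).mp hG
  obtain ⟨e0⟩ := Groth.Agent.S8953.result A B B' hopen n ψ hψ Rψ adj
  set K := Dual2.shriekVia n Rψ (Dual.inD A A) with hK
  have hvan := subsingleton_HD_shriekVia_of_ne A B B' hopen n ψ hψ Rψ adj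
  haveI hfin0 : Module.Finite B (Dual.HD B K 0) :=
    Groth.Agent.Lib.helper19.ShriekCM4.finite_HD A B n ψ Rψ adj hψ 0
  haveI : Module.Finite B (B ⊗[B'] Disc.Omega A B') := Module.Finite.equiv e0
  haveI : Module.FinitePresentation B (B ⊗[B'] Disc.Omega A B') :=
    Module.finitePresentation_of_finite B _
  apply invertible_of_forall_exists_away
  intro q
  obtain ⟨f, hf, m, ⟨ι⟩⟩ := h1786 q
  refine ⟨f, hf, ?_⟩
  set Bf := Localization.Away f with hBf
  haveI : Nontrivial Bf := by
    have hdisj : Disjoint (Submonoid.powers f : Set B) (q.asIdeal : Set B) := by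
      rw [Set.disjoint_left]
      rintro x ⟨k, rfl⟩ hx
      exact hf (q.isPrime.mem_of_pow_mem k hx)
    have hne : (q.asIdeal.map (algebraMap B Bf)) ≠ ⊤ :=
      (IsLocalization.isPrime_of_isPrime_disjoint (Submonoid.powers f) Bf q.asIdeal q.isPrime hdisj).ne_top
    by_contra hnt
    rw [not_nontrivial_iff_subsingleton] at hnt
    exact hne (Subsingleton.elim _ _)
  haveI : PreservesFiniteLimits (ModuleCat.extendScalars.{u, u, u} (algebraMap B Bf)) :=
    Groth.Agent.Lib.helper23.FlatBC.preservesFiniteLimits_extendScalars_algebraMap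
  have isoK : ∀ k : ℤ, (ModuleCat.extendScalars.{u, u, u} (algebraMap B Bf)).obj
      ((homologyFunctor (ModuleCat.{u} B) k).obj K) ≅
      (homologyFunctor (ModuleCat.{u} Bf) (m + k)).obj (Dual.inD Bf Bf) := fun k =>
    (Groth.Agent.Lib.helper23.FlatBC.homologyExtDIso (algebraMap B Bf) K k).symm ≪≫
      (homologyFunctor (ModuleCat.{u} Bf) k).mapIso
        ((Groth.Agent.Lib.helper23.FlatBC.lbcIso (algebraMap B Bf)).app K).symm ≪≫
      (homologyFunctor (ModuleCat.{u} Bf) k).mapIso ι ≪≫
      ((homologyFunctor (ModuleCat.{u} Bf) 0).shiftIso m k (m + k) rfl).app _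
  have iso0 : (homologyFunctor (ModuleCat.{u} Bf) 0).obj (Dual.inD Bf Bf) ≅ ModuleCat.of Bf Bf :=
    (singleFunctorCompHomologyFunctorIso (ModuleCat.{u} Bf) 0).app (ModuleCat.of Bf Bf)
  have hm : m = 0 := by
    by_contra hm
    haveI := hvan (-m) (by omega)
    have h1 : IsZero ((ModuleCat.extendScalars.{u, u, u} (algebraMap B Bf)).obj
        ((homologyFunctor (ModuleCat.{u} B) (-m)).obj K)) :=
      (ModuleCat.extendScalars.{u, u, u} (algebraMap B Bf)).map_isZero
        (ModuleCat.isZero_of_subsingleton _)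
    have h2 := h1.of_iso (isoK (-m)).symm
    have h3 : m + -m = 0 := by ring
    rw [h3] at h2
    have h4 := h2.of_iso iso0.symm
    rw [ModuleCat.isZero_iff_subsingleton] at h4
    exact not_subsingleton Bf h4
  subst hm
  have e1 := (isoK 0 ≪≫ (by rw [zero_add]) ≪≫ iso0).toLinearEquiv
  have e2 := Groth.Agent.Lib.helper19.BassFlat.extendScalarsEquiv B Bf
    ((homologyFunctor (ModuleCat.{u} B) 0).obj K)
  exact ⟨(TensorProduct.AlgebraTensorModule.congr (LinearEquiv.refl Bf Bf) e0.symm).trans
    (e2.symm.trans e1)⟩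

end Groth.Agent.Lib.helper19.QFSynt4
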