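import Mathlib
import Groth.Agent.S1786
import Groth.Agent.S8953
import Groth.Agent.Lib.Helper19.ShriekCM4
import Groth.Agent.Lib.Helper19.QFSynt1
import Groth.Agent.Lib.Helper19.QFSynt3
import Groth.Agent.Lib.Helper19.QFSynt4

/-!
# OmegaFib1 (helper19): invertible `ω_{B/A}` ⇒ Gorenstein fibres (flat quasi-finite case)

* `nonempty_iso_inD_shift_zero`: an object of `D(R)` with cohomology `R` in degree `0` only is `R[0]`;
* `exists_away_equiv_of_invertible`: an invertible module is free of rank one near any prime;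
* `gorenstein_fibres_of_invertible_omega`: converse of `QFSynt4.invertible_omega_of_gorenstein_fibres`
  (through S1786);
* `isOpenImmersion_of_isPushout`: open immersions of affine schemes are stable under cobase change;
* `tensorResidueFieldEquiv`: `S ⊗[k] κ(p) ≃+* S` over a field `k`.
-/

set_option autoImplicit false
universe u
open CategoryTheory CategoryTheory.Limits AlgebraicGeometry DerivedCategory
open scoped TensorProduct
attribute [local instance] HasDerivedCategory.standard

namespace Groth.Agent.Lib.helper19.OmegaFib1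


open Groth.Agent.Lib.helper19.QFSynt1 Groth.Agent.Lib.helper19.QFSynt3

/-- an object of `D(R)` with cohomology `R` in degree `0` and zero elsewhere is `R[0]`. -/
theorem nonempty_iso_inD_shift_zero (R : Type u) [CommRing R] (L : Dual.D R)
    (h0 : ∀ i : ℤ, i ≠ 0 → IsZero ((homologyFunctor (ModuleCat.{u} R) i).obj L))
    (e : (homologyFunctor (ModuleCat.{u} R) 0).obj L ≅ ModuleCat.of R R) :
    Nonempty (L ≅ (Dual.inD R R)⟦(0 : ℤ)⟧) := by
  haveI : L.IsLE 0 := (DerivedCategory.isLE_iff L 0).2 (fun j hj => h0 j (by omega))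
  haveI : L.IsGE 0 := (DerivedCategory.isGE_iff L 0).2 (fun j hj => h0 j (by omega))
  obtain ⟨M, ⟨eM⟩⟩ := DerivedCategory.exists_iso_singleFunctor_obj_of_isGE_of_isLE L 0
  have eH : M ≅ ModuleCat.of R R :=
    ((singleFunctorCompHomologyFunctorIso (ModuleCat.{u} R) 0).app M).symm ≪≫
      (homologyFunctor (ModuleCat.{u} R) 0).mapIso eM.symm ≪≫ e
  exact ⟨eM ≪≫ (DerivedCategory.singleFunctor (ModuleCat.{u} R) 0).mapIso eH ≪≫
    ((shiftFunctorZero (Dual.D R) ℤ).app _).symm⟩

/-- an invertible module is free of rank one on a basic open neighbourhood of any prime. -/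
theorem exists_away_equiv_of_invertible {B : Type u} [CommRing B] (M : Type u) [AddCommGroup M]
    [Module B M] [Module.Invertible B M] (q : PrimeSpectrum B) :
    ∃ f : B, f ∉ q.asIdeal ∧
      Nonempty ((Localization.Away f) ⊗[B] M ≃ₗ[Localization.Away f] Localization.Away f) := by
  obtain ⟨s, hs, hfree⟩ := Module.Invertible.exists_finset_free_localization (R := B) (M := M)
  have : ∃ r ∈ s, r ∉ q.asIdeal := by
    by_contra hcon
    push Not at hcon
    have hle : Ideal.span (s : Set B) ≤ q.asIdeal := Ideal.span_le.mpr (fun r hr => hcon r hr)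
    rw [hs] at hle
    exact q.isPrime.ne_top (top_le_iff.mp hle)
  obtain ⟨r, hr, hrq⟩ := this
  refine ⟨r, hrq, ?_⟩
  haveI := hfree r hr
  obtain ⟨e⟩ := (Module.Invertible.free_iff_linearEquiv
    (R := Localization.Away r) (M := LocalizedModule.Away r M)).mp inferInstance
  have e2 : (Localization.Away r) ⊗[B] M ≃ₗ[Localization.Away r] LocalizedModule.Away r M :=
    (IsLocalizedModule.isBaseChange (Submonoid.powers r) (Localization.Away r)
      (LocalizedModule.mkLinearMap (Submonoid.powers r) M)).equiv
  exact ⟨e2.trans e⟩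


/-- **converse of `QFSynt4`:** flat quasi-finite with invertible `ω_{B/A}` ⇒ Gorenstein fibres. -/
theorem gorenstein_fibres_of_invertible_omega (A B B' : Type u) [CommRing A] [CommRing B] [CommRing B']
    [IsNoetherianRing A] [IsNoetherianRing B] [Algebra A B] [Algebra A B'] [Algebra B' B]
    [IsScalarTower A B' B] [Module.Finite A B'] [Module.Flat A B]
    (hopen : IsOpenImmersion (Spec.map (CommRingCat.ofHom (algebraMap B' B))))
    (n : ℕ) (ψ : MvPolynomial (Fin n) A →ₐ[A] B) (hψ : Function.Surjective ψ)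
    (hinv : Module.Invertible B (B ⊗[B'] Disc.Omega A B')) :
    ∀ p : PrimeSpectrum A, LocCoh.IsGorensteinRing (B ⊗[A] p.asIdeal.ResidueField) := by
  classical
  haveI : DRing.HasLBaseChange (algebraMap A (MvPolynomial (Fin n) A)) :=
    Groth.Agent.Lib.helper13.RKF.hasLBaseChange _
  obtain ⟨Rψ, ⟨adj⟩⟩ := Groth.Agent.Lib.helper23.RHomEx.exists_rightAdjoint_restrictD ψ.toRingHom
  haveI hL : ∀ f : B, DRing.HasLBaseChange (algebraMap B (Localization.Away f)) := fun f =>
    Groth.Agent.Lib.helper13.RKF.hasLBaseChange _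
  refine (Groth.Agent.S1786.result A B n ψ hψ Rψ adj).mpr (fun q => ?_)
  obtain ⟨e0⟩ := Groth.Agent.S8953.result A B B' hopen n ψ hψ Rψ adj
  set K := Dual2.shriekVia n Rψ (Dual.inD A A) with hK
  have hvan := subsingleton_HD_shriekVia_of_ne A B B' hopen n ψ hψ Rψ adj
  haveI := hinv
  obtain ⟨f, hf, ⟨ef⟩⟩ := exists_away_equiv_of_invertible (B ⊗[B'] Disc.Omega A B') q
  refine ⟨f, hf, 0, ?_⟩
  set Bf := Localization.Away f with hBf
  haveI : PreservesFiniteLimits (ModuleCat.extendScalars.{u, u, u} (algebraMap B Bf)) :=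
    Groth.Agent.Lib.helper23.FlatBC.preservesFiniteLimits_extendScalars_algebraMap
  refine nonempty_iso_inD_shift_zero Bf _ (fun i hi => ?_) ?_
  · haveI := hvan i hi
    have h1 : IsZero ((ModuleCat.extendScalars.{u, u, u} (algebraMap B Bf)).obj
        ((homologyFunctor (ModuleCat.{u} B) i).obj K)) :=
      (ModuleCat.extendScalars.{u, u, u} (algebraMap B Bf)).map_isZero
        (ModuleCat.isZero_of_subsingleton _)
    exact (h1.of_iso (Groth.Agent.Lib.helper23.FlatBC.homologyExtDIso (algebraMap B Bf) K i)).of_iso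
      ((homologyFunctor (ModuleCat.{u} Bf) i).mapIso
        ((Groth.Agent.Lib.helper23.FlatBC.lbcIso (algebraMap B Bf)).app K))
  · refine (homologyFunctor (ModuleCat.{u} Bf) 0).mapIso
        ((Groth.Agent.Lib.helper23.FlatBC.lbcIso (algebraMap B Bf)).app K) ≪≫
      Groth.Agent.Lib.helper23.FlatBC.homologyExtDIso (algebraMap B Bf) K 0 ≪≫ ?_
    have e2 := Groth.Agent.Lib.helper19.BassFlat.extendScalarsEquiv B Bf
      ((homologyFunctor (ModuleCat.{u} B) 0).obj K)
    exact (e2.trans ((TensorProduct.AlgebraTensorModule.congr (LinearEquiv.refl Bf Bf) e0).trans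
      ef)).toModuleIso



/-- open immersions of affine schemes are stable under cobase change of rings. -/
theorem isOpenImmersion_of_isPushout (R S R' S' : Type u) [CommRing R] [CommRing S] [CommRing R']
    [CommRing S'] [Algebra R S] [Algebra R R'] [Algebra S S'] [Algebra R' S'] [Algebra R S']
    [IsScalarTower R S S'] [IsScalarTower R R' S'] [Algebra.IsPushout R S R' S']
    (h : IsOpenImmersion (Spec.map (CommRingCat.ofHom (algebraMap R S)))) :
    IsOpenImmersion (Spec.map (CommRingCat.ofHom (algebraMap R' S'))) := by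
  have sq := isPullback_SpecMap_of_isPushout _ _ _ _
    (CommRingCat.isPushout_of_isPushout R S R' S')
  exact MorphismProperty.of_isPullback (P := @IsOpenImmersion) sq h

/-- over a field `k`, `S ⊗[k] κ(p) ≃ S` for the (unique) prime `p` of `k`. -/
noncomputable def tensorResidueFieldEquiv (k : Type u) [Field k] (p : PrimeSpectrum k)
    (S : Type u) [CommRing S] [Algebra k S] : S ⊗[k] p.asIdeal.ResidueField ≃+* S := by
  haveI : p.asIdeal.IsMaximal := Ideal.IsPrime.isMaximal' inferInstance
  have hbij : Function.Bijective (algebraMap k p.asIdeal.ResidueField) :=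
    ⟨(algebraMap k p.asIdeal.ResidueField).injective,
      Ideal.algebraMap_residueField_surjective p.asIdeal⟩
  let e : k ≃ₐ[k] p.asIdeal.ResidueField := AlgEquiv.ofBijective (Algebra.ofId k _) hbij
  exact ((Algebra.TensorProduct.congr (AlgEquiv.refl (R := k) (A₁ := S)) e.symm).trans
    (Algebra.TensorProduct.rid k k S)).toRingEquiv


end Groth.Agent.Lib.helper19.OmegaFib1
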