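import Mathlib
import Groth.Agent.S1786
import Groth.Agent.Lib.Helper19.ShriekCM4
import Groth.Agent.Lib.Helper19.QFSynt1
import Groth.Agent.Lib.Helper19.OmegaFib1
import Groth.Agent.Lib.Helper23.RHomEx
import Groth.Agent.Lib.Helper13.RKF2

/-!
# GorExt1 (helper19): Gorenstein fibres versus invertibility of the single cohomology of `ω_{A/R}`

* `nonempty_iso_inD_shift`: an object of `D(R)` with cohomology `R` in degree `d` only is `R[-d]`;
* `gorenstein_fibres_iff_invertible_HD`: for `R → A` flat of finite type (Noetherian) with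
  `H^i(ω_{A/R}) = 0` for `i ≠ d`: the fibres are Gorenstein iff `H^d(ω_{A/R})` is invertible (S1786);
* `nonempty_HD_equiv_ext_quot`: `H^i(ω_{B/A}) ≃ Ext^{N+i}_P(B, P)` for `B = P ⧸ I`, `P = A[t_1..t_N]`,
  with the standard `P`-module structure on `P ⧸ I`;
* `ext_invertible_iff_gorenstein_fibres`: the statement of S11365.
-/

set_option autoImplicit false
universe u
open CategoryTheory CategoryTheory.Limits AlgebraicGeometry DerivedCategory
open scoped TensorProduct
attribute [local instance] HasDerivedCategory.standard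

namespace Groth.Agent.Lib.helper19.GorExt1


section General


open Groth.Agent.Lib.helper19.QFSynt1 Groth.Agent.Lib.helper19.OmegaFib1

/-- an object of `D(R)` with cohomology `R` in degree `d` and zero elsewhere is `R[-d]`. -/
theorem nonempty_iso_inD_shift (R : Type u) [CommRing R] (L : Dual.D R) (d : ℤ)
    (h0 : ∀ i : ℤ, i ≠ d → IsZero ((homologyFunctor (ModuleCat.{u} R) i).obj L))
    (e : (homologyFunctor (ModuleCat.{u} R) d).obj L ≅ ModuleCat.of R R) :
    Nonempty (L ≅ (Dual.inD R R)⟦-d⟧) := by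
  haveI : L.IsLE d := (DerivedCategory.isLE_iff L d).2 (fun j hj => h0 j (by omega))
  haveI : L.IsGE d := (DerivedCategory.isGE_iff L d).2 (fun j hj => h0 j (by omega))
  obtain ⟨M, ⟨eM⟩⟩ := DerivedCategory.exists_iso_singleFunctor_obj_of_isGE_of_isLE L d
  have eH : M ≅ ModuleCat.of R R :=
    ((singleFunctorCompHomologyFunctorIso (ModuleCat.{u} R) d).app M).symm ≪≫
      (homologyFunctor (ModuleCat.{u} R) d).mapIso eM.symm ≪≫ e
  exact ⟨eM ≪≫ (DerivedCategory.singleFunctor (ModuleCat.{u} R) d).mapIso eH ≪≫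
    (((DerivedCategory.singleFunctors (ModuleCat.{u} R)).shiftIso (-d) d 0 (by omega)).app
      (ModuleCat.of R R)).symm⟩

variable (R A : Type u) [CommRing R] [CommRing A] [IsNoetherianRing R] [IsNoetherianRing A]
  [Algebra R A] (n : ℕ) (ψ : MvPolynomial (Fin n) R →ₐ[R] A) (hψ : Function.Surjective ψ)
  [DRing.HasLBaseChange (algebraMap R (MvPolynomial (Fin n) R))]
  (Rψ : Dual.D (MvPolynomial (Fin n) R) ⥤ Dual.D A) (adj : DRing.restrictD ψ.toRingHom ⊣ Rψ)
  [Module.Flat R A]

include hψ adj in
/-- **flat of finite type, `ω_{A/R}` concentrated in one degree `d`:** the fibres are Gorenstein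
iff `H^d(ω_{A/R})` is an invertible `A`-module. -/
theorem gorenstein_fibres_iff_invertible_HD (d : ℤ)
    (hvan : ∀ i : ℤ, i ≠ d → Subsingleton (Dual.HD A (Dual2.shriekVia n Rψ (Dual.inD R R)) i)) :
    (∀ p : PrimeSpectrum R, LocCoh.IsGorensteinRing (A ⊗[R] p.asIdeal.ResidueField)) ↔
      Module.Invertible A (Dual.HD A (Dual2.shriekVia n Rψ (Dual.inD R R)) d) := by
  classical
  haveI hL : ∀ f : A, DRing.HasLBaseChange (algebraMap A (Localization.Away f)) := fun f =>
    Groth.Agent.Lib.helper13.RKF.hasLBaseChange _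
  rw [Groth.Agent.S1786.result R A n ψ hψ Rψ adj]
  set K := Dual2.shriekVia n Rψ (Dual.inD R R) with hK
  haveI hfin0 : Module.Finite A (Dual.HD A K d) :=
    Groth.Agent.Lib.helper19.ShriekCM4.finite_HD R A n ψ Rψ adj hψ d
  haveI : Module.FinitePresentation A (Dual.HD A K d) :=
    Module.finitePresentation_of_finite A _
  constructor
  · intro h1786
    apply invertible_of_forall_exists_away
    intro q
    obtain ⟨f, hf, m, ⟨ι⟩⟩ := h1786 q
    refine ⟨f, hf, ?_⟩
    set Af := Localization.Away f with hAf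
    haveI : Nontrivial Af := by
      have hdisj : Disjoint (Submonoid.powers f : Set A) (q.asIdeal : Set A) := by
        rw [Set.disjoint_left]
        rintro x ⟨k, rfl⟩ hx
        exact hf (q.isPrime.mem_of_pow_mem k hx)
      have hne : (q.asIdeal.map (algebraMap A Af)) ≠ ⊤ :=
        (IsLocalization.isPrime_of_isPrime_disjoint (Submonoid.powers f) Af q.asIdeal q.isPrime
          hdisj).ne_top
      by_contra hnt
      rw [not_nontrivial_iff_subsingleton] at hnt
      exact hne (Subsingleton.elim _ _)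
    haveI : PreservesFiniteLimits (ModuleCat.extendScalars.{u, u, u} (algebraMap A Af)) :=
      Groth.Agent.Lib.helper23.FlatBC.preservesFiniteLimits_extendScalars_algebraMap
    have isoK : ∀ k j : ℤ, m + k = j → ((ModuleCat.extendScalars.{u, u, u} (algebraMap A Af)).obj
        ((homologyFunctor (ModuleCat.{u} A) k).obj K) ≅
        (homologyFunctor (ModuleCat.{u} Af) j).obj (Dual.inD Af Af)) := fun k j hkj =>
      (Groth.Agent.Lib.helper23.FlatBC.homologyExtDIso (algebraMap A Af) K k).symm ≪≫
        (homologyFunctor (ModuleCat.{u} Af) k).mapIso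
          ((Groth.Agent.Lib.helper23.FlatBC.lbcIso (algebraMap A Af)).app K).symm ≪≫
        (homologyFunctor (ModuleCat.{u} Af) k).mapIso ι ≪≫
        ((homologyFunctor (ModuleCat.{u} Af) 0).shiftIso m k j hkj).app _
    have iso0 : (homologyFunctor (ModuleCat.{u} Af) 0).obj (Dual.inD Af Af) ≅ ModuleCat.of Af Af :=
      (singleFunctorCompHomologyFunctorIso (ModuleCat.{u} Af) 0).app (ModuleCat.of Af Af)
    have hm : -m = d := by
      by_contra hm
      haveI := hvan (-m) hm
      have h1 : IsZero ((ModuleCat.extendScalars.{u, u, u} (algebraMap A Af)).obj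
          ((homologyFunctor (ModuleCat.{u} A) (-m)).obj K)) :=
        (ModuleCat.extendScalars.{u, u, u} (algebraMap A Af)).map_isZero
          (ModuleCat.isZero_of_subsingleton _)
      have h2 := h1.of_iso (isoK (-m) 0 (by ring)).symm
      have h4 := h2.of_iso iso0.symm
      rw [ModuleCat.isZero_iff_subsingleton] at h4
      exact not_subsingleton Af h4
    have e1 := (isoK d 0 (by omega) ≪≫ iso0).toLinearEquiv
    have e2 := Groth.Agent.Lib.helper19.BassFlat.extendScalarsEquiv A Af
      ((homologyFunctor (ModuleCat.{u} A) d).obj K)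
    exact ⟨e2.symm.trans e1⟩
  · intro hinv q
    haveI := hinv
    obtain ⟨f, hf, ⟨ef⟩⟩ := exists_away_equiv_of_invertible (Dual.HD A K d) q
    refine ⟨f, hf, -d, ?_⟩
    set Af := Localization.Away f with hAf
    haveI : PreservesFiniteLimits (ModuleCat.extendScalars.{u, u, u} (algebraMap A Af)) :=
      Groth.Agent.Lib.helper23.FlatBC.preservesFiniteLimits_extendScalars_algebraMap
    refine nonempty_iso_inD_shift Af _ d (fun i hi => ?_) ?_
    · haveI := hvan i hi
      have h1 : IsZero ((ModuleCat.extendScalars.{u, u, u} (algebraMap A Af)).obj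
          ((homologyFunctor (ModuleCat.{u} A) i).obj K)) :=
        (ModuleCat.extendScalars.{u, u, u} (algebraMap A Af)).map_isZero
          (ModuleCat.isZero_of_subsingleton _)
      exact (h1.of_iso (Groth.Agent.Lib.helper23.FlatBC.homologyExtDIso (algebraMap A Af) K i)).of_iso
        ((homologyFunctor (ModuleCat.{u} Af) i).mapIso
          ((Groth.Agent.Lib.helper23.FlatBC.lbcIso (algebraMap A Af)).app K))
    · refine (homologyFunctor (ModuleCat.{u} Af) d).mapIso
          ((Groth.Agent.Lib.helper23.FlatBC.lbcIso (algebraMap A Af)).app K) ≪≫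
        Groth.Agent.Lib.helper23.FlatBC.homologyExtDIso (algebraMap A Af) K d ≪≫ ?_
      have e2 := Groth.Agent.Lib.helper19.BassFlat.extendScalarsEquiv A Af
        ((homologyFunctor (ModuleCat.{u} A) d).obj K)
      exact (e2.trans ef).toModuleIso


end General

section Quot

/-- transport of an `Ext`-identification along an equality of module structures. -/
theorem transport_ext {P : Type u} [CommRing P] (M : Type u) [AddCommGroup M] (m1 m2 : Module P M)
    (h : m1 = m2) (W : Type u) [AddCommGroup W] [Module P W] (c : ℕ) (Y : ModuleCat.{u} P) :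
    Nonempty (W ≃ₗ[P] Abelian.Ext.{u} (@ModuleCat.of P _ M _ m1) Y c) →
      Nonempty (W ≃ₗ[P] Abelian.Ext.{u} (@ModuleCat.of P _ M _ m2) Y c) := by
  subst h
  exact id

variable (A : Type u) [CommRing A] (N : ℕ) (I : Ideal (MvPolynomial (Fin N) A))

/-- the module structure on `P ⧸ I` induced by the quotient map is the standard one. -/
theorem toAlgebra_toModule_eq :
    ((Ideal.Quotient.mkₐ A I).toRingHom.toAlgebra.toModule :
      Module (MvPolynomial (Fin N) A) (MvPolynomial (Fin N) A ⧸ I)) =
      (Submodule.Quotient.module I : Module (MvPolynomial (Fin N) A) (MvPolynomial (Fin N) A ⧸ I)) := by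
  refine Module.ext' _ _ (fun p x => ?_)
  obtain ⟨y, rfl⟩ := Ideal.Quotient.mk_surjective x
  rfl

variable [DRing.HasLBaseChange (algebraMap A (MvPolynomial (Fin N) A))]
  (Rψ : Dual.D (MvPolynomial (Fin N) A) ⥤ Dual.D (MvPolynomial (Fin N) A ⧸ I))
  (adj : DRing.restrictD (Ideal.Quotient.mkₐ A I).toRingHom ⊣ Rψ)

include adj in
/-- `H^i(ω_{B/A}) ≃ Ext^{N+i}_P(B, P)` for `B = P ⧸ I` with its standard `P`-module structure. -/
theorem nonempty_HD_equiv_ext_quot (c : ℕ) (i : ℤ) (hi : (N : ℤ) + i = c) :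
    letI : Module (MvPolynomial (Fin N) A)
        (Dual.HD (MvPolynomial (Fin N) A ⧸ I) (Dual2.shriekVia N Rψ (Dual.inD A A)) i) :=
      Module.compHom _ (Ideal.Quotient.mkₐ A I).toRingHom
    Nonempty (Dual.HD (MvPolynomial (Fin N) A ⧸ I) (Dual2.shriekVia N Rψ (Dual.inD A A)) i
      ≃ₗ[MvPolynomial (Fin N) A]
      Abelian.Ext.{u} (ModuleCat.of (MvPolynomial (Fin N) A) (MvPolynomial (Fin N) A ⧸ I))
        (ModuleCat.of (MvPolynomial (Fin N) A) (MvPolynomial (Fin N) A)) c) := by
  letI : Module (MvPolynomial (Fin N) A)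
      (Dual.HD (MvPolynomial (Fin N) A ⧸ I) (Dual2.shriekVia N Rψ (Dual.inD A A)) i) :=
    Module.compHom _ (Ideal.Quotient.mkₐ A I).toRingHom
  have key := Groth.Agent.Lib.helper19.ShriekCM4.nonempty_HD_equiv_ext A
    (MvPolynomial (Fin N) A ⧸ I) N (Ideal.Quotient.mkₐ A I) Rψ adj c i hi
  exact transport_ext (MvPolynomial (Fin N) A ⧸ I) _ _ (toAlgebra_toModule_eq A N I) _ c _ key


end Quot

/-- the statement of S11365. -/
theorem ext_invertible_iff_gorenstein_fibres (A : Type u) [CommRing A] [IsNoetherianRing A]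
    (N n : ℕ) (hnN : n ≤ N) (I : Ideal (MvPolynomial (Fin N) A))
    [Module.Flat A (MvPolynomial (Fin N) A ⧸ I)]
    (hvan : ∀ j : ℕ, j ≠ N - n → Subsingleton (Abelian.Ext.{u}
      (ModuleCat.of (MvPolynomial (Fin N) A) (MvPolynomial (Fin N) A ⧸ I))
      (ModuleCat.of (MvPolynomial (Fin N) A) (MvPolynomial (Fin N) A)) j)) :
    (∃ (L : Type u) (_ : AddCommGroup L) (_ : Module (MvPolynomial (Fin N) A ⧸ I) L),
      Module.Invertible (MvPolynomial (Fin N) A ⧸ I) L ∧
      Nonempty (RestrictScalars (MvPolynomial (Fin N) A) (MvPolynomial (Fin N) A ⧸ I) L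
        ≃ₗ[(MvPolynomial (Fin N) A)]
        Abelian.Ext.{u} (ModuleCat.of (MvPolynomial (Fin N) A) (MvPolynomial (Fin N) A ⧸ I))
          (ModuleCat.of (MvPolynomial (Fin N) A) (MvPolynomial (Fin N) A)) (N - n))) ↔
      ∀ p : PrimeSpectrum A, LocCoh.IsGorensteinRing
        ((MvPolynomial (Fin N) A ⧸ I) ⊗[A] p.asIdeal.ResidueField) := by
  classical
  set P := MvPolynomial (Fin N) A with hP
  set B := P ⧸ I with hB
  let ψ : P →ₐ[A] B := Ideal.Quotient.mkₐ A I
  have hψ : Function.Surjective ψ := Ideal.Quotient.mkₐ_surjective A I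
  haveI : DRing.HasLBaseChange (algebraMap A (MvPolynomial (Fin N) A)) :=
    Groth.Agent.Lib.helper13.RKF.hasLBaseChange _
  obtain ⟨Rψ, ⟨adj⟩⟩ := Groth.Agent.Lib.helper23.RHomEx.exists_rightAdjoint_restrictD ψ.toRingHom
  set K := Dual2.shriekVia N Rψ (Dual.inD A A) with hK
  have hvan' : ∀ i : ℤ, i ≠ -(n : ℤ) → Subsingleton (Dual.HD B K i) := by
    intro i hi
    by_cases hneg : (N : ℤ) + i < 0
    · exact Groth.Agent.Lib.helper19.ShriekCM4.subsingleton_HD_of_neg A B N ψ Rψ adj i hneg
    · obtain ⟨c, hc⟩ : ∃ c : ℕ, (N : ℤ) + i = c := ⟨((N : ℤ) + i).toNat, by omega⟩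
      letI : Module P (Dual.HD B K i) := Module.compHom _ ψ.toRingHom
      obtain ⟨e⟩ := nonempty_HD_equiv_ext_quot A N I Rψ adj c i hc
      haveI := hvan c (by omega)
      exact e.toEquiv.subsingleton
  rw [gorenstein_fibres_iff_invertible_HD A B N ψ hψ Rψ adj (-(n : ℤ)) hvan']
  letI instW : Module P (Dual.HD B K (-(n : ℤ))) := Module.compHom _ ψ.toRingHom
  obtain ⟨eW⟩ := nonempty_HD_equiv_ext_quot A N I Rψ adj (N - n) (-(n : ℤ)) (by omega)
  constructor
  · rintro ⟨L, _, _, hL, ⟨eL⟩⟩
    haveI := hL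
    let g : Dual.HD B K (-(n : ℤ)) ≃ₗ[P] RestrictScalars P B L := eW.trans eL.symm
    let g' : Dual.HD B K (-(n : ℤ)) ≃ₗ[B] L :=
      { toFun := fun w => g w
        map_add' := fun x y => g.map_add x y
        map_smul' := fun b w => by
          obtain ⟨p, rfl⟩ := Ideal.Quotient.mk_surjective b
          exact g.map_smul p w
        invFun := fun l => g.symm l
        left_inv := fun w => g.symm_apply_apply w
        right_inv := fun l => g.apply_symm_apply l }
    exact Module.Invertible.congr g'.symm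
  · intro hinv
    refine ⟨Dual.HD B K (-(n : ℤ)), inferInstance, inferInstance, hinv, ⟨?_⟩⟩
    exact
      { toFun := fun w => eW w
        map_add' := fun x y => eW.map_add x y
        map_smul' := fun p w => eW.map_smul p w
        invFun := fun l => eW.symm l
        left_inv := fun w => eW.symm_apply_apply w
        right_inv := fun l => eW.apply_symm_apply l }


end Groth.Agent.Lib.helper19.GorExt1
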