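import Mathlib
import Groth.Prelude.Def_Wider
import Groth.Agent.Lib.Helper19.HullTools
import Groth.Agent.Lib.Helper19.FlatLen
import Groth.Agent.Lib.Helper19.MatlisLen
import Groth.Agent.Lib.Helper19.LCZero
import Groth.Agent.S11174
import Groth.Agent.S0311
import Groth.Agent.S5170
import Groth.Agent.S11665

set_option autoImplicit false
universe u

/-! Flat local base change of the injective hull `E(k_A)` when the closed fibre `B/m_A B` is an
Artinian Gorenstein local ring: socle generator of an Artinian Gorenstein local ring, multiplicativity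
of length `length_B (B ⊗ N) = length_A N * length_B (B/m_A B)`, and the main theorem. -/

namespace Groth.Agent.Lib.helper19.GorFibre
open IsLocalRing TensorProduct CategoryTheory
open Groth.Agent.Lib.helper19.HullTools Groth.Agent.Lib.helper19.MatlisLen
  Groth.Agent.Lib.helper19.FlatLen Groth.Agent.Lib.helper19.LCZero

section Socle
variable (F : Type u) [CommRing F] [hG : LocCoh.IsGorensteinLocalRing F] [IsArtinianRing F]

/-- the socle of an Artinian Gorenstein local ring is generated by one nonzero element -/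
theorem exists_socle_generator :
    ∃ y₀ : F, y₀ ≠ 0 ∧ (∀ a ∈ maximalIdeal F, a * y₀ = 0) ∧
      ∀ y : F, (∀ a ∈ maximalIdeal F, a * y = 0) → ∃ c : F, y = c * y₀ := by
  have hd : ringKrullDim F = (0 : ℕ) := by
    apply le_antisymm
    · exact Ring.krullDimLE_iff.1 inferInstance
    · exact ringKrullDim_nonneg_of_nontrivial
  obtain ⟨f, hf⟩ := Groth.Agent.S11665.result F 0 hd
  -- every element of `F` is `m`-power torsion
  obtain ⟨N, hN⟩ : ∃ N : ℕ, maximalIdeal F ^ N = ⊥ := by
    have h := (isArtinianRing_iff_isNilpotent_maximalIdeal F).mp inferInstance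
    obtain ⟨N, hN⟩ := h
    exact ⟨N, hN⟩
  have htop : ∀ y : F, y ∈ DRing.torsionSub (maximalIdeal F) F := by
    intro y
    refine ⟨N, fun a ha => ?_⟩
    rw [hN, Ideal.mem_bot] at ha
    rw [ha, zero_smul]
  let γ := gammaToH (maximalIdeal F) (ModuleCat.of F F)
  have hγ : Function.Bijective γ := gammaToH_bijective (maximalIdeal F) (ModuleCat.of F F)
  obtain ⟨⟨y₀, hy₀m⟩, hy₀⟩ := hγ.2 (f 1)
  refine ⟨y₀, ?_, ?_, ?_⟩
  · rintro rfl
    have h0 : f 1 = 0 := by
      rw [← hy₀]
      exact map_zero γ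
    have h1 : (1 : ResidueField F) = 0 := hf.injective (h0.trans (map_zero f).symm)
    exact one_ne_zero h1
  · intro a ha
    have h1 : γ (a • ⟨y₀, hy₀m⟩) = 0 := by
      rw [map_smul, hy₀]
      exact smul_apply_one f a ha
    have h2 := hγ.1 (h1.trans (map_zero γ).symm)
    exact congrArg Subtype.val h2
  · intro y hy
    have h1 : ∀ b ∈ maximalIdeal F, b • γ ⟨y, htop y⟩ = 0 := by
      intro b hb
      rw [← map_smul]
      have : b • (⟨y, htop y⟩ : DRing.torsionSub (maximalIdeal F) F) = 0 :=
        Subtype.ext (hy b hb)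
      rw [this, map_zero]
    obtain ⟨z, hz⟩ := socle_mem_range f hf.toIsEssentialInj _ h1
    obtain ⟨c, rfl⟩ := residue_surjective z
    refine ⟨c, ?_⟩
    have h2 : γ ⟨y, htop y⟩ = γ (c • ⟨y₀, hy₀m⟩) := by
      rw [map_smul, hy₀, ← hz, residue_eq_smul_one, map_smul]
    exact congrArg Subtype.val (hγ.1 h2)

end Socle

section Mult
variable {A : Type u} [CommRing A] [IsLocalRing A] {B : Type u} [CommRing B]
  [Algebra A B] [Module.Flat A B]

theorem length_baseChange_simple' (S : Type u) [AddCommGroup S] [Module A S] [IsSimpleModule A S] :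
    Module.length B (B ⊗[A] S) =
      Module.length B (B ⧸ (maximalIdeal A).map (algebraMap A B)) := by
  obtain ⟨I, hI, ⟨e⟩⟩ := isSimpleModule_iff_quot_maximal.mp (inferInstance : IsSimpleModule A S)
  have hI' : I = maximalIdeal A := IsLocalRing.eq_maximalIdeal hI
  subst hI'
  let e₁ : B ⊗[A] S ≃ₗ[B] B ⊗[A] (A ⧸ maximalIdeal A) := LinearEquiv.baseChange A B _ _ e
  let e₂ : (B ⧸ (maximalIdeal A).map (algebraMap A B)) ≃ₗ[B] B ⊗[A] (A ⧸ maximalIdeal A) :=
    (Algebra.TensorProduct.quotIdealMapEquivTensorQuot B (maximalIdeal A)).toLinearEquiv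
  rw [(e₁.trans e₂.symm).length_eq]

/-- `length_B (B ⊗ N) = length_A N * length_B (B/m_A B)` for `N` of finite length -/
theorem length_baseChange_mul (N : Type u) [AddCommGroup N] [Module A N] (hN : IsFiniteLength A N) :
    Module.length B (B ⊗[A] N) =
      Module.length A N * Module.length B (B ⧸ (maximalIdeal A).map (algebraMap A B)) := by
  induction hN with
  | of_subsingleton =>
    rw [Module.length_eq_zero, Module.length_eq_zero, zero_mul]
  | @of_simple_quotient N _ _ N' _ hN' ih =>
    have h1 := Module.length_eq_add_of_exact N'.subtype N'.mkQ N'.injective_subtype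
      (Submodule.mkQ_surjective N') (LinearMap.exact_subtype_mkQ N')
    have h2 := Module.length_eq_add_of_exact (N'.subtype.baseChange B) (N'.mkQ.baseChange B)
      (Module.Flat.lTensor_preserves_injective_linearMap (M := B) N'.subtype N'.injective_subtype)
      (LinearMap.lTensor_surjective B (Submodule.mkQ_surjective N'))
      (lTensor_exact B (LinearMap.exact_subtype_mkQ N') (Submodule.mkQ_surjective N'))
    rw [h1, h2, ih, length_baseChange_simple' (N ⧸ N'), Module.length_eq_one A (N ⧸ N'), add_mul,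
      one_mul]

theorem isPowerTorsion_baseChange_map (E : Type u) [AddCommGroup E] [Module A E]
    (hE : LocCoh.IsPowerTorsion (maximalIdeal A) E) :
    LocCoh.IsPowerTorsion ((maximalIdeal A).map (algebraMap A B)) (B ⊗[A] E) := by
  have hpow : ∀ n : ℕ, (maximalIdeal A).map (algebraMap A B) ^ n =
      (maximalIdeal A ^ n).map (algebraMap A B) := by
    intro n; rw [Ideal.map_pow]
  intro z
  induction z using TensorProduct.induction_on with
  | zero => exact ⟨0, fun a _ => smul_zero a⟩
  | tmul b e =>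
    obtain ⟨n, hn⟩ := hE e
    refine ⟨n, fun c hc => ?_⟩
    rw [hpow n] at hc
    refine Submodule.span_induction (p := fun c _ => c • (b ⊗ₜ[A] e) = 0) ?_ ?_ ?_ ?_ hc
    · rintro _ ⟨a, ha, rfl⟩
      rw [TensorProduct.smul_tmul', smul_eq_mul, ← Algebra.smul_def, TensorProduct.smul_tmul,
        hn a ha, TensorProduct.tmul_zero]
    · exact zero_smul _ _
    · intro c d _ _ hc hd; rw [add_smul, hc, hd, add_zero]
    · intro s c _ hc; rw [smul_eq_mul, mul_smul, hc, smul_zero]
  | add x y hx hy =>
    obtain ⟨n, hn⟩ := hx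
    obtain ⟨m, hm'⟩ := hy
    refine ⟨max n m, fun c hc => ?_⟩
    rw [smul_add, hn c (Ideal.pow_le_pow_right (le_max_left n m) hc),
      hm' c (Ideal.pow_le_pow_right (le_max_right n m) hc), add_zero]

end Mult


section Main
variable (A : Type u) [CommRing A] [IsLocalRing A] [IsNoetherianRing A] (B : Type u) [CommRing B]
  [IsLocalRing B] [IsNoetherianRing B] [Algebra A B] [Module.Flat A B]

theorem main (hG : LocCoh.IsGorensteinLocalRing (B ⧸ (maximalIdeal A).map (algebraMap A B)))
    (hArt : IsArtinianRing (B ⧸ (maximalIdeal A).map (algebraMap A B)))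
    (E : Type u) [AddCommGroup E] [Module A E] (f : ResidueField A →ₗ[A] E)
    (hf : InjHull.IsInjectiveHull f) :
    ∃ g : ResidueField B →ₗ[B] B ⊗[A] E, InjHull.IsInjectiveHull g := by
  classical
  set J : Ideal B := (maximalIdeal A).map (algebraMap A B) with hJ
  haveI := hG
  haveI := hArt
  haveI : IsLocalRing (B ⧸ J) := inferInstance
  have hJtop : J ≠ ⊤ := by
    intro h
    have : Subsingleton (B ⧸ J) := Ideal.Quotient.subsingleton_iff.mpr h
    exact not_subsingleton (B ⧸ J) this
  have hJle : J ≤ maximalIdeal B := IsLocalRing.le_maximalIdeal hJtop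
  -- the maximal ideal of the fibre
  have hmF : ∀ b : B, b ∈ maximalIdeal B ↔ Ideal.Quotient.mk J b ∈ maximalIdeal (B ⧸ J) := by
    intro b
    rw [mem_maximalIdeal, mem_maximalIdeal, mem_nonunits_iff, mem_nonunits_iff, not_iff_not]
    constructor
    · intro h; exact h.map _
    · intro h
      by_contra hb
      have hb' : b ∈ maximalIdeal B := (mem_maximalIdeal b).mpr hb
      obtain ⟨c, hc⟩ := h.exists_right_inv
      obtain ⟨c', rfl⟩ := Ideal.Quotient.mk_surjective c
      rw [← map_mul, ← map_one (Ideal.Quotient.mk J), Ideal.Quotient.eq] at hc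
      have h1 : b * c' - 1 ∈ maximalIdeal B := hJle hc
      have h2 : b * c' ∈ maximalIdeal B := Ideal.mul_mem_right _ _ hb'
      have h3 : (1 : B) ∈ maximalIdeal B := by
        have := Ideal.sub_mem _ h2 h1
        simp at this
      exact (Ideal.ne_top_iff_one _).mp (maximalIdeal.isMaximal B).ne_top h3
  obtain ⟨N₀, hN₀⟩ : ∃ N₀ : ℕ, maximalIdeal B ^ N₀ ≤ J := by
    obtain ⟨N, hN⟩ := (isArtinianRing_iff_isNilpotent_maximalIdeal (B ⧸ J)).mp inferInstance
    refine ⟨N, ?_⟩
    have hle : (maximalIdeal B).map (Ideal.Quotient.mk J) ≤ maximalIdeal (B ⧸ J) := by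
      rw [Ideal.map_le_iff_le_comap]
      intro b hb
      exact (hmF b).mp hb
    intro b hb
    have h1 : Ideal.Quotient.mk J b ∈ (maximalIdeal B ^ N).map (Ideal.Quotient.mk J) :=
      Ideal.mem_map_of_mem _ hb
    rw [Ideal.map_pow] at h1
    have h2 := Ideal.pow_right_mono hle N h1
    rw [hN] at h2
    exact Ideal.Quotient.eq_zero_iff_mem.mp h2
  have hE := Groth.Agent.S0311.result A E f hf
  have hpow : ∀ n : ℕ, J ^ n = (maximalIdeal A ^ n).map (algebraMap A B) :=
    fun n => by rw [hJ, Ideal.map_pow]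
  have hcof0 : ∀ n : ℕ, maximalIdeal B ^ (N₀ * n) ≤ J ^ n := by
    intro n
    rw [pow_mul]
    exact Ideal.pow_right_mono hN₀ n
  have ha : LocCoh.IsPowerTorsion (maximalIdeal B) (B ⊗[A] E) := by
    intro z
    obtain ⟨n, hn⟩ := isPowerTorsion_baseChange_map (B := B) E hE z
    exact ⟨N₀ * n, fun c hc => hn c (hcof0 n hc)⟩
  refine Groth.Agent.S11174.result B (B ⊗[A] E) ha ?hb
    (fun n => (maximalIdeal A ^ n).map (algebraMap A B)) ?anti ?hcof ?hcof' ?hlen
  case anti =>
    intro m n hmn
    exact Ideal.map_mono (Ideal.pow_le_pow_right hmn)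
  case hcof =>
    intro n
    refine ⟨N₀ * n, ?_⟩
    show _ ≤ (maximalIdeal A ^ n).map (algebraMap A B)
    rw [← hpow n]
    exact hcof0 n
  case hcof' =>
    intro N
    refine ⟨N, ?_⟩
    show (maximalIdeal A ^ N).map (algebraMap A B) ≤ _
    rw [← hpow N]
    exact Ideal.pow_right_mono hJle N
  case hlen =>
    intro n
    show Module.length B (B ⧸ (maximalIdeal A ^ n).map (algebraMap A B)) =
      Module.length B ((B ⧸ (maximalIdeal A ^ n).map (algebraMap A B)) →ₗ[B] B ⊗[A] E)
    have hfl : IsFiniteLength A (A ⧸ maximalIdeal A ^ n) :=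
      isFiniteLength_quot_of_pow_le _ n le_rfl
    have h5170 := Groth.Agent.S5170.result A E f hf _ hfl
    have hfl' : IsFiniteLength A ((A ⧸ maximalIdeal A ^ n) →ₗ[A] E) := by
      rw [← Module.length_ne_top_iff, h5170]; exact Module.length_ne_top_iff.mpr hfl
    have e1 := (quotEquiv (B := B) (maximalIdeal A ^ n)).length_eq
    have e2 : Module.length B ((B ⧸ (maximalIdeal A ^ n).map (algebraMap A B)) →ₗ[B] B ⊗[A] E) =
        Module.length B (B ⊗[A] ((A ⧸ maximalIdeal A ^ n) →ₗ[A] E)) :=
      LinearEquiv.length_eq (homEquiv (B := B) (maximalIdeal A ^ n) E)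
    rw [e1, e2, length_baseChange_mul _ hfl, length_baseChange_mul _ hfl', h5170]
  case hb =>
    obtain ⟨y₀, hy₀, hy₀m, hy₀g⟩ := exists_socle_generator (B ⧸ J)
    let e₂ := homEquiv (B := B) (maximalIdeal A) E
    let eΦ : ResidueField A ≃ₗ[A] (ResidueField A →ₗ[A] E) :=
      LinearEquiv.ofBijective (Φ f) (Φ_bijective f hf)
    let e₃ : B ⊗[A] ((A ⧸ maximalIdeal A) →ₗ[A] E) ≃ₗ[B] B ⊗[A] (A ⧸ maximalIdeal A) :=
      LinearEquiv.baseChange A B _ _ eΦ.symm
    let e₄ := (quotEquiv (B := B) (maximalIdeal A)).symm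
    let e : ((B ⧸ J) →ₗ[B] B ⊗[A] E) ≃ₗ[B] (B ⧸ J) := e₂.trans (e₃.trans e₄)
    set h₀ : (B ⧸ J) →ₗ[B] B ⊗[A] E := e.symm y₀ with hh₀
    set x₀ : B ⊗[A] E := h₀ 1 with hx₀
    have hsm : ∀ (b : B) (y : B ⧸ J), b • y = Ideal.Quotient.mk J b * y := by
      intro b y
      rw [Algebra.smul_def]; rfl
    -- maps out of B/J are determined by value at 1
    have hext : ∀ h h' : (B ⧸ J) →ₗ[B] B ⊗[A] E, h 1 = h' 1 → h = h' := by
      intro h h' h1
      refine LinearMap.ext fun z => ?_
      obtain ⟨b, rfl⟩ := Ideal.Quotient.mk_surjective z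
      have : Ideal.Quotient.mk J b = b • (1 : B ⧸ J) := by
        rw [hsm, mul_one]
      rw [this, map_smul, map_smul, h1]
    have hx₀ne : x₀ ≠ 0 := by
      intro h0
      have h1 : h₀ = 0 := hext h₀ 0 (by rw [← hx₀, h0]; rfl)
      have h2 : e h₀ = y₀ := e.apply_symm_apply y₀
      apply hy₀
      rw [← h2, h1, map_zero]
    have hx₀m : ∀ b ∈ maximalIdeal B, b • x₀ = 0 := by
      intro b hb
      have h1 : b • y₀ = 0 := by
        rw [hsm]; exact hy₀m _ ((hmF b).mp hb)
      have h2 : b • h₀ = 0 := by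
        rw [hh₀, ← map_smul, h1, map_zero]
      rw [hx₀, ← LinearMap.smul_apply, h2, LinearMap.zero_apply]
    have hgen : ∀ x : B ⊗[A] E, (∀ b ∈ maximalIdeal B, b • x = 0) → ∃ c : B, x = c • x₀ := by
      intro x hx
      let h : (B ⧸ J) →ₗ[B] B ⊗[A] E :=
        Submodule.liftQ J (LinearMap.toSpanSingleton B _ x) (by
          intro b hb
          rw [LinearMap.mem_ker, LinearMap.toSpanSingleton_apply]
          exact hx b (hJle hb))
      have h1 : h 1 = x := by
        show LinearMap.toSpanSingleton B _ x 1 = x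
        simp
      have hbh : ∀ b ∈ maximalIdeal B, b • h = 0 := by
        intro b hb
        apply hext
        rw [LinearMap.smul_apply, h1, hx b hb]; rfl
      have hy : ∀ a ∈ maximalIdeal (B ⧸ J), a * e h = 0 := by
        intro a ha
        obtain ⟨b, rfl⟩ := Ideal.Quotient.mk_surjective a
        have hb := (hmF b).mpr ha
        rw [← hsm, ← map_smul, hbh b hb, map_zero]
      obtain ⟨c, hc⟩ := hy₀g (e h) hy
      obtain ⟨c', rfl⟩ := Ideal.Quotient.mk_surjective c
      refine ⟨c', ?_⟩
      have h2 : e h = c' • y₀ := by rw [hc, hsm]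
      have h3 : h = c' • h₀ := by
        rw [hh₀, ← map_smul, ← h2, e.symm_apply_apply]
      rw [← h1, h3, LinearMap.smul_apply]
    let g₀ : ResidueField B →ₗ[B] B ⊗[A] E := ofSocle x₀ hx₀m
    have hΦ : Function.Bijective (Φ g₀) := by
      constructor
      · refine (injective_iff_map_eq_zero (Φ g₀)).mpr ?_
        intro c hc
        obtain ⟨c', rfl⟩ := residue_surjective c
        by_contra hne
        have hu : IsUnit c' := by
          by_contra hnu
          exact hne ((residue_eq_zero_iff c').mpr ((mem_maximalIdeal c').mpr hnu))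
        have h1 : Φ g₀ (residue B c') 1 = 0 := by rw [hc]; rfl
        rw [Φ_apply, mul_one, residue_eq_smul_one, map_smul, ofSocle_one] at h1
        obtain ⟨u, rfl⟩ := hu
        apply hx₀ne
        have : x₀ = (↑u⁻¹ : B) • ((u : B) • x₀) := by rw [smul_smul, Units.inv_mul, one_smul]
        rw [this, h1, smul_zero]
      · intro g
        obtain ⟨c, hc⟩ := hgen (g 1) (smul_apply_one g)
        refine ⟨residue B c, ext_one ?_⟩
        rw [Φ_apply, mul_one, residue_eq_smul_one, map_smul, ofSocle_one, hc]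
    exact ⟨(LinearEquiv.ofBijective (Φ g₀) hΦ).symm⟩

end Main

end Groth.Agent.Lib.helper19.GorFibre
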