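import Mathlib
import Groth.Prelude.Def_GrLC
import Groth.Prelude.Def_GrSyz
import Groth.Agent.Lib.Helper19.GrConv
import Groth.Agent.Lib.Helper19.GrLes8
import Groth.Agent.Lib.Helper19.GrFin3
import Groth.Agent.Lib.Helper7.GrSyzBasic
import Groth.Agent.Lib.Helper7.GrSyzMinRes
import Groth.Agent.S2101
import Groth.Agent.S13215
import Groth.Agent.S13224
import Groth.Agent.S0318

/-!
# Graded local cohomology of the standard graded polynomial ring (helper19)

`S = k[x_1, …, x_n]` with the standard grading (as additive subgroups, `gr k n`), `mm k n` the irrelevant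
ideal.  Main result `Hgr_poly`: `H^j_𝔪(S)_g = 0` for `g > -j`, i.e. the polynomial ring has
local-cohomological regularity `≤ 0`.
-/

set_option autoImplicit false
universe u

namespace Groth.Agent.Lib.helper19.GrPoly

open GrLC MvPolynomial Groth.Agent.Lib.helper19.GrMod Groth.Agent.Lib.helper19.GrLes
  Groth.Agent.Lib.helper19.GrConv

variable (k : Type u) [Field k] (n : ℕ)

/-- the standard grading of the polynomial ring by additive subgroups -/
noncomputable abbrev gr : ℤ → AddSubgroup (MvPolynomial (Fin n) k) := addGr (GrSyz.stdGr k (Fin n))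

/-- the irrelevant ideal -/
noncomputable abbrev mm : HomogeneousIdeal (gr k n) :=
  idealAdd (GrSyz.stdGr k (Fin n)) (GrSyz.irrel (GrSyz.stdGr k (Fin n)))

theorem gr_neg (m : ℤ) (hm : m < 0) : gr k n m = ⊥ := by
  rw [eq_bot_iff]
  intro p hp
  have h1 : p ∈ GrSyz.stdGr k (Fin n) m := hp
  rw [Groth.Agent.Lib.helper7.GrSyzMinRes.stdGr_neg_eq_bot hm] at h1
  exact h1

theorem X_mem (i : Fin n) : (X i : MvPolynomial (Fin n) k) ∈ gr k n 1 :=
  isWeightedHomogeneous_X k (fun _ : Fin n => (1 : ℤ)) i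

theorem mm_eq : (mm k n).toIdeal =
    Ideal.span {x | x ∈ List.ofFn (X : Fin n → MvPolynomial (Fin n) k)} := by
  ext p
  rw [idealAdd_toIdeal, Groth.Agent.Lib.helper7.GrSyzBasic.mem_irrel_iff]
  have h1 : {x | x ∈ List.ofFn (X : Fin n → MvPolynomial (Fin n) k)} = X '' Set.univ := by
    ext x
    simp [List.mem_ofFn]
  rw [h1, mem_ideal_span_X_image]
  constructor
  · intro h m hm
    have hm0 : m ≠ 0 := by
      rintro rfl
      rw [mem_support_iff] at hm
      exact hm (by rwa [constantCoeff_eq] at h)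
    obtain ⟨i, hi⟩ : ∃ i, m i ≠ 0 := by
      by_contra hcon
      push Not at hcon
      exact hm0 (Finsupp.ext hcon)
    exact ⟨i, Set.mem_univ _, hi⟩
  · intro h
    by_contra hcon
    rw [constantCoeff_eq] at hcon
    obtain ⟨i, _, hi⟩ := h 0 (mem_support_iff.2 hcon)
    exact hi rfl

theorem X_weaklyRegular : RingTheory.Sequence.IsWeaklyRegular (MvPolynomial (Fin n) k)
    (List.ofFn (X : Fin n → MvPolynomial (Fin n) k)) := by
  rw [Groth.Agent.S2101.isWeaklyRegular_ofFn_iff]
  intro i c hc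
  unfold Groth.Agent.S2101.II at hc ⊢
  rw [mem_ideal_span_X_image] at hc ⊢
  intro m hm
  have h1 : Finsupp.single i 1 + m ∈ (X i * c).support := by
    rw [support_X_mul]
    exact Finset.mem_map.2 ⟨m, hm, rfl⟩
  obtain ⟨j, hj, hne⟩ := hc _ h1
  refine ⟨j, hj, ?_⟩
  have hji : i ≠ j := by
    have : j < i := by simpa using hj
    exact (ne_of_lt this).symm
  rw [Finsupp.add_apply, Finsupp.single_eq_of_ne hji.symm, zero_add] at hne
  exact hne

theorem le_depth : (n : ℕ∞) ≤ LocCoh.idealDepth (mm k n).toIdeal (MvPolynomial (Fin n) k) := by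
  unfold LocCoh.idealDepth
  split_ifs with h
  · exact le_top
  · have h1 : RingTheory.Sequence.IsWeaklyRegular (MvPolynomial (Fin n) k)
        (List.ofFn (X : Fin n → MvPolynomial (Fin n) k)) ∧
        ∀ r ∈ List.ofFn (X : Fin n → MvPolynomial (Fin n) k), r ∈ (mm k n).toIdeal := by
      refine ⟨X_weaklyRegular k n, fun r hr => ?_⟩
      rw [mm_eq]
      exact Ideal.subset_span hr
    have h2 := le_iSup₂ (f := fun (rs : List (MvPolynomial (Fin n) k))
      (_ : RingTheory.Sequence.IsWeaklyRegular (MvPolynomial (Fin n) k) rs ∧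
        ∀ r ∈ rs, r ∈ (mm k n).toIdeal) => (rs.length : ℕ∞)) _ h1
    rw [List.length_ofFn] at h2
    exact h2

section Van

variable (E : StarInjRes (gr k n) (gr k n))

theorem Hgr_below (j : ℕ) (hj : j < n) (g : ℤ) : E.Hgr (mm k n) j g = ⊥ := by
  obtain ⟨e⟩ := Groth.Agent.S13224.result (MvPolynomial (Fin n) k) (gr k n) (mm k n)
    (MvPolynomial (Fin n) k) (gr k n) E j
  have h1 : Subsingleton (LocCoh.H (mm k n).toIdeal j (MvPolynomial (Fin n) k)) :=
    Groth.Agent.S0318.H_vanish_below (mm k n).toIdeal (MvPolynomial (Fin n) k) j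
      (lt_of_lt_of_le (by exact_mod_cast hj) (le_depth k n))
  haveI : Subsingleton (E.H (mm k n) j) := e.toEquiv.subsingleton
  exact eq_bot_of_subsingleton E (mm k n) j g

theorem Hgr_above (j : ℕ) (hj : n < j) (g : ℤ) : E.Hgr (mm k n) j g = ⊥ := by
  classical
  let T : Finset (MvPolynomial (Fin n) k) := Finset.univ.image X
  have hT : Ideal.span (T : Set (MvPolynomial (Fin n) k)) = (mm k n).toIdeal := by
    rw [mm_eq]
    congr 1
    ext x
    simp [T, List.mem_ofFn]
  have hcard : T.card < j := by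
    refine lt_of_le_of_lt (Finset.card_image_le.trans ?_) hj
    simp
  have h2 := Groth.Agent.Lib.helper19.GrFin.vanish_of_card_lt T (MvPolynomial (Fin n) k) j hcard
  rw [hT] at h2
  have h1 : Subsingleton (LocCoh.H (mm k n).toIdeal j (MvPolynomial (Fin n) k)) := h2
  obtain ⟨e⟩ := Groth.Agent.S13224.result (MvPolynomial (Fin n) k) (gr k n) (mm k n)
    (MvPolynomial (Fin n) k) (gr k n) E j
  haveI : Subsingleton (E.H (mm k n) j) := e.toEquiv.subsingleton
  exact eq_bot_of_subsingleton E (mm k n) j g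

theorem Hgr_top (g : ℤ) (hg : -(n : ℤ) < g) : E.Hgr (mm k n) n g = ⊥ := by
  classical
  let K : Submodule (MvPolynomial (Fin n) k) (MvPolynomial (Fin n) k) := (mm k n).toIdeal
  have hK : K.IsHomogeneous (gr k n) := (mm k n).isHomogeneous
  letI : DirectSum.Decomposition (quotPiece (gr k n) K) := quotDecomposition (gr k n) K hK
  letI : SetLike.GradedSMul (gr k n) (quotPiece (gr k n) K) := quot_gradedSMul (gr k n) (gr k n) K
  obtain ⟨F⟩ := Groth.Agent.S13215.result (MvPolynomial (Fin n) k) (gr k n)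
    (MvPolynomial (Fin n) k ⧸ K) (quotPiece (gr k n) K)
  let ps : List (MvPolynomial (Fin n) k × ℤ) :=
    (List.ofFn (X : Fin n → MvPolynomial (Fin n) k)).map (fun x => (x, (1 : ℤ)))
  have hmap : ps.map Prod.fst = List.ofFn (X : Fin n → MvPolynomial (Fin n) k) := by
    simp only [ps]
    rw [List.map_map]
    exact List.map_id _
  have hsum : ∀ ys : List (MvPolynomial (Fin n) k),
      ((ys.map (fun x => (x, (1 : ℤ)))).map Prod.snd).sum = (ys.length : ℤ) := by
    intro ys
    induction ys with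
    | nil => rfl
    | cons y ys ih =>
      rw [List.map_cons, List.map_cons, List.sum_cons, ih, List.length_cons]
      push_cast
      ring
  have hlen : ps.length = n := by simp [ps]
  have hker : LinearMap.ker K.mkQ = Ideal.ofList (ps.map Prod.fst) •
      (⊤ : Submodule (MvPolynomial (Fin n) k) (MvPolynomial (Fin n) k)) := by
    rw [Submodule.ker_mkQ, hmap, smul_eq_mul, Ideal.mul_top]
    exact mm_eq k n
  have hmem : ∀ p ∈ ps, p.1 ∈ gr k n p.2 ∧ p.1 ∈ (mm k n).toIdeal := by
    intro p hp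
    obtain ⟨x, hx, rfl⟩ := List.mem_map.1 hp
    obtain ⟨i, rfl⟩ := (List.mem_ofFn' _ _).1 hx
    refine ⟨X_mem k n i, ?_⟩
    rw [mm_eq]
    exact Ideal.subset_span hx
  have hseq := endDeg_seq (gr k n) (gr_neg k n) (mm k n) ps (MvPolynomial (Fin n) k) (gr k n) E
    (MvPolynomial (Fin n) k ⧸ K) (quotPiece (gr k n) K) F K.mkQ (mkQ_isGrHom (gr k n) K)
    (Submodule.mkQ_surjective K) hker hmem n (le_of_eq hlen)
    (by rw [hmap]; exact X_weaklyRegular k n) (le_depth k n)
  rw [hlen, Nat.sub_self, hsum, List.length_ofFn] at hseq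
  have hF0 : endDeg (F.Hgr (mm k n) 0) ≤ (((0 : ℤ) : WithTop ℤ) : WithBot (WithTop ℤ)) := by
    apply endDeg_le
    intro g' hne
    rw [cast_le]
    by_contra hg'
    push Not at hg'
    apply hne
    rw [eq_bot_iff]
    intro y hy
    have h1 := Groth.Agent.Lib.helper19.GrFin.H0toM_mem_piece F (mm k n) hy
    obtain ⟨z, hz, hzy⟩ := h1
    have hzK : z ∈ K := Ideal.subset_span ⟨g', hg', hz⟩
    have h2 : K.mkQ z = 0 := by
      rw [Submodule.mkQ_apply, Submodule.Quotient.mk_eq_zero]
      exact hzK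
    have h3 : Groth.Agent.Lib.helper19.GrFin.H0toM F (mm k n) y = 0 := by
      rw [← hzy]
      exact h2
    rw [AddSubgroup.mem_bot]
    apply Groth.Agent.Lib.helper19.GrFin.H0toM_injective F (mm k n)
    rw [h3, map_zero]
  by_contra hne
  have h1 := le_endDeg (E.Hgr (mm k n) n) hne
  have h2 : ((g : WithTop ℤ) : WithBot (WithTop ℤ)) + (((n : ℤ) : WithTop ℤ) : WithBot (WithTop ℤ)) ≤
      (((0 : ℤ) : WithTop ℤ) : WithBot (WithTop ℤ)) := by
    refine le_trans ?_ hF0
    rw [hseq]
    exact add_le_add_left h1 _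
  rw [cast_add, cast_le] at h2
  omega

/-- the polynomial ring has local-cohomological regularity `≤ 0` -/
theorem Hgr_poly (j : ℕ) (g : ℤ) (hg : -(j : ℤ) < g) : E.Hgr (mm k n) j g = ⊥ := by
  rcases lt_trichotomy j n with h | h | h
  · exact Hgr_below k n E j h g
  · subst h
    exact Hgr_top k j E g hg
  · exact Hgr_above k n E j h g

end Van

end Groth.Agent.Lib.helper19.GrPoly
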