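import Mathlib
import Groth.Prelude.Def_GrLC
import Groth.Prelude.Def_GrSyz
import Groth.Prelude.Def_CAlg
import Groth.Agent.Lib.Helper19.GrAB2
import Groth.Agent.Lib.Helper19.GrPoly
import Groth.Agent.S0318

/-!
# Graded Auslander–Buchsbaum via local cohomology (helper19), part 3

`ab_lc` : over a Noetherian ℤ-graded ring `R` with `H^j_a(R) = 0` for `j < T`, `H^T_a(R) ≠ 0` (`T ≥ 1`),
`1 ∉ a`: a graded module with a graded free resolution, minimal with respect to `a`, of length exactly `ℓ`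
satisfies `ℓ ≤ T`, `H^j_a(M) = 0` for `j < T - ℓ` and `H^{T-ℓ}_a(M) ≠ 0`.
`idealDepth_eq_of_lc` translates this into `LocCoh.idealDepth`.
-/

set_option autoImplicit false
universe u

namespace Groth.Agent.Lib.helper19.GrAB

open GrLC Groth.Agent.Lib.helper19.GrMod Groth.Agent.Lib.helper19.GrLes Groth.Agent.Lib.helper19.GrShift
  Groth.Agent.Lib.helper19.GrReg

section Main

variable {R : Type u} [CommRing R] [IsNoetherianRing R] {𝒜 : ℤ → AddSubgroup R} [GradedRing 𝒜]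
  (a : HomogeneousIdeal 𝒜) (T : ℕ) (hT : 1 ≤ T)
  (hlow : ∀ (ER : StarInjRes 𝒜 𝒜) (j : ℕ) (g : ℤ), j < T → ER.Hgr a j g = ⊥)
  (htop : ∀ ER : StarInjRes 𝒜 𝒜, Nontrivial (ER.H a T))

include hlow in
theorem free_low {m : ℕ} (e : Fin m → ℤ) (E : StarInjRes 𝒜 (freeGr 𝒜 e)) (j : ℕ) (g : ℤ) (hj : j < T) :
    E.Hgr a j g = ⊥ :=
  free_Hgr_eq_bot a j g m e E (fun b ER => hlow ER j (g - e b) hj)

include hlow htop in
/-- resolutions of length zero -/
theorem ab_zero {M : Type u} [AddCommGroup M] [Module R M] {ℳ : ℤ → AddSubgroup M}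
    [DirectSum.Decomposition ℳ] [SetLike.GradedSMul 𝒜 ℳ] (F : GrSyz.FreeRes 𝒜 ℳ)
    (hlen : F.HasLengthLE 0) (h0 : F.rk 0 ≠ 0) (E : StarInjRes 𝒜 ℳ) :
    (∀ (j : ℕ) (g : ℤ), j < T → E.Hgr a j g = ⊥) ∧ ¬ ∀ g : ℤ, E.Hgr a T g = ⊥ := by
  classical
  have hinj : Function.Injective F.augLin := by
    rw [← LinearMap.ker_eq_bot, F.exact_zero, eq_bot_iff]
    rintro _ ⟨v, rfl⟩
    have h1 : F.rk (0 + 1) = 0 := hlen (0 + 1) (by omega)
    have h2 : v = 0 := by
      funext b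
      exact (Fin.elim0 (h1 ▸ b))
    rw [h2, map_zero]
    exact zero_mem _
  have hbij : Function.Bijective F.augLin := ⟨hinj, F.aug_surjective⟩
  obtain ⟨E₀⟩ := Groth.Agent.S13215.result R 𝒜 (Fin (F.rk 0) → R) (freeGr 𝒜 (F.deg 0))
  have key : ∀ (j : ℕ) (g : ℤ), E₀.Hgr a j g = ⊥ ↔ E.Hgr a j g = ⊥ := fun j g =>
    Hgr_eq_bot_iff_of_bijective E₀ E F.augLin (augLin_isGrHom F) hbij a j g
  refine ⟨fun j g hj => (key j g).1 (free_low a T hlow (F.deg 0) E₀ j g hj), fun hcon => ?_⟩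
  have h1 : ∀ g : ℤ, E₀.Hgr a T g = ⊥ := fun g => (key T g).2 (hcon g)
  rw [H_subsingleton_iff] at h1
  obtain ⟨ER⟩ := Groth.Agent.S13215.result R 𝒜 R 𝒜
  haveI := htop ER
  have h2 := free_H_nontrivial a (F.deg 0) T ER E₀ ⟨0, Nat.pos_of_ne_zero h0⟩
  exact not_subsingleton _ h1

include hT hlow htop in
/-- resolutions of length one: the socle argument -/
theorem ab_one {M : Type u} [AddCommGroup M] [Module R M] {ℳ : ℤ → AddSubgroup M}
    [DirectSum.Decomposition ℳ] [SetLike.GradedSMul 𝒜 ℳ] (F : GrSyz.FreeRes 𝒜 ℳ)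
    (hF : F.IsMinimal a.toIdeal) (hlen : F.HasLengthLE 1) (h1 : F.rk 1 ≠ 0) (E : StarInjRes 𝒜 ℳ) :
    (∀ (j : ℕ) (g : ℤ), j + 1 < T → E.Hgr a j g = ⊥) ∧ ¬ ∀ g : ℤ, E.Hgr a (T - 1) g = ⊥ := by
  classical
  have hinj : Function.Injective (F.dLin 0) := by
    rw [← LinearMap.ker_eq_bot, F.exact_succ 0, eq_bot_iff]
    rintro _ ⟨v, rfl⟩
    have h2 : F.rk (0 + 1 + 1) = 0 := hlen (0 + 1 + 1) (by omega)
    have h3 : v = 0 := by
      funext b
      exact (Fin.elim0 (h2 ▸ b))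
    rw [h3, map_zero]
    exact zero_mem _
  obtain ⟨E₀⟩ := Groth.Agent.S13215.result R 𝒜 (Fin (F.rk 0) → R) (freeGr 𝒜 (F.deg 0))
  obtain ⟨E₁⟩ := Groth.Agent.S13215.result R 𝒜 (Fin (F.rk (0 + 1)) → R) (freeGr 𝒜 (F.deg (0 + 1)))
  refine ⟨fun j g hj => ?_, fun hcon => ?_⟩
  · exact ses_right (F.dLin 0) F.augLin (dLin_isGrHom F 0) (augLin_isGrHom F) hinj F.aug_surjective
      F.exact_zero E₁ E₀ E a j g (free_low a T hlow (F.deg 0) E₀ j g (by omega))
      (free_low a T hlow (F.deg (0 + 1)) E₁ (j + 1) g hj)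
  · obtain ⟨T', rfl⟩ : ∃ T', T = T' + 1 := ⟨T - 1, by omega⟩
    rw [Nat.add_sub_cancel, H_subsingleton_iff] at hcon
    obtain ⟨cD⟩ := exists_cmap E₁ E₀ (F.dLin 0) (dLin_isGrHom F 0)
    obtain ⟨cπ⟩ := exists_cmap E₀ E F.augLin (augLin_isGrHom F)
    obtain ⟨δ, _, _, _, _, hδ⟩ := les (F.dLin 0) F.augLin (dLin_isGrHom F 0) (augLin_isGrHom F) hinj
      F.aug_surjective F.exact_zero E₁ E₀ E cD cπ a
    obtain ⟨ER⟩ := Groth.Agent.S13215.result R 𝒜 R 𝒜
    haveI := htop ER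
    obtain ⟨z, hz, hDz⟩ := free_map_socle a (F.deg (0 + 1)) (F.deg 0) (T' + 1) ER (F.d 0) (F.d_mem 0)
      (hF 0) E₁ E₀ cD ⟨0, Nat.pos_of_ne_zero h1⟩
    have h2 : z ∈ LinearMap.ker (cD.Hmap a (T' + 1)) := hDz
    rw [hδ T'] at h2
    obtain ⟨w, rfl⟩ := h2
    apply hz
    rw [Subsingleton.elim w 0, map_zero]

include hT hlow htop in
/-- graded Auslander–Buchsbaum in terms of local cohomology -/
theorem ab_lc (ℓ : ℕ) : ∀ (M : Type u) [AddCommGroup M] [Module R M] (ℳ : ℤ → AddSubgroup M)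
    [DirectSum.Decomposition ℳ] [SetLike.GradedSMul 𝒜 ℳ] (F : GrSyz.FreeRes 𝒜 ℳ),
    F.IsMinimal a.toIdeal → F.HasLengthLE ℓ → F.rk ℓ ≠ 0 → ∀ E : StarInjRes 𝒜 ℳ,
    ℓ ≤ T ∧ (∀ (j : ℕ) (g : ℤ), j + ℓ < T → E.Hgr a j g = ⊥) ∧ ¬ ∀ g : ℤ, E.Hgr a (T - ℓ) g = ⊥ := by
  rcases Nat.eq_zero_or_pos ℓ with rfl | hℓ
  · intro M _ _ ℳ _ _ F _ hlen h0 E
    obtain ⟨h1, h2⟩ := ab_zero a T hlow htop F hlen h0 E
    exact ⟨Nat.zero_le T, fun j g hj => h1 j g (by omega), by simpa using h2⟩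
  · induction ℓ, hℓ using Nat.le_induction with
    | base =>
      intro M _ _ ℳ _ _ F hF hlen h1 E
      obtain ⟨h2, h3⟩ := ab_one a T hT hlow htop F hF hlen h1 E
      exact ⟨hT, h2, h3⟩
    | succ ℓ hℓ ih =>
      intro M _ _ ℳ _ _ F hF hlen hℓ' E
      obtain ⟨E₀⟩ := Groth.Agent.S13215.result R 𝒜 (Fin (F.rk 0) → R) (freeGr 𝒜 (F.deg 0))
      obtain ⟨E₁⟩ := Groth.Agent.S13215.result R 𝒜 (LinearMap.ker F.augLin) (syzGr F)
      obtain ⟨h1, h2, h3⟩ := ih (LinearMap.ker F.augLin) (syzGr F) (tail F) (tail_isMinimal F hF)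
        (fun i hi => hlen (i + 1) (by omega)) hℓ' E₁
      have hlt : ℓ + 1 ≤ T := by
        by_contra hcon
        have hTℓ : T - ℓ = 0 := by omega
        rw [hTℓ] at h3
        apply h3
        intro g
        exact ses_left_zero (LinearMap.ker F.augLin).subtype F.augLin (subtype_syz_isGrHom F)
          (augLin_isGrHom F) Subtype.val_injective F.aug_surjective
          (by rw [Submodule.range_subtype]) E₁ E₀ a g (free_low a T hlow (F.deg 0) E₀ 0 g (by omega))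
      refine ⟨hlt, fun j g hj => ?_, fun hcon => ?_⟩
      · exact ses_right (LinearMap.ker F.augLin).subtype F.augLin (subtype_syz_isGrHom F)
          (augLin_isGrHom F) Subtype.val_injective F.aug_surjective
          (by rw [Submodule.range_subtype]) E₁ E₀ E a j g
          (free_low a T hlow (F.deg 0) E₀ j g (by omega)) (h2 (j + 1) g (by omega))
      · apply h3
        intro g
        have h4 : T - ℓ = (T - (ℓ + 1)) + 1 := by omega
        rw [h4]
        exact ses_left (LinearMap.ker F.augLin).subtype F.augLin (subtype_syz_isGrHom F)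
          (augLin_isGrHom F) Subtype.val_injective F.aug_surjective
          (by rw [Submodule.range_subtype]) E₁ E₀ E a (T - (ℓ + 1)) g (hcon g)
          (free_low a T hlow (F.deg 0) E₀ (T - (ℓ + 1) + 1) g (by omega))

end Main

section Depth

variable {R : Type u} [CommRing R] [IsNoetherianRing R] {𝒜 : ℤ → AddSubgroup R} [GradedRing 𝒜]
variable {M : Type u} [AddCommGroup M] [Module R M] [Module.Finite R M] {ℳ : ℤ → AddSubgroup M}
  [DirectSum.Decomposition ℳ] [SetLike.GradedSMul 𝒜 ℳ]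

/-- the depth is the least degree of nonvanishing graded local cohomology -/
theorem idealDepth_eq_of_lc (E : StarInjRes 𝒜 ℳ) (a : HomogeneousIdeal 𝒜) (c : ℕ)
    (hlow : ∀ (j : ℕ) (g : ℤ), j < c → E.Hgr a j g = ⊥) (hnz : ¬ ∀ g : ℤ, E.Hgr a c g = ⊥) :
    LocCoh.idealDepth a.toIdeal M = c := by
  have hsub : ∀ j : ℕ, j < c → Subsingleton (LocCoh.H a.toIdeal j M) := by
    intro j hj
    obtain ⟨e⟩ := Groth.Agent.S13224.result R 𝒜 a M ℳ E j
    have h1 : Subsingleton (E.H a j) := (H_subsingleton_iff E a j).1 (fun g => hlow j g hj)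
    exact e.symm.toEquiv.subsingleton
  have hnt : Nontrivial (LocCoh.H a.toIdeal c M) := by
    obtain ⟨e⟩ := Groth.Agent.S13224.result R 𝒜 a M ℳ E c
    have h1 : ¬ Subsingleton (E.H a c) := fun h => hnz ((H_subsingleton_iff E a c).2 h)
    haveI : Nontrivial (E.H a c) := not_subsingleton_iff_nontrivial.1 h1
    exact e.symm.toEquiv.nontrivial
  have hIM : a.toIdeal • (⊤ : Submodule R M) ≠ ⊤ := by
    intro htop
    have h1 : LocCoh.idealDepth a.toIdeal M = ⊤ := by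
      unfold LocCoh.idealDepth
      rw [if_pos htop]
    have h2 := Groth.Agent.S0318.H_vanish_below a.toIdeal M c (by rw [h1]; exact ENat.natCast_lt_top c)
    exact not_subsingleton _ h2
  exact (Groth.Agent.S0318.result R a.toIdeal M hIM c).2 ⟨hsub, hnt⟩

end Depth

section Poly

open Groth.Agent.Lib.helper19.GrPoly Groth.Agent.Lib.helper19.GrConv

variable (k : Type u) [Field k] (n : ℕ)

/-- the top local cohomology of the polynomial ring is nonzero -/
theorem poly_top_nontrivial (ER : StarInjRes (gr k n) (gr k n)) : Nontrivial (ER.H (mm k n) n) := by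
  classical
  have hIM : (mm k n).toIdeal • (⊤ : Submodule (MvPolynomial (Fin n) k) (MvPolynomial (Fin n) k)) ≠ ⊤ := by
    rw [smul_eq_mul, Ideal.mul_top]
    exact Groth.Agent.Lib.helper7.GrSyzBasic.irrel_ne_top k (Fin n)
  have hne := Groth.Agent.Lib.helper26.Depth.idealDepth_ne_top (mm k n).toIdeal (MvPolynomial (Fin n) k) hIM
  obtain ⟨c, hc⟩ := ENat.ne_top_iff_exists.mp hne
  have hc' : LocCoh.idealDepth (mm k n).toIdeal (MvPolynomial (Fin n) k) = c := hc.symm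
  have h1 := (Groth.Agent.S0318.result (MvPolynomial (Fin n) k) (mm k n).toIdeal (MvPolynomial (Fin n) k)
    hIM c).1 hc'
  have hnc : n ≤ c := by
    have := le_depth k n
    rw [hc'] at this
    exact_mod_cast this
  obtain ⟨e⟩ := Groth.Agent.S13224.result (MvPolynomial (Fin n) k) (gr k n) (mm k n)
    (MvPolynomial (Fin n) k) (gr k n) ER c
  haveI := h1.2
  have h2 : Nontrivial (ER.H (mm k n) c) := e.toEquiv.nontrivial
  have hcn : c ≤ n := by
    by_contra hcon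
    push Not at hcon
    have h3 : ∀ g : ℤ, ER.Hgr (mm k n) c g = ⊥ := fun g => Hgr_above k n ER c hcon g
    rw [H_subsingleton_iff] at h3
    exact not_subsingleton _ h3
  have hcn' : c = n := le_antisymm hcn hnc
  subst hcn'
  exact h2

end Poly

end Groth.Agent.Lib.helper19.GrAB
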