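import Mathlib
import Groth.Prelude.Def_GrLC
import Groth.Prelude.Def_Wider
import Groth.Agent.Lib.Helper19.GrMod
import Groth.Agent.Lib.Helper19.GrShift
import Groth.Agent.Lib.Helper19.GrLes8
import Groth.Agent.S13215
import Groth.Agent.S13224

/-!
# Right exactness of top graded local cohomology (helper19)

`coker_lemma`: if `H^{r+1}_a` vanishes on all modules, then for a homogeneous element `x` and
`Q₁ = Q/xQ` the map `H^r_a(Q) → H^r_a(Q₁)` is surjective with kernel `x H^r_a(Q)`.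
`eq_smul_top_of_quotient_vanish`: hence `H^r_a(Q) = (x_1, …, x_s) H^r_a(Q)` if `H^r_a(Q/(x)Q) = 0`.
-/

set_option autoImplicit false
universe u

namespace Groth.Agent.Lib.helper19.GrCok

open GrLC Groth.Agent.Lib.helper19.GrMod Groth.Agent.Lib.helper19.GrShift
  Groth.Agent.Lib.helper19.GrLes
open scoped Pointwise

section Coker

variable {ι : Type} [AddCommGroup ι] [DecidableEq ι] [Module.Free ℤ ι] [Module.Finite ℤ ι]
variable {R : Type u} [CommRing R] [IsNoetherianRing R] {𝒜 : ι → AddSubgroup R} [GradedRing 𝒜]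
variable {Q : Type u} [AddCommGroup Q] [Module R Q] {𝒬 : ι → AddSubgroup Q}
  [DirectSum.Decomposition 𝒬] [SetLike.GradedSMul 𝒜 𝒬]
variable {Q₁ : Type u} [AddCommGroup Q₁] [Module R Q₁] {𝒬₁ : ι → AddSubgroup Q₁}
  [DirectSum.Decomposition 𝒬₁] [SetLike.GradedSMul 𝒜 𝒬₁]

theorem coker_lemma (E : StarInjRes 𝒜 𝒬) (F : StarInjRes 𝒜 𝒬₁) (x : R) (k : ι) (hx : x ∈ 𝒜 k)
    (π : Q →ₗ[R] Q₁) (hπ : IsGrHom 𝒬 𝒬₁ π) (hsurj : Function.Surjective π)
    (hker : LinearMap.ker π = LinearMap.range (x • (LinearMap.id : Q →ₗ[R] Q)))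
    (a : HomogeneousIdeal 𝒜) (r : ℕ)
    (hvan : ∀ (K : Type u) [AddCommGroup K] [Module R K], Subsingleton (LocCoh.H a.toIdeal (r + 1) K)) :
    ∃ ψ : E.H a r →ₗ[R] F.H a r, IsGrHom (E.Hgr a r) (F.Hgr a r) ψ ∧ Function.Surjective ψ ∧
      ∀ y, ψ y = 0 → ∃ z, x • z = y := by
  classical
  -- the shifted module `Q(-k)`
  letI : DirectSum.Decomposition (shiftPiece 𝒬 (-k)) := shiftDecomposition 𝒬 (-k)
  letI : SetLike.GradedSMul 𝒜 (shiftPiece 𝒬 (-k)) := shift_gradedSMul 𝒜 𝒬 (-k)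
  have hmul : IsGrHom (shiftPiece 𝒬 (-k)) 𝒬 (x • (LinearMap.id : Q →ₗ[R] Q)) := by
    intro g m hm
    have hm' : m ∈ 𝒬 (g + -k) := hm
    have h1 := smul_mem_add 𝒜 𝒬 hx hm'
    have h2 : k + (g + -k) = g := by abel
    rw [h2] at h1
    exact h1
  -- the image `P = xQ`
  have hP : (LinearMap.range (x • (LinearMap.id : Q →ₗ[R] Q))).IsHomogeneous 𝒬 :=
    range_isHomogeneous (shiftPiece 𝒬 (-k)) 𝒬 _ hmul
  letI : DirectSum.Decomposition (subPiece 𝒬 (LinearMap.range (x • (LinearMap.id : Q →ₗ[R] Q)))) :=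
    subDecomposition 𝒬 _ hP
  letI : SetLike.GradedSMul 𝒜 (subPiece 𝒬 (LinearMap.range (x • (LinearMap.id : Q →ₗ[R] Q)))) :=
    sub_gradedSMul 𝒜 𝒬 _
  have hρ : IsGrHom (shiftPiece 𝒬 (-k)) (subPiece 𝒬 (LinearMap.range (x • (LinearMap.id : Q →ₗ[R] Q))))
      (x • (LinearMap.id : Q →ₗ[R] Q)).rangeRestrict := fun g m hm => hmul g m hm
  -- the kernel `K`
  have hK : (LinearMap.ker (x • (LinearMap.id : Q →ₗ[R] Q)).rangeRestrict).IsHomogeneous
      (shiftPiece 𝒬 (-k)) := ker_isHomogeneous _ _ _ hρ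
  letI : DirectSum.Decomposition (subPiece (shiftPiece 𝒬 (-k))
      (LinearMap.ker (x • (LinearMap.id : Q →ₗ[R] Q)).rangeRestrict)) := subDecomposition _ _ hK
  letI : SetLike.GradedSMul 𝒜 (subPiece (shiftPiece 𝒬 (-k))
      (LinearMap.ker (x • (LinearMap.id : Q →ₗ[R] Q)).rangeRestrict)) := sub_gradedSMul 𝒜 _ _
  obtain ⟨EP⟩ := Groth.Agent.S13215.result R 𝒜 ↥(LinearMap.range (x • (LinearMap.id : Q →ₗ[R] Q)))
    (subPiece 𝒬 (LinearMap.range (x • (LinearMap.id : Q →ₗ[R] Q))))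
  obtain ⟨EK⟩ := Groth.Agent.S13215.result R 𝒜
    ↥(LinearMap.ker (x • (LinearMap.id : Q →ₗ[R] Q)).rangeRestrict)
    (subPiece (shiftPiece 𝒬 (-k)) (LinearMap.ker (x • (LinearMap.id : Q →ₗ[R] Q)).rangeRestrict))
  have hEK : Subsingleton (EK.H a (r + 1)) := by
    obtain ⟨e⟩ := Groth.Agent.S13224.result R 𝒜 a _ _ EK (r + 1)
    have := hvan ↥(LinearMap.ker (x • (LinearMap.id : Q →ₗ[R] Q)).rangeRestrict)
    exact e.toEquiv.subsingleton
  have hEP : Subsingleton (EP.H a (r + 1)) := by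
    obtain ⟨e⟩ := Groth.Agent.S13224.result R 𝒜 a _ _ EP (r + 1)
    have := hvan ↥(LinearMap.range (x • (LinearMap.id : Q →ₗ[R] Q)))
    exact e.toEquiv.subsingleton
  -- first sequence `0 → K → Q(-k) → P → 0`
  obtain ⟨φ₁⟩ := exists_cmap EK (shiftRes E (-k))
    (LinearMap.ker (x • (LinearMap.id : Q →ₗ[R] Q)).rangeRestrict).subtype (subtype_isGrHom _ _)
  obtain ⟨ψ₁⟩ := exists_cmap (shiftRes E (-k)) EP (x • (LinearMap.id : Q →ₗ[R] Q)).rangeRestrict hρ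
  obtain ⟨δ₁, -, -, -, h1δ, -⟩ := les
    (LinearMap.ker (x • (LinearMap.id : Q →ₗ[R] Q)).rangeRestrict).subtype
    (x • (LinearMap.id : Q →ₗ[R] Q)).rangeRestrict (subtype_isGrHom _ _) hρ
    (Submodule.injective_subtype _) (LinearMap.surjective_rangeRestrict _)
    (by rw [Submodule.range_subtype]) EK (shiftRes E (-k)) EP φ₁ ψ₁ a
  have hψ₁surj : Function.Surjective (ψ₁.Hmap a r) := by
    rw [← LinearMap.range_eq_top, ← h1δ r, eq_top_iff]
    intro w _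
    show δ₁ r w = 0
    exact Subsingleton.elim _ _
  -- second sequence `0 → P → Q → Q₁ → 0`
  obtain ⟨φ₂⟩ := exists_cmap EP E (LinearMap.range (x • (LinearMap.id : Q →ₗ[R] Q))).subtype
    (subtype_isGrHom _ _)
  obtain ⟨ψ₂⟩ := exists_cmap E F π hπ
  obtain ⟨δ₂, -, -, h2a, h2δ, -⟩ := les
    (LinearMap.range (x • (LinearMap.id : Q →ₗ[R] Q))).subtype π (subtype_isGrHom _ _) hπ
    (Submodule.injective_subtype _) hsurj (by rw [Submodule.range_subtype]; exact hker)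
    EP E F φ₂ ψ₂ a
  have hψ₂surj : Function.Surjective (ψ₂.Hmap a r) := by
    rw [← LinearMap.range_eq_top, ← h2δ r, eq_top_iff]
    intro w _
    show δ₂ r w = 0
    exact Subsingleton.elim _ _
  -- the composite is multiplication by `x`
  have hcomp : ∀ y : E.H a r, φ₂.Hmap a r (ψ₁.Hmap a r y) = x • y := by
    intro y
    rw [← CMap.Hmap_comp, Hmap_eq' (ψ₁.comp φ₂) (mulCMap E x k hx)
      (by ext m; rfl)]
    exact mulCMap_Hmap a E x k hx r y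
  refine ⟨ψ₂.Hmap a r, ψ₂.Hmap_isGrHom a r, hψ₂surj, ?_⟩
  intro y hy
  have h3 : y ∈ LinearMap.ker (ψ₂.Hmap a r) := hy
  rw [h2a r] at h3
  obtain ⟨w, hw⟩ := h3
  obtain ⟨z, hz⟩ := hψ₁surj w
  refine ⟨z, ?_⟩
  rw [← hcomp, hz, hw]

end Coker

end Groth.Agent.Lib.helper19.GrCok
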