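import Mathlib
import Groth.Prelude.Def_GrLC
import Groth.Prelude.Def_Wider
import Groth.Agent.Lib.Helper19.GrMod
import Groth.Agent.Lib.Helper19.GrShift
import Groth.Agent.Lib.Helper19.GrLes8
import Groth.Agent.Lib.Helper19.GrCok
import Groth.Agent.S13215
import Groth.Agent.S13224

/-!
# Right exactness of top graded local cohomology (helper19), part 2

`mem_ofList_smul_top`: if `H^{r+1}_a` vanishes on all modules, `x_1, …, x_s` are homogeneous and
`H^r_a(Q/(x)Q) = 0`, then `H^r_a(Q) = (x_1, …, x_s) H^r_a(Q)`.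
-/

set_option autoImplicit false
universe u

namespace Groth.Agent.Lib.helper19.GrCok

open GrLC Groth.Agent.Lib.helper19.GrMod Groth.Agent.Lib.helper19.GrShift
  Groth.Agent.Lib.helper19.GrLes
open scoped Pointwise

section Iter

variable {ι : Type} [AddCommGroup ι] [DecidableEq ι] [Module.Free ℤ ι] [Module.Finite ℤ ι]
variable {R : Type u} [CommRing R] [IsNoetherianRing R] {𝒜 : ι → AddSubgroup R} [GradedRing 𝒜]

theorem subsingleton_H_of_bijective {M : Type u} [AddCommGroup M] [Module R M]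
    {ℳ : ι → AddSubgroup M} [DirectSum.Decomposition ℳ] [SetLike.GradedSMul 𝒜 ℳ]
    {N : Type u} [AddCommGroup N] [Module R N] {𝒩 : ι → AddSubgroup N}
    [DirectSum.Decomposition 𝒩] [SetLike.GradedSMul 𝒜 𝒩]
    (E : StarInjRes 𝒜 ℳ) (F : StarInjRes 𝒜 𝒩) (π : M →ₗ[R] N)
    (hπ : IsGrHom ℳ 𝒩 π) (hbij : Function.Bijective π) (a : HomogeneousIdeal 𝒜) (n : ℕ)
    (hF : Subsingleton (F.H a n)) : Subsingleton (E.H a n) := by
  classical
  let e : M ≃ₗ[R] N := LinearEquiv.ofBijective π hbij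
  have he : IsGrHom 𝒩 ℳ e.symm.toLinearMap := by
    intro d y hy
    apply mem_of_map_mem ℳ 𝒩 π hπ hbij.1
    have : π (e.symm y) = y := e.apply_symm_apply y
    show π (e.symm y) ∈ 𝒩 d
    rw [this]
    exact hy
  obtain ⟨c⟩ := exists_cmap E F π hπ
  obtain ⟨c'⟩ := exists_cmap F E e.symm.toLinearMap he
  have h1 : ∀ y, c'.Hmap a n (c.Hmap a n y) = y := by
    intro y
    rw [← CMap.Hmap_comp, Hmap_eq' (c.comp c') (CMap.id E)
      (by ext m; exact e.symm_apply_apply m), CMap.Hmap_id]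
  refine ⟨fun y z => ?_⟩
  rw [← h1 y, ← h1 z, Subsingleton.elim (c.Hmap a n y) (c.Hmap a n z)]

theorem mem_ofList_smul_top (a : HomogeneousIdeal 𝒜) (r : ℕ)
    (hvan : ∀ (K : Type u) [AddCommGroup K] [Module R K],
      Subsingleton (LocCoh.H a.toIdeal (r + 1) K)) (ps : List (R × ι)) :
    ∀ (M : Type u) [AddCommGroup M] [Module R M] (ℳ : ι → AddSubgroup M)
      [DirectSum.Decomposition ℳ] [SetLike.GradedSMul 𝒜 ℳ] (E : StarInjRes 𝒜 ℳ)
      (N : Type u) [AddCommGroup N] [Module R N] (𝒩 : ι → AddSubgroup N)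
      [DirectSum.Decomposition 𝒩] [SetLike.GradedSMul 𝒜 𝒩] (F : StarInjRes 𝒜 𝒩)
      (π : M →ₗ[R] N), IsGrHom ℳ 𝒩 π → Function.Surjective π →
      LinearMap.ker π = Ideal.ofList (ps.map Prod.fst) • (⊤ : Submodule R M) →
      (∀ p ∈ ps, p.1 ∈ 𝒜 p.2) → Subsingleton (F.H a r) →
      ∀ y : E.H a r, y ∈ Ideal.ofList (ps.map Prod.fst) • (⊤ : Submodule R (E.H a r)) := by
  classical
  induction ps with
  | nil =>
    intro M _ _ ℳ _ _ E N _ _ 𝒩 _ _ F π hπ hsurj hker _ hF y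
    have hinj : Function.Injective π := by
      rw [← LinearMap.ker_eq_bot, hker, List.map_nil, Ideal.ofList_nil, Submodule.bot_smul]
    have := subsingleton_H_of_bijective E F π hπ ⟨hinj, hsurj⟩ a r hF
    rw [Subsingleton.elim y 0]
    exact zero_mem _
  | cons p ps ih =>
    intro M _ _ ℳ _ _ E N _ _ 𝒩 _ _ F π hπ hsurj hker hmem hF y
    obtain ⟨x, k⟩ := p
    have hxk : x ∈ 𝒜 k := hmem (x, k) List.mem_cons_self
    rw [List.map_cons] at hker
    have hK : (x • (⊤ : Submodule R M)).IsHomogeneous ℳ := smul_top_isHomogeneous hxk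
    letI : DirectSum.Decomposition (quotPiece ℳ (x • (⊤ : Submodule R M))) :=
      quotDecomposition ℳ (x • (⊤ : Submodule R M)) hK
    letI : SetLike.GradedSMul 𝒜 (quotPiece ℳ (x • (⊤ : Submodule R M))) :=
      quot_gradedSMul 𝒜 ℳ (x • (⊤ : Submodule R M))
    obtain ⟨E₁⟩ := Groth.Agent.S13215.result R 𝒜 (M ⧸ (x • (⊤ : Submodule R M)))
      (quotPiece ℳ (x • (⊤ : Submodule R M)))
    obtain ⟨ψ, -, hψsurj, hψker⟩ := coker_lemma E E₁ x k hxk (x • (⊤ : Submodule R M)).mkQ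
      (mkQ_isGrHom ℳ (x • (⊤ : Submodule R M))) (Submodule.mkQ_surjective _)
      (by rw [Submodule.ker_mkQ]; exact smul_top_eq_range x) a r hvan
    have hsurj₁ : Function.Surjective ((x • (⊤ : Submodule R M)).liftQ π
        (smul_top_le_ker_of_cons x (ps.map Prod.fst) π hker)) := by
      intro n
      obtain ⟨m, rfl⟩ := hsurj n
      exact ⟨(x • (⊤ : Submodule R M)).mkQ m, rfl⟩
    have hπ₁ : IsGrHom (quotPiece ℳ (x • (⊤ : Submodule R M))) 𝒩 ((x • (⊤ : Submodule R M)).liftQ π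
        (smul_top_le_ker_of_cons x (ps.map Prod.fst) π hker)) := by
      rintro g q ⟨y, hy, rfl⟩
      exact hπ g y hy
    have ih' := ih (M ⧸ (x • (⊤ : Submodule R M))) (quotPiece ℳ (x • (⊤ : Submodule R M))) E₁ N 𝒩 F
      ((x • (⊤ : Submodule R M)).liftQ π (smul_top_le_ker_of_cons x (ps.map Prod.fst) π hker))
      hπ₁ hsurj₁ (ker_liftQ_cons x (ps.map Prod.fst) π hker)
      (fun p hp => hmem p (List.mem_cons_of_mem _ hp)) hF (ψ y)
    have h1 : (Ideal.ofList (ps.map Prod.fst) • (⊤ : Submodule R (E₁.H a r))) =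
        (Ideal.ofList (ps.map Prod.fst) • (⊤ : Submodule R (E.H a r))).map ψ := by
      rw [Submodule.map_smul'', Submodule.map_top, LinearMap.range_eq_top.2 hψsurj]
    rw [h1] at ih'
    obtain ⟨y', hy', hyy'⟩ := ih'
    have h2 : ψ (y - y') = 0 := by rw [map_sub, hyy', sub_self]
    obtain ⟨z, hz⟩ := hψker _ h2
    have h3 : y = x • z + y' := by rw [hz]; abel
    rw [h3, List.map_cons, Ideal.ofList_cons, Submodule.sup_smul]
    refine Submodule.add_mem_sup ?_ hy'
    exact Submodule.smul_mem_smul (Ideal.mem_span_singleton_self x) Submodule.mem_top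

end Iter

end Groth.Agent.Lib.helper19.GrCok
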