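import Mathlib

/-!
# Heights of primes in positively graded rings (helper19), part 1

* `height_le_one_of_comap_C_eq_bot` : a prime of `D[X]` contracting to `0` in the domain `D` has
  height `≤ 1`
* `height_le_height_comap_C_add_one` : `ht 𝔔 ≤ ht (𝔔 ∩ R) + 1` for a prime `𝔔` of `R[X]`
* `phi` : the ring homomorphism `R → R[X]`, `x ↦ ∑ x_n X^n`, of a positively ℤ-graded ring
* `height_le_height_homogeneousCore_add_one` : `ht P ≤ ht P* + 1` for a prime `P` of a Noetherian
  positively ℤ-graded ring, `P*` the ideal generated by the homogeneous elements of `P`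
-/

set_option autoImplicit false
universe u

namespace Groth.Agent.Lib.helper19.GrHt

open Polynomial DirectSum

section Poly

attribute [local instance] Polynomial.algebra in
/-- a prime of `D[X]` contracting to zero in the domain `D` has height at most one -/
theorem height_le_one_of_comap_C_eq_bot {D : Type u} [CommRing D] [IsDomain D] (𝔮 : Ideal D[X])
    [h𝔮 : 𝔮.IsPrime] (h : 𝔮.comap (C : D →+* D[X]) = ⊥) : 𝔮.height ≤ 1 := by
  haveI := Polynomial.isLocalization (nonZeroDivisors D) (FractionRing D)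
  have hdisj : Disjoint (((nonZeroDivisors D).map (C : D →+* D[X]) : Submonoid D[X]) : Set D[X])
      (𝔮 : Set D[X]) := by
    rw [Set.disjoint_left]
    rintro _ ⟨a, ha, rfl⟩ ha'
    have h1 : a ∈ 𝔮.comap (C : D →+* D[X]) := ha'
    rw [h, Ideal.mem_bot] at h1
    exact (nonZeroDivisors.ne_zero ha) h1
  have h1 := IsLocalization.height_map_of_disjoint
    ((nonZeroDivisors D).map (C : D →+* D[X])) (S := (FractionRing D)[X]) 𝔮 hdisj
  have hprime : (𝔮.map (algebraMap D[X] (FractionRing D)[X])).IsPrime :=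
    IsLocalization.isPrime_of_isPrime_disjoint ((nonZeroDivisors D).map (C : D →+* D[X])) _ 𝔮 h𝔮 hdisj
  have h2 := Ideal.height_le_ringKrullDim_of_ne_top hprime.ne_top
  have h3 : ringKrullDim (FractionRing D)[X] ≤ 1 := by
    have : Ring.KrullDimLE 1 (FractionRing D)[X] := inferInstance
    exact Ring.krullDimLE_iff.1 this
  rw [← h1]
  have h4 := h2.trans h3
  exact_mod_cast h4

/-- `ht 𝔔 ≤ ht (𝔔 ∩ R) + 1` for a prime of `R[X]`, `R` Noetherian -/
theorem height_le_height_comap_C_add_one {R : Type u} [CommRing R] [IsNoetherianRing R]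
    (𝔔 : Ideal R[X]) [h𝔔 : 𝔔.IsPrime] :
    𝔔.height ≤ (𝔔.comap (C : R →+* R[X])).height + 1 := by
  set p : Ideal R := 𝔔.comap (C : R →+* R[X]) with hp
  haveI hpprime : p.IsPrime := Ideal.comap_isPrime _ _
  haveI : 𝔔.LiesOver p := ⟨rfl⟩
  have h1 := Ideal.height_le_height_add_of_liesOver p 𝔔
  refine h1.trans (add_le_add le_rfl ?_)
  -- the quotient
  have hker : RingHom.ker (Ideal.Quotient.mk (p.map (algebraMap R R[X]))) ≤ 𝔔 := by
    rw [Ideal.mk_ker, Ideal.map_le_iff_le_comap]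
    exact le_of_eq rfl
  haveI hQ'prime : (𝔔.map (Ideal.Quotient.mk (p.map (algebraMap R R[X])))).IsPrime :=
    Ideal.map_isPrime_of_surjective Ideal.Quotient.mk_surjective hker
  have hcomap : (𝔔.map (Ideal.Quotient.mk (p.map (algebraMap R R[X])))).comap
      (Ideal.Quotient.mk (p.map (algebraMap R R[X]))) = 𝔔 := by
    rw [Ideal.comap_map_of_surjective _ Ideal.Quotient.mk_surjective, ← RingHom.ker_eq_comap_bot]
    exact sup_eq_left.2 hker
  let e := Ideal.polynomialQuotientEquivQuotientPolynomial p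
  haveI : IsDomain (R ⧸ p) := Ideal.Quotient.isDomain p
  set 𝔮 : Ideal (R ⧸ p)[X] :=
    (𝔔.map (Ideal.Quotient.mk (p.map (algebraMap R R[X])))).comap e.toRingHom with h𝔮
  haveI : 𝔮.IsPrime := Ideal.comap_isPrime _ _
  have hht : 𝔮.height = (𝔔.map (Ideal.Quotient.mk (p.map (algebraMap R R[X])))).height := by
    have h2 := e.symm.height_map (𝔔.map (Ideal.Quotient.mk (p.map (algebraMap R R[X]))))
    rw [← h2]
    congr 1
    rw [h𝔮]
    exact (Ideal.map_symm e).symm
  rw [← hht]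
  apply height_le_one_of_comap_C_eq_bot
  rw [eq_bot_iff]
  intro a ha
  obtain ⟨r, rfl⟩ := Ideal.Quotient.mk_surjective a
  have h2 : e (C (Ideal.Quotient.mk p r)) ∈
      𝔔.map (Ideal.Quotient.mk (p.map (algebraMap R R[X]))) := ha
  have h3 : e (C (Ideal.Quotient.mk p r)) =
      Ideal.Quotient.mk (p.map (C : R →+* R[X])) (C r) := by
    rw [← Ideal.polynomialQuotientEquivQuotientPolynomial_map_mk, Polynomial.map_C]
  rw [h3] at h2
  have h4 : (C r : R[X]) ∈ 𝔔 := by
    rw [← hcomap]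
    exact h2
  rw [Ideal.mem_bot, Ideal.Quotient.eq_zero_iff_mem]
  exact h4

end Poly

section Phi

variable {R : Type u} [CommRing R] (𝒜 : ℤ → AddSubgroup R) [GradedRing 𝒜]

/-- the additive maps `R_i → R[X]`, `a ↦ a X^i` -/
noncomputable def phiAdd (i : ℤ) : 𝒜 i →+ R[X] where
  toFun a := C (a : R) * X ^ i.toNat
  map_zero' := by simp
  map_add' a b := by
    rw [AddSubgroup.coe_add, map_add, add_mul]

variable (hpos : ∀ n : ℤ, n < 0 → 𝒜 n = ⊥)

include hpos

theorem eq_zero_of_mem_neg {i : ℤ} (hi : i < 0) {a : R} (ha : a ∈ 𝒜 i) : a = 0 := by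
  rw [hpos i hi] at ha
  exact AddSubgroup.mem_bot.1 ha

/-- the ring homomorphism `R → R[X]`, `x ↦ ∑ x_n X^n` -/
noncomputable def phi : R →+* R[X] :=
  (DirectSum.toSemiring (phiAdd 𝒜)
    (by
      show C ((1 : R)) * X ^ (0 : ℤ).toNat = 1
      simp)
    (by
      intro i j ai aj
      show C ((ai : R) * (aj : R)) * X ^ (i + j).toNat =
        (C (ai : R) * X ^ i.toNat) * (C (aj : R) * X ^ j.toNat)
      by_cases hi : i < 0
      · rw [eq_zero_of_mem_neg 𝒜 hpos hi ai.2]
        simp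
      by_cases hj : j < 0
      · rw [eq_zero_of_mem_neg 𝒜 hpos hj aj.2]
        simp
      push Not at hi hj
      rw [Int.toNat_add hi hj, pow_add, map_mul]
      ring)).comp (DirectSum.decomposeRingEquiv 𝒜).toRingHom

theorem phi_of_mem {i : ℤ} {a : R} (ha : a ∈ 𝒜 i) : phi 𝒜 hpos a = C a * X ^ i.toNat := by
  unfold phi
  rw [RingHom.comp_apply]
  have h1 : (DirectSum.decomposeRingEquiv 𝒜).toRingHom a =
      DirectSum.of (fun i => 𝒜 i) i ⟨a, ha⟩ := DirectSum.decompose_of_mem 𝒜 ha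
  rw [h1, DirectSum.toSemiring_of]
  rfl

theorem coeff_phi (x : R) (k : ℕ) :
    (phi 𝒜 hpos x).coeff k = ((DirectSum.decompose 𝒜 x (k : ℤ) : 𝒜 (k : ℤ)) : R) := by
  classical
  induction x using DirectSum.Decomposition.inductionOn 𝒜 with
  | zero => simp
  | @homogeneous i a =>
    rw [phi_of_mem 𝒜 hpos a.2, coeff_C_mul_X_pow]
    by_cases hi : i < 0
    · have h0 : (a : R) = 0 := eq_zero_of_mem_neg 𝒜 hpos hi a.2
      rw [h0]
      simp
    push Not at hi
    split_ifs with h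
    · have h1 : (k : ℤ) = i := by rw [h, Int.toNat_of_nonneg hi]
      subst h1
      rw [DirectSum.decompose_of_mem_same 𝒜 a.2]
    · rw [DirectSum.decompose_of_mem_ne 𝒜 a.2]
      intro h1
      apply h
      rw [h1]
      simp
  | add a b ha hb =>
    rw [map_add, coeff_add, ha, hb, DirectSum.decompose_add, DirectSum.add_apply,
      AddSubgroup.coe_add]

/-- `φ⁻¹(P[X])` consists of the elements all of whose components lie in `P` -/
theorem mem_comap_phi (P : Ideal R) (x : R) :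
    x ∈ (P.map (C : R →+* R[X])).comap (phi 𝒜 hpos) ↔
      ∀ i : ℤ, ((DirectSum.decompose 𝒜 x i : 𝒜 i) : R) ∈ P := by
  classical
  rw [Ideal.mem_comap, Ideal.mem_map_C_iff]
  constructor
  · intro h i
    by_cases hi : i < 0
    · rw [eq_zero_of_mem_neg 𝒜 hpos hi (SetLike.coe_mem _)]
      exact zero_mem _
    push Not at hi
    have h1 := h i.toNat
    rw [coeff_phi] at h1
    have h2 : ((i.toNat : ℕ) : ℤ) = i := Int.toNat_of_nonneg hi
    rw [h2] at h1
    exact h1
  · intro h k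
    rw [coeff_phi]
    exact h k

theorem comap_phi_eq_homogeneousCore (P : Ideal R) :
    (P.map (C : R →+* R[X])).comap (phi 𝒜 hpos) = (P.homogeneousCore 𝒜).toIdeal := by
  classical
  ext x
  rw [mem_comap_phi]
  constructor
  · intro h
    rw [← DirectSum.sum_support_decompose 𝒜 x]
    refine Ideal.sum_mem _ (fun i _ => ?_)
    exact Ideal.mem_homogeneousCore_of_homogeneous_of_mem ⟨i, SetLike.coe_mem _⟩ (h i)
  · intro h i
    exact Ideal.toIdeal_homogeneousCore_le 𝒜 P ((P.homogeneousCore 𝒜).isHomogeneous i h)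

/-- the prime `𝔔(P) = ψ⁻¹(P[X])` of `R[X]`, where `ψ = eval₂ φ X` -/
noncomputable def bigQ (P : Ideal R) : Ideal R[X] :=
  (P.map (C : R →+* R[X])).comap (eval₂RingHom (phi 𝒜 hpos) X)

instance bigQ_isPrime (P : Ideal R) [P.IsPrime] : (bigQ 𝒜 hpos P).IsPrime :=
  Ideal.comap_isPrime _ _

theorem comap_C_bigQ (P : Ideal R) :
    (bigQ 𝒜 hpos P).comap (C : R →+* R[X]) = (P.homogeneousCore 𝒜).toIdeal := by
  rw [← comap_phi_eq_homogeneousCore 𝒜 hpos P]
  ext x
  show eval₂RingHom (phi 𝒜 hpos) X (C x) ∈ P.map (C : R →+* R[X]) ↔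
    phi 𝒜 hpos x ∈ P.map (C : R →+* R[X])
  rw [coe_eval₂RingHom, eval₂_C]

theorem bigQ_mono {P P' : Ideal R} (h : P ≤ P') : bigQ 𝒜 hpos P ≤ bigQ 𝒜 hpos P' :=
  Ideal.comap_mono (Ideal.map_mono h)

theorem bigQ_lt {P P' : Ideal R} (h : P < P') : bigQ 𝒜 hpos P < bigQ 𝒜 hpos P' := by
  classical
  refine lt_of_le_of_ne (bigQ_mono 𝒜 hpos h.le) ?_
  intro heq
  obtain ⟨a, haP', haP⟩ := Set.exists_of_ssubset h
  set N : ℕ := (DirectSum.decompose 𝒜 a).support.sup Int.toNat with hN
  set g : R[X] := ∑ i ∈ (DirectSum.decompose 𝒜 a).support,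
    C ((DirectSum.decompose 𝒜 a i : 𝒜 i) : R) * X ^ (N - i.toNat) with hg
  have hψ : eval₂RingHom (phi 𝒜 hpos) X g = C a * X ^ N := by
    rw [hg, map_sum]
    have h1 : ∀ i ∈ (DirectSum.decompose 𝒜 a).support,
        eval₂RingHom (phi 𝒜 hpos) X (C ((DirectSum.decompose 𝒜 a i : 𝒜 i) : R) * X ^ (N - i.toNat)) =
          C ((DirectSum.decompose 𝒜 a i : 𝒜 i) : R) * X ^ N := by
      intro i hi
      rw [map_mul, map_pow, coe_eval₂RingHom, eval₂_C, eval₂_X,
        phi_of_mem 𝒜 hpos (SetLike.coe_mem _), mul_assoc, ← pow_add]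
      congr 2
      have : i.toNat ≤ N := Finset.le_sup (f := Int.toNat) hi
      omega
    rw [Finset.sum_congr rfl h1, ← Finset.sum_mul, ← map_sum]
    congr 2
    have := DirectSum.sum_support_decompose 𝒜 a
    exact_mod_cast this
  have h1 : g ∈ bigQ 𝒜 hpos P' := by
    show eval₂RingHom (phi 𝒜 hpos) X g ∈ P'.map (C : R →+* R[X])
    rw [hψ]
    exact Ideal.mul_mem_right _ _ (Ideal.mem_map_of_mem _ haP')
  rw [← heq] at h1
  have h2 : eval₂RingHom (phi 𝒜 hpos) X g ∈ P.map (C : R →+* R[X]) := h1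
  rw [hψ, Ideal.mem_map_C_iff] at h2
  have h3 := h2 N
  rw [coeff_C_mul_X_pow, if_pos rfl] at h3
  exact haP h3

/-- **`ht P ≤ ht P* + 1`** for a prime of a Noetherian positively graded ring -/
theorem height_le_height_homogeneousCore_add_one [IsNoetherianRing R] (P : Ideal R) [hP : P.IsPrime] :
    P.height ≤ (P.homogeneousCore 𝒜).toIdeal.height + 1 := by
  have h1 : P.height ≤ (bigQ 𝒜 hpos P).height := by
    let f : PrimeSpectrum R → PrimeSpectrum R[X] := fun p =>
      ⟨bigQ 𝒜 hpos p.asIdeal, bigQ_isPrime 𝒜 hpos p.asIdeal⟩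
    have hf : StrictMono f := fun p q hpq => bigQ_lt 𝒜 hpos hpq
    have h2 := Order.height_le_height_apply_of_strictMono f hf ⟨P, hP⟩
    rw [← PrimeSpectrum.height_eq_orderHeight, ← PrimeSpectrum.height_eq_orderHeight] at h2
    exact h2
  refine h1.trans ?_
  have h2 := height_le_height_comap_C_add_one (bigQ 𝒜 hpos P)
  rw [comap_C_bigQ] at h2
  exact h2

end Phi

end Groth.Agent.Lib.helper19.GrHt
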