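import Mathlib
import Groth.Prelude.Def_GrLC
import Groth.Prelude.Def_GrSyz
import Groth.Agent.Lib.Helper19.GrReg3
import Groth.Agent.Lib.Helper19.GrPoly
import Groth.Agent.Lib.Helper19.GrFin1
import Groth.Agent.Lib.Helper19.LCZero
import Groth.Agent.Lib.Helper7.GrSyzMinRes

/-!
# Local-cohomological regularity of graded modules (helper19), part 4

* `iInf_cast_eq` : an element of `WithBot (WithTop ℤ)` is the infimum of the integers above it
* `Hgr_zero_eq_bot_iff`, `Hgr_succ_eq_bot_of_tors` : graded local cohomology of torsion modules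
* `exists_bound_of_artinian`, `isTors_of_bounded` : graded Artinian modules are bounded above and torsion
* over the standard graded polynomial ring: `isGenLE_iff_lcreg_poly`, `lcreg_iff_endDeg`,
  `isRegLE_iff_lcreg`, `reg_eq`
-/

set_option autoImplicit false
universe u

namespace Groth.Agent.Lib.helper19.GrReg

open GrLC Groth.Agent.Lib.helper19.GrMod Groth.Agent.Lib.helper19.GrLes Groth.Agent.Lib.helper19.GrShift
  Groth.Agent.Lib.helper19.GrFin

section Order

theorem iInf_cast_eq (s : WithBot (WithTop ℤ)) :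
    ⨅ (r : ℤ) (_ : s ≤ ((r : WithTop ℤ) : WithBot (WithTop ℤ))), ((r : WithTop ℤ) : WithBot (WithTop ℤ)) = s := by
  apply le_antisymm
  · have key : ∀ r : ℤ, s ≤ ((r : WithTop ℤ) : WithBot (WithTop ℤ)) →
        (⨅ (r : ℤ) (_ : s ≤ ((r : WithTop ℤ) : WithBot (WithTop ℤ))),
          ((r : WithTop ℤ) : WithBot (WithTop ℤ))) ≤ ((r : WithTop ℤ) : WithBot (WithTop ℤ)) :=
      fun r hr => iInf₂_le (f := fun (r : ℤ) (_ : s ≤ ((r : WithTop ℤ) : WithBot (WithTop ℤ))) =>
        ((r : WithTop ℤ) : WithBot (WithTop ℤ))) r hr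
    induction s using WithBot.recBotCoe with
    | bot =>
      rw [le_bot_iff]
      by_contra hne
      obtain ⟨y, hy⟩ := WithBot.ne_bot_iff_exists.1 hne
      have h1 : ∀ r : ℤ, ((y : WithTop ℤ) : WithBot (WithTop ℤ)) ≤ ((r : WithTop ℤ) : WithBot (WithTop ℤ)) := by
        intro r
        rw [hy]
        exact key r bot_le
      induction y using WithTop.recTopCoe with
      | top =>
        have := h1 0
        rw [WithBot.coe_le_coe] at this
        exact absurd this (by simp)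
      | coe m =>
        have := h1 (m - 1)
        rw [WithBot.coe_le_coe, WithTop.coe_le_coe] at this
        omega
    | coe y =>
      induction y using WithTop.recTopCoe with
      | top => exact le_top
      | coe m => exact key m le_rfl
  · exact le_iInf₂ fun r hr => hr

end Order

section Tors

variable {R : Type u} [CommRing R] [IsNoetherianRing R] {𝒜 : ℤ → AddSubgroup R} [GradedRing 𝒜]
variable {M : Type u} [AddCommGroup M] [Module R M] {ℳ : ℤ → AddSubgroup M}
  [DirectSum.Decomposition ℳ] [SetLike.GradedSMul 𝒜 ℳ]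

/-- `H^0_a(M)_g = (Γ_a M)_g` -/
theorem Hgr_zero_eq_bot_iff (E : StarInjRes 𝒜 ℳ) (a : HomogeneousIdeal 𝒜) (g : ℤ) :
    E.Hgr a 0 g = ⊥ ↔ ∀ m ∈ ℳ g, m ∈ gam a.toIdeal M → m = 0 := by
  constructor
  · intro h m hm hmg
    have hz : E.ε m ∈ E.cocyc a 0 := by
      rw [mem_cocyc]
      refine ⟨?_, d_ε E m⟩
      obtain ⟨n, hn⟩ := hmg
      exact ⟨n, fun r hr => by rw [← map_smul, hn r hr, map_zero]⟩
    have h1 : E.toH a 0 ⟨E.ε m, hz⟩ ∈ E.Hgr a 0 g := ⟨⟨E.ε m, hz⟩, E.ε_grHom g m hm, rfl⟩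
    rw [h, AddSubgroup.mem_bot, toH_eq_zero_iff, mem_cobdy_zero] at h1
    apply E.ε_injective
    rw [map_zero]
    exact h1
  · intro h
    rw [eq_bot_iff]
    intro y hy
    rw [AddSubgroup.mem_bot]
    apply H0toM_injective E a
    rw [map_zero]
    exact h _ (H0toM_mem_piece E a hy) (H0toM_mem_gam E a y)

theorem Hgr_succ_eq_bot_of_tors (E : StarInjRes 𝒜 ℳ) (a : HomogeneousIdeal 𝒜)
    (hM : Groth.Agent.Lib.helper19.LCZero.IsTors a.toIdeal M) (i : ℕ) (g : ℤ) :
    E.Hgr a (i + 1) g = ⊥ := by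
  have h1 : Subsingleton (LocCoh.H a.toIdeal (i + 1) M) :=
    Groth.Agent.Lib.helper19.LCZero.H_subsingleton_of_torsion a.toIdeal M hM (i + 1) (Nat.succ_pos i)
  obtain ⟨e⟩ := Groth.Agent.S13224.result R 𝒜 a M ℳ E (i + 1)
  haveI : Subsingleton (E.H a (i + 1)) := e.toEquiv.subsingleton
  exact eq_bot_of_subsingleton E a (i + 1) g

end Tors

section Bounded

variable {R : Type u} [CommRing R] (𝒜 : ℤ → AddSubgroup R) [GradedRing 𝒜]
  (hpos : ∀ n : ℤ, n < 0 → 𝒜 n = ⊥)
variable {M : Type u} [AddCommGroup M] [Module R M] (ℳ : ℤ → AddSubgroup M)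
  [DirectSum.Decomposition ℳ] [SetLike.GradedSMul 𝒜 ℳ]

include hpos in
/-- a graded Artinian module over a non-negatively graded ring is bounded above -/
theorem exists_bound_of_artinian [IsArtinian R M] : ∃ n₀ : ℤ, ∀ j : ℤ, n₀ ≤ j → ℳ j = ⊥ := by
  classical
  let f : ℕ →o (Submodule R M)ᵒᵈ :=
    { toFun := fun n => OrderDual.toDual (GrFin.tail 𝒜 hpos ℳ (n : ℤ))
      monotone' := by
        intro n m hnm
        show GrFin.tail 𝒜 hpos ℳ (m : ℤ) ≤ GrFin.tail 𝒜 hpos ℳ (n : ℤ)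
        intro y hy j hj
        exact hy j (lt_of_lt_of_le hj (by exact_mod_cast hnm)) }
  obtain ⟨n, hn⟩ := IsArtinian.monotone_stabilizes f
  refine ⟨(n : ℤ), fun j hj => ?_⟩
  rw [eq_bot_iff]
  intro y hy
  rw [AddSubgroup.mem_bot]
  obtain ⟨m, rfl⟩ : ∃ m : ℕ, j = (m : ℤ) := ⟨j.toNat, by omega⟩
  have hnm : n ≤ m := by exact_mod_cast hj
  have h1 : GrFin.tail 𝒜 hpos ℳ (m : ℤ) = GrFin.tail 𝒜 hpos ℳ ((m + 1 : ℕ) : ℤ) := by
    have e1 : f n = f m := hn m hnm
    have e2 : f n = f (m + 1) := hn (m + 1) (by omega)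
    have e3 : f m = f (m + 1) := e1.symm.trans e2
    exact OrderDual.toDual.injective e3
  have h2 : y ∈ GrFin.tail 𝒜 hpos ℳ (m : ℤ) := mem_tail_of_mem 𝒜 hpos ℳ hy
  rw [h1] at h2
  have h3 := h2 (m : ℤ) (by push_cast; omega)
  rw [DirectSum.decompose_of_mem_same ℳ hy] at h3
  exact h3

include hpos in
theorem smul_mem_tail (s : Set R) (hs : ∀ r ∈ s, ∃ i : ℤ, 0 < i ∧ r ∈ 𝒜 i) (r : R)
    (hr : r ∈ Ideal.span s) (n : ℤ) (m : M) (hm : m ∈ GrFin.tail 𝒜 hpos ℳ n) :
    r • m ∈ GrFin.tail 𝒜 hpos ℳ (n + 1) := by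
  induction hr using Submodule.span_induction with
  | mem r hr =>
    obtain ⟨i, hi, hri⟩ := hs r hr
    intro j hj
    rw [decompose_smul_apply 𝒜 ℳ hri m j, hm (j - i) (by omega), smul_zero]
  | zero =>
    rw [zero_smul]
    exact zero_mem _
  | add x y _ _ hx hy =>
    rw [add_smul]
    exact add_mem hx hy
  | smul c x _ hx =>
    rw [smul_eq_mul, mul_smul]
    exact Submodule.smul_mem _ c hx

include hpos in
theorem pow_smul_mem_tail (s : Set R) (hs : ∀ r ∈ s, ∃ i : ℤ, 0 < i ∧ r ∈ 𝒜 i) (t : ℕ) :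
    ∀ r ∈ Ideal.span s ^ t, ∀ (n : ℤ) (m : M), m ∈ GrFin.tail 𝒜 hpos ℳ n → r • m ∈ GrFin.tail 𝒜 hpos ℳ (n + t) := by
  induction t with
  | zero =>
    intro r _ n m hm
    rw [Nat.cast_zero, add_zero]
    exact Submodule.smul_mem _ r hm
  | succ t ih =>
    intro r hr n m hm
    rw [pow_succ'] at hr
    induction hr using Submodule.mul_induction_on' with
    | mem_mul_mem x hx y hy =>
      rw [mul_smul]
      have h1 := ih y hy n m hm
      have h2 := smul_mem_tail 𝒜 hpos ℳ s hs x hx (n + t) (y • m) h1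
      have h3 : n + (t : ℤ) + 1 = n + ((t + 1 : ℕ) : ℤ) := by push_cast; ring
      rw [h3] at h2
      exact h2
    | add x _ y _ hx hy =>
      rw [add_smul]
      exact add_mem hx hy

include hpos in
/-- a graded module that is bounded above is torsion for every ideal generated by homogeneous elements
of positive degree -/
theorem isTors_of_bounded (s : Set R) (hs : ∀ r ∈ s, ∃ i : ℤ, 0 < i ∧ r ∈ 𝒜 i) (n₁ : ℤ)
    (hb : ∀ j : ℤ, n₁ ≤ j → ℳ j = ⊥) :
    Groth.Agent.Lib.helper19.LCZero.IsTors (Ideal.span s) M := by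
  classical
  intro m
  obtain ⟨e0, he0⟩ := Set.Finite.exists_ge (DirectSum.decompose ℳ m).support.finite_toSet
  have hm : m ∈ GrFin.tail 𝒜 hpos ℳ e0 := by
    intro j hj
    by_contra hne
    have h1 : j ∈ (DirectSum.decompose ℳ m).support := by
      rw [DFinsupp.mem_support_iff]
      intro h0
      apply hne
      rw [h0]
      rfl
    have := he0 j (Finset.mem_coe.2 h1)
    omega
  refine ⟨(n₁ - e0).toNat, fun r hr => ?_⟩
  have h1 := pow_smul_mem_tail 𝒜 hpos ℳ s hs _ r hr e0 m hm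
  have h2 : ∀ j, ((DirectSum.decompose ℳ (r • m) j : ℳ j) : M) = 0 := by
    intro j
    rcases lt_or_ge j n₁ with hj | hj
    · exact h1 j (by omega)
    · have h3 : ((DirectSum.decompose ℳ (r • m) j : ℳ j) : M) ∈ ℳ j := SetLike.coe_mem _
      have h4 : ∀ y ∈ ℳ j, y = 0 := by
        intro y hy
        rw [hb j hj, AddSubgroup.mem_bot] at hy
        exact hy
      exact h4 _ h3
  rw [← DirectSum.sum_support_decompose ℳ (r • m)]
  exact Finset.sum_eq_zero (fun j _ => h2 j)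

end Bounded

end Groth.Agent.Lib.helper19.GrReg
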