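import Mathlib

/-!
# Serre–Grothendieck formula (helper19), part 1: Euler characteristics of long exact sequences of
finite length modules, and two lemmas on polynomials

* `len K X` : the length as a natural number
* `len_eq_add_of_exact`, `len_ker_add_range`
* `euler_les` : alternating sums of lengths along a long exact sequence
* `mu P`, `mu_diff_lt` : `P(X) - P(X - e)` has smaller degree
* `eq_zero_of_eval_eq_zero` : a polynomial vanishing at all large integers is zero
-/

set_option autoImplicit false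
universe u v

namespace Groth.Agent.Lib.helper19.GrSG

section Len

variable (K : Type u) [Ring K]

/-- the length of a module as a natural number (`0` if infinite) -/
noncomputable def len (X : Type v) [AddCommGroup X] [Module K X] : ℕ := (Module.length K X).toNat

variable {K}
variable {X' X X'' Y : Type v} [AddCommGroup X'] [Module K X'] [AddCommGroup X] [Module K X]
  [AddCommGroup X''] [Module K X''] [AddCommGroup Y] [Module K Y]

theorem len_eq_add_of_exact (f : X' →ₗ[K] X) (g : X →ₗ[K] X'') (hf : Function.Injective f)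
    (hg : Function.Surjective g) (h : Function.Exact f g) (hX : IsFiniteLength K X) :
    len K X = len K X' + len K X'' := by
  unfold len
  have h1 := Module.length_eq_add_of_exact f g hf hg h
  have h2 : Module.length K X ≠ ⊤ := Module.length_ne_top_iff.2 hX
  rw [h1] at h2 ⊢
  have h3 : Module.length K X' ≠ ⊤ := fun h => h2 (by rw [h, top_add])
  have h4 : Module.length K X'' ≠ ⊤ := fun h => h2 (by rw [h, add_top])
  exact ENat.toNat_add h3 h4

theorem len_ker_add_range (φ : X →ₗ[K] Y) (hX : IsFiniteLength K X) :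
    len K X = len K ↥(LinearMap.ker φ) + len K ↥(LinearMap.range φ) := by
  apply len_eq_add_of_exact (LinearMap.ker φ).subtype φ.rangeRestrict (Submodule.subtype_injective _)
    φ.surjective_rangeRestrict ?_ hX
  intro x
  constructor
  · intro hx
    have hx' : φ x = 0 := congrArg Subtype.val hx
    exact ⟨⟨x, hx'⟩, rfl⟩
  · rintro ⟨y, rfl⟩
    exact Subtype.ext y.2

theorem len_eq_zero_of_subsingleton [Subsingleton X] : len K X = 0 := by
  unfold len
  rw [Module.length_eq_zero]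
  rfl

theorem len_eq_of_equiv (e : X ≃ₗ[K] Y) : len K X = len K Y := by
  unfold len
  rw [e.length_eq]

end Len

section Euler

variable {K : Type u} [Ring K]
variable (A B C : ℕ → Type v) [∀ j, AddCommGroup (A j)] [∀ j, Module K (A j)]
  [∀ j, AddCommGroup (B j)] [∀ j, Module K (B j)] [∀ j, AddCommGroup (C j)] [∀ j, Module K (C j)]

theorem alt_sum_telescope (k : ℕ → ℚ) (d : ℕ) :
    ∑ j ∈ Finset.range (d + 1), (-1 : ℚ) ^ j * (k j + k (j + 1)) = k 0 + (-1 : ℚ) ^ d * k (d + 1) := by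
  induction d with
  | zero => simp
  | succ d ih =>
    rw [Finset.sum_range_succ, ih]
    ring

/-- the alternating sum of the lengths along a long exact sequence
`0 → A_0 → B_0 → C_0 → A_1 → ⋯ → C_d → A_{d+1} = 0` vanishes -/
theorem euler_les (f : ∀ j, A j →ₗ[K] B j) (g : ∀ j, B j →ₗ[K] C j) (δ : ∀ j, C j →ₗ[K] A (j + 1))
    (h0 : Function.Injective (f 0))
    (h1 : ∀ j, LinearMap.ker (g j) = LinearMap.range (f j))
    (h2 : ∀ j, LinearMap.ker (δ j) = LinearMap.range (g j))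
    (h3 : ∀ j, LinearMap.ker (f (j + 1)) = LinearMap.range (δ j))
    (hA : ∀ j, IsFiniteLength K (A j)) (hB : ∀ j, IsFiniteLength K (B j))
    (hC : ∀ j, IsFiniteLength K (C j)) (d : ℕ) (hd : Subsingleton (A (d + 1))) :
    ∑ j ∈ Finset.range (d + 1), (-1 : ℚ) ^ j * (len K (B j) : ℚ) =
      ∑ j ∈ Finset.range (d + 1), (-1 : ℚ) ^ j * (len K (A j) : ℚ) +
      ∑ j ∈ Finset.range (d + 1), (-1 : ℚ) ^ j * (len K (C j) : ℚ) := by
  have hAj : ∀ j, (len K (A j) : ℚ) = (len K ↥(LinearMap.ker (f j)) : ℚ) + (len K ↥(LinearMap.range (f j)) : ℚ) := by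
    intro j
    rw [len_ker_add_range (f j) (hA j)]
    push_cast
    rfl
  have hBj : ∀ j, (len K (B j) : ℚ) = (len K ↥(LinearMap.range (f j)) : ℚ) + (len K ↥(LinearMap.range (g j)) : ℚ) := by
    intro j
    rw [len_ker_add_range (g j) (hB j), h1 j]
    push_cast
    rfl
  have hCj : ∀ j, (len K (C j) : ℚ) = (len K ↥(LinearMap.range (g j)) : ℚ) + (len K ↥(LinearMap.ker (f (j + 1))) : ℚ) := by
    intro j
    rw [len_ker_add_range (δ j) (hC j), h2 j, h3 j]
    push_cast
    rfl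
  have hk0 : (len K ↥(LinearMap.ker (f 0)) : ℚ) = 0 := by
    rw [LinearMap.ker_eq_bot.2 h0]
    have : len K ↥(⊥ : Submodule K (A 0)) = 0 := len_eq_zero_of_subsingleton
    rw [this]
    rfl
  have hkd : (len K ↥(LinearMap.ker (f (d + 1))) : ℚ) = 0 := by
    have : len K ↥(LinearMap.ker (f (d + 1))) = 0 := len_eq_zero_of_subsingleton
    rw [this]
    rfl
  have key := alt_sum_telescope (fun j => (len K ↥(LinearMap.ker (f j)) : ℚ)) d
  simp only [hk0, hkd, mul_zero, add_zero] at key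
  have h5 : ∑ j ∈ Finset.range (d + 1), (-1 : ℚ) ^ j * (len K (A j) : ℚ) +
      ∑ j ∈ Finset.range (d + 1), (-1 : ℚ) ^ j * (len K (C j) : ℚ) -
      ∑ j ∈ Finset.range (d + 1), (-1 : ℚ) ^ j * (len K (B j) : ℚ) = 0 := by
    rw [← key, ← Finset.sum_add_distrib, ← Finset.sum_sub_distrib]
    refine Finset.sum_congr rfl (fun j _ => ?_)
    rw [hAj j, hBj j, hCj j]
    ring
  linarith

end Euler

section Pieces

variable {K : Type u} [Ring K]

/-- additivity of the length on a short exact sequence of submodules ("pieces") -/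
theorem len_piece_add {X' X X'' : Type v} [AddCommGroup X'] [Module K X'] [AddCommGroup X] [Module K X]
    [AddCommGroup X''] [Module K X''] (P' : Submodule K X') (P : Submodule K X) (P'' : Submodule K X'')
    (i : X' →ₗ[K] X) (p : X →ₗ[K] X'')
    (hi : ∀ x ∈ P', i x ∈ P) (hp : ∀ x ∈ P, p x ∈ P'')
    (hinj : ∀ x ∈ P', i x = 0 → x = 0) (hsurj : ∀ z ∈ P'', ∃ y ∈ P, p y = z)
    (hex : ∀ y ∈ P, p y = 0 → ∃ x ∈ P', i x = y) (hcomp : ∀ x ∈ P', p (i x) = 0)
    (hfin : IsFiniteLength K ↥P) : len K ↥P = len K ↥P' + len K ↥P'' := by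
  apply len_eq_add_of_exact (i.restrict hi) (p.restrict hp) ?_ ?_ ?_ hfin
  · intro a b hab
    have h1 : i (a : X') = i (b : X') := congrArg Subtype.val hab
    have h2 : i ((a : X') - (b : X')) = 0 := by rw [map_sub, h1, sub_self]
    have h3 := hinj _ (P'.sub_mem a.2 b.2) h2
    exact Subtype.ext (sub_eq_zero.1 h3)
  · intro z
    obtain ⟨y, hy, hyz⟩ := hsurj z z.2
    exact ⟨⟨y, hy⟩, Subtype.ext hyz⟩
  · intro y
    constructor
    · intro hy
      have hy' : p (y : X) = 0 := congrArg Subtype.val hy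
      obtain ⟨x, hx, hxy⟩ := hex y y.2 hy'
      exact ⟨⟨x, hx⟩, Subtype.ext hxy⟩
    · rintro ⟨x, rfl⟩
      exact Subtype.ext (hcomp x x.2)

variable (XA XB XC : ℕ → Type v) [∀ j, AddCommGroup (XA j)] [∀ j, Module K (XA j)]
  [∀ j, AddCommGroup (XB j)] [∀ j, Module K (XB j)] [∀ j, AddCommGroup (XC j)] [∀ j, Module K (XC j)]

/-- `euler_les` for submodules ("pieces") of a long sequence, with exactness given elementwise -/
theorem euler_les_pieces (PA : ∀ j, Submodule K (XA j)) (PB : ∀ j, Submodule K (XB j))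
    (PC : ∀ j, Submodule K (XC j))
    (f : ∀ j, XA j →ₗ[K] XB j) (g : ∀ j, XB j →ₗ[K] XC j) (δ : ∀ j, XC j →ₗ[K] XA (j + 1))
    (hf : ∀ j, ∀ x ∈ PA j, f j x ∈ PB j) (hg : ∀ j, ∀ y ∈ PB j, g j y ∈ PC j)
    (hδ : ∀ j, ∀ z ∈ PC j, δ j z ∈ PA (j + 1))
    (h0 : ∀ x ∈ PA 0, f 0 x = 0 → x = 0)
    (h1a : ∀ j, ∀ x ∈ PA j, g j (f j x) = 0)
    (h1b : ∀ j, ∀ y ∈ PB j, g j y = 0 → ∃ x ∈ PA j, f j x = y)
    (h2a : ∀ j, ∀ y ∈ PB j, δ j (g j y) = 0)
    (h2b : ∀ j, ∀ z ∈ PC j, δ j z = 0 → ∃ y ∈ PB j, g j y = z)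
    (h3a : ∀ j, ∀ z ∈ PC j, f (j + 1) (δ j z) = 0)
    (h3b : ∀ j, ∀ x ∈ PA (j + 1), f (j + 1) x = 0 → ∃ z ∈ PC j, δ j z = x)
    (hA : ∀ j, IsFiniteLength K ↥(PA j)) (hB : ∀ j, IsFiniteLength K ↥(PB j))
    (hC : ∀ j, IsFiniteLength K ↥(PC j)) (d : ℕ) (hd : PA (d + 1) = ⊥) :
    ∑ j ∈ Finset.range (d + 1), (-1 : ℚ) ^ j * (len K ↥(PB j) : ℚ) =
      ∑ j ∈ Finset.range (d + 1), (-1 : ℚ) ^ j * (len K ↥(PA j) : ℚ) +
      ∑ j ∈ Finset.range (d + 1), (-1 : ℚ) ^ j * (len K ↥(PC j) : ℚ) := by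
  apply euler_les (fun j => ↥(PA j)) (fun j => ↥(PB j)) (fun j => ↥(PC j))
    (fun j => (f j).restrict (hf j)) (fun j => (g j).restrict (hg j)) (fun j => (δ j).restrict (hδ j))
    ?_ ?_ ?_ ?_ hA hB hC d ?_
  · intro a b hab
    have h1 : f 0 (a : XA 0) = f 0 (b : XA 0) := congrArg Subtype.val hab
    have h2 : f 0 ((a : XA 0) - (b : XA 0)) = 0 := by rw [map_sub, h1, sub_self]
    have h3 := h0 _ ((PA 0).sub_mem a.2 b.2) h2
    exact Subtype.ext (sub_eq_zero.1 h3)
  · intro j
    ext y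
    constructor
    · intro hy
      have hy' : g j (y : XB j) = 0 := congrArg Subtype.val hy
      obtain ⟨x, hx, hxy⟩ := h1b j y y.2 hy'
      exact ⟨⟨x, hx⟩, Subtype.ext hxy⟩
    · rintro ⟨x, rfl⟩
      exact Subtype.ext (h1a j x x.2)
  · intro j
    ext z
    constructor
    · intro hz
      have hz' : δ j (z : XC j) = 0 := congrArg Subtype.val hz
      obtain ⟨y, hy, hyz⟩ := h2b j z z.2 hz'
      exact ⟨⟨y, hy⟩, Subtype.ext hyz⟩
    · rintro ⟨y, rfl⟩
      exact Subtype.ext (h2a j y y.2)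
  · intro j
    ext x
    constructor
    · intro hx
      have hx' : f (j + 1) (x : XA (j + 1)) = 0 := congrArg Subtype.val hx
      obtain ⟨z, hz, hzx⟩ := h3b j x x.2 hx'
      exact ⟨⟨z, hz⟩, Subtype.ext hzx⟩
    · rintro ⟨z, rfl⟩
      exact Subtype.ext (h3a j z z.2)
  · rw [hd]
    infer_instance

end Pieces

section Poly

open Polynomial

/-- a measure of the size of a polynomial: `0` for `0`, `degree + 1` otherwise -/
noncomputable def mu (P : ℚ[X]) : ℕ := if P = 0 then 0 else P.natDegree + 1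

theorem mu_zero : mu 0 = 0 := by simp [mu]

theorem mu_diff_lt (P : ℚ[X]) (hP : P ≠ 0) (e : ℚ) : mu (P - P.comp (X - C e)) < mu P := by
  have hmu : mu P = P.natDegree + 1 := by simp [mu, hP]
  by_cases h0 : P - P.comp (X - C e) = 0
  · rw [h0, mu_zero, hmu]
    omega
  · have hmu' : mu (P - P.comp (X - C e)) = (P - P.comp (X - C e)).natDegree + 1 := by simp [mu, h0]
    rw [hmu, hmu']
    have hnd : (X - C e : ℚ[X]).natDegree = 1 := natDegree_X_sub_C e
    have hlc : (X - C e : ℚ[X]).leadingCoeff = 1 := leadingCoeff_X_sub_C e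
    have h1 : (P.comp (X - C e)).natDegree = P.natDegree := by
      rw [natDegree_comp, hnd, mul_one]
    have h2 : (P.comp (X - C e)).leadingCoeff = P.leadingCoeff := by
      rw [leadingCoeff_comp (by rw [hnd]; exact one_ne_zero), hlc, one_pow, mul_one]
    have hQ : P.comp (X - C e) ≠ 0 := by
      intro h
      apply hP
      rw [← leadingCoeff_eq_zero, ← h2, h, leadingCoeff_zero]
    have h3 : P.degree = (P.comp (X - C e)).degree := by
      rw [degree_eq_natDegree hP, degree_eq_natDegree hQ, h1]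
    have h4 := degree_sub_lt_left h3 hP h2.symm
    have h5 := natDegree_lt_natDegree h0 h4
    omega

theorem eq_zero_of_eval_eq_zero (P : ℚ[X]) (N : ℤ) (h : ∀ n : ℤ, N ≤ n → P.eval (n : ℚ) = 0) : P = 0 := by
  apply eq_zero_of_infinite_isRoot
  have hinf : (Set.range (fun t : ℕ => ((N + t : ℤ) : ℚ))).Infinite := by
    apply Set.infinite_range_of_injective
    intro a b hab
    have : ((N + a : ℤ) : ℚ) = ((N + b : ℤ) : ℚ) := hab
    have h2 : (N + a : ℤ) = N + b := by exact_mod_cast this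
    omega
  refine hinf.mono ?_
  rintro _ ⟨t, rfl⟩
  exact h (N + t) (by omega)

end Poly

end Groth.Agent.Lib.helper19.GrSG
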