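import Mathlib
import Groth.Prelude.Def_GrLC
import Groth.Agent.Lib.Helper19.GrSG1
import Groth.Agent.Lib.Helper19.GrReg4
import Groth.Agent.Lib.Helper19.GrFin4

/-!
# Serre–Grothendieck formula (helper19), part 2: Hilbert functions of graded modules

`R` Noetherian positively `ℤ`-graded with `R_0` Artinian.
* `hf 𝒜 ℳ n` : the Hilbert function `ℓ_{R_0}(M_n)` as a natural number
* `isFiniteLength_comp` : the pieces of a finite graded module have finite length
* `hf_ses` : additivity on graded short exact sequences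
* `hf_regular` : `H_{M/xM}(n) + H_M(n - e) = H_M(n)` for a homogeneous regular element of degree `e`
* `subsingleton_of_regular` : a module with a homogeneous regular element of positive degree and
  vanishing pieces in large degrees is zero
-/

set_option autoImplicit false
universe u

namespace Groth.Agent.Lib.helper19.GrSG

open GrLC Groth.Agent.Lib.helper19.GrMod Groth.Agent.Lib.helper19.GrLes Groth.Agent.Lib.helper19.GrFin

variable {R : Type u} [CommRing R] (𝒜 : ℤ → AddSubgroup R) [GradedRing 𝒜]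

section Hilb

variable {M : Type u} [AddCommGroup M] [Module R M] (ℳ : ℤ → AddSubgroup M) [SetLike.GradedSMul 𝒜 ℳ]

/-- the Hilbert function of a graded module -/
noncomputable def hf (n : ℤ) : ℕ := len (deg0 𝒜) ↥(comp 𝒜 ℳ n)

theorem mem_comp {n : ℤ} {x : M} : x ∈ comp 𝒜 ℳ n ↔ x ∈ ℳ n := Iff.rfl

theorem isFiniteLength_comp (hpos : ∀ n : ℤ, n < 0 → 𝒜 n = ⊥) [IsNoetherianRing R]
    [IsArtinianRing (deg0 𝒜)] [Module.Finite R M] [DirectSum.Decomposition ℳ] (n : ℤ) :
    IsFiniteLength (deg0 𝒜) ↥(comp 𝒜 ℳ n) := by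
  haveI := finite_comp 𝒜 hpos ℳ n
  rw [isFiniteLength_iff_isNoetherian_isArtinian]
  exact ⟨inferInstance, inferInstance⟩

theorem hf_eq_zero_of_subsingleton [Subsingleton M] (n : ℤ) : hf 𝒜 ℳ n = 0 := by
  unfold hf
  exact len_eq_zero_of_subsingleton

end Hilb

section Ses

variable {M' : Type u} [AddCommGroup M'] [Module R M'] (ℳ' : ℤ → AddSubgroup M')
  [DirectSum.Decomposition ℳ'] [SetLike.GradedSMul 𝒜 ℳ']
variable {M : Type u} [AddCommGroup M] [Module R M] (ℳ : ℤ → AddSubgroup M)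
  [DirectSum.Decomposition ℳ] [SetLike.GradedSMul 𝒜 ℳ]
variable {M'' : Type u} [AddCommGroup M''] [Module R M''] (ℳ'' : ℤ → AddSubgroup M'')
  [DirectSum.Decomposition ℳ''] [SetLike.GradedSMul 𝒜 ℳ'']

theorem hf_ses (hpos : ∀ n : ℤ, n < 0 → 𝒜 n = ⊥) [IsNoetherianRing R] [IsArtinianRing (deg0 𝒜)]
    [Module.Finite R M]
    (i : M' →ₗ[R] M) (p : M →ₗ[R] M'') (hi : IsGrHom ℳ' ℳ i) (hp : IsGrHom ℳ ℳ'' p)
    (hinj : Function.Injective i) (hsurj : Function.Surjective p)
    (hex : LinearMap.ker p = LinearMap.range i) (n : ℤ) :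
    hf 𝒜 ℳ n = hf 𝒜 ℳ' n + hf 𝒜 ℳ'' n := by
  classical
  unfold hf
  apply len_piece_add (comp 𝒜 ℳ' n) (comp 𝒜 ℳ n) (comp 𝒜 ℳ'' n) (i.restrictScalars (deg0 𝒜))
    (p.restrictScalars (deg0 𝒜)) (fun x hx => hi n x hx) (fun x hx => hp n x hx)
  · intro x _ hx
    exact hinj (hx.trans (map_zero i).symm)
  · intro z hz
    obtain ⟨y, hy⟩ := hsurj z
    exact exists_mem_of_isGrHom ℳ ℳ'' (DirectSum.Decomposition.isInternal ℳ)
      (DirectSum.Decomposition.isInternal ℳ'') p hp hz y hy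
  · intro y hy hpy
    have h1 : y ∈ LinearMap.range i := by
      rw [← hex]
      exact hpy
    obtain ⟨x, hx⟩ := h1
    exact exists_mem_of_isGrHom ℳ' ℳ (DirectSum.Decomposition.isInternal ℳ')
      (DirectSum.Decomposition.isInternal ℳ) i hi hy x hx
  · intro x _
    have h1 : i x ∈ LinearMap.ker p := by
      rw [hex]
      exact ⟨x, rfl⟩
    exact h1
  · exact isFiniteLength_comp 𝒜 ℳ hpos n

end Ses

section Regular

variable {M : Type u} [AddCommGroup M] [Module R M] (ℳ : ℤ → AddSubgroup M)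
  [DirectSum.Decomposition ℳ] [SetLike.GradedSMul 𝒜 ℳ]
variable {N : Type u} [AddCommGroup N] [Module R N] (𝒩 : ℤ → AddSubgroup N)
  [DirectSum.Decomposition 𝒩] [SetLike.GradedSMul 𝒜 𝒩]

theorem hf_regular (hpos : ∀ n : ℤ, n < 0 → 𝒜 n = ⊥) [IsNoetherianRing R] [IsArtinianRing (deg0 𝒜)]
    [Module.Finite R M] (x : R) (e : ℤ) (hx : x ∈ 𝒜 e) (hreg : IsSMulRegular M x)
    (π : M →ₗ[R] N) (hπ : IsGrHom ℳ 𝒩 π) (hsurj : Function.Surjective π)
    (hker : LinearMap.ker π = LinearMap.range (x • (LinearMap.id : M →ₗ[R] M))) (n : ℤ) :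
    hf 𝒜 ℳ n = hf 𝒜 ℳ (n - e) + hf 𝒜 𝒩 n := by
  classical
  unfold hf
  apply len_piece_add (comp 𝒜 ℳ (n - e)) (comp 𝒜 ℳ n) (comp 𝒜 𝒩 n)
    ((x • (LinearMap.id : M →ₗ[R] M)).restrictScalars (deg0 𝒜))
    (π.restrictScalars (deg0 𝒜)) ?_ (fun y hy => hπ n y hy)
  · intro m _ hm
    exact hreg (hm.trans (smul_zero x).symm)
  · intro z hz
    obtain ⟨y, hy⟩ := hsurj z
    exact exists_mem_of_isGrHom ℳ 𝒩 (DirectSum.Decomposition.isInternal ℳ)
      (DirectSum.Decomposition.isInternal 𝒩) π hπ hz y hy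
  · intro y hy hpy
    have h1 : y ∈ LinearMap.range (x • (LinearMap.id : M →ₗ[R] M)) := by
      rw [← hker]
      exact hpy
    obtain ⟨m, hm⟩ := h1
    have hm' : x • m = y := hm
    refine ⟨((DirectSum.decompose ℳ m (n - e) : ℳ (n - e)) : M), SetLike.coe_mem _, ?_⟩
    show x • ((DirectSum.decompose ℳ m (n - e) : ℳ (n - e)) : M) = y
    rw [← decompose_smul_apply 𝒜 ℳ hx m n, hm', DirectSum.decompose_of_mem_same ℳ hy]
  · intro m _
    have h1 : (x • (LinearMap.id : M →ₗ[R] M)) m ∈ LinearMap.ker π := by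
      rw [hker]
      exact ⟨m, rfl⟩
    exact h1
  · exact isFiniteLength_comp 𝒜 ℳ hpos n
  · intro m hm
    have h1 := smul_mem_add 𝒜 ℳ hx (show m ∈ ℳ (n - e) from hm)
    rw [add_sub_cancel] at h1
    exact h1

omit [DirectSum.Decomposition ℳ] in
theorem pow_smul_mem_piece {x : R} {e : ℤ} (hx : x ∈ 𝒜 e) {g : ℤ} {z : M} (hz : z ∈ ℳ g) (t : ℕ) :
    x ^ t • z ∈ ℳ (t * e + g) := by
  induction t with
  | zero => simpa using hz
  | succ t ih =>
    have h1 := smul_mem_add 𝒜 ℳ hx ih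
    rw [pow_succ', mul_smul]
    have h2 : e + (↑t * e + g) = ((t + 1 : ℕ) : ℤ) * e + g := by push_cast; ring
    rw [h2] at h1
    exact h1

/-- a graded module with a homogeneous regular element of positive degree whose pieces vanish in
large degrees is zero -/
theorem subsingleton_of_regular (x : R) (e : ℤ) (he : 0 < e) (hx : x ∈ 𝒜 e) (hreg : IsSMulRegular M x)
    (n₀ : ℤ) (h : ∀ n : ℤ, n₀ ≤ n → ℳ n = ⊥) : Subsingleton M := by
  classical
  have h1 : ∀ (g : ℤ) (z : M), z ∈ ℳ g → z = 0 := by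
    intro g z hz
    have h2 := pow_smul_mem_piece 𝒜 ℳ hx hz (n₀ - g).toNat
    have h3 : n₀ ≤ ((n₀ - g).toNat : ℤ) * e + g := by
      rcases le_or_gt n₀ g with hle | hlt
      · have : ((n₀ - g).toNat : ℤ) = 0 := by omega
        rw [this]
        omega
      · have h4 : ((n₀ - g).toNat : ℤ) = n₀ - g := by omega
        rw [h4]
        nlinarith
    rw [h _ h3, AddSubgroup.mem_bot] at h2
    exact (hreg.pow _) (h2.trans (smul_zero _).symm)
  refine ⟨fun z w => ?_⟩
  have hz : ∀ z : M, z = 0 := by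
    intro z
    rw [← DirectSum.sum_support_decompose ℳ z]
    exact Finset.sum_eq_zero (fun g _ => h1 g _ (SetLike.coe_mem _))
  rw [hz z, hz w]

end Regular

end Groth.Agent.Lib.helper19.GrSG
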