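import Mathlib
import Groth.Prelude.Def_GrLC
import Groth.Agent.Lib.Helper19.GrSG2
import Groth.Agent.Lib.Helper19.GrReg4
import Groth.Agent.Lib.Helper19.GrFin4
import Groth.Agent.S13225

/-!
# Serre–Grothendieck formula (helper19), part 3: Euler characteristics of graded local cohomology

* `chi 𝒜 a E d n = Σ_{i ≤ d} (-1)^i ℓ_{R_0}(H^i_a(M)_n)`
* `chi_ses` : additivity on graded short exact sequences
* `chi_regular` : `χ_M(n) = χ_M(n - e) + χ_{M/xM}(n)` for a homogeneous regular element of degree `e`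
* `chi_tors` : `χ_M(n) = H_M(n)` for torsion modules
* `chi_eq_zero_of_subsingleton`
-/

set_option autoImplicit false
universe u

namespace Groth.Agent.Lib.helper19.GrSG

open GrLC Groth.Agent.Lib.helper19.GrMod Groth.Agent.Lib.helper19.GrLes Groth.Agent.Lib.helper19.GrFin

variable {R : Type u} [CommRing R] [IsNoetherianRing R] (𝒜 : ℤ → AddSubgroup R) [GradedRing 𝒜]

section Def

variable {M : Type u} [AddCommGroup M] [Module R M] {ℳ : ℤ → AddSubgroup M}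
  [DirectSum.Decomposition ℳ] [SetLike.GradedSMul 𝒜 ℳ]

/-- the Euler characteristic of the degree `n` pieces of graded local cohomology -/
noncomputable def chi (a : HomogeneousIdeal 𝒜) (E : StarInjRes 𝒜 ℳ) (d : ℕ) (n : ℤ) : ℚ :=
  ∑ i ∈ Finset.range (d + 1), (-1 : ℚ) ^ i * (len (deg0 𝒜) ↥(E.Hcomp a i n) : ℚ)

theorem Hcomp_eq_bot_of_Hgr {a : HomogeneousIdeal 𝒜} {E : StarInjRes 𝒜 ℳ} {i : ℕ} {n : ℤ}
    (h : E.Hgr a i n = ⊥) : E.Hcomp a i n = ⊥ := by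
  rw [eq_bot_iff]
  intro x hx
  have hx' : x ∈ E.Hgr a i n := hx
  rw [h] at hx'
  exact (Submodule.mem_bot _).2 (AddSubgroup.mem_bot.1 hx')

theorem len_Hcomp_eq_zero {a : HomogeneousIdeal 𝒜} {E : StarInjRes 𝒜 ℳ} {i : ℕ} {n : ℤ}
    (h : E.Hcomp a i n = ⊥) : len (deg0 𝒜) ↥(E.Hcomp a i n) = 0 := by
  rw [h]
  exact len_eq_zero_of_subsingleton

theorem chi_eq_zero_of_subsingleton [Subsingleton M] (a : HomogeneousIdeal 𝒜) (E : StarInjRes 𝒜 ℳ)
    (d : ℕ) (n : ℤ) : chi 𝒜 a E d n = 0 := by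
  unfold chi
  refine Finset.sum_eq_zero (fun i _ => ?_)
  rw [len_Hcomp_eq_zero 𝒜 (Hcomp_eq_bot_of_Hgr 𝒜
    (Groth.Agent.Lib.helper19.GrReg.Hgr_eq_bot_of_subsingleton a E i n))]
  simp

end Def

section Ses

variable {M' : Type u} [AddCommGroup M'] [Module R M'] {ℳ' : ℤ → AddSubgroup M'}
  [DirectSum.Decomposition ℳ'] [SetLike.GradedSMul 𝒜 ℳ']
variable {M : Type u} [AddCommGroup M] [Module R M] {ℳ : ℤ → AddSubgroup M}
  [DirectSum.Decomposition ℳ] [SetLike.GradedSMul 𝒜 ℳ]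
variable {M'' : Type u} [AddCommGroup M''] [Module R M''] {ℳ'' : ℤ → AddSubgroup M''}
  [DirectSum.Decomposition ℳ''] [SetLike.GradedSMul 𝒜 ℳ'']

theorem chi_ses (i : M' →ₗ[R] M) (p : M →ₗ[R] M'') (hi : IsGrHom ℳ' ℳ i) (hp : IsGrHom ℳ ℳ'' p)
    (hinj : Function.Injective i) (hsurj : Function.Surjective p)
    (hex : LinearMap.ker p = LinearMap.range i)
    (E' : StarInjRes 𝒜 ℳ') (E : StarInjRes 𝒜 ℳ) (E'' : StarInjRes 𝒜 ℳ'') (a : HomogeneousIdeal 𝒜)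
    (d : ℕ) (n : ℤ)
    (hF' : ∀ j, IsFiniteLength (deg0 𝒜) ↥(E'.Hcomp a j n))
    (hF : ∀ j, IsFiniteLength (deg0 𝒜) ↥(E.Hcomp a j n))
    (hF'' : ∀ j, IsFiniteLength (deg0 𝒜) ↥(E''.Hcomp a j n))
    (hv : E'.Hcomp a (d + 1) n = ⊥) :
    chi 𝒜 a E d n = chi 𝒜 a E' d n + chi 𝒜 a E'' d n := by
  classical
  obtain ⟨φ⟩ := exists_cmap E' E i hi
  obtain ⟨ψ⟩ := exists_cmap E E'' p hp
  obtain ⟨δ, hδ, hφ0, hψ, hδk, hφk⟩ := les i p hi hp hinj hsurj hex E' E E'' φ ψ a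
  have int' := fun j => Groth.Agent.S13225.result R 𝒜 a M' ℳ' E' j
  have int := fun j => Groth.Agent.S13225.result R 𝒜 a M ℳ E j
  have int'' := fun j => Groth.Agent.S13225.result R 𝒜 a M'' ℳ'' E'' j
  unfold chi
  apply euler_les_pieces (K := deg0 𝒜) (fun j => E'.H a j) (fun j => E.H a j) (fun j => E''.H a j)
    (fun j => E'.Hcomp a j n) (fun j => E.Hcomp a j n) (fun j => E''.Hcomp a j n)
    (fun j => (φ.Hmap a j).restrictScalars (deg0 𝒜)) (fun j => (ψ.Hmap a j).restrictScalars (deg0 𝒜))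
    (fun j => (δ j).restrictScalars (deg0 𝒜))
  · intro j x hx
    exact φ.Hmap_isGrHom a j n x hx
  · intro j x hx
    exact ψ.Hmap_isGrHom a j n x hx
  · intro j x hx
    exact hδ j n x hx
  · intro x _ hx
    exact hφ0 (hx.trans (map_zero _).symm)
  · intro j x _
    have h1 : φ.Hmap a j x ∈ LinearMap.ker (ψ.Hmap a j) := by
      rw [hψ j]
      exact ⟨x, rfl⟩
    exact h1
  · intro j y hy hy0
    have h1 : y ∈ LinearMap.range (φ.Hmap a j) := by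
      rw [← hψ j]
      exact hy0
    obtain ⟨x, hx⟩ := h1
    exact exists_mem_of_isGrHom (E'.Hgr a j) (E.Hgr a j) (int' j) (int j) (φ.Hmap a j)
      (φ.Hmap_isGrHom a j) hy x hx
  · intro j y _
    have h1 : ψ.Hmap a j y ∈ LinearMap.ker (δ j) := by
      rw [hδk j]
      exact ⟨y, rfl⟩
    exact h1
  · intro j z hz hz0
    have h1 : z ∈ LinearMap.range (ψ.Hmap a j) := by
      rw [← hδk j]
      exact hz0
    obtain ⟨y, hy⟩ := h1
    exact exists_mem_of_isGrHom (E.Hgr a j) (E''.Hgr a j) (int j) (int'' j) (ψ.Hmap a j)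
      (ψ.Hmap_isGrHom a j) hz y hy
  · intro j z _
    have h1 : δ j z ∈ LinearMap.ker (φ.Hmap a (j + 1)) := by
      rw [hφk j]
      exact ⟨z, rfl⟩
    exact h1
  · intro j x hx hx0
    have h1 : x ∈ LinearMap.range (δ j) := by
      rw [← hφk j]
      exact hx0
    obtain ⟨z, hz⟩ := h1
    exact exists_mem_of_isGrHom (E''.Hgr a j) (E'.Hgr a (j + 1)) (int'' j) (int' (j + 1)) (δ j)
      (hδ j) hx z hz
  · exact hF'
  · exact hF
  · exact hF''
  · exact hv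

end Ses

section Regular

variable {M : Type u} [AddCommGroup M] [Module R M] {ℳ : ℤ → AddSubgroup M}
  [DirectSum.Decomposition ℳ] [SetLike.GradedSMul 𝒜 ℳ]
variable {N : Type u} [AddCommGroup N] [Module R N] {𝒩 : ℤ → AddSubgroup N}
  [DirectSum.Decomposition 𝒩] [SetLike.GradedSMul 𝒜 𝒩]

theorem chi_regular (E : StarInjRes 𝒜 ℳ) (F : StarInjRes 𝒜 𝒩) (x : R) (e : ℤ) (hx : x ∈ 𝒜 e)
    (hreg : IsSMulRegular M x) (π : M →ₗ[R] N) (hπ : IsGrHom ℳ 𝒩 π) (hsurj : Function.Surjective π)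
    (hker : LinearMap.ker π = LinearMap.range (x • (LinearMap.id : M →ₗ[R] M)))
    (a : HomogeneousIdeal 𝒜) (d : ℕ) (n : ℤ)
    (hFE : ∀ j g, IsFiniteLength (deg0 𝒜) ↥(E.Hcomp a j g))
    (hFF : ∀ j, IsFiniteLength (deg0 𝒜) ↥(F.Hcomp a j n))
    (hv : E.Hcomp a (d + 1) (n - e) = ⊥) :
    chi 𝒜 a E d n = chi 𝒜 a E d (n - e) + chi 𝒜 a F d n := by
  classical
  obtain ⟨ψ, δ, hψg, hδg, h0, h1, h2, h3, h4, h5, h6⟩ :=
    les_regular E F x e hx hreg π hπ hsurj hker a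
  unfold chi
  apply euler_les_pieces (K := deg0 𝒜) (fun j => E.H a j) (fun j => E.H a j) (fun j => F.H a j)
    (fun j => E.Hcomp a j (n - e)) (fun j => E.Hcomp a j n) (fun j => F.Hcomp a j n)
    (fun j => (x • (LinearMap.id : E.H a j →ₗ[R] E.H a j)).restrictScalars (deg0 𝒜))
    (fun j => (ψ j).restrictScalars (deg0 𝒜)) (fun j => (δ j).restrictScalars (deg0 𝒜))
  · intro j z hz
    have h7 := smul_mem_Hgr E a j hx (show z ∈ E.Hgr a j (n - e) from hz)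
    rw [add_sub_cancel] at h7
    exact h7
  · intro j y hy
    exact hψg j n y hy
  · intro j w hw
    exact hδg j n w hw
  · intro z _ hz
    exact h0 z hz
  · intro j z _
    exact h2 j z
  · intro j y hy hy0
    exact h1 j n y hy hy0
  · intro j y _
    exact h4 j y
  · intro j w hw hw0
    exact h3 j n w hw hw0
  · intro j w _
    exact h6 j w
  · intro j y hy hy0
    have h7 := h5 j (n - e) y hy hy0
    rw [sub_add_cancel] at h7
    exact h7
  · intro j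
    exact hFE j (n - e)
  · intro j
    exact hFE j n
  · exact hFF
  · exact hv

end Regular

section Tors

variable {M : Type u} [AddCommGroup M] [Module R M] {ℳ : ℤ → AddSubgroup M}
  [DirectSum.Decomposition ℳ] [SetLike.GradedSMul 𝒜 ℳ]

/-- for a torsion module `H^0_a(M)_n ≅ M_n` -/
theorem len_Hcomp_zero_of_tors (a : HomogeneousIdeal 𝒜) (E : StarInjRes 𝒜 ℳ)
    (hM : Groth.Agent.Lib.helper19.LCZero.IsTors a.toIdeal M) (n : ℤ) :
    len (deg0 𝒜) ↥(E.Hcomp a 0 n) = hf 𝒜 ℳ n := by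
  classical
  unfold hf
  let f : ↥(E.Hcomp a 0 n) →ₗ[deg0 𝒜] ↥(comp 𝒜 ℳ n) :=
    ((H0toM E a).restrictScalars (deg0 𝒜)).restrict (p := E.Hcomp a 0 n) (q := comp 𝒜 ℳ n)
      (fun y hy => H0toM_mem_piece E a (show y ∈ E.Hgr a 0 n from hy))
  have hinj : Function.Injective f := by
    intro y y' hyy'
    have h1 : H0toM E a (y : E.H a 0) = H0toM E a (y' : E.H a 0) := congrArg Subtype.val hyy'
    exact Subtype.ext (H0toM_injective E a h1)
  have hsurj : Function.Surjective f := by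
    intro m
    have hm : (m : M) ∈ ℳ n := m.2
    have hz : E.ε (m : M) ∈ E.cocyc a 0 := by
      rw [mem_cocyc]
      refine ⟨?_, d_ε E (m : M)⟩
      obtain ⟨t, ht⟩ := hM (m : M)
      exact ⟨t, fun r hr => by rw [← map_smul, ht r hr, map_zero]⟩
    have hy : E.toH a 0 ⟨E.ε (m : M), hz⟩ ∈ E.Hcomp a 0 n :=
      ⟨⟨E.ε (m : M), hz⟩, E.ε_grHom n _ hm, rfl⟩
    refine ⟨⟨E.toH a 0 ⟨E.ε (m : M), hz⟩, hy⟩, Subtype.ext ?_⟩
    show H0toM E a (E.toH a 0 ⟨E.ε (m : M), hz⟩) = (m : M)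
    apply E.ε_injective
    rw [ε_H0toM]
  exact len_eq_of_equiv (LinearEquiv.ofBijective f ⟨hinj, hsurj⟩)

theorem chi_tors (a : HomogeneousIdeal 𝒜) (E : StarInjRes 𝒜 ℳ)
    (hM : Groth.Agent.Lib.helper19.LCZero.IsTors a.toIdeal M) (d : ℕ) (n : ℤ) :
    chi 𝒜 a E d n = (hf 𝒜 ℳ n : ℚ) := by
  unfold chi
  rw [Finset.sum_range_succ', len_Hcomp_zero_of_tors 𝒜 a E hM n]
  have h1 : ∑ i ∈ Finset.range d, (-1 : ℚ) ^ (i + 1) * (len (deg0 𝒜) ↥(E.Hcomp a (i + 1) n) : ℚ) = 0 := by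
    refine Finset.sum_eq_zero (fun i _ => ?_)
    rw [len_Hcomp_eq_zero 𝒜 (Hcomp_eq_bot_of_Hgr 𝒜
      (Groth.Agent.Lib.helper19.GrReg.Hgr_succ_eq_bot_of_tors E a hM i n))]
    simp
  rw [h1]
  simp

end Tors

end Groth.Agent.Lib.helper19.GrSG
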