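import Mathlib
import Groth.Prelude.Def_GrLC
import Groth.Agent.Lib.Helper19.GrSG3
import Groth.Agent.S13215

/-!
# Serre–Grothendieck formula (helper19), part 4: the formula

`R` Noetherian positively `ℤ`-graded with `R_0` Artinian, `a` a homogeneous ideal which is `Good`
(finite length and eventually vanishing pieces of local cohomology, vanishing above `d`, regular
elements of positive degree on `a`-torsion-free modules).  Then for every finite graded module `M`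
whose Hilbert function is eventually a polynomial `P`:
`H_M(n) - P(n) = Σ_{i ≤ d} (-1)^i ℓ(H^i_a(M)_n)` (`formula`).
-/

set_option autoImplicit false
universe u

namespace Groth.Agent.Lib.helper19.GrSG

open GrLC Polynomial Groth.Agent.Lib.helper19.GrMod Groth.Agent.Lib.helper19.GrLes
  Groth.Agent.Lib.helper19.GrFin
open scoped Pointwise

variable {R : Type u} [CommRing R] [IsNoetherianRing R] (𝒜 : ℤ → AddSubgroup R) [GradedRing 𝒜]

/-- the properties of the ideal `a` used in the proof of the Serre–Grothendieck formula -/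
structure Good (a : HomogeneousIdeal 𝒜) (d : ℕ) : Prop where
  fin : ∀ (M : Type u) [AddCommGroup M] [Module R M] [Module.Finite R M] (ℳ : ℤ → AddSubgroup M)
    [DirectSum.Decomposition ℳ] [SetLike.GradedSMul 𝒜 ℳ] (E : StarInjRes 𝒜 ℳ) (i : ℕ) (g : ℤ),
    IsFiniteLength (deg0 𝒜) ↥(E.Hcomp a i g)
  van : ∀ (M : Type u) [AddCommGroup M] [Module R M] [Module.Finite R M] (ℳ : ℤ → AddSubgroup M)
    [DirectSum.Decomposition ℳ] [SetLike.GradedSMul 𝒜 ℳ] (E : StarInjRes 𝒜 ℳ) (i : ℕ),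
    ∃ r : ℤ, ∀ g : ℤ, r ≤ g → E.Hcomp a i g = ⊥
  top : ∀ (M : Type u) [AddCommGroup M] [Module R M] [Module.Finite R M] (ℳ : ℤ → AddSubgroup M)
    [DirectSum.Decomposition ℳ] [SetLike.GradedSMul 𝒜 ℳ] (E : StarInjRes 𝒜 ℳ) (i : ℕ), d < i →
    ∀ g : ℤ, E.Hcomp a i g = ⊥
  reg : ∀ (M : Type u) [AddCommGroup M] [Module R M] [Module.Finite R M],
    gam a.toIdeal M = ⊥ → ∃ (e : ℤ) (_ : 0 < e) (x : R), x ∈ 𝒜 e ∧ IsSMulRegular M x

/-- the statement of the formula for a module -/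
def Formula (a : HomogeneousIdeal 𝒜) (d : ℕ) {M : Type u} [AddCommGroup M] [Module R M]
    (ℳ : ℤ → AddSubgroup M) [DirectSum.Decomposition ℳ] [SetLike.GradedSMul 𝒜 ℳ]
    (E : StarInjRes 𝒜 ℳ) (P : ℚ[X]) : Prop :=
  ∀ n : ℤ, (hf 𝒜 ℳ n : ℚ) - P.eval (n : ℚ) = chi 𝒜 a E d n

/-- `P` is the Hilbert polynomial -/
def IsHilbPoly {M : Type u} [AddCommGroup M] [Module R M]
    (ℳ : ℤ → AddSubgroup M) [SetLike.GradedSMul 𝒜 ℳ] (P : ℚ[X]) : Prop :=
  ∃ N : ℤ, ∀ n : ℤ, N ≤ n → P.eval (n : ℚ) = (hf 𝒜 ℳ n : ℚ)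

variable (hpos : ∀ n : ℤ, n < 0 → 𝒜 n = ⊥) [IsArtinianRing (deg0 𝒜)]
  (a : HomogeneousIdeal 𝒜) (d : ℕ) (hG : Good 𝒜 a d)

section Bound

variable {M : Type u} [AddCommGroup M] [Module R M] [Module.Finite R M] (ℳ : ℤ → AddSubgroup M)
  [DirectSum.Decomposition ℳ] [SetLike.GradedSMul 𝒜 ℳ]

include hG in
theorem exists_bound (E : StarInjRes 𝒜 ℳ) (t : ℕ) :
    ∃ r : ℤ, ∀ i : ℕ, i < t → ∀ g : ℤ, r ≤ g → E.Hcomp a i g = ⊥ := by
  induction t with
  | zero => exact ⟨0, fun i hi => absurd hi (Nat.not_lt_zero i)⟩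
  | succ t ih =>
    obtain ⟨r, hr⟩ := ih
    obtain ⟨r', hr'⟩ := hG.van M ℳ E t
    refine ⟨max r r', fun i hi g hg => ?_⟩
    rcases Nat.lt_succ_iff_lt_or_eq.1 hi with h | h
    · exact hr i h g (le_trans (le_max_left _ _) hg)
    · subst h
      exact hr' g (le_trans (le_max_right _ _) hg)

include hG in
theorem chi_eq_zero_of_large (E : StarInjRes 𝒜 ℳ) :
    ∃ r : ℤ, ∀ g : ℤ, r ≤ g → chi 𝒜 a E d g = 0 := by
  obtain ⟨r, hr⟩ := exists_bound 𝒜 a d hG ℳ E (d + 1)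
  refine ⟨r, fun g hg => ?_⟩
  unfold chi
  refine Finset.sum_eq_zero (fun i hi => ?_)
  rw [len_Hcomp_eq_zero 𝒜 (hr i (Finset.mem_range.1 hi) g hg)]
  simp

include hpos in
theorem piece_eq_bot_of_hf_eq_zero {n : ℤ} (h : hf 𝒜 ℳ n = 0) : ℳ n = ⊥ := by
  have hfl := isFiniteLength_comp 𝒜 ℳ hpos n
  unfold hf len at h
  rw [ENat.toNat_eq_zero] at h
  rcases h with h | h
  · rw [Module.length_eq_zero_iff] at h
    rw [eq_bot_iff]
    intro x hx
    have : (⟨x, hx⟩ : ↥(comp 𝒜 ℳ n)) = 0 := Subsingleton.elim _ _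
    rw [AddSubgroup.mem_bot]
    exact congrArg Subtype.val this
  · exact absurd h (Module.length_ne_top_iff.2 hfl)

end Bound

section TorsionFree

variable {M : Type u} [AddCommGroup M] [Module R M] [Module.Finite R M] (ℳ : ℤ → AddSubgroup M)
  [DirectSum.Decomposition ℳ] [SetLike.GradedSMul 𝒜 ℳ]

include hpos hG in
/-- torsion-free modules with Hilbert polynomial zero are zero -/
theorem formula_tf_zero (htf : gam a.toIdeal M = ⊥) (E : StarInjRes 𝒜 ℳ)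
    (hP : IsHilbPoly 𝒜 ℳ 0) : Formula 𝒜 a d ℳ E 0 := by
  obtain ⟨e, he, x, hx, hreg⟩ := hG.reg M htf
  obtain ⟨N, hN⟩ := hP
  have h1 : ∀ n : ℤ, N ≤ n → ℳ n = ⊥ := by
    intro n hn
    apply piece_eq_bot_of_hf_eq_zero 𝒜 hpos ℳ
    have h2 := hN n hn
    rw [eval_zero] at h2
    exact_mod_cast h2.symm
  haveI : Subsingleton M := subsingleton_of_regular 𝒜 ℳ x e he hx hreg N h1
  intro n
  rw [hf_eq_zero_of_subsingleton, chi_eq_zero_of_subsingleton, eval_zero]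
  simp

include hpos hG in
/-- the inductive step for torsion-free modules -/
theorem formula_tf_step (c : ℕ)
    (IH : ∀ (N : Type u) [AddCommGroup N] [Module R N] [Module.Finite R N] (𝒩 : ℤ → AddSubgroup N)
      [DirectSum.Decomposition 𝒩] [SetLike.GradedSMul 𝒜 𝒩] (F : StarInjRes 𝒜 𝒩) (Q : ℚ[X]),
      mu Q ≤ c → IsHilbPoly 𝒜 𝒩 Q → Formula 𝒜 a d 𝒩 F Q)
    (htf : gam a.toIdeal M = ⊥) (E : StarInjRes 𝒜 ℳ) (P : ℚ[X]) (hP0 : P ≠ 0) (hmu : mu P ≤ c + 1)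
    (hP : IsHilbPoly 𝒜 ℳ P) : Formula 𝒜 a d ℳ E P := by
  classical
  obtain ⟨e, he, x, hx, hreg⟩ := hG.reg M htf
  obtain ⟨N₀, hN₀⟩ := hP
  -- the quotient `M/xM`
  have hK : (x • (⊤ : Submodule R M)).IsHomogeneous ℳ := smul_top_isHomogeneous hx
  letI : DirectSum.Decomposition (quotPiece ℳ (x • (⊤ : Submodule R M))) := quotDecomposition ℳ _ hK
  letI : SetLike.GradedSMul 𝒜 (quotPiece ℳ (x • (⊤ : Submodule R M))) := quot_gradedSMul 𝒜 ℳ _
  obtain ⟨F⟩ := Groth.Agent.S13215.result R 𝒜 (M ⧸ (x • (⊤ : Submodule R M)))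
    (quotPiece ℳ (x • (⊤ : Submodule R M)))
  have hπ : IsGrHom ℳ (quotPiece ℳ (x • (⊤ : Submodule R M))) (x • (⊤ : Submodule R M)).mkQ :=
    mkQ_isGrHom ℳ _
  have hsurj : Function.Surjective (x • (⊤ : Submodule R M)).mkQ := Submodule.mkQ_surjective _
  have hker : LinearMap.ker (x • (⊤ : Submodule R M)).mkQ =
      LinearMap.range (x • (LinearMap.id : M →ₗ[R] M)) := by
    rw [Submodule.ker_mkQ, smul_top_eq_range]
  have hHilb : ∀ n : ℤ, (hf 𝒜 ℳ n : ℚ) = (hf 𝒜 ℳ (n - e) : ℚ) +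
      (hf 𝒜 (quotPiece ℳ (x • (⊤ : Submodule R M))) n : ℚ) := by
    intro n
    have := hf_regular 𝒜 ℳ (quotPiece ℳ (x • (⊤ : Submodule R M))) hpos x e hx hreg _ hπ hsurj hker n
    exact_mod_cast this
  -- the Hilbert polynomial of the quotient
  have hevalQ : ∀ n : ℤ, (P - P.comp (X - C (e : ℚ))).eval (n : ℚ) =
      P.eval (n : ℚ) - P.eval (((n - e : ℤ) : ℚ)) := by
    intro n
    rw [eval_sub, eval_comp, eval_sub, eval_X, eval_C]
    push_cast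
    rfl
  have hQ : IsHilbPoly 𝒜 (quotPiece ℳ (x • (⊤ : Submodule R M))) (P - P.comp (X - C (e : ℚ))) := by
    refine ⟨N₀ + e, fun n hn => ?_⟩
    rw [hevalQ, hN₀ n (by omega), hN₀ (n - e) (by omega), hHilb n]
    ring
  have hmuQ : mu (P - P.comp (X - C (e : ℚ))) ≤ c := by
    have := mu_diff_lt P hP0 (e : ℚ)
    omega
  have hFQ := IH _ (quotPiece ℳ (x • (⊤ : Submodule R M))) F _ hmuQ hQ
  have hchi : ∀ n : ℤ, chi 𝒜 a E d n = chi 𝒜 a E d (n - e) + chi 𝒜 a F d n := by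
    intro n
    exact chi_regular 𝒜 E F x e hx hreg _ hπ hsurj hker a d n (fun j g => hG.fin M ℳ E j g)
      (fun j => hG.fin _ _ F j n) (hG.top M ℳ E (d + 1) (Nat.lt_succ_self d) (n - e))
  -- the defect is periodic
  have hper : ∀ n : ℤ, (hf 𝒜 ℳ n : ℚ) - P.eval (n : ℚ) - chi 𝒜 a E d n =
      (hf 𝒜 ℳ (n - e) : ℚ) - P.eval (((n - e : ℤ) : ℚ)) - chi 𝒜 a E d (n - e) := by
    intro n
    have h1 := hFQ n
    rw [hevalQ] at h1
    rw [hchi n, hHilb n]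
    linarith
  have hper' : ∀ (t : ℕ) (n : ℤ), (hf 𝒜 ℳ n : ℚ) - P.eval (n : ℚ) - chi 𝒜 a E d n =
      (hf 𝒜 ℳ (n + t * e) : ℚ) - P.eval (((n + t * e : ℤ) : ℚ)) - chi 𝒜 a E d (n + t * e) := by
    intro t
    induction t with
    | zero => intro n; simp
    | succ t ih =>
      intro n
      rw [ih n, hper (n + ((t + 1 : ℕ) : ℤ) * e)]
      have h2 : n + ((t + 1 : ℕ) : ℤ) * e - e = n + (t : ℤ) * e := by push_cast; ring
      rw [h2]
  obtain ⟨r, hr⟩ := chi_eq_zero_of_large 𝒜 a d hG ℳ E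
  intro n
  have h3 := hper' (max N₀ r - n).toNat n
  have h4 : max N₀ r ≤ n + ((max N₀ r - n).toNat : ℤ) * e := by
    rcases le_or_gt (max N₀ r) n with hle | hlt
    · have : ((max N₀ r - n).toNat : ℤ) = 0 := by omega
      rw [this]
      omega
    · have h5 : ((max N₀ r - n).toNat : ℤ) = max N₀ r - n := by omega
      rw [h5]
      nlinarith
  rw [hr _ (le_trans (le_max_right _ _) h4), hN₀ _ (le_trans (le_max_left _ _) h4)] at h3
  linarith

end TorsionFree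

section Reduce

variable {M : Type u} [AddCommGroup M] [Module R M] [Module.Finite R M] (ℳ : ℤ → AddSubgroup M)
  [DirectSum.Decomposition ℳ] [SetLike.GradedSMul 𝒜 ℳ]

include hpos hG in
/-- reduction to the torsion-free case -/
theorem formula_reduce (P : ℚ[X])
    (Htf : ∀ (N : Type u) [AddCommGroup N] [Module R N] [Module.Finite R N] (𝒩 : ℤ → AddSubgroup N)
      [DirectSum.Decomposition 𝒩] [SetLike.GradedSMul 𝒜 𝒩] (F : StarInjRes 𝒜 𝒩),
      gam a.toIdeal N = ⊥ → IsHilbPoly 𝒜 𝒩 P → Formula 𝒜 a d 𝒩 F P)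
    (E : StarInjRes 𝒜 ℳ) (hP : IsHilbPoly 𝒜 ℳ P) : Formula 𝒜 a d ℳ E P := by
  classical
  have hΓ : (gam a.toIdeal M).IsHomogeneous ℳ := gam_isHomogeneous 𝒜 a ℳ
  letI : DirectSum.Decomposition (subPiece ℳ (gam a.toIdeal M)) := subDecomposition ℳ _ hΓ
  letI : SetLike.GradedSMul 𝒜 (subPiece ℳ (gam a.toIdeal M)) := sub_gradedSMul 𝒜 ℳ _
  letI : DirectSum.Decomposition (quotPiece ℳ (gam a.toIdeal M)) := quotDecomposition ℳ _ hΓ
  letI : SetLike.GradedSMul 𝒜 (quotPiece ℳ (gam a.toIdeal M)) := quot_gradedSMul 𝒜 ℳ _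
  haveI : IsNoetherian R M := isNoetherian_of_isNoetherianRing_of_finite R M
  obtain ⟨EΓ⟩ := Groth.Agent.S13215.result R 𝒜 ↥(gam a.toIdeal M) (subPiece ℳ (gam a.toIdeal M))
  obtain ⟨Eq⟩ := Groth.Agent.S13215.result R 𝒜 (M ⧸ gam a.toIdeal M) (quotPiece ℳ (gam a.toIdeal M))
  have hi : IsGrHom (subPiece ℳ (gam a.toIdeal M)) ℳ (gam a.toIdeal M).subtype := subtype_isGrHom ℳ _
  have hp : IsGrHom ℳ (quotPiece ℳ (gam a.toIdeal M)) (gam a.toIdeal M).mkQ := mkQ_isGrHom ℳ _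
  have hinj : Function.Injective (gam a.toIdeal M).subtype := Submodule.subtype_injective _
  have hsurj : Function.Surjective (gam a.toIdeal M).mkQ := Submodule.mkQ_surjective _
  have hex : LinearMap.ker (gam a.toIdeal M).mkQ = LinearMap.range (gam a.toIdeal M).subtype := by
    rw [Submodule.ker_mkQ, Submodule.range_subtype]
  have hT : Groth.Agent.Lib.helper19.LCZero.IsTors a.toIdeal ↥(gam a.toIdeal M) := by
    intro z
    obtain ⟨t, ht⟩ := z.2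
    exact ⟨t, fun r hr => Subtype.ext (ht r hr)⟩
  have T1 : ∀ n : ℤ, chi 𝒜 a E d n = chi 𝒜 a EΓ d n + chi 𝒜 a Eq d n := by
    intro n
    exact chi_ses 𝒜 _ _ hi hp hinj hsurj hex EΓ E Eq a d n (fun j => hG.fin _ _ EΓ j n)
      (fun j => hG.fin _ _ E j n) (fun j => hG.fin _ _ Eq j n)
      (hG.top _ _ EΓ (d + 1) (Nat.lt_succ_self d) n)
  have T2 : ∀ n : ℤ, (hf 𝒜 ℳ n : ℚ) = (hf 𝒜 (subPiece ℳ (gam a.toIdeal M)) n : ℚ) +
      (hf 𝒜 (quotPiece ℳ (gam a.toIdeal M)) n : ℚ) := by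
    intro n
    have := hf_ses 𝒜 (subPiece ℳ (gam a.toIdeal M)) ℳ (quotPiece ℳ (gam a.toIdeal M)) hpos _ _ hi hp
      hinj hsurj hex n
    exact_mod_cast this
  have T3 : ∀ n : ℤ, chi 𝒜 a EΓ d n = (hf 𝒜 (subPiece ℳ (gam a.toIdeal M)) n : ℚ) :=
    fun n => chi_tors 𝒜 a EΓ hT d n
  have htf : gam a.toIdeal (M ⧸ gam a.toIdeal M) = ⊥ := gam_quot_gam a.toIdeal M
  obtain ⟨N₀, hN₀⟩ := hP
  obtain ⟨r, hr⟩ := hG.van _ _ EΓ 0
  have hPq : IsHilbPoly 𝒜 (quotPiece ℳ (gam a.toIdeal M)) P := by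
    refine ⟨max N₀ r, fun n hn => ?_⟩
    have h1 : hf 𝒜 (subPiece ℳ (gam a.toIdeal M)) n = 0 := by
      rw [← len_Hcomp_zero_of_tors 𝒜 a EΓ hT n]
      exact len_Hcomp_eq_zero 𝒜 (hr n (le_trans (le_max_right _ _) hn))
    rw [hN₀ n (le_trans (le_max_left _ _) hn), T2 n, h1]
    simp
  have T4 := Htf _ (quotPiece ℳ (gam a.toIdeal M)) Eq htf hPq
  intro n
  rw [T1 n, T2 n, T3 n, ← T4 n]
  ring

end Reduce

include hpos hG in
/-- **Serre–Grothendieck formula** -/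
theorem formula : ∀ (c : ℕ) (M : Type u) [AddCommGroup M] [Module R M] [Module.Finite R M]
    (ℳ : ℤ → AddSubgroup M) [DirectSum.Decomposition ℳ] [SetLike.GradedSMul 𝒜 ℳ]
    (E : StarInjRes 𝒜 ℳ) (P : ℚ[X]), mu P ≤ c → IsHilbPoly 𝒜 ℳ P → Formula 𝒜 a d ℳ E P := by
  intro c
  induction c with
  | zero =>
    intro M _ _ _ ℳ _ _ E P hmu hP
    have hP0 : P = 0 := by
      by_contra h
      simp [mu, h] at hmu
    subst hP0
    apply formula_reduce 𝒜 hpos a d hG ℳ 0 ?_ E hP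
    intro N _ _ _ 𝒩 _ _ F htf hQ
    exact formula_tf_zero 𝒜 hpos a d hG 𝒩 htf F hQ
  | succ c ih =>
    intro M _ _ _ ℳ _ _ E P hmu hP
    apply formula_reduce 𝒜 hpos a d hG ℳ P ?_ E hP
    intro N _ _ _ 𝒩 _ _ F htf hQ
    by_cases hP0 : P = 0
    · subst hP0
      exact formula_tf_zero 𝒜 hpos a d hG 𝒩 htf F hQ
    · exact formula_tf_step 𝒜 hpos a d hG 𝒩 c ih htf F P hP0 hmu hQ

end Groth.Agent.Lib.helper19.GrSG
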