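import Mathlib
import Groth.Prelude.Def_GrLC
import Groth.Agent.Lib.Helper19.GrSG4
import Groth.Agent.Lib.Helper19.StarLocalArt
import Groth.Agent.Lib.Helper19.LCGroth
import Groth.Agent.S13224
import Groth.Agent.S17767
import Groth.Agent.S17768

/-!
# Serre–Grothendieck formula (helper19), part 5: the *maximal ideal of a *local ring with Artinian
degree zero part is `Good`

* `exists_pow_le_irr` : `m^s ⊆ R_+`
* `good_of_starLocal` : `Good 𝒜 m d` for `d = dim R`
* `formula_starLocal` : the Serre–Grothendieck formula for `H^i_m`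
-/

set_option autoImplicit false
universe u

namespace Groth.Agent.Lib.helper19.GrSG

open GrLC Polynomial DirectSum Groth.Agent.Lib.helper19.GrMod Groth.Agent.Lib.helper19.GrLes
  Groth.Agent.Lib.helper19.GrFin

variable {R : Type u} [CommRing R] (𝒜 : ℤ → AddSubgroup R) [GradedRing 𝒜]
  (hpos : ∀ n : ℤ, n < 0 → 𝒜 n = ⊥)

theorem sub_projZero_mem_irr (x : R) : x - ((projZero 𝒜 hpos x : deg0 𝒜) : R) ∈ irr 𝒜 := by
  classical
  show x - ((decompose 𝒜 x 0 : 𝒜 0) : R) ∈ irr 𝒜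
  rw [← Ideal.Quotient.eq]
  conv_lhs => rw [← DirectSum.sum_support_decompose 𝒜 x, map_sum]
  apply Finset.sum_eq_single 0
  · intro k _ hk
    rcases lt_or_gt_of_ne hk with h | h
    · rw [coe_decompose_eq_zero_of_neg 𝒜 hpos x h, map_zero]
    · exact Ideal.Quotient.eq_zero_iff_mem.2 (mem_irr_of_mem 𝒜 h (SetLike.coe_mem _))
  · intro h0
    rw [DFinsupp.notMem_support_iff.1 h0]
    simp

theorem comap_projZero_eq (m : HomogeneousIdeal 𝒜) (hm : IsStarLocal 𝒜 m) (n : Ideal (deg0 𝒜))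
    [hn : n.IsMaximal] : Ideal.comap (projZero 𝒜 hpos) n = m.toIdeal := by
  classical
  have hmax : (Ideal.comap (projZero 𝒜 hpos) n).IsMaximal :=
    Ideal.comap_isMaximal_of_surjective _ (projZero_surjective 𝒜 hpos)
  have hhom : (Ideal.comap (projZero 𝒜 hpos) n).IsHomogeneous 𝒜 := by
    intro g x hx
    rw [Ideal.mem_comap] at hx ⊢
    by_cases hg : g = 0
    · subst hg
      have : projZero 𝒜 hpos ((decompose 𝒜 x 0 : 𝒜 0) : R) = projZero 𝒜 hpos x :=
        Subtype.ext (decompose_of_mem_same 𝒜 (SetLike.coe_mem _))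
      rw [this]
      exact hx
    · have : projZero 𝒜 hpos ((decompose 𝒜 x g : 𝒜 g) : R) = 0 :=
        Subtype.ext (decompose_of_mem_ne 𝒜 (SetLike.coe_mem _) hg)
      rw [this]
      exact zero_mem _
  let J : HomogeneousIdeal 𝒜 := ⟨Ideal.comap (projZero 𝒜 hpos) n, hhom⟩
  have hJ : IsCoatom J := by
    constructor
    · intro h
      apply hmax.ne_top
      have : J.toIdeal = (⊤ : HomogeneousIdeal 𝒜).toIdeal := by rw [h]
      exact this
    · intro b hb
      apply HomogeneousIdeal.toIdeal_injective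
      have h1 : J.toIdeal < b.toIdeal := hb
      exact hmax.1.2 b.toIdeal h1
  have := hm.2 J hJ
  rw [← this]

variable [IsArtinianRing (deg0 𝒜)]

include hpos

theorem le_radical_irr (m : HomogeneousIdeal 𝒜) (hm : IsStarLocal 𝒜 m) :
    m.toIdeal ≤ (irr 𝒜).radical := by
  intro x hx
  have h1 : projZero 𝒜 hpos x ∈ Ideal.jacobson (⊥ : Ideal (deg0 𝒜)) := by
    rw [Ideal.jacobson, Submodule.mem_sInf]
    rintro n ⟨-, hn⟩
    haveI := hn
    have h2 : x ∈ Ideal.comap (projZero 𝒜 hpos) n := by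
      rw [comap_projZero_eq 𝒜 hpos m hm n]
      exact hx
    exact h2
  obtain ⟨s, hs⟩ := IsArtinianRing.isNilpotent_jacobson_bot (R := deg0 𝒜)
  have h3 : (projZero 𝒜 hpos x) ^ s = 0 := by
    have : (projZero 𝒜 hpos x) ^ s ∈ Ideal.jacobson (⊥ : Ideal (deg0 𝒜)) ^ s := Ideal.pow_mem_pow h1 s
    rw [hs] at this
    exact this
  refine ⟨s, ?_⟩
  have h4 : Ideal.Quotient.mk (irr 𝒜) x = Ideal.Quotient.mk (irr 𝒜) ((projZero 𝒜 hpos x : deg0 𝒜) : R) :=
    Ideal.Quotient.eq.2 (sub_projZero_mem_irr 𝒜 hpos x)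
  rw [← Ideal.Quotient.eq_zero_iff_mem, map_pow, h4, ← map_pow]
  have h5 : (((projZero 𝒜 hpos x : deg0 𝒜) : R)) ^ s = (((projZero 𝒜 hpos x) ^ s : deg0 𝒜) : R) := by
    push_cast
    rfl
  rw [h5, h3]
  simp

theorem exists_pow_le_irr [IsNoetherianRing R] (m : HomogeneousIdeal 𝒜) (hm : IsStarLocal 𝒜 m) :
    ∃ s : ℕ, m.toIdeal ^ s ≤ irr 𝒜 :=
  Ideal.exists_pow_le_of_le_radical_of_fg (le_radical_irr 𝒜 hpos m hm)
    (IsNoetherian.noetherian m.toIdeal)

theorem gam_irr_le [IsNoetherianRing R] (m : HomogeneousIdeal 𝒜) (hm : IsStarLocal 𝒜 m)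
    (M : Type u) [AddCommGroup M] [Module R M] : gam (irr 𝒜) M ≤ gam m.toIdeal M := by
  obtain ⟨s, hs⟩ := exists_pow_le_irr 𝒜 hpos m hm
  rintro z ⟨t, ht⟩
  refine ⟨s * t, fun r hr => ht r ?_⟩
  rw [pow_mul] at hr
  exact Ideal.pow_right_mono hs t hr

theorem good_of_starLocal [IsNoetherianRing R] (m : HomogeneousIdeal 𝒜) (hm : IsStarLocal 𝒜 m)
    (d : ℕ) (hd : ringKrullDim R = d) : Good 𝒜 m d where
  fin := by
    intro M _ _ _ ℳ _ _ E i g
    have h1 := Groth.Agent.S17768.result R 𝒜 hpos m hm M ℳ E i g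
    exact ((IsArtinianRing.tfae (deg0 𝒜) ↥(E.Hcomp m i g)).out 2 3).mp h1
  van := by
    intro M _ _ _ ℳ _ _ E i
    exact Groth.Agent.S17767.result R 𝒜 hpos m hm M ℳ E i
  top := by
    intro M _ _ _ ℳ _ _ E i hi g
    have h1 : Module.supportDim R M < (i : WithBot ℕ∞) := by
      refine lt_of_le_of_lt (Module.supportDim_le_ringKrullDim R M) ?_
      rw [hd]
      exact_mod_cast hi
    have h2 : Subsingleton (LocCoh.H m.toIdeal i M) :=
      Groth.Agent.Lib.helper19.LCGroth.vanish m.toIdeal M i h1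
    obtain ⟨e⟩ := Groth.Agent.S13224.result R 𝒜 m M ℳ E i
    haveI : Subsingleton (E.H m i) := e.toEquiv.subsingleton
    exact Hcomp_eq_bot_of_Hgr 𝒜 (eq_bot_of_subsingleton E m i g)
  reg := by
    intro M _ _ _ htf
    have h1 : gam (irr 𝒜) M = ⊥ := by
      rw [eq_bot_iff, ← htf]
      exact gam_irr_le 𝒜 hpos m hm M
    obtain ⟨e, he, x, hx, hreg⟩ := exists_homogeneous_regular 𝒜 M h1
    exact ⟨(e : ℤ), by exact_mod_cast he, x, hx, hreg⟩

/-- the Serre–Grothendieck formula for a *local ring with Artinian degree zero part -/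
theorem formula_starLocal [IsNoetherianRing R] (m : HomogeneousIdeal 𝒜) (hm : IsStarLocal 𝒜 m)
    (d : ℕ) (hd : ringKrullDim R = d) (M : Type u) [AddCommGroup M] [Module R M] [Module.Finite R M]
    (ℳ : ℤ → AddSubgroup M) [DirectSum.Decomposition ℳ] [SetLike.GradedSMul 𝒜 ℳ]
    (E : StarInjRes 𝒜 ℳ) (P : ℚ[X]) (hP : IsHilbPoly 𝒜 ℳ P) : Formula 𝒜 m d ℳ E P :=
  formula 𝒜 hpos m d (good_of_starLocal 𝒜 hpos m hm d hd) (mu P) M ℳ E P le_rfl hP

end Groth.Agent.Lib.helper19.GrSG
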