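import Mathlib
import Groth.Prelude.Def_GrLC
import Groth.Agent.Lib.Helper19.GrHt1
import Groth.Agent.Lib.Helper19.GrSG5
import Groth.Agent.Lib.Helper19.GrFin1
import Groth.Agent.Lib.Helper19.StarLocalArt

/-!
# Heights of primes in positively graded rings (helper19), part 2

* `le_of_isHomogeneous_ne_top` : a proper homogeneous ideal of a *local positively graded ring lies
  in the *maximal ideal
* `ringKrullDim_eq_height` : `dim R = ht m` for a Noetherian *local positively graded ring `(R, m)`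
-/

set_option autoImplicit false
universe u

namespace Groth.Agent.Lib.helper19.GrHt

open GrLC Polynomial DirectSum Groth.Agent.Lib.helper19.GrMod Groth.Agent.Lib.helper19.GrLes
  Groth.Agent.Lib.helper19.GrFin Groth.Agent.Lib.helper19.GrSG

variable {R : Type u} [CommRing R] (𝒜 : ℤ → AddSubgroup R) [GradedRing 𝒜]
  (hpos : ∀ n : ℤ, n < 0 → 𝒜 n = ⊥)

include hpos

/-- a proper homogeneous ideal lies in the *maximal ideal -/
theorem le_of_isHomogeneous_ne_top (m : HomogeneousIdeal 𝒜) (hm : IsStarLocal 𝒜 m) (J : Ideal R)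
    (hJ : J.IsHomogeneous 𝒜) (hJt : J ≠ ⊤) : J ≤ m.toIdeal := by
  classical
  have h0 : J.comap (deg0 𝒜).subtype ≠ ⊤ := by
    intro h
    apply hJt
    rw [Ideal.eq_top_iff_one] at h ⊢
    have := Ideal.mem_comap.1 h
    simpa using this
  obtain ⟨n, hn, hle⟩ := Ideal.exists_le_maximal _ h0
  have hc := comap_projZero_eq 𝒜 hpos m hm n
  intro x hx
  rw [← hc, Ideal.mem_comap]
  apply hle
  rw [Ideal.mem_comap]
  exact hJ 0 hx

/-- **`dim R = ht m`** for a Noetherian *local positively graded ring -/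
theorem ringKrullDim_eq_height [IsNoetherianRing R] (m : HomogeneousIdeal 𝒜)
    (hm : IsStarLocal 𝒜 m) : ringKrullDim R = m.toIdeal.height := by
  classical
  haveI hmax : m.toIdeal.IsMaximal := Groth.Agent.Lib.helper19.StarLocalArt.isMaximal_of_isCoatom 𝒜 hpos m hm.1
  refine le_antisymm ?_ (Ideal.height_le_ringKrullDim_of_ne_top hmax.ne_top)
  rw [ringKrullDim_le_iff_isMaximal_height_le]
  intro 𝔫 h𝔫
  by_cases hnm : 𝔫 = m.toIdeal
  · rw [hnm]
  haveI : 𝔫.IsPrime := h𝔫.isPrime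
  have h1 := height_le_height_homogeneousCore_add_one 𝒜 hpos 𝔫
  haveI hcp : (𝔫.homogeneousCore 𝒜).toIdeal.IsPrime := Ideal.IsPrime.homogeneousCore h𝔫.isPrime
  have hle : (𝔫.homogeneousCore 𝒜).toIdeal ≤ m.toIdeal :=
    le_of_isHomogeneous_ne_top 𝒜 hpos m hm _ (𝔫.homogeneousCore 𝒜).isHomogeneous hcp.ne_top
  have hlt : (𝔫.homogeneousCore 𝒜).toIdeal < m.toIdeal := by
    refine lt_of_le_of_ne hle ?_
    intro h
    apply hnm
    have h2 : m.toIdeal ≤ 𝔫 := h ▸ Ideal.toIdeal_homogeneousCore_le 𝒜 𝔫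
    exact (hmax.eq_of_le h𝔫.ne_top h2).symm
  have h2 := Ideal.height_add_one_le_of_lt_of_isPrime hlt
  exact_mod_cast h1.trans h2

end Groth.Agent.Lib.helper19.GrHt
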