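import Mathlib
import Groth.Prelude.Def_GrLC
import Groth.Prelude.Def_GrSyz
import Groth.Agent.Lib.Helper19.GrPoly
import Groth.Agent.Lib.Helper19.GrFin1

/-!
# Lengths of graded modules over the standard graded polynomial ring (helper19), part 1

* `decompose_zero_eq_C` : the degree-zero component of a polynomial is its constant coefficient
* `length_tail` : `ℓ_S(N_{≥ g}) = ℓ_S(N_{≥ g+1}) + dim_k N_g`
* `le_length_tail` : `m ≤ ℓ_S(N_{≥ g})` if `N_j ≠ 0` for `g ≤ j < g + m`
-/

set_option autoImplicit false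
universe u

namespace Groth.Agent.Lib.helper19.GrLen

open GrLC MvPolynomial Groth.Agent.Lib.helper19.GrMod Groth.Agent.Lib.helper19.GrLes
  Groth.Agent.Lib.helper19.GrConv Groth.Agent.Lib.helper19.GrPoly Groth.Agent.Lib.helper19.GrFin

variable (k : Type u) [Field k] (n : ℕ)

theorem decompose_zero_eq_C (s : MvPolynomial (Fin n) k) :
    ((DirectSum.decompose (GrSyz.stdGr k (Fin n)) s 0 : GrSyz.stdGr k (Fin n) 0) : MvPolynomial (Fin n) k) =
      C (constantCoeff s) := by
  classical
  have h1 : s = C (constantCoeff s) + (s - C (constantCoeff s)) := by ring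
  have h2 : s - C (constantCoeff s) ∈ (GrSyz.irrel (GrSyz.stdGr k (Fin n))).toIdeal := by
    rw [Groth.Agent.Lib.helper7.GrSyzBasic.mem_irrel_iff, map_sub, constantCoeff_C, sub_self]
  have h3 : ((DirectSum.decompose (GrSyz.stdGr k (Fin n)) (s - C (constantCoeff s)) 0 :
      GrSyz.stdGr k (Fin n) 0) : MvPolynomial (Fin n) k) = 0 :=
    Groth.Agent.Lib.helper7.GrSyzBasic.eq_zero_of_mem_stdGr_of_mem_irrel le_rfl (SetLike.coe_mem _)
      ((GrSyz.irrel (GrSyz.stdGr k (Fin n))).isHomogeneous 0 h2)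
  have h4 : (C (constantCoeff s) : MvPolynomial (Fin n) k) ∈ GrSyz.stdGr k (Fin n) 0 :=
    isWeightedHomogeneous_C (fun _ : Fin n => (1 : ℤ)) (constantCoeff s)
  conv_lhs => rw [h1]
  rw [DirectSum.decompose_add, DirectSum.add_apply, Submodule.coe_add, h3, add_zero,
    DirectSum.decompose_of_mem_same _ h4]

variable (N : Type u) [AddCommGroup N] [Module k N] [Module (MvPolynomial (Fin n) k) N]
  [IsScalarTower k (MvPolynomial (Fin n) k) N]
  (𝒩 : ℤ → Submodule k N) [DirectSum.Decomposition 𝒩] [SetLike.GradedSMul (GrSyz.stdGr k (Fin n)) 𝒩]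

/-- the submodule of elements of degree `≥ g` -/
noncomputable abbrev tl (g : ℤ) : Submodule (MvPolynomial (Fin n) k) N :=
  GrFin.tail (gr k n) (gr_neg k n) (addGr 𝒩) g

theorem length_tail (g : ℤ) :
    Module.length (MvPolynomial (Fin n) k) ↥(tl k n N 𝒩 g) =
      Module.length (MvPolynomial (Fin n) k) ↥(tl k n N 𝒩 (g + 1)) + Module.length k ↥(𝒩 g) := by
  classical
  letI : Algebra (MvPolynomial (Fin n) k) k := (constantCoeff (R := k) (σ := Fin n)).toAlgebra
  letI : Module (MvPolynomial (Fin n) k) ↥(𝒩 g) :=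
    Module.compHom _ (constantCoeff (R := k) (σ := Fin n))
  have hsm : ∀ (s : MvPolynomial (Fin n) k) (v : ↥(𝒩 g)), s • v = constantCoeff s • v := fun _ _ => rfl
  haveI : IsScalarTower (MvPolynomial (Fin n) k) k ↥(𝒩 g) := ⟨fun s c v => by
    rw [hsm, Algebra.smul_def, mul_smul]
    rfl⟩
  have hle : tl k n N 𝒩 (g + 1) ≤ tl k n N 𝒩 g := fun t ht j hj => ht j (by omega)
  let f : ↥(tl k n N 𝒩 (g + 1)) →ₗ[MvPolynomial (Fin n) k] ↥(tl k n N 𝒩 g) := Submodule.inclusion hle
  let p : ↥(tl k n N 𝒩 g) →ₗ[MvPolynomial (Fin n) k] ↥(𝒩 g) :=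
    { toFun := fun t => ⟨((DirectSum.decompose (addGr 𝒩) (t : N) g : addGr 𝒩 g) : N),
        (DirectSum.decompose (addGr 𝒩) (t : N) g).2⟩
      map_add' := fun t t' => by
        apply Subtype.ext
        show ((DirectSum.decompose (addGr 𝒩) ((t : N) + (t' : N)) g : addGr 𝒩 g) : N) = _
        rw [DirectSum.decompose_add, DirectSum.add_apply, AddSubgroup.coe_add]
        rfl
      map_smul' := fun s t => by
        apply Subtype.ext
        show ((DirectSum.decompose (addGr 𝒩) (s • (t : N)) g : addGr 𝒩 g) : N) =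
          constantCoeff s • ((DirectSum.decompose (addGr 𝒩) (t : N) g : addGr 𝒩 g) : N)
        rw [(decompose_smul_of_tail (gr k n) (addGr 𝒩) (gr_neg k n) s (t : N) g t.2).1,
          coe_decompose_addGr, decompose_zero_eq_C, ← algebraMap_eq, algebraMap_smul] }
  have hf : Function.Injective f := Submodule.inclusion_injective hle
  have hp : Function.Surjective p := by
    intro v
    have hv : (v : N) ∈ addGr 𝒩 g := v.2
    refine ⟨⟨(v : N), mem_tail_of_mem (gr k n) (gr_neg k n) (addGr 𝒩) hv⟩, Subtype.ext ?_⟩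
    show ((DirectSum.decompose (addGr 𝒩) (v : N) g : addGr 𝒩 g) : N) = v
    exact DirectSum.decompose_of_mem_same (addGr 𝒩) hv
  have H : Function.Exact f p := by
    intro t
    constructor
    · intro ht
      have ht0 : ((DirectSum.decompose (addGr 𝒩) (t : N) g : addGr 𝒩 g) : N) = 0 :=
        congrArg Subtype.val ht
      refine ⟨⟨(t : N), fun j hj => ?_⟩, Subtype.ext rfl⟩
      rcases lt_or_eq_of_le (show j ≤ g by omega) with h | h
      · exact t.2 j h
      · subst h
        exact ht0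
    · rintro ⟨t', rfl⟩
      apply Subtype.ext
      show ((DirectSum.decompose (addGr 𝒩) ((t' : N)) g : addGr 𝒩 g) : N) = 0
      exact t'.2 g (by omega)
  rw [Module.length_eq_add_of_exact f p hf hp H]
  congr 1
  refine Module.length_eq_of_surjective (S := MvPolynomial (Fin n) k) (R := k) (M := ↥(𝒩 g)) ?_
  intro c
  exact ⟨C c, constantCoeff_C _ c⟩

theorem le_length_tail (m : ℕ) : ∀ g : ℤ, (∀ j : ℤ, g ≤ j → j < g + m → 𝒩 j ≠ ⊥) →
    (m : ℕ∞) ≤ Module.length (MvPolynomial (Fin n) k) ↥(tl k n N 𝒩 g) := by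
  induction m with
  | zero => intro g _; exact bot_le
  | succ m ih =>
    intro g h
    rw [length_tail]
    have h1 := ih (g + 1) (fun j hj1 hj2 => h j (by omega) (by push_cast; omega))
    have h2 : (1 : ℕ∞) ≤ Module.length k ↥(𝒩 g) := by
      have h3 : Nontrivial ↥(𝒩 g) := by
        rw [Submodule.nontrivial_iff_ne_bot]
        exact h g le_rfl (by push_cast; omega)
      exact Order.one_le_iff_pos.2 Module.length_pos
    push_cast
    exact add_le_add h1 h2

end Groth.Agent.Lib.helper19.GrLen
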