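import Mathlib
import Groth.Prelude.Def_GrLC
import Groth.Prelude.Def_GrSyz
import Groth.Agent.Lib.Helper19.GrReg4
import Groth.Agent.S15417

/-!
# Local-cohomological regularity of graded modules (helper19), part 5:
the standard graded polynomial ring `S = k[x_0, …, x_r]`

* `isRegLE_iff_lcreg` : `GrSyz.IsRegLE … d ↔ LCReg (mm k (r+1)) (addGr ℳ) d`
* `reg_eq` : `GrSyz.reg = s` as soon as `LCReg d ↔ s ≤ d` for all integers `d`
* `isTors_of_finiteLength`, `lcreg_iff_of_finiteLength`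
-/

set_option autoImplicit false
universe u

namespace Groth.Agent.Lib.helper19.GrReg

open GrLC Groth.Agent.Lib.helper19.GrMod Groth.Agent.Lib.helper19.GrLes Groth.Agent.Lib.helper19.GrShift
  Groth.Agent.Lib.helper19.GrConv Groth.Agent.Lib.helper19.GrPoly

section Poly

variable (k : Type u) [Field k] (r : ℕ)
variable (M : Type u) [AddCommGroup M] [Module k M] [Module (MvPolynomial (Fin (r + 1)) k) M]
  (ℳ : ℤ → Submodule k M) [DirectSum.Decomposition ℳ] [SetLike.GradedSMul (GrSyz.stdGr k (Fin (r + 1))) ℳ]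

theorem isRegLE_iff_lcreg [Module.Finite (MvPolynomial (Fin (r + 1)) k) M] (d : ℤ) :
    GrSyz.IsRegLE (GrSyz.stdGr k (Fin (r + 1))) ℳ (GrSyz.irrel (GrSyz.stdGr k (Fin (r + 1)))).toIdeal d ↔
      LCReg (mm k (r + 1)) (addGr ℳ) d := by
  constructor
  · rintro ⟨F, hF, hd⟩
    exact (Groth.Agent.S15417.isGenLE_iff_lcreg_poly k (r + 1) M ℳ F hF d).1 hd
  · intro h
    obtain ⟨F, hF⟩ := Groth.Agent.Lib.helper7.GrSyzMinRes.exists_minimal_freeRes (r := r) ℳ
    exact ⟨F, hF, (Groth.Agent.S15417.isGenLE_iff_lcreg_poly k (r + 1) M ℳ F hF d).2 h⟩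

theorem reg_eq [Module.Finite (MvPolynomial (Fin (r + 1)) k) M] (s : WithBot (WithTop ℤ))
    (h : ∀ d : ℤ, LCReg (mm k (r + 1)) (addGr ℳ) d ↔ s ≤ ((d : WithTop ℤ) : WithBot (WithTop ℤ))) :
    GrSyz.reg (GrSyz.stdGr k (Fin (r + 1))) ℳ (GrSyz.irrel (GrSyz.stdGr k (Fin (r + 1)))).toIdeal = s := by
  unfold GrSyz.reg
  have h1 : ∀ d : ℤ, GrSyz.IsRegLE (GrSyz.stdGr k (Fin (r + 1))) ℳ
      (GrSyz.irrel (GrSyz.stdGr k (Fin (r + 1)))).toIdeal d ↔
      s ≤ ((d : WithTop ℤ) : WithBot (WithTop ℤ)) :=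
    fun d => (isRegLE_iff_lcreg k r M ℳ d).trans (h d)
  have h2 : ∀ d : ℤ, (⨅ (_ : GrSyz.IsRegLE (GrSyz.stdGr k (Fin (r + 1))) ℳ
      (GrSyz.irrel (GrSyz.stdGr k (Fin (r + 1)))).toIdeal d), ((d : WithTop ℤ) : WithBot (WithTop ℤ))) =
      ⨅ (_ : s ≤ ((d : WithTop ℤ) : WithBot (WithTop ℤ))), ((d : WithTop ℤ) : WithBot (WithTop ℤ)) :=
    fun d => iInf_congr_Prop (h1 d) (fun _ => rfl)
  rw [iInf_congr h2]
  exact iInf_cast_eq s

end Poly

section FinLen

variable (k : Type u) [Field k] (n : ℕ)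
variable (M : Type u) [AddCommGroup M] [Module k M] [Module (MvPolynomial (Fin n) k) M]
  (ℳ : ℤ → Submodule k M) [DirectSum.Decomposition ℳ] [SetLike.GradedSMul (GrSyz.stdGr k (Fin n)) ℳ]

theorem isTors_of_bounded_poly (n₁ : ℤ) (hb : ∀ j : ℤ, n₁ ≤ j → addGr ℳ j = ⊥) :
    Groth.Agent.Lib.helper19.LCZero.IsTors (mm k n).toIdeal M :=
  isTors_of_bounded (gr k n) (gr_neg k n) (addGr ℳ)
    {x : MvPolynomial (Fin n) k | ∃ i : ℤ, 0 < i ∧ x ∈ GrSyz.stdGr k (Fin n) i}
    (fun _ hx => hx) n₁ hb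

include ℳ in
theorem isTors_of_finiteLength (hM : IsFiniteLength (MvPolynomial (Fin n) k) M) :
    Groth.Agent.Lib.helper19.LCZero.IsTors (mm k n).toIdeal M := by
  haveI : IsArtinian (MvPolynomial (Fin n) k) M := (isFiniteLength_iff_isNoetherian_isArtinian.1 hM).2
  obtain ⟨n₁, hb⟩ := exists_bound_of_artinian (gr k n) (gr_neg k n) (addGr ℳ)
  exact isTors_of_bounded_poly k n M ℳ n₁ hb

/-- the regularity of a torsion (e.g. finite length) graded module is its largest nonzero degree -/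
theorem lcreg_iff_of_tors (hM : Groth.Agent.Lib.helper19.LCZero.IsTors (mm k n).toIdeal M) (d : ℤ) :
    LCReg (mm k n) (addGr ℳ) d ↔
      GrLC.endDeg (addGr ℳ) ≤ ((d : WithTop ℤ) : WithBot (WithTop ℤ)) := by
  classical
  constructor
  · intro h
    apply endDeg_le
    intro g hne
    rw [cast_le]
    by_contra hcon
    push Not at hcon
    apply hne
    obtain ⟨E⟩ := Groth.Agent.S13215.result (MvPolynomial (Fin n) k) (gr k n) M (addGr ℳ)
    have h1 := h E 0 g (by simpa using hcon)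
    rw [Hgr_zero_eq_bot_iff] at h1
    rw [eq_bot_iff]
    intro m hm
    rw [AddSubgroup.mem_bot]
    exact h1 m hm (hM m)
  · intro h E j g hg
    cases j with
    | zero =>
      rw [Hgr_zero_eq_bot_iff]
      intro m hm _
      by_contra hne
      have h1 : addGr ℳ g ≠ ⊥ := by
        intro h0
        rw [h0, AddSubgroup.mem_bot] at hm
        exact hne hm
      have h2 := le_trans (le_endDeg (addGr ℳ) h1) h
      rw [cast_le] at h2
      push_cast at hg
      omega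
    | succ j => exact Hgr_succ_eq_bot_of_tors E (mm k n) hM j g

end FinLen

end Groth.Agent.Lib.helper19.GrReg
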