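import Mathlib
import Groth.Prelude.Def_GrLC
import Groth.Agent.Lib.Helper19.GrReg4

/-!
# Local-cohomological regularity of graded modules (helper19), part 6: quasi-regular elements

`x ∈ 𝒜 k ∩ a` homogeneous, `K = (0 :_M x)` an `a`-torsion module, `N = M/xM`:

* `quasi_v1` : `H^i_a(M)_g = 0` and `H^{i+1}_a(M)_{g-k} = 0` imply `H^i_a(N)_g = 0`
* `quasi_v2` : (`k > 0`) `H^j_a(N)_{g'} = 0` for all `g' > g` implies `H^{j+1}_a(M)_g = 0`
* `lcreg_quasi` : (`k = 1`) `LCReg a ℳ d ↔ LCReg a 𝒩 d ∧ ∀ g > d, H^0_a(M)_g = 0`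
-/

set_option autoImplicit false
universe u

namespace Groth.Agent.Lib.helper19.GrReg

open GrLC Groth.Agent.Lib.helper19.GrMod Groth.Agent.Lib.helper19.GrLes Groth.Agent.Lib.helper19.GrShift
  Groth.Agent.Lib.helper19.LCZero

section Quasi

variable {R : Type u} [CommRing R] [IsNoetherianRing R] {𝒜 : ℤ → AddSubgroup R} [GradedRing 𝒜]
variable {M : Type u} [AddCommGroup M] [Module R M] {ℳ : ℤ → AddSubgroup M}
  [DirectSum.Decomposition ℳ] [SetLike.GradedSMul 𝒜 ℳ]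
variable {N : Type u} [AddCommGroup N] [Module R N] {𝒩 : ℤ → AddSubgroup N}
  [DirectSum.Decomposition 𝒩] [SetLike.GradedSMul 𝒜 𝒩]

omit [IsNoetherianRing R] in
/-- shifting a chain map -/
def shiftCMap {E : StarInjRes 𝒜 ℳ} {F : StarInjRes 𝒜 𝒩} {f : M →ₗ[R] N} (c : CMap E F f) (d : ℤ)
    [DirectSum.Decomposition (shiftPiece ℳ d)] [SetLike.GradedSMul 𝒜 (shiftPiece ℳ d)]
    [DirectSum.Decomposition (shiftPiece 𝒩 d)] [SetLike.GradedSMul 𝒜 (shiftPiece 𝒩 d)] :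
    CMap (shiftRes E d) (shiftRes F d) f where
  φ := c.φ
  gr := fun n g y hy => c.gr n (g + d) y hy
  aug := c.aug
  comm := c.comm

omit [IsNoetherianRing R] in
theorem ker_smul_isHomogeneous {x : R} {k : ℤ} (hx : x ∈ 𝒜 k) :
    (LinearMap.ker (x • (LinearMap.id : M →ₗ[R] M))).IsHomogeneous ℳ := by
  intro i m hm
  rw [LinearMap.mem_ker] at hm ⊢
  show x • ((DirectSum.decompose ℳ m i : ℳ i) : M) = 0
  have h1 := decompose_smul_apply 𝒜 ℳ hx m (i + k)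
  have h2 : x • m = 0 := hm
  rw [h2, DirectSum.decompose_zero, coe_decompose_congr ℳ m (add_sub_cancel_right i k)] at h1
  exact h1.symm

variable (E : StarInjRes 𝒜 ℳ) (F : StarInjRes 𝒜 𝒩) (x : R) (k : ℤ) (hx : x ∈ 𝒜 k)
  (a : HomogeneousIdeal 𝒜) (K : Submodule R M) (hKx : K = LinearMap.ker (x • (LinearMap.id : M →ₗ[R] M)))
  (hKt : IsTors a.toIdeal K)
  (π : M →ₗ[R] N) (hπ : IsGrHom ℳ 𝒩 π) (hsurj : Function.Surjective π)
  (hker : LinearMap.ker π = LinearMap.range (x • (LinearMap.id : M →ₗ[R] M)))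

include hx hKx hKt hπ hsurj hker

theorem quasi_v1 (i : ℕ) (g : ℤ) (h1 : E.Hgr a i g = ⊥) (h2 : E.Hgr a (i + 1) (g - k) = ⊥) :
    F.Hgr a i g = ⊥ := by
  classical
  have hKh : K.IsHomogeneous ℳ := by
    rw [hKx]
    exact ker_smul_isHomogeneous hx
  letI : DirectSum.Decomposition (subPiece ℳ K) := subDecomposition ℳ K hKh
  haveI : SetLike.GradedSMul 𝒜 (subPiece ℳ K) := sub_gradedSMul 𝒜 ℳ K
  letI : DirectSum.Decomposition (quotPiece ℳ K) := quotDecomposition ℳ K hKh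
  haveI : SetLike.GradedSMul 𝒜 (quotPiece ℳ K) := quot_gradedSMul 𝒜 ℳ K
  letI : DirectSum.Decomposition (shiftPiece (quotPiece ℳ K) (-k)) :=
    shiftDecomposition (quotPiece ℳ K) (-k)
  haveI : SetLike.GradedSMul 𝒜 (shiftPiece (quotPiece ℳ K) (-k)) :=
    shift_gradedSMul 𝒜 (quotPiece ℳ K) (-k)
  obtain ⟨EK⟩ := Groth.Agent.S13215.result R 𝒜 K (subPiece ℳ K)
  obtain ⟨EQ⟩ := Groth.Agent.S13215.result R 𝒜 (M ⧸ K) (quotPiece ℳ K)
  let xb : (M ⧸ K) →ₗ[R] M := K.liftQ (x • (LinearMap.id : M →ₗ[R] M)) (le_of_eq hKx)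
  have hxb_gr : IsGrHom (shiftPiece (quotPiece ℳ K) (-k)) ℳ xb := by
    rintro g' q ⟨y, hy, rfl⟩
    show x • y ∈ ℳ g'
    have h3 := smul_mem_add 𝒜 ℳ hx hy
    have h4 : k + (g' + -k) = g' := by abel
    rw [h4] at h3
    exact h3
  have hxb_inj : Function.Injective xb := by
    rw [← LinearMap.ker_eq_bot]
    exact Submodule.ker_liftQ_eq_bot _ _ _ (le_of_eq hKx.symm)
  have hxb_range : LinearMap.ker π = LinearMap.range xb := by
    rw [hker]
    exact (Submodule.range_liftQ _ _ _).symm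
  -- step 1
  have s1 : EQ.Hgr a (i + 1) (g - k) = ⊥ :=
    ses_right K.subtype K.mkQ (subtype_isGrHom ℳ K) (mkQ_isGrHom ℳ K) K.injective_subtype
      (Submodule.mkQ_surjective K) (by rw [Submodule.ker_mkQ, Submodule.range_subtype]) EK E EQ a
      (i + 1) (g - k) h2 (Hgr_succ_eq_bot_of_tors EK a hKt (i + 1) (g - k))
  -- step 2
  have s2 : (shiftRes EQ (-k)).Hgr a (i + 1) g = ⊥ := by
    rw [eq_bot_iff] at s1 ⊢
    intro y hy
    have h3 : y ∈ EQ.Hgr a (i + 1) (g + -k) := (mem_shiftRes_Hgr a EQ (-k) (i + 1) g y).1 hy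
    rw [← sub_eq_add_neg] at h3
    exact s1 h3
  -- step 3
  exact ses_right xb π hxb_gr hπ hxb_inj hsurj hxb_range (shiftRes EQ (-k)) E F a i g h1 s2

theorem quasi_v2 (hxa : x ∈ a.toIdeal) (hk : 0 < k) (j : ℕ) (g : ℤ)
    (h : ∀ g' : ℤ, g < g' → F.Hgr a j g' = ⊥) : E.Hgr a (j + 1) g = ⊥ := by
  classical
  have hKh : K.IsHomogeneous ℳ := by
    rw [hKx]
    exact ker_smul_isHomogeneous hx
  letI : DirectSum.Decomposition (subPiece ℳ K) := subDecomposition ℳ K hKh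
  haveI : SetLike.GradedSMul 𝒜 (subPiece ℳ K) := sub_gradedSMul 𝒜 ℳ K
  letI : DirectSum.Decomposition (quotPiece ℳ K) := quotDecomposition ℳ K hKh
  haveI : SetLike.GradedSMul 𝒜 (quotPiece ℳ K) := quot_gradedSMul 𝒜 ℳ K
  letI : DirectSum.Decomposition (shiftPiece (quotPiece ℳ K) (-k)) :=
    shiftDecomposition (quotPiece ℳ K) (-k)
  haveI : SetLike.GradedSMul 𝒜 (shiftPiece (quotPiece ℳ K) (-k)) :=
    shift_gradedSMul 𝒜 (quotPiece ℳ K) (-k)
  letI : DirectSum.Decomposition (shiftPiece ℳ (-k)) := shiftDecomposition ℳ (-k)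
  haveI : SetLike.GradedSMul 𝒜 (shiftPiece ℳ (-k)) := shift_gradedSMul 𝒜 ℳ (-k)
  obtain ⟨EK⟩ := Groth.Agent.S13215.result R 𝒜 K (subPiece ℳ K)
  obtain ⟨EQ⟩ := Groth.Agent.S13215.result R 𝒜 (M ⧸ K) (quotPiece ℳ K)
  let xb : (M ⧸ K) →ₗ[R] M := K.liftQ (x • (LinearMap.id : M →ₗ[R] M)) (le_of_eq hKx)
  have hxb_gr : IsGrHom (shiftPiece (quotPiece ℳ K) (-k)) ℳ xb := by
    rintro g' q ⟨y, hy, rfl⟩
    show x • y ∈ ℳ g'
    have h3 := smul_mem_add 𝒜 ℳ hx hy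
    have h4 : k + (g' + -k) = g' := by abel
    rw [h4] at h3
    exact h3
  have hxb_inj : Function.Injective xb := by
    rw [← LinearMap.ker_eq_bot]
    exact Submodule.ker_liftQ_eq_bot _ _ _ (le_of_eq hKx.symm)
  have hxb_range : LinearMap.ker π = LinearMap.range xb := by
    rw [hker]
    exact (Submodule.range_liftQ _ _ _).symm
  obtain ⟨cK⟩ := exists_cmap EK E K.subtype (subtype_isGrHom ℳ K)
  obtain ⟨cq⟩ := exists_cmap E EQ K.mkQ (mkQ_isGrHom ℳ K)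
  obtain ⟨cx⟩ := exists_cmap (shiftRes EQ (-k)) E xb hxb_gr
  obtain ⟨cπ⟩ := exists_cmap E F π hπ
  obtain ⟨δA, hδA, hA0, hA1, hA2, hA3⟩ := les K.subtype K.mkQ (subtype_isGrHom ℳ K) (mkQ_isGrHom ℳ K)
    K.injective_subtype (Submodule.mkQ_surjective K)
    (by rw [Submodule.ker_mkQ, Submodule.range_subtype]) EK E EQ cK cq a
  obtain ⟨δB, hδB, hB0, hB1, hB2, hB3⟩ := les xb π hxb_gr hπ hxb_inj hsurj hxb_range
    (shiftRes EQ (-k)) E F cx cπ a
  -- `H^{j+1}(q)` is injective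
  have hqinj : ∀ z : E.H a (j + 1), cq.Hmap a (j + 1) z = 0 → z = 0 := by
    intro z hz
    have h3 : z ∈ LinearMap.ker (cq.Hmap a (j + 1)) := hz
    rw [hA1 (j + 1)] at h3
    obtain ⟨w, rfl⟩ := h3
    have h4 : Subsingleton (LocCoh.H a.toIdeal (j + 1) K) :=
      H_subsingleton_of_torsion a.toIdeal K hKt (j + 1) (Nat.succ_pos j)
    obtain ⟨e⟩ := Groth.Agent.S13224.result R 𝒜 a K (subPiece ℳ K) EK (j + 1)
    haveI : Subsingleton (EK.H a (j + 1)) := e.toEquiv.subsingleton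
    rw [Subsingleton.elim w 0, map_zero]
  -- multiplication by `x` factors
  have hfac : ∀ z : E.H a (j + 1), x • z = cx.Hmap a (j + 1) (cq.Hmap a (j + 1) z) := by
    intro z
    have h3 : ((shiftCMap cq (-k)).comp cx).Hmap a (j + 1) = (mulCMap E x k hx).Hmap a (j + 1) :=
      Hmap_eq' ((shiftCMap cq (-k)).comp cx) (mulCMap E x k hx)
        (Submodule.liftQ_mkQ K (x • (LinearMap.id : M →ₗ[R] M)) (le_of_eq hKx)) a (j + 1)
    have h4 := LinearMap.congr_fun h3 z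
    rw [CMap.Hmap_comp, mulCMap_Hmap] at h4
    exact h4.symm
  have intF : DirectSum.IsInternal (F.Hgr a j) := Groth.Agent.S13225.result R 𝒜 a N 𝒩 F j
  have intQ : DirectSum.IsInternal ((shiftRes EQ (-k)).Hgr a (j + 1)) :=
    Groth.Agent.S13225.result R 𝒜 a (M ⧸ K) (shiftPiece (quotPiece ℳ K) (-k)) (shiftRes EQ (-k)) (j + 1)
  -- injectivity of `x` in degrees `≥ g`
  have hinj : ∀ g' : ℤ, g ≤ g' → ∀ z ∈ E.Hgr a (j + 1) g', x • z = 0 → z = 0 := by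
    intro g' hg' z hz hxz
    apply hqinj
    rw [hfac] at hxz
    have h3 : cq.Hmap a (j + 1) z ∈ EQ.Hgr a (j + 1) g' := cq.Hmap_isGrHom a (j + 1) g' z hz
    have h4 : (show (shiftRes EQ (-k)).H a (j + 1) from cq.Hmap a (j + 1) z) ∈
        (shiftRes EQ (-k)).Hgr a (j + 1) (g' + k) := by
      rw [mem_shiftRes_Hgr]
      have : g' + k + -k = g' := by abel
      rw [this]
      exact h3
    have h5 : (show (shiftRes EQ (-k)).H a (j + 1) from cq.Hmap a (j + 1) z) ∈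
        LinearMap.ker (cx.Hmap a (j + 1)) := hxz
    rw [hB3 j] at h5
    obtain ⟨v, hv⟩ := h5
    obtain ⟨v', hv'g, hv'⟩ := exists_mem_of_isGrHom (F.Hgr a j) ((shiftRes EQ (-k)).Hgr a (j + 1))
      intF intQ (δB j) (hδB j) h4 v hv
    rw [h (g' + k) (by omega), AddSubgroup.mem_bot] at hv'g
    rw [hv'g, map_zero] at hv'
    exact hv'.symm
  -- conclusion
  rw [eq_bot_iff]
  intro y hy
  rw [AddSubgroup.mem_bot]
  obtain ⟨n, hn⟩ := exists_pow_smul_eq_zero' a E (j + 1) y x hxa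
  induction n with
  | zero => rwa [pow_zero, one_smul] at hn
  | succ n ih =>
    apply ih
    have hnk : 0 ≤ (n : ℤ) * k := mul_nonneg (Int.natCast_nonneg n) hk.le
    apply hinj (g + (n : ℤ) * k) (by omega) _ (pow_smul_mem_Hgr E a (j + 1) hx hy n)
    rw [← mul_smul, ← pow_succ']
    exact hn

end Quasi

end Groth.Agent.Lib.helper19.GrReg
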