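import Mathlib
import Groth.Prelude.Def_GrLC
import Groth.Agent.Lib.Helper19.GrReg6

/-!
# Local-cohomological regularity of graded modules (helper19), part 7

* `lcreg_iff_endDeg_add` : `LCReg a ℳ d ↔ ∀ i, end H^i_a(M) + i ≤ d`
* `lcreg_quasi` : for a quasi-regular element `x` of degree one, `N = M/xM`:
  `LCReg a ℳ d ↔ LCReg a 𝒩 d ∧ ∀ g > d, H^0_a(M)_g = 0`
* `lcreg_regular`, `lcreg_seq` : regularity is unchanged modulo a regular sequence of elements of degree one
-/

set_option autoImplicit false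
universe u

namespace Groth.Agent.Lib.helper19.GrReg

open GrLC Groth.Agent.Lib.helper19.GrMod Groth.Agent.Lib.helper19.GrLes Groth.Agent.Lib.helper19.GrShift
  Groth.Agent.Lib.helper19.LCZero
open scoped Pointwise

section Quasi

variable {R : Type u} [CommRing R] [IsNoetherianRing R] {𝒜 : ℤ → AddSubgroup R} [GradedRing 𝒜]
variable {M : Type u} [AddCommGroup M] [Module R M] {ℳ : ℤ → AddSubgroup M}
  [DirectSum.Decomposition ℳ] [SetLike.GradedSMul 𝒜 ℳ]
variable {N : Type u} [AddCommGroup N] [Module R N] {𝒩 : ℤ → AddSubgroup N}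
  [DirectSum.Decomposition 𝒩] [SetLike.GradedSMul 𝒜 𝒩]

theorem lcreg_iff_endDeg_add (E : StarInjRes 𝒜 ℳ) (a : HomogeneousIdeal 𝒜) (d : ℤ) :
    LCReg a ℳ d ↔ ∀ i : ℕ, GrLC.endDeg (E.Hgr a i) + (((i : ℤ) : WithTop ℤ) : WithBot (WithTop ℤ)) ≤
      ((d : WithTop ℤ) : WithBot (WithTop ℤ)) := by
  classical
  constructor
  · intro h i
    apply endDeg_add_le
    intro g hne
    rw [cast_add, cast_le]
    by_contra hcon
    push Not at hcon
    exact hne (h E i g (by omega))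
  · intro h E₂ j g hg
    rw [Hgr_indep E₂ E a j g]
    by_contra hne
    have h1 := le_endDeg (E.Hgr a j) hne
    have h2 : ((g : WithTop ℤ) : WithBot (WithTop ℤ)) + (((j : ℤ) : WithTop ℤ) : WithBot (WithTop ℤ)) ≤
        ((d : WithTop ℤ) : WithBot (WithTop ℤ)) := le_trans (add_le_add_left h1 _) (h j)
    rw [cast_add, cast_le] at h2
    omega

/-- regularity and quasi-regular elements of degree one -/
theorem lcreg_quasi (E : StarInjRes 𝒜 ℳ) (x : R) (hx : x ∈ 𝒜 1) (a : HomogeneousIdeal 𝒜)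
    (hxa : x ∈ a.toIdeal) (K : Submodule R M)
    (hKx : K = LinearMap.ker (x • (LinearMap.id : M →ₗ[R] M))) (hKt : IsTors a.toIdeal K)
    (π : M →ₗ[R] N) (hπ : IsGrHom ℳ 𝒩 π) (hsurj : Function.Surjective π)
    (hker : LinearMap.ker π = LinearMap.range (x • (LinearMap.id : M →ₗ[R] M))) (d : ℤ) :
    LCReg a ℳ d ↔ (LCReg a 𝒩 d ∧ ∀ g : ℤ, d < g → E.Hgr a 0 g = ⊥) := by
  constructor
  · intro h
    refine ⟨fun F j g hg => ?_, fun g hg => h E 0 g (by simpa using hg)⟩
    exact quasi_v1 E F x 1 hx a K hKx hKt π hπ hsurj hker j g (h E j g hg)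
      (h E (j + 1) (g - 1) (by push_cast; omega))
  · rintro ⟨hN, h0⟩ E' j g hg
    rw [Hgr_indep E' E a j g]
    obtain ⟨F⟩ := Groth.Agent.S13215.result R 𝒜 N 𝒩
    cases j with
    | zero => exact h0 g (by simpa using hg)
    | succ j =>
      exact quasi_v2 E F x 1 hx a K hKx hKt π hπ hsurj hker hxa one_pos j g
        (fun g' hg' => hN F j g' (by push_cast at hg; omega))

/-- regularity is unchanged modulo a regular element of degree one -/
theorem lcreg_regular (x : R) (hx : x ∈ 𝒜 1) (a : HomogeneousIdeal 𝒜) (hxa : x ∈ a.toIdeal)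
    (hreg : IsSMulRegular M x)
    (π : M →ₗ[R] N) (hπ : IsGrHom ℳ 𝒩 π) (hsurj : Function.Surjective π)
    (hker : LinearMap.ker π = LinearMap.range (x • (LinearMap.id : M →ₗ[R] M))) (d : ℤ) :
    LCReg a ℳ d ↔ LCReg a 𝒩 d := by
  obtain ⟨E⟩ := Groth.Agent.S13215.result R 𝒜 M ℳ
  have hKt : IsTors a.toIdeal (LinearMap.ker (x • (LinearMap.id : M →ₗ[R] M))) := by
    intro m
    refine ⟨0, fun r _ => ?_⟩
    have h1 : (m : M) = 0 := by
      have h2 : x • (m : M) = 0 := m.2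
      exact hreg (by show x • (m : M) = x • (0 : M); rw [h2, smul_zero])
    have h3 : m = 0 := Subtype.ext h1
    rw [h3, smul_zero]
  rw [lcreg_quasi E x hx a hxa _ rfl hKt π hπ hsurj hker d]
  constructor
  · exact fun h => h.1
  · intro h
    refine ⟨h, fun g _ => ?_⟩
    rw [Hgr_zero_eq_bot_iff]
    intro m _ hmg
    obtain ⟨n, hn⟩ := hmg
    have h1 : x ^ n • m = 0 := hn _ (Ideal.pow_mem_pow hxa n)
    exact (hreg.pow n) (by show x ^ n • m = x ^ n • (0 : M); rw [h1, smul_zero])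

/-- regularity is unchanged modulo a regular sequence of elements of degree one -/
theorem lcreg_seq (a : HomogeneousIdeal 𝒜) (ys : List R) :
    ∀ (M : Type u) [AddCommGroup M] [Module R M] (ℳ : ℤ → AddSubgroup M)
      [DirectSum.Decomposition ℳ] [SetLike.GradedSMul 𝒜 ℳ]
      (N : Type u) [AddCommGroup N] [Module R N] (𝒩 : ℤ → AddSubgroup N)
      [DirectSum.Decomposition 𝒩] [SetLike.GradedSMul 𝒜 𝒩]
      (π : M →ₗ[R] N), IsGrHom ℳ 𝒩 π → Function.Surjective π →
      LinearMap.ker π = Ideal.ofList ys • (⊤ : Submodule R M) →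
      (∀ y ∈ ys, y ∈ 𝒜 1 ∧ y ∈ a.toIdeal) → RingTheory.Sequence.IsWeaklyRegular M ys →
      ∀ d : ℤ, (LCReg a ℳ d ↔ LCReg a 𝒩 d) := by
  classical
  induction ys with
  | nil =>
    intro M _ _ ℳ _ _ N _ _ 𝒩 _ _ π hπ hsurj hker _ _ d
    have hinj : Function.Injective π := by
      rw [← LinearMap.ker_eq_bot, hker, Ideal.ofList_nil, Submodule.bot_smul]
    constructor
    · exact lcreg_of_bijective a π hπ ⟨hinj, hsurj⟩ d
    · intro h E j g hg
      obtain ⟨F⟩ := Groth.Agent.S13215.result R 𝒜 N 𝒩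
      exact (Hgr_eq_bot_iff_of_bijective E F π hπ ⟨hinj, hsurj⟩ a j g).2 (h F j g hg)
  | cons x ys ih =>
    intro M _ _ ℳ _ _ N _ _ 𝒩 _ _ π hπ hsurj hker hmem hreg d
    have hx1 : x ∈ 𝒜 1 := (hmem x List.mem_cons_self).1
    have hxa : x ∈ a.toIdeal := (hmem x List.mem_cons_self).2
    rw [RingTheory.Sequence.isWeaklyRegular_cons_iff] at hreg
    obtain ⟨hregx, hreg'⟩ := hreg
    have hK : (x • (⊤ : Submodule R M)).IsHomogeneous ℳ := smul_top_isHomogeneous hx1
    letI : DirectSum.Decomposition (quotPiece ℳ (x • (⊤ : Submodule R M))) :=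
      quotDecomposition ℳ (x • (⊤ : Submodule R M)) hK
    letI : SetLike.GradedSMul 𝒜 (quotPiece ℳ (x • (⊤ : Submodule R M))) :=
      quot_gradedSMul 𝒜 ℳ (x • (⊤ : Submodule R M))
    have h1 : LCReg a ℳ d ↔ LCReg a (quotPiece ℳ (x • (⊤ : Submodule R M))) d :=
      lcreg_regular x hx1 a hxa hregx (x • (⊤ : Submodule R M)).mkQ
        (mkQ_isGrHom ℳ (x • (⊤ : Submodule R M))) (Submodule.mkQ_surjective _)
        (by rw [Submodule.ker_mkQ]; exact smul_top_eq_range x) d
    have hsurj₁ : Function.Surjective ((x • (⊤ : Submodule R M)).liftQ π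
        (smul_top_le_ker_of_cons x ys π hker)) := by
      intro n
      obtain ⟨m, rfl⟩ := hsurj n
      exact ⟨(x • (⊤ : Submodule R M)).mkQ m, rfl⟩
    have hπ₁ : IsGrHom (quotPiece ℳ (x • (⊤ : Submodule R M))) 𝒩 ((x • (⊤ : Submodule R M)).liftQ π
        (smul_top_le_ker_of_cons x ys π hker)) := by
      rintro g q ⟨y, hy, rfl⟩
      exact hπ g y hy
    have h2 := ih (M ⧸ (x • (⊤ : Submodule R M))) (quotPiece ℳ (x • (⊤ : Submodule R M))) N 𝒩
      ((x • (⊤ : Submodule R M)).liftQ π (smul_top_le_ker_of_cons x ys π hker))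
      hπ₁ hsurj₁ (ker_liftQ_cons x ys π hker)
      (fun p hp => hmem p (List.mem_cons_of_mem _ hp)) hreg' d
    exact h1.trans h2

end Quasi

end Groth.Agent.Lib.helper19.GrReg
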