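import Mathlib
import Groth.Prelude.Def_GrLC
import Groth.Prelude.Def_GrSyz
import Groth.Agent.Lib.Helper19.GrReg5
import Groth.Agent.Lib.Helper19.GrReg7

/-!
# Local-cohomological regularity of graded modules (helper19), part 8:
quasi-regular linear forms over the standard graded polynomial ring
-/

set_option autoImplicit false
universe u

namespace Groth.Agent.Lib.helper19.GrReg

open GrLC Groth.Agent.Lib.helper19.GrMod Groth.Agent.Lib.helper19.GrLes Groth.Agent.Lib.helper19.GrShift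
  Groth.Agent.Lib.helper19.GrConv Groth.Agent.Lib.helper19.GrPoly Groth.Agent.Lib.helper19.LCZero

section Generic

variable {ι : Type} [AddCommGroup ι] [DecidableEq ι]
variable {R : Type u} [CommRing R] {σ : Type u} [SetLike σ R] [AddSubgroupClass σ R]
  {𝒜 : ι → σ} [GradedRing 𝒜]
variable {M : Type u} [AddCommGroup M] [Module R M] {τ : Type u} [SetLike τ M] [AddSubgroupClass τ M]
  {ℳ : ι → τ} [DirectSum.Decomposition ℳ] [SetLike.GradedSMul 𝒜 ℳ]

theorem Hgr_eq_bot_iff_Hcomp (E : StarInjRes 𝒜 ℳ) (a : HomogeneousIdeal 𝒜) (i : ℕ) (g : ι) :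
    E.Hgr a i g = ⊥ ↔ E.Hcomp a i g = ⊥ := by
  constructor
  · intro h
    rw [eq_bot_iff]
    intro y hy
    have h1 : y ∈ E.Hgr a i g := hy
    rw [h] at h1
    exact h1
  · intro h
    rw [eq_bot_iff]
    intro y hy
    have h1 : y ∈ E.Hcomp a i g := hy
    rw [h] at h1
    exact h1

end Generic

section EndDeg

theorem endDeg_le_iff {X : Type u} [AddCommGroup X] (𝒳 : ℤ → AddSubgroup X) (d : ℤ) :
    GrLC.endDeg 𝒳 ≤ ((d : WithTop ℤ) : WithBot (WithTop ℤ)) ↔ ∀ g : ℤ, d < g → 𝒳 g = ⊥ := by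
  constructor
  · intro h g hg
    by_contra hne
    have h1 := le_trans (le_endDeg 𝒳 hne) h
    rw [cast_le] at h1
    omega
  · intro h
    apply endDeg_le
    intro g hne
    rw [cast_le]
    by_contra hcon
    push Not at hcon
    exact hne (h g hcon)

theorem torsionBy_eq_ker {R : Type u} [CommRing R] {M : Type u} [AddCommGroup M] [Module R M] (x : R) :
    Submodule.torsionBy R M x = LinearMap.ker (x • (LinearMap.id : M →ₗ[R] M)) := by
  ext m
  rw [Submodule.mem_torsionBy_iff, LinearMap.mem_ker]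
  rfl

end EndDeg

section Poly

variable (k : Type u) [Field k] (n : ℕ)
variable (M : Type u) [AddCommGroup M] [Module k M] [Module (MvPolynomial (Fin n) k) M]
  (ℳ : ℤ → Submodule k M) [DirectSum.Decomposition ℳ] [SetLike.GradedSMul (GrSyz.stdGr k (Fin n)) ℳ]

theorem mem_mm_of_mem_gr {x : MvPolynomial (Fin n) k} {j : ℤ} (hj : 0 < j)
    (hx : x ∈ GrSyz.stdGr k (Fin n) j) : x ∈ (mm k n).toIdeal :=
  Ideal.subset_span ⟨j, hj, hx⟩

include ℳ in
/-- the annihilator of a homogeneous element in a graded module is `𝔪`-torsion when it has finite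
length -/
theorem isTors_torsionBy (x : MvPolynomial (Fin n) k) (j : ℤ) (hx : x ∈ GrSyz.stdGr k (Fin n) j)
    (hq : IsFiniteLength (MvPolynomial (Fin n) k) ↥(Submodule.torsionBy (MvPolynomial (Fin n) k) M x)) :
    IsTors (mm k n).toIdeal ↥(Submodule.torsionBy (MvPolynomial (Fin n) k) M x) := by
  classical
  haveI : IsArtinian (MvPolynomial (Fin n) k) ↥(Submodule.torsionBy (MvPolynomial (Fin n) k) M x) :=
    (isFiniteLength_iff_isNoetherian_isArtinian.1 hq).2
  have hKh : (Submodule.torsionBy (MvPolynomial (Fin n) k) M x).IsHomogeneous (addGr ℳ) := by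
    rw [torsionBy_eq_ker]
    exact ker_smul_isHomogeneous (𝒜 := gr k n) (ℳ := addGr ℳ) (k := j) hx
  letI : DirectSum.Decomposition (subPiece (addGr ℳ) (Submodule.torsionBy (MvPolynomial (Fin n) k) M x)) :=
    subDecomposition (addGr ℳ) _ hKh
  haveI : SetLike.GradedSMul (gr k n)
      (subPiece (addGr ℳ) (Submodule.torsionBy (MvPolynomial (Fin n) k) M x)) :=
    sub_gradedSMul (gr k n) (addGr ℳ) _
  obtain ⟨n₁, hb⟩ := exists_bound_of_artinian (gr k n) (gr_neg k n)
    (subPiece (addGr ℳ) (Submodule.torsionBy (MvPolynomial (Fin n) k) M x))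
  exact isTors_of_bounded (gr k n) (gr_neg k n)
    (subPiece (addGr ℳ) (Submodule.torsionBy (MvPolynomial (Fin n) k) M x))
    {x : MvPolynomial (Fin n) k | ∃ i : ℤ, 0 < i ∧ x ∈ GrSyz.stdGr k (Fin n) i}
    (fun _ hx => hx) n₁ hb

variable (N : Type u) [AddCommGroup N] [Module k N] [Module (MvPolynomial (Fin n) k) N]
  (𝒩 : ℤ → Submodule k N) [DirectSum.Decomposition 𝒩] [SetLike.GradedSMul (GrSyz.stdGr k (Fin n)) 𝒩]

/-- regularity and quasi-regular linear forms -/
theorem lcreg_quasi_poly (x : MvPolynomial (Fin n) k) (hx : x ∈ GrSyz.stdGr k (Fin n) 1)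
    (hq : IsFiniteLength (MvPolynomial (Fin n) k) ↥(Submodule.torsionBy (MvPolynomial (Fin n) k) M x))
    (π : M →ₗ[MvPolynomial (Fin n) k] N) (hπ : Function.Surjective π) (hπg : GrLC.IsGrHom ℳ 𝒩 π)
    (hker : LinearMap.ker π = LinearMap.range (x • (LinearMap.id : M →ₗ[MvPolynomial (Fin n) k] M)))
    (E : GrLC.StarInjRes (GrSyz.stdGr k (Fin n)) ℳ) (d : ℤ) :
    LCReg (mm k n) (addGr ℳ) d ↔ (LCReg (mm k n) (addGr 𝒩) d ∧
      GrLC.endDeg (E.Hgr (GrSyz.irrel (GrSyz.stdGr k (Fin n))) 0) ≤ ((d : WithTop ℤ) : WithBot (WithTop ℤ))) := by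
  have hπg' : GrLC.IsGrHom (addGr ℳ) (addGr 𝒩) π := hπg
  rw [lcreg_quasi (resAdd (GrSyz.stdGr k (Fin n)) ℳ E) x hx (mm k n)
    (mem_mm_of_mem_gr k n one_pos hx) (Submodule.torsionBy (MvPolynomial (Fin n) k) M x)
    (torsionBy_eq_ker x) (isTors_torsionBy k n M ℳ x 1 hx hq) π hπg' hπ hker d, endDeg_le_iff]
  rfl

/-- regularity in terms of the pieces of graded local cohomology, any resolution -/
theorem Hgr_eq_bot_of_lcreg (E : GrLC.StarInjRes (GrSyz.stdGr k (Fin n)) ℳ) (d : ℤ)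
    (h : LCReg (mm k n) (addGr ℳ) d) (i : ℕ) (g : ℤ) (hg : d - i < g) :
    E.Hgr (GrSyz.irrel (GrSyz.stdGr k (Fin n))) i g = ⊥ :=
  h (resAdd (GrSyz.stdGr k (Fin n)) ℳ E) i g hg

end Poly

end Groth.Agent.Lib.helper19.GrReg
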