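import Mathlib
import Groth.Prelude.Def_GrLC
import Groth.Prelude.Def_GrSyz
import Groth.Agent.Lib.Helper19.GrLen1
import Groth.Agent.Lib.Helper19.GrReg8

/-!
# Lengths of cyclic graded modules over the standard graded polynomial ring (helper19), part 2

`N = S·ν` with `ν` of degree `0`:
* `cyc_neg`, `cyc_succ`, `cyc_interval` : the nonzero degrees of `N` form an initial segment of `ℕ`
* `cyc_one` : `n ≤ t + dim_k N_1` if the linear forms killing `ν` lie in a `t`-generated subspace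
* `cyc_length` : `g + n - t ≤ ℓ(N)` if `N_g ≠ 0`
-/

set_option autoImplicit false
universe u

namespace Groth.Agent.Lib.helper19.GrLen

open GrLC MvPolynomial Groth.Agent.Lib.helper19.GrMod Groth.Agent.Lib.helper19.GrLes
  Groth.Agent.Lib.helper19.GrConv Groth.Agent.Lib.helper19.GrPoly Groth.Agent.Lib.helper19.GrFin

variable (k : Type u) [Field k] (n : ℕ)
variable (N : Type u) [AddCommGroup N] [Module k N] [Module (MvPolynomial (Fin n) k) N]
  [IsScalarTower k (MvPolynomial (Fin n) k) N]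
  (𝒩 : ℤ → Submodule k N) [DirectSum.Decomposition 𝒩] [SetLike.GradedSMul (GrSyz.stdGr k (Fin n)) 𝒩]

/-- an element of degree `g` of `S·ν` is `s_g • ν` -/
theorem cyc_repr (ν : N) (hν : ν ∈ 𝒩 0) (hgen : ∀ x : N, ∃ s : MvPolynomial (Fin n) k, s • ν = x)
    (g : ℤ) (x : N) (hx : x ∈ 𝒩 g) : ∃ s : MvPolynomial (Fin n) k, s ∈ GrSyz.stdGr k (Fin n) g ∧ s • ν = x := by
  classical
  obtain ⟨s, rfl⟩ := hgen x
  have hν' : ν ∈ addGr 𝒩 0 := hν
  have hx' : s • ν ∈ addGr 𝒩 g := hx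
  have h1 := decompose_smul_apply' (gr k n) (addGr 𝒩) s hν' g
  rw [DirectSum.decompose_of_mem_same (addGr 𝒩) hx', sub_zero] at h1
  exact ⟨((DirectSum.decompose (gr k n) s g : gr k n g) : MvPolynomial (Fin n) k),
    (DirectSum.decompose (gr k n) s g).2, h1.symm⟩

theorem cyc_neg (ν : N) (hν : ν ∈ 𝒩 0) (hgen : ∀ x : N, ∃ s : MvPolynomial (Fin n) k, s • ν = x)
    (g : ℤ) (hg : g < 0) : 𝒩 g = ⊥ := by
  rw [eq_bot_iff]
  intro x hx
  obtain ⟨s, hs, rfl⟩ := cyc_repr k n N 𝒩 ν hν hgen g x hx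
  have hs' : s ∈ gr k n g := hs
  rw [gr_neg k n g hg] at hs'
  rw [AddSubgroup.mem_bot] at hs'
  rw [hs', zero_smul]
  exact Submodule.zero_mem _

theorem cyc_succ (ν : N) (hν : ν ∈ 𝒩 0) (hgen : ∀ x : N, ∃ s : MvPolynomial (Fin n) k, s • ν = x)
    (g : ℤ) (hg : 0 ≤ g) (h : 𝒩 g = ⊥) : 𝒩 (g + 1) = ⊥ := by
  classical
  rw [eq_bot_iff]
  intro x hx
  obtain ⟨s, hs, rfl⟩ := cyc_repr k n N 𝒩 ν hν hgen (g + 1) x hx
  have hx' : s • ν ∈ addGr 𝒩 (g + 1) := hx
  have hsm : s ∈ (mm k n).toIdeal :=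
    Groth.Agent.Lib.helper19.GrReg.mem_mm_of_mem_gr k n (by omega) hs
  rw [mm_eq] at hsm
  have key : ∀ r ∈ Ideal.span {x | x ∈ List.ofFn (X : Fin n → MvPolynomial (Fin n) k)}, ∀ m : N,
      ((DirectSum.decompose (addGr 𝒩) (r • m) (g + 1) : addGr 𝒩 (g + 1)) : N) = 0 := by
    intro r hr
    induction hr using Submodule.span_induction with
    | mem r hr =>
      intro m
      obtain ⟨i, rfl⟩ := List.mem_ofFn.1 hr
      rw [decompose_smul_apply (gr k n) (addGr 𝒩) (X_mem k n i) m (g + 1)]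
      have h2 : ∀ j : ℤ, j = g → ∀ y : N, y ∈ 𝒩 j → y = 0 := by
        rintro j rfl y hy
        rw [h] at hy
        exact (Submodule.mem_bot k).1 hy
      rw [h2 (g + 1 - 1) (by ring) _ (DirectSum.decompose (addGr 𝒩) m (g + 1 - 1)).2, smul_zero]
    | zero => intro m; rw [zero_smul, DirectSum.decompose_zero]; rfl
    | add a b _ _ ha hb =>
      intro m
      rw [add_smul, DirectSum.decompose_add, DirectSum.add_apply, AddSubgroup.coe_add, ha m, hb m, add_zero]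
    | smul a b _ hb =>
      intro m
      rw [smul_eq_mul, mul_comm, mul_smul]
      exact hb (a • m)
  have h3 := key s hsm ν
  rw [DirectSum.decompose_of_mem_same (addGr 𝒩) hx'] at h3
  rw [h3]
  exact Submodule.zero_mem _

theorem cyc_interval (ν : N) (hν : ν ∈ 𝒩 0) (hgen : ∀ x : N, ∃ s : MvPolynomial (Fin n) k, s • ν = x)
    (g : ℤ) (hg : 𝒩 g ≠ ⊥) : 0 ≤ g ∧ ∀ j : ℤ, 0 ≤ j → j ≤ g → 𝒩 j ≠ ⊥ := by
  have h0 : 0 ≤ g := by
    by_contra hcon
    exact hg (cyc_neg k n N 𝒩 ν hν hgen g (by omega))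
  refine ⟨h0, fun j hj hjg hbot => hg ?_⟩
  have h1 : ∀ m : ℕ, 𝒩 (j + m) = ⊥ := by
    intro m
    induction m with
    | zero => simpa using hbot
    | succ m ih =>
      have := cyc_succ k n N 𝒩 ν hν hgen (j + m) (by omega) ih
      rw [show j + ((m + 1 : ℕ) : ℤ) = j + (m : ℤ) + 1 by push_cast; ring]
      exact this
  have h2 := h1 (g - j).toNat
  rwa [show j + ((g - j).toNat : ℤ) = g by omega] at h2

theorem cyc_one (ν : N) (hν : ν ∈ 𝒩 0) (t : ℕ)
    (Ψ : (Fin t → k) →ₗ[k] MvPolynomial (Fin n) k)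
    (hΨ : ∀ c : Fin n → k, (∑ i, c i • (X i : MvPolynomial (Fin n) k)) • ν = 0 →
      ∃ d, Ψ d = ∑ i, c i • (X i : MvPolynomial (Fin n) k)) :
    (n : ℕ∞) ≤ t + Module.length k ↥(𝒩 1) := by
  classical
  let Φ : (Fin n → k) →ₗ[k] MvPolynomial (Fin n) k := Fintype.linearCombination k X
  have hΦa : ∀ c, Φ c = ∑ i, c i • (X i : MvPolynomial (Fin n) k) := fun c =>
    Fintype.linearCombination_apply k X c
  have hΦ : Function.Injective Φ := by
    intro c c' h
    funext i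
    have h1 := congrArg (coeff (Finsupp.single i 1)) h
    rw [hΦa, hΦa, coeff_sum, coeff_sum] at h1
    simpa [coeff_X', Finsupp.single_left_inj] using h1
  let Θ : (Fin n → k) →ₗ[k] N :=
    ((LinearMap.toSpanSingleton (MvPolynomial (Fin n) k) N ν).restrictScalars k) ∘ₗ Φ
  have hΘ : ∀ c, Θ c = (∑ i, c i • (X i : MvPolynomial (Fin n) k)) • ν := fun c => by
    show (Φ c) • ν = _
    rw [hΦa]
  have hrange : LinearMap.range Θ ≤ 𝒩 1 := by
    rintro _ ⟨c, rfl⟩
    rw [hΘ, Finset.sum_smul]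
    refine Submodule.sum_mem _ (fun i _ => ?_)
    rw [smul_assoc]
    refine Submodule.smul_mem _ _ ?_
    have h1 : (X i : MvPolynomial (Fin n) k) • ν ∈ addGr 𝒩 (1 + 0) :=
      smul_mem_add (gr k n) (addGr 𝒩) (X_mem k n i) hν
    rwa [add_zero] at h1
  have hker : LinearMap.ker Θ ≤ Submodule.comap Φ (LinearMap.range Ψ) := by
    intro c hc
    obtain ⟨d, hd⟩ := hΨ c (by rw [← hΘ]; exact hc)
    exact ⟨d, by rw [hd, hΦa]⟩
  have h1 := LinearMap.finrank_range_add_finrank_ker Θ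
  rw [Module.finrank_fintype_fun_eq_card, Fintype.card_fin] at h1
  have h2 : Module.finrank k (LinearMap.ker Θ) ≤ t := by
    have ha : Module.finrank k (LinearMap.ker Θ) ≤
        Module.finrank k (Submodule.comap Φ (LinearMap.range Ψ)) := Submodule.finrank_mono hker
    have hb : Module.finrank k (Submodule.comap Φ (LinearMap.range Ψ)) ≤
        Module.finrank k (LinearMap.range Ψ) := by
      let ρ : ↥(Submodule.comap Φ (LinearMap.range Ψ)) →ₗ[k] ↥(LinearMap.range Ψ) :=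
        Φ.restrict (fun c hc => hc)
      refine LinearMap.finrank_le_finrank_of_injective (f := ρ) ?_
      intro a b hab
      apply Subtype.ext
      apply hΦ
      exact congrArg Subtype.val hab
    have hc : Module.finrank k (LinearMap.range Ψ) ≤ Module.finrank k (Fin t → k) :=
      LinearMap.finrank_range_le Ψ
    rw [Module.finrank_fintype_fun_eq_card, Fintype.card_fin] at hc
    exact ha.trans (hb.trans hc)
  have h3 : Module.length k ↥(LinearMap.range Θ) ≤ Module.length k ↥(𝒩 1) :=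
    Module.length_le_of_injective (Submodule.inclusion hrange) (Submodule.inclusion_injective hrange)
  rw [Module.length_eq_finrank] at h3
  have h4 : (n : ℕ∞) ≤ (t : ℕ∞) + ((Module.finrank k ↥(LinearMap.range Θ) : ℕ) : ℕ∞) := by
    have : n ≤ t + Module.finrank k ↥(LinearMap.range Θ) := by omega
    exact_mod_cast this
  exact h4.trans (add_le_add le_rfl h3)

theorem cyc_length (ν : N) (hν : ν ∈ 𝒩 0) (hgen : ∀ x : N, ∃ s : MvPolynomial (Fin n) k, s • ν = x)
    (t : ℕ) (Ψ : (Fin t → k) →ₗ[k] MvPolynomial (Fin n) k)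
    (hΨ : ∀ c : Fin n → k, (∑ i, c i • (X i : MvPolynomial (Fin n) k)) • ν = 0 →
      ∃ d, Ψ d = ∑ i, c i • (X i : MvPolynomial (Fin n) k))
    (g : ℤ) (hg : 𝒩 g ≠ ⊥) (ℓ : ℕ) (hℓ : Module.length (MvPolynomial (Fin n) k) N = (ℓ : ℕ∞)) :
    g + (n : ℤ) - (t : ℤ) ≤ (ℓ : ℤ) := by
  classical
  obtain ⟨h0, hint⟩ := cyc_interval k n N 𝒩 ν hν hgen g hg
  have h1 : Module.length (MvPolynomial (Fin n) k) ↥(tl k n N 𝒩 0) ≤
      Module.length (MvPolynomial (Fin n) k) N :=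
    Module.length_le_of_injective (tl k n N 𝒩 0).subtype (Submodule.subtype_injective _)
  have h2 := length_tail k n N 𝒩 0
  have h3 := length_tail k n N 𝒩 1
  rw [zero_add] at h2
  rw [show (1 : ℤ) + 1 = 2 by norm_num] at h3
  have h4 : (1 : ℕ∞) ≤ Module.length k ↥(𝒩 0) := by
    have : Nontrivial ↥(𝒩 0) := by
      rw [Submodule.nontrivial_iff_ne_bot]
      exact hint 0 le_rfl h0
    exact Order.one_le_iff_pos.2 Module.length_pos
  have h5 := cyc_one k n N 𝒩 ν hν t Ψ hΨ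
  have h6 := le_length_tail k n N 𝒩 (g - 1).toNat 2 (fun j hj1 hj2 => hint j (by omega) (by omega))
  rw [hℓ, h2, h3] at h1
  have h7 : (((g - 1).toNat + n + 1 : ℕ) : ℕ∞) ≤ ((ℓ + t : ℕ) : ℕ∞) := by
    push_cast
    calc (((g - 1).toNat : ℕ) : ℕ∞) + (n : ℕ∞) + 1
        ≤ Module.length (MvPolynomial (Fin n) k) ↥(tl k n N 𝒩 2) + ((t : ℕ∞) + Module.length k ↥(𝒩 1)) +
          Module.length k ↥(𝒩 0) := add_le_add (add_le_add h6 h5) h4
      _ = (Module.length (MvPolynomial (Fin n) k) ↥(tl k n N 𝒩 2) + Module.length k ↥(𝒩 1) +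
          Module.length k ↥(𝒩 0)) + (t : ℕ∞) := by ring
      _ ≤ (ℓ : ℕ∞) + (t : ℕ∞) := add_le_add h1 le_rfl
  have h8 : (g - 1).toNat + n + 1 ≤ ℓ + t := by exact_mod_cast h7
  omega

end Groth.Agent.Lib.helper19.GrLen
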