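import Mathlib
import Groth.Prelude.Def_GrLC
import Groth.Agent.Lib.Helper19.GrHt2
import Groth.Agent.Lib.Helper19.GrSG5
import Groth.Agent.Lib.Helper26.Depth8

/-!
# Linear regular sequences in standard graded rings with infinite residue field (helper19), part 1

`(R, m)` a positively ℤ-graded *local ring with `R_0` Artinian, `R_+ = (R_1)`, `R/m` infinite.

* `isUnit_of_mem_zero_notMem` : elements of `R_0` outside `m` are units;
* `exists_units` : arbitrarily many elements of `R_0` with pairwise differences outside `m`;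
* `exists_linear_notMem` : linear prime avoidance;
* `exists_linear_regular` : a finite module with an `M`-regular element in `m` has an `M`-regular
  element in `R_1`;
* `exists_linear_regular_sequence` : weakly regular sequences of linear forms of any length
  `≤ depth_m R`.
-/

set_option autoImplicit false
universe u

namespace Groth.Agent.Lib.helper19.GrLin

open GrLC DirectSum Groth.Agent.Lib.helper19.GrMod Groth.Agent.Lib.helper19.GrFin
  Groth.Agent.Lib.helper19.GrSG RingTheory.Sequence LocCoh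
open scoped Pointwise

variable {R : Type u} [CommRing R] (𝒜 : ℤ → AddSubgroup R) [GradedRing 𝒜]
  (hpos : ∀ n : ℤ, n < 0 → 𝒜 n = ⊥) (m : HomogeneousIdeal 𝒜) (hm : IsStarLocal 𝒜 m)

include hpos hm

theorem isUnit_of_mem_zero_notMem {c : R} (hc : c ∈ 𝒜 0) (hcm : c ∉ m.toIdeal) : IsUnit c := by
  have hhom : (Ideal.span {c}).IsHomogeneous 𝒜 :=
    Ideal.homogeneous_span 𝒜 _ (by rintro x (rfl : x = c); exact ⟨0, hc⟩)
  by_contra hu
  have hne : Ideal.span {c} ≠ ⊤ := fun h => hu (Ideal.span_singleton_eq_top.1 h)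
  exact hcm (Groth.Agent.Lib.helper19.GrHt.le_of_isHomogeneous_ne_top 𝒜 hpos m hm _ hhom hne
    (Ideal.mem_span_singleton_self c))

theorem exists_units (hinf : Infinite (R ⧸ m.toIdeal)) (N : ℕ) :
    ∃ c : Fin N → R, (∀ i, c i ∈ 𝒜 0) ∧ ∀ i j, i ≠ j → c i - c j ∉ m.toIdeal := by
  classical
  let emb := Infinite.natEmbedding (R ⧸ m.toIdeal)
  have hlift : ∀ n : ℕ, ∃ r : R, Ideal.Quotient.mk m.toIdeal r = emb n :=
    fun n => Ideal.Quotient.mk_surjective _
  choose r hr using hlift
  refine ⟨fun i => ((decompose 𝒜 (r i) 0 : 𝒜 0) : R), fun i => SetLike.coe_mem _, ?_⟩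
  intro i j hij hmem
  have h1 : ∀ n : ℕ, Ideal.Quotient.mk m.toIdeal ((decompose 𝒜 (r n) 0 : 𝒜 0) : R) = emb n := by
    intro n
    rw [← hr n]
    exact (Ideal.Quotient.eq.2
      (Groth.Agent.Lib.helper19.StarLocalArt.sub_decompose_zero_mem 𝒜 hpos m hm.1 (r n))).symm
  have h2 : Ideal.Quotient.mk m.toIdeal ((decompose 𝒜 (r i) 0 : 𝒜 0) : R) =
      Ideal.Quotient.mk m.toIdeal ((decompose 𝒜 (r j) 0 : 𝒜 0) : R) := Ideal.Quotient.eq.2 hmem
  rw [h1, h1] at h2
  exact hij (Fin.ext (emb.injective h2))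

/-- linear prime avoidance over an infinite residue field -/
theorem exists_linear_notMem (hinf : Infinite (R ⧸ m.toIdeal)) (s : Finset (Ideal R))
    (hs : ∀ P ∈ s, P.IsPrime ∧ ∃ y ∈ 𝒜 1, y ∉ P) : ∃ x ∈ 𝒜 1, ∀ P ∈ s, x ∉ P := by
  classical
  induction s using Finset.induction_on with
  | empty => exact ⟨0, zero_mem _, by simp⟩
  | insert P s' hP ih =>
    obtain ⟨x, hx, hxs⟩ := ih (fun Q hQ => hs Q (Finset.mem_insert_of_mem hQ))
    obtain ⟨hPprime, y, hy, hyP⟩ := hs P (Finset.mem_insert_self P s')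
    obtain ⟨c, hc0, hcd⟩ := exists_units 𝒜 hpos m hm hinf ((insert P s').card + 1)
    by_contra hcon
    push Not at hcon
    have hfail : ∀ i : Fin ((insert P s').card + 1), ∃ Q ∈ insert P s', x + c i * y ∈ Q := by
      intro i
      have hmem : x + c i * y ∈ 𝒜 1 := by
        have h1 : c i * y ∈ 𝒜 (0 + 1) := SetLike.mul_mem_graded (hc0 i) hy
        rw [zero_add] at h1
        exact add_mem hx h1
      exact hcon _ hmem
    choose Q hQmem hQ using hfail
    let f : Fin ((insert P s').card + 1) → (insert P s' : Finset (Ideal R)) := fun i => ⟨Q i, hQmem i⟩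
    obtain ⟨i, j, hij, hfij⟩ := Fintype.exists_ne_map_eq_of_card_lt f (by simp)
    have hQij : Q i = Q j := congrArg Subtype.val hfij
    have hprime : (Q i).IsPrime := (hs (Q i) (hQmem i)).1
    have h1 : (c i - c j) * y ∈ Q i := by
      have h2 : x + c j * y ∈ Q i := hQij ▸ hQ j
      have h3 := (Q i).sub_mem (hQ i) h2
      have h4 : x + c i * y - (x + c j * y) = (c i - c j) * y := by ring
      rw [h4] at h3
      exact h3
    have hunit : IsUnit (c i - c j) :=
      isUnit_of_mem_zero_notMem 𝒜 hpos m hm (sub_mem (hc0 i) (hc0 j)) (hcd i j hij)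
    have hyQ : y ∈ Q i := by
      rcases hprime.mem_or_mem h1 with h | h
      · exact absurd ((Q i).eq_top_of_isUnit_mem h hunit) hprime.ne_top
      · exact h
    have hxQ : x ∈ Q i := by
      have h2 := (Q i).sub_mem (hQ i) ((Q i).mul_mem_left (c i) hyQ)
      simpa using h2
    rcases Finset.mem_insert.1 (hQmem i) with h | h
    · rw [h] at hyQ
      exact hyP hyQ
    · exact hxs (Q i) h hxQ

section Reg

variable [IsNoetherianRing R] [IsArtinianRing (deg0 𝒜)]
  (hstd : irr 𝒜 = Ideal.span ((𝒜 1 : AddSubgroup R) : Set R))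

include hstd in
/-- a prime not containing `m` does not contain `R_1` -/
theorem exists_linear_notMem_prime (P : Ideal R) [hP : P.IsPrime] (r : R) (hr : r ∈ m.toIdeal)
    (hrP : r ∉ P) : ∃ y ∈ 𝒜 1, y ∉ P := by
  by_contra hcon
  push Not at hcon
  apply hrP
  have h1 : irr 𝒜 ≤ P := by
    rw [hstd, Ideal.span_le]
    exact fun y hy => hcon y hy
  have h2 : (irr 𝒜).radical ≤ P := hP.radical_le_iff.2 h1
  exact h2 (le_radical_irr 𝒜 hpos m hm hr)

include hstd in
/-- a finite module with a regular element in `m` has a regular element in `R_1` -/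
theorem exists_linear_regular (hinf : Infinite (R ⧸ m.toIdeal)) (M : Type u) [AddCommGroup M]
    [Module R M] [Module.Finite R M] (r : R) (hr : r ∈ m.toIdeal) (hreg : IsSMulRegular M r) :
    ∃ x ∈ 𝒜 1, IsSMulRegular M x := by
  classical
  have hfin : (associatedPrimes R M).Finite := associatedPrimes.finite R M
  have hunion := biUnion_associatedPrimes_eq_compl_regular R M
  obtain ⟨x, hx, hxs⟩ := exists_linear_notMem 𝒜 hpos m hm hinf hfin.toFinset (by
    intro P hP
    have hP' : P ∈ associatedPrimes R M := hfin.mem_toFinset.1 hP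
    haveI : P.IsPrime := hP'.isPrime
    refine ⟨hP'.isPrime, exists_linear_notMem_prime 𝒜 hpos m hm hstd P r hr ?_⟩
    intro hrP
    have : r ∈ {r : R | IsSMulRegular M r}ᶜ := by
      rw [← hunion]
      exact Set.mem_iUnion₂.2 ⟨P, hP', hrP⟩
    exact this hreg)
  refine ⟨x, hx, ?_⟩
  by_contra hnr
  have hx' : x ∈ {r : R | IsSMulRegular M r}ᶜ := hnr
  rw [← hunion] at hx'
  obtain ⟨P, hP, hxP⟩ := Set.mem_iUnion₂.1 hx'
  exact hxs P (hfin.mem_toFinset.2 hP) hxP

include hstd in
/-- weakly regular sequences of linear forms of every length `≤ depth_m R` -/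
theorem exists_linear_regular_sequence (hinf : Infinite (R ⧸ m.toIdeal)) (d : ℕ)
    (hd : (d : ℕ∞) ≤ idealDepth m.toIdeal R) :
    ∀ i : ℕ, i ≤ d → ∃ rs : List R, rs.length = i ∧ (∀ r ∈ rs, r ∈ 𝒜 1) ∧ IsWeaklyRegular R rs := by
  classical
  have hmtop : m.toIdeal ≠ ⊤ := fun h => hm.1.1 (HomogeneousIdeal.toIdeal_injective h)
  have hone : ∀ r ∈ 𝒜 1, r ∈ m.toIdeal := fun r hr =>
    Groth.Agent.Lib.helper19.StarLocalArt.pos_mem_of_coatom 𝒜 hpos m hm.1 one_pos hr
  have hRtop : m.toIdeal • (⊤ : Submodule R R) ≠ ⊤ := by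
    rw [smul_eq_mul, Ideal.mul_top]
    exact hmtop
  have hRne : idealDepth m.toIdeal R ≠ ⊤ :=
    Groth.Agent.Lib.helper26.Depth.idealDepth_ne_top m.toIdeal R hRtop
  intro i
  induction i with
  | zero => exact fun _ => ⟨[], rfl, by simp, IsWeaklyRegular.nil R R⟩
  | succ i ih =>
    intro hi
    obtain ⟨rs, hlen, hmem, hreg⟩ := ih (by omega)
    have hmem' : ∀ r ∈ rs, r ∈ m.toIdeal := fun r hr => hone r (hmem r hr)
    have h1 := Groth.Agent.Lib.helper26.Depth.idealDepth_quot_ofList_add_length m.toIdeal rs R hmem' hreg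
    have h2 : ((1 : ℕ) : ℕ∞) ≤ idealDepth m.toIdeal (R ⧸ (Ideal.ofList rs • ⊤ : Submodule R R)) := by
      have h3 : ((i + 1 : ℕ) : ℕ∞) ≤
          idealDepth m.toIdeal (R ⧸ (Ideal.ofList rs • ⊤ : Submodule R R)) + (i : ℕ∞) := by
        rw [← hlen, h1, hlen]
        exact le_trans (by exact_mod_cast hi) hd
      by_contra hlt
      push Not at hlt
      have h4 : idealDepth m.toIdeal (R ⧸ (Ideal.ofList rs • ⊤ : Submodule R R)) = 0 := by
        have := Order.lt_one_iff_nonpos.1 (by exact_mod_cast hlt :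
          idealDepth m.toIdeal (R ⧸ (Ideal.ofList rs • ⊤ : Submodule R R)) < 1)
        exact le_antisymm this zero_le
      rw [h4, zero_add] at h3
      have : i + 1 ≤ i := by exact_mod_cast h3
      omega
    have hMtop : m.toIdeal • (⊤ : Submodule R (R ⧸ (Ideal.ofList rs • ⊤ : Submodule R R))) ≠ ⊤ := by
      intro htop
      rw [Groth.Agent.Lib.helper26.Depth.idealDepth_eq_top_of_smul_top_eq_top m.toIdeal _ htop,
        top_add] at h1
      exact hRne h1.symm
    obtain ⟨l, hl1, hlm, hlreg⟩ :=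
      Groth.Agent.Lib.helper26.Depth.exists_isWeaklyRegular_of_le hMtop h2
    obtain ⟨r, rfl⟩ := List.length_eq_one_iff.mp hl1
    have hrreg : IsSMulRegular (R ⧸ (Ideal.ofList rs • ⊤ : Submodule R R)) r :=
      (isWeaklyRegular_singleton_iff _ r).1 hlreg
    obtain ⟨x, hx, hxreg⟩ := exists_linear_regular 𝒜 hpos m hm hstd hinf
      (R ⧸ (Ideal.ofList rs • ⊤ : Submodule R R)) r (hlm r (by simp)) hrreg
    refine ⟨rs ++ [x], by rw [List.length_append, hlen]; rfl, ?_, ?_⟩
    · intro y hy
      rcases List.mem_append.1 hy with h | h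
      · exact hmem y h
      · rw [List.mem_singleton] at h
        rw [h]
        exact hx
    · exact (isWeaklyRegular_append_iff R rs [x]).2
        ⟨hreg, (isWeaklyRegular_singleton_iff _ x).2 hxreg⟩

end Reg

end Groth.Agent.Lib.helper19.GrLin
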