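import Mathlib
import Groth.Prelude.Def_GrLC
import Groth.Agent.Lib.Helper19.GrMod
import Groth.Agent.Lib.Helper19.GrFin1

/-!
# Characterising polynomial rings among standard graded rings (helper19), part 1

For a positively ℤ-graded ring `R` and elements `x_1, …, x_N` of degree one:

* `phi 𝒜 x : R_0[X_1, …, X_N] → R`, `X_i ↦ x_i`;
* `phi_mem` : `phi` sends homogeneous polynomials of degree `j` into `R_j`;
* `phi_surjective` : `phi` is surjective if `R_+ = (x_1, …, x_N)`;
* `le_of_surjective`, `phi_injective` : if `R_0` is a field then `dim R ≤ N`, and `phi` is injective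
  when `N ≤ dim R`.
-/

set_option autoImplicit false
universe u

namespace Groth.Agent.Lib.helper19.PolyChar

open GrLC DirectSum Groth.Agent.Lib.helper19.GrMod Groth.Agent.Lib.helper19.GrFin

variable {R : Type u} [CommRing R] (𝒜 : ℤ → AddSubgroup R) [GradedRing 𝒜]

/-- the evaluation map `R_0[X_1, …, X_N] → R` -/
noncomputable def phi {N : ℕ} (x : Fin N → R) : MvPolynomial (Fin N) (deg0 𝒜) →+* R :=
  MvPolynomial.eval₂Hom (deg0 𝒜).subtype x

variable {N : ℕ} (x : Fin N → R)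

@[simp] theorem phi_X (i : Fin N) : phi 𝒜 x (MvPolynomial.X i) = x i := by
  unfold phi
  simp

@[simp] theorem phi_C (c : deg0 𝒜) : phi 𝒜 x (MvPolynomial.C c) = (c : R) := by
  unfold phi
  simp

theorem phi_monomial_mem (hx : ∀ i, x i ∈ 𝒜 1) (d : Fin N →₀ ℕ) (c : deg0 𝒜) :
    phi 𝒜 x (MvPolynomial.monomial d c) ∈ 𝒜 ((Finsupp.weight (1 : Fin N → ℕ) d : ℕ) : ℤ) := by
  unfold phi
  rw [MvPolynomial.eval₂Hom_monomial, Finsupp.prod]
  have h1 := SetLike.prod_pow_mem_graded 𝒜 (fun _ : Fin N => (1 : ℤ)) x (F := d.support) (fun i => d i)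
    (fun i _ => hx i)
  have h2 := SetLike.mul_mem_graded (A := 𝒜) (show ((deg0 𝒜).subtype c) ∈ 𝒜 0 from c.2) h1
  convert h2 using 2
  rw [zero_add, Finsupp.weight_apply, Finsupp.sum]
  push_cast
  simp

theorem phi_mem (hx : ∀ i, x i ∈ 𝒜 1) (j : ℕ) (p : MvPolynomial (Fin N) (deg0 𝒜))
    (hp : p.IsHomogeneous j) : phi 𝒜 x p ∈ 𝒜 (j : ℤ) := by
  classical
  rw [MvPolynomial.as_sum p, map_sum]
  refine sum_mem fun d hd => ?_
  have h1 := phi_monomial_mem 𝒜 x hx d (MvPolynomial.coeff d p)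
  have h2 : Finsupp.weight (1 : Fin N → ℕ) d = j := hp (MvPolynomial.mem_support_iff.1 hd)
  rw [h2] at h1
  exact h1

variable (hpos : ∀ n : ℤ, n < 0 → 𝒜 n = ⊥)

include hpos in
theorem phi_surjective (hx : ∀ i, x i ∈ 𝒜 1) (hspan : irr 𝒜 = Ideal.span (Set.range x)) :
    Function.Surjective (phi 𝒜 x) := by
  classical
  have key : ∀ n : ℕ, ∀ a ∈ 𝒜 (n : ℤ), a ∈ (phi 𝒜 x).range := by
    intro n
    induction n with
    | zero =>
      intro a ha
      exact ⟨MvPolynomial.C ⟨a, ha⟩, by simp⟩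
    | succ n ih =>
      intro a ha
      have h1 : a ∈ irr 𝒜 := mem_irr_of_mem 𝒜 (by positivity) ha
      rw [hspan, Ideal.mem_span_range_iff_exists_fun] at h1
      obtain ⟨c, hc⟩ := h1
      have h2 : a = ∑ i, ((decompose 𝒜 (c i) (n : ℤ) : 𝒜 (n : ℤ)) : R) * x i := by
        have h3 : ((decompose 𝒜 a ((n + 1 : ℕ) : ℤ) : 𝒜 ((n + 1 : ℕ) : ℤ)) : R) = a :=
          decompose_of_mem_same 𝒜 ha
        rw [← h3, ← hc, decompose_sum, DFinsupp.finsetSum_apply, AddSubmonoidClass.coe_finsetSum]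
        refine Finset.sum_congr rfl fun i _ => ?_
        have h4 := decompose_smul_apply' 𝒜 𝒜 (c i) (hx i) ((n + 1 : ℕ) : ℤ)
        rw [smul_eq_mul, smul_eq_mul] at h4
        rw [h4]
        have h5 : ((n + 1 : ℕ) : ℤ) - 1 = (n : ℤ) := by
          push_cast
          ring
        rw [coe_decompose_congr 𝒜 (c i) h5]
      rw [h2]
      refine Subring.sum_mem _ fun i _ => ?_
      exact Subring.mul_mem _ (ih _ (SetLike.coe_mem _)) ⟨MvPolynomial.X i, by simp⟩
  intro a
  have h1 : a ∈ (phi 𝒜 x).range := by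
    rw [← sum_support_decompose 𝒜 a]
    refine Subring.sum_mem _ fun j _ => ?_
    rcases lt_or_ge j 0 with hj | hj
    · rw [coe_decompose_eq_zero_of_neg 𝒜 hpos a hj]
      exact Subring.zero_mem _
    · obtain ⟨n, rfl⟩ := Int.eq_ofNat_of_zero_le hj
      exact key n _ (SetLike.coe_mem _)
  exact h1

section Dim

variable (h0 : IsField (deg0 𝒜))

include h0 in
theorem ringKrullDim_mvPolynomial :
    ringKrullDim (MvPolynomial (Fin N) (deg0 𝒜)) = (N : WithBot ℕ∞) := by
  haveI : IsNoetherianRing (deg0 𝒜) := by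
    letI := h0.toField
    infer_instance
  rw [MvPolynomial.ringKrullDim_of_isNoetherianRing, ringKrullDim_eq_zero_of_isField h0, zero_add]
  simp

include h0 in
/-- `dim R ≤ N` if `phi` is surjective -/
theorem le_of_surjective (hsurj : Function.Surjective (phi 𝒜 x)) :
    ringKrullDim R ≤ (N : WithBot ℕ∞) := by
  rw [← ringKrullDim_mvPolynomial 𝒜 h0 (N := N)]
  exact ringKrullDim_le_of_surjective _ hsurj

include h0 in
/-- `phi` is injective if it is surjective and `N ≤ dim R` -/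
theorem phi_injective (hsurj : Function.Surjective (phi 𝒜 x)) (r : ℕ) (hr : ringKrullDim R = r)
    (hN : N ≤ r) : Function.Injective (phi 𝒜 x) := by
  haveI : IsDomain (deg0 𝒜) := h0.isDomain
  rw [injective_iff_map_eq_zero]
  intro f hf
  by_contra hne
  have h1 : f ∈ nonZeroDivisors (MvPolynomial (Fin N) (deg0 𝒜)) := mem_nonZeroDivisors_of_ne_zero hne
  have h2 := ringKrullDim_quotient_succ_le_of_nonZeroDivisor h1
  rw [ringKrullDim_mvPolynomial 𝒜 h0] at h2
  let g : (MvPolynomial (Fin N) (deg0 𝒜) ⧸ Ideal.span {f}) →+* R :=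
    Ideal.Quotient.lift _ (phi 𝒜 x) (by
      intro a ha
      obtain ⟨b, rfl⟩ := Ideal.mem_span_singleton'.1 ha
      rw [map_mul, hf, mul_zero])
  have hg : Function.Surjective g := by
    intro a
    obtain ⟨p, rfl⟩ := hsurj a
    exact ⟨Ideal.Quotient.mk _ p, by simp [g]⟩
  have h3 : ringKrullDim R ≤ ringKrullDim (MvPolynomial (Fin N) (deg0 𝒜) ⧸ Ideal.span {f}) :=
    ringKrullDim_le_of_surjective g hg
  rw [hr] at h3
  have h4 : ((r : WithBot ℕ∞) + 1) ≤ (N : WithBot ℕ∞) := le_trans (add_le_add_left h3 1) h2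
  have h5 : ((r + 1 : ℕ) : WithBot ℕ∞) ≤ (N : WithBot ℕ∞) := by
    push_cast
    exact h4
  have h6 : r + 1 ≤ N := by exact_mod_cast h5
  omega

end Dim

end Groth.Agent.Lib.helper19.PolyChar
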