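import Mathlib
import Groth.Prelude.Def_GrLC
import Groth.Agent.Lib.Helper19.PolyChar1
import Groth.Agent.Lib.Helper26.GrHS3

/-!
# Characterising polynomial rings among standard graded rings (helper19), part 5

The Hilbert polynomial of a standard graded ring over a field (through the graded Hilbert polynomials
of quotients of polynomial rings of helper26).

* `decompose_phi` : `phi` commutes with taking homogeneous components;
* `ker_phi_isHomogeneous`;
* `exists_hilbPoly` : there is `P ∈ ℚ[X]` with `P(n) = ℓ_{R_0}(R_n)` for `n ≫ 0`, and `dim R = deg P + 1`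
  if `P ≠ 0`.
-/

set_option autoImplicit false
universe u

namespace Groth.Agent.Lib.helper19.PolyChar

open GrLC DirectSum Groth.Agent.Lib.helper19.GrMod Groth.Agent.Lib.helper19.GrFin

attribute [local instance] MvPolynomial.gradedAlgebra

variable {R : Type u} [CommRing R] (𝒜 : ℤ → AddSubgroup R) [GradedRing 𝒜]
  {N : ℕ} (x : Fin N → R) (hx : ∀ i, x i ∈ 𝒜 1)

include hx in
theorem decompose_phi (p : MvPolynomial (Fin N) (deg0 𝒜)) (j : ℕ) :
    ((decompose 𝒜 (phi 𝒜 x p) (j : ℤ) : 𝒜 (j : ℤ)) : R) =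
      phi 𝒜 x (MvPolynomial.homogeneousComponent j p) := by
  classical
  conv_lhs => rw [← MvPolynomial.sum_homogeneousComponent p, map_sum]
  rw [decompose_sum, DFinsupp.finsetSum_apply, AddSubmonoidClass.coe_finsetSum]
  rw [Finset.sum_eq_single j]
  · exact decompose_of_mem_same 𝒜
      (phi_mem 𝒜 x hx j _ (MvPolynomial.homogeneousComponent_isHomogeneous j p))
  · intro i _ hij
    exact decompose_of_mem_ne 𝒜
      (phi_mem 𝒜 x hx i _ (MvPolynomial.homogeneousComponent_isHomogeneous i p))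
      (by exact_mod_cast hij)
  · intro hj
    rw [Finset.mem_range, not_lt] at hj
    rw [MvPolynomial.homogeneousComponent_eq_zero _ _ (by omega), map_zero, decompose_zero]
    rfl

include hx in
theorem ker_phi_isHomogeneous :
    (RingHom.ker (phi 𝒜 x)).IsHomogeneous
      (MvPolynomial.homogeneousSubmodule (Fin N) (deg0 𝒜)) := by
  intro j p hp
  rw [RingHom.mem_ker] at hp ⊢
  have h1 : ((decompose (MvPolynomial.homogeneousSubmodule (Fin N) (deg0 𝒜)) p j :
      MvPolynomial.homogeneousSubmodule (Fin N) (deg0 𝒜) j) : MvPolynomial (Fin N) (deg0 𝒜)) =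
      MvPolynomial.homogeneousComponent j p := MvPolynomial.decomposition.decompose'_apply p j
  rw [h1, ← decompose_phi 𝒜 x hx, hp, decompose_zero]
  rfl

/-- the restriction of `phi` to the homogeneous polynomials of degree `j` -/
noncomputable def phiPiece (j : ℕ) :
    MvPolynomial.homogeneousSubmodule (Fin N) (deg0 𝒜) j →ₗ[deg0 𝒜] comp 𝒜 𝒜 (j : ℤ) where
  toFun p := ⟨phi 𝒜 x p, phi_mem 𝒜 x hx j p p.2⟩
  map_add' p q := Subtype.ext (by simp)
  map_smul' c p := Subtype.ext (by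
    simp only [Submodule.coe_smul, RingHom.id_apply]
    rw [MvPolynomial.smul_eq_C_mul, map_mul, phi_C]
    rfl)

theorem phiPiece_surjective (hsurj : Function.Surjective (phi 𝒜 x)) (j : ℕ) :
    Function.Surjective (phiPiece 𝒜 x hx j) := by
  rintro ⟨a, ha⟩
  obtain ⟨p, rfl⟩ := hsurj a
  refine ⟨⟨MvPolynomial.homogeneousComponent j p,
    MvPolynomial.homogeneousComponent_isHomogeneous j p⟩, Subtype.ext ?_⟩
  show phi 𝒜 x (MvPolynomial.homogeneousComponent j p) = phi 𝒜 x p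
  rw [← decompose_phi 𝒜 x hx]
  exact decompose_of_mem_same 𝒜 ha

section Field

open Groth.Agent.Lib.helper26.GrHS Groth.Agent.Lib.helper26.HilbHyper

variable (hpos : ∀ n : ℤ, n < 0 → 𝒜 n = ⊥) (h0 : IsField (deg0 𝒜))

include hx h0 in
theorem finrank_eq (hsurj : Function.Surjective (phi 𝒜 x)) (j : ℕ) :
    letI : Field (deg0 𝒜) := h0.toField
    Module.finrank (deg0 𝒜) (comp 𝒜 𝒜 (j : ℤ)) +
      Module.finrank (deg0 𝒜) (part (RingHom.ker (phi 𝒜 x)) j) =
      Module.finrank (deg0 𝒜) (MvPolynomial.homogeneousSubmodule (Fin N) (deg0 𝒜) j) := by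
  letI : Field (deg0 𝒜) := h0.toField
  haveI : Module.Finite (deg0 𝒜) (MvPolynomial.homogeneousSubmodule (Fin N) (deg0 𝒜) j) :=
    finite_homogeneousSubmodule (k := deg0 𝒜) (σ := Fin N) j
  let ψ : (MvPolynomial.homogeneousSubmodule (Fin N) (deg0 𝒜) j) →ₗ[deg0 𝒜] comp 𝒜 𝒜 (j : ℤ) :=
    phiPiece 𝒜 x hx j
  have hψ : ∀ p, ((ψ p : comp 𝒜 𝒜 (j : ℤ)) : R) = phi 𝒜 x p := fun p => rfl
  have hψsurj : Function.Surjective ψ := phiPiece_surjective 𝒜 x hx hsurj j
  have h1 := @LinearMap.finrank_range_add_finrank_ker (deg0 𝒜)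
    (MvPolynomial.homogeneousSubmodule (Fin N) (deg0 𝒜) j) _ _ _ (comp 𝒜 𝒜 (j : ℤ)) _ _ this ψ
  have h2 : LinearMap.range ψ = ⊤ := LinearMap.range_eq_top.2 hψsurj
  rw [h2, finrank_top] at h1
  have h3 : LinearMap.ker ψ =
      Submodule.comap (MvPolynomial.homogeneousSubmodule (Fin N) (deg0 𝒜) j).subtype
        (part (RingHom.ker (phi 𝒜 x)) j) := by
    ext p
    rw [LinearMap.mem_ker, Submodule.mem_comap, mem_part]
    constructor
    · intro h
      refine ⟨(RingHom.mem_ker).2 ?_, p.2⟩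
      have := congrArg Subtype.val h
      rw [hψ] at this
      exact this
    · rintro ⟨h, -⟩
      exact Subtype.ext ((hψ p).trans ((RingHom.mem_ker).1 h))
  have h4 : part (RingHom.ker (phi 𝒜 x)) j ≤ MvPolynomial.homogeneousSubmodule (Fin N) (deg0 𝒜) j :=
    inf_le_right
  rw [h3, (Submodule.comapSubtypeEquivOfLe h4).finrank_eq] at h1
  exact h1

include hx hpos h0 in
/-- the Hilbert polynomial of a standard graded ring over a field -/
theorem exists_hilbPoly [IsNoetherianRing R] (hsurj : Function.Surjective (phi 𝒜 x)) :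
    ∃ P : Polynomial ℚ, (∃ n0 : ℤ, ∀ n : ℤ, n0 ≤ n → P.eval (n : ℚ) =
        ((Module.length (deg0 𝒜) (comp 𝒜 𝒜 n)).toNat : ℚ)) ∧
      (P ≠ 0 → ringKrullDim R = ((P.natDegree + 1 : ℕ) : WithBot ℕ∞)) := by
  classical
  letI : Field (deg0 𝒜) := h0.toField
  have hJ := ker_phi_isHomogeneous 𝒜 x hx
  obtain ⟨P, hP⟩ := exists_hilbertPoly (k := deg0 𝒜) (σ := Fin N) (RingHom.ker (phi 𝒜 x)) hJ
  refine ⟨P, ?_, ?_⟩
  · obtain ⟨m₀, hm₀⟩ := hP
    refine ⟨(m₀ : ℤ), fun n hn => ?_⟩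
    obtain ⟨m, rfl⟩ := Int.eq_ofNat_of_zero_le (le_trans (Int.natCast_nonneg m₀) hn)
    have hm : m₀ ≤ m := by exact_mod_cast hn
    have h1 := hm₀ m hm
    have h2 := finrank_eq 𝒜 x hx h0 hsurj m
    haveI : Module.Finite (deg0 𝒜) (comp 𝒜 𝒜 (m : ℤ)) := finite_comp 𝒜 hpos 𝒜 m
    have h3 : Module.length (deg0 𝒜) (comp 𝒜 𝒜 (m : ℤ)) =
        (Module.finrank (deg0 𝒜) (comp 𝒜 𝒜 (m : ℤ)) : ℕ∞) :=
      Module.length_eq_finrank (deg0 𝒜) (comp 𝒜 𝒜 (m : ℤ))
    rw [h3, ENat.toNat_natCast]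
    have h4 := congrArg (Nat.cast : ℕ → ℚ) h2
    push_cast at h4 ⊢
    rw [h1]
    linarith
  · intro hP0
    have h1 := ringKrullDim_eq_of_isHilbPoly (RingHom.ker (phi 𝒜 x)) hJ hP hP0
    rw [← h1]
    exact (ringKrullDim_eq_of_ringEquiv (RingHom.quotientKerEquivOfSurjective hsurj)).symm

end Field

end Groth.Agent.Lib.helper19.PolyChar
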