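import Mathlib
import Groth.Prelude.Def_GrLC
import Groth.Agent.Lib.Helper19.PolyChar1
import Groth.Agent.Lib.Helper19.PolyChar5

/-!
# Linear regular sequences in standard graded rings (helper19), part 2

If `x_1, …, x_d ∈ R_1` is a (weakly) regular sequence of a positively graded ring with
`R_0 ∩ (x) = 0`, then `phi : R_0[X_1, …, X_d] → R` is injective (`phi_injective_of_regular`).
-/

set_option autoImplicit false
universe u

namespace Groth.Agent.Lib.helper19.GrLin

open GrLC DirectSum Groth.Agent.Lib.helper19.GrMod Groth.Agent.Lib.helper19.GrFin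
  Groth.Agent.Lib.helper19.PolyChar RingTheory.Sequence
open scoped Pointwise

attribute [local instance] MvPolynomial.gradedAlgebra

variable {R : Type u} [CommRing R] (𝒜 : ℤ → AddSubgroup R) [GradedRing 𝒜]
  {d : ℕ} (x : Fin d → R)

/-- the image of the ideal generated by some variables -/
theorem phi_mem_span_of_mem (S : Set (Fin d)) (g : MvPolynomial (Fin d) (deg0 𝒜))
    (hg : g ∈ Ideal.span (MvPolynomial.X '' S)) : phi 𝒜 x g ∈ Ideal.span (x '' S) := by
  have h1 := Ideal.mem_map_of_mem (phi 𝒜 x) hg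
  rw [Ideal.map_span, ← Set.image_comp] at h1
  have h2 : (⇑(phi 𝒜 x) ∘ MvPolynomial.X) '' S = x '' S := by
    ext y
    simp
  rw [h2] at h1
  exact h1

/-- a homogeneous polynomial of degree `0` mapping into `(x)` vanishes -/
theorem eq_zero_of_degree_zero (h0 : ∀ c ∈ 𝒜 0, c ∈ Ideal.span (Set.range x) → c = 0)
    (S : Set (Fin d)) (f : MvPolynomial (Fin d) (deg0 𝒜)) (hf : f.IsHomogeneous 0)
    (hφ : phi 𝒜 x f ∈ Ideal.span (x '' S)) : f = 0 := by
  by_contra hne
  have h1 := hf.totalDegree hne
  rw [MvPolynomial.totalDegree_eq_zero_iff_eq_C] at h1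
  apply hne
  rw [h1] at hφ ⊢
  rw [phi_C] at hφ
  have h2 : ((MvPolynomial.coeff 0 f : deg0 𝒜) : R) = 0 :=
    h0 _ (MvPolynomial.coeff 0 f).2 (Ideal.span_mono (Set.image_subset_range x S) hφ)
  have h3 : MvPolynomial.coeff 0 f = 0 := Subtype.ext h2
  rw [h3, map_zero]

/-- the key statement: a homogeneous polynomial mapping into `(x_i : i < k)` lies in
`(X_i : i < k)` -/
theorem mem_span_X_of_phi_mem
    (hreg : ∀ (k : ℕ) (hk : k < d) (r : R), x ⟨k, hk⟩ * r ∈ Ideal.span (x '' {i | (i : ℕ) < k}) →
      r ∈ Ideal.span (x '' {i | (i : ℕ) < k}))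
    (h0 : ∀ c ∈ 𝒜 0, c ∈ Ideal.span (Set.range x) → c = 0) :
    ∀ (j k : ℕ), k + j = d → ∀ (n : ℕ) (f : MvPolynomial (Fin d) (deg0 𝒜)), f.IsHomogeneous n →
      phi 𝒜 x f ∈ Ideal.span (x '' {i | (i : ℕ) < k}) →
      f ∈ Ideal.span (MvPolynomial.X '' {i : Fin d | (i : ℕ) < k}) := by
  classical
  intro j
  induction j with
  | zero =>
    intro k hk n f hf hφ
    rcases Nat.eq_zero_or_pos n with hn | hn
    · subst hn
      rw [eq_zero_of_degree_zero 𝒜 x h0 _ f hf hφ]
      exact zero_mem _
    · rw [MvPolynomial.mem_ideal_span_X_image]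
      intro mm hmm
      have h1 : Finsupp.weight (1 : Fin d → ℕ) mm = n := hf (MvPolynomial.mem_support_iff.1 hmm)
      have h2 : mm ≠ 0 := by
        rintro rfl
        rw [map_zero] at h1
        omega
      obtain ⟨i, hi⟩ := Finsupp.ne_iff.1 h2
      exact ⟨i, by simp only [Set.mem_ofPred_eq]; have := i.2; omega, hi⟩
  | succ j ih =>
    intro k hk n
    have hkd : k < d := by omega
    induction n using Nat.strong_induction_on with
    | _ n ihn =>
    intro f hf hφ
    rcases Nat.eq_zero_or_pos n with hn | hn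
    · subst hn
      rw [eq_zero_of_degree_zero 𝒜 x h0 _ f hf hφ]
      exact zero_mem _
    · have hsub : x '' {i : Fin d | (i : ℕ) < k} ⊆ x '' {i : Fin d | (i : ℕ) < k + 1} :=
        Set.image_mono (fun i (hi : (i : ℕ) < k) => Nat.lt_succ_of_lt hi)
      have h1 := ih (k + 1) (by omega) n f hf (Ideal.span_mono hsub hφ)
      set kk : Fin d := ⟨k, hkd⟩ with hkk
      set h := MvPolynomial.divMonomial f (Finsupp.single kk 1) with hh
      set f' := MvPolynomial.modMonomial f (Finsupp.single kk 1) with hf'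
      have hsplit : MvPolynomial.X kk * h + f' = f :=
        MvPolynomial.divMonomial_add_modMonomial_single f kk
      -- `f'` lies in `(X_i : i < k)`
      have hf'mem : f' ∈ Ideal.span (MvPolynomial.X '' {i : Fin d | (i : ℕ) < k}) := by
        rw [MvPolynomial.mem_ideal_span_X_image] at h1 ⊢
        intro mm hmm
        have hc : MvPolynomial.coeff mm f' ≠ 0 := MvPolynomial.mem_support_iff.1 hmm
        have hle : ¬ Finsupp.single kk 1 ≤ mm := by
          intro hle
          exact hc (MvPolynomial.coeff_modMonomial_of_le f hle)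
        rw [hf', MvPolynomial.coeff_modMonomial_of_not_le f hle] at hc
        obtain ⟨i, hi, hmi⟩ := h1 mm (MvPolynomial.mem_support_iff.2 hc)
        refine ⟨i, ?_, hmi⟩
        simp only [Set.mem_ofPred_eq] at hi ⊢
        have hik : i ≠ kk := by
          rintro rfl
          apply hle
          rw [Finsupp.single_le_iff]
          exact Nat.one_le_iff_ne_zero.2 hmi
        have : (i : ℕ) ≠ k := fun h => hik (Fin.ext h)
        omega
      -- `h` is homogeneous of degree `n - 1`
      have hhom : h.IsHomogeneous (n - 1) := by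
        intro mm hmm
        rw [hh, MvPolynomial.coeff_divMonomial] at hmm
        have h2 : Finsupp.weight (1 : Fin d → ℕ) (Finsupp.single kk 1 + mm) = n := hf hmm
        rw [map_add, Finsupp.weight_single] at h2
        simp only [Pi.one_apply, smul_eq_mul, mul_one] at h2
        omega
      have h3 : x kk * phi 𝒜 x h ∈ Ideal.span (x '' {i | (i : ℕ) < k}) := by
        have h4 : x kk * phi 𝒜 x h = phi 𝒜 x f - phi 𝒜 x f' := by
          rw [← hsplit, map_add, map_mul, phi_X]
          ring
        rw [h4]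
        exact sub_mem hφ (phi_mem_span_of_mem 𝒜 x _ f' hf'mem)
      have h5 := hreg k hkd _ h3
      have h6 := ihn (n - 1) (by omega) h hhom h5
      rw [← hsplit]
      exact add_mem (Ideal.mul_mem_left _ _ h6) hf'mem

/-- **a regular sequence of linear forms generates a polynomial ring** -/
theorem phi_injective_of_regular (hx : ∀ i, x i ∈ 𝒜 1)
    (hreg : ∀ (k : ℕ) (hk : k < d) (r : R), x ⟨k, hk⟩ * r ∈ Ideal.span (x '' {i | (i : ℕ) < k}) →
      r ∈ Ideal.span (x '' {i | (i : ℕ) < k}))
    (h0 : ∀ c ∈ 𝒜 0, c ∈ Ideal.span (Set.range x) → c = 0) :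
    Function.Injective (phi 𝒜 x) := by
  rw [injective_iff_map_eq_zero]
  intro f hf
  have hcomp : ∀ n, MvPolynomial.homogeneousComponent n f = 0 := by
    intro n
    have h1 : phi 𝒜 x (MvPolynomial.homogeneousComponent n f) = 0 := by
      rw [← decompose_phi 𝒜 x hx, hf, decompose_zero]
      rfl
    have h2 := mem_span_X_of_phi_mem 𝒜 x hreg h0 d 0 (by simp) n _
      (MvPolynomial.homogeneousComponent_isHomogeneous n f) (by rw [h1]; exact zero_mem _)
    have h3 : {i : Fin d | (i : ℕ) < 0} = ∅ := by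
      ext i
      simp
    rw [h3, Set.image_empty, Ideal.span_empty] at h2
    exact h2
  rw [← MvPolynomial.sum_homogeneousComponent f]
  exact Finset.sum_eq_zero (fun n _ => hcomp n)

/-- unfolding weak regularity of `List.ofFn x` on the ring -/
theorem hreg_of_isWeaklyRegular (h : IsWeaklyRegular R (List.ofFn x)) :
    ∀ (k : ℕ) (hk : k < d) (r : R), x ⟨k, hk⟩ * r ∈ Ideal.span (x '' {i | (i : ℕ) < k}) →
      r ∈ Ideal.span (x '' {i | (i : ℕ) < k}) := by
  intro k hk r hr
  have hk' : k < (List.ofFn x).length := by rw [List.length_ofFn]; exact hk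
  have h1 := h.regular_mod_prev k hk'
  have hI : (Ideal.ofList ((List.ofFn x).take k) • ⊤ : Submodule R R) =
      Ideal.span (x '' {i | (i : ℕ) < k}) := by
    rw [smul_eq_mul, Ideal.mul_top]
    unfold Ideal.ofList
    congr 1
    ext y
    constructor
    · intro hy
      obtain ⟨i, hi, rfl⟩ := List.mem_take_iff_getElem.1 hy
      rw [List.length_ofFn] at hi
      rw [List.getElem_ofFn]
      exact ⟨⟨i, by omega⟩, by simp only [Set.mem_ofPred_eq]; omega, rfl⟩
    · rintro ⟨i, hi, rfl⟩
      simp only [Set.mem_ofPred_eq] at hi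
      refine List.mem_take_iff_getElem.2 ⟨i, ?_, ?_⟩
      · rw [List.length_ofFn]
        have := i.2
        omega
      · rw [List.getElem_ofFn]
  have hxk : (List.ofFn x)[k] = x ⟨k, hk⟩ := List.getElem_ofFn _
  rw [hxk] at h1
  have h2 : x ⟨k, hk⟩ • (Submodule.Quotient.mk r :
      R ⧸ (Ideal.ofList ((List.ofFn x).take k) • ⊤ : Submodule R R)) = 0 := by
    rw [← Submodule.Quotient.mk_smul, Submodule.Quotient.mk_eq_zero, hI, smul_eq_mul]
    exact hr
  have h3 := h1 (by rw [h2, smul_zero] : x ⟨k, hk⟩ • (Submodule.Quotient.mk r :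
      R ⧸ (Ideal.ofList ((List.ofFn x).take k) • ⊤ : Submodule R R)) = x ⟨k, hk⟩ • 0)
  rw [Submodule.Quotient.mk_eq_zero, hI] at h3
  exact h3

end Groth.Agent.Lib.helper19.GrLin
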