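import Mathlib
import Groth.Prelude.Def_GrLC
import Groth.Agent.Lib.Helper19.GrHt2
import Groth.Agent.Lib.Helper19.GrLes8
import Groth.Agent.Lib.Helper19.GrReg4
import Groth.Agent.Lib.Helper19.StarLocalArt
import Groth.Agent.Lib.Helper26.CM7
import Groth.Agent.Lib.Helper26.Depth8
import Groth.Agent.S13215

/-!
# Linear regular sequences in standard graded rings (helper19), part 3

`R` Cohen–Macaulay positively graded *local of dimension `d` with `a(R) = -d`; if
`x_1, …, x_d ∈ R_1` is a regular sequence then `R_+ = (x_1, …, x_d)`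
(`irr_eq_span_of_regular`).
-/

set_option autoImplicit false
set_option linter.style.haveILetI false

universe u

namespace Groth.Agent.Lib.helper19.GrLin

open GrLC DirectSum Groth.Agent.Lib.helper19.GrMod Groth.Agent.Lib.helper19.GrFin
  RingTheory.Sequence LocCoh
open scoped Pointwise

theorem ofList_ofFn_smul_top' {R : Type u} [CommRing R] {t : ℕ} (f : Fin t → R) :
    Ideal.ofList (List.ofFn f) • (⊤ : Submodule R R) = Ideal.span (Set.range f) := by
  have h1 : Ideal.ofList (List.ofFn f) = Ideal.span (Set.range f) := by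
    unfold Ideal.ofList
    congr 1
    ext x
    simp [List.mem_ofFn]
  rw [h1]
  exact Ideal.mul_top _

variable {R : Type u} [CommRing R] (𝒜 : ℤ → AddSubgroup R) [GradedRing 𝒜]
  (hpos : ∀ n : ℤ, n < 0 → 𝒜 n = ⊥) (m : HomogeneousIdeal 𝒜) (hm : IsStarLocal 𝒜 m)

include hpos hm in
/-- a homogeneous ideal containing a regular sequence of length `ht m` is `m`-primary -/
theorem exists_pow_le_of_regular [LocCoh.IsCohenMacaulayRing R] {d : ℕ}
    (hd : ringKrullDim R = d) (x : Fin d → R) (hx : ∀ i, x i ∈ 𝒜 1)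
    (hreg : IsWeaklyRegular R (List.ofFn x)) :
    ∃ s : ℕ, m.toIdeal ^ s ≤ Ideal.span (Set.range x) := by
  classical
  have hmax : m.toIdeal.IsMaximal :=
    Groth.Agent.Lib.helper19.StarLocalArt.isMaximal_of_isCoatom 𝒜 hpos m hm.1
  have hone : ∀ r ∈ 𝒜 1, r ∈ m.toIdeal := fun r hr =>
    Groth.Agent.Lib.helper19.StarLocalArt.pos_mem_of_coatom 𝒜 hpos m hm.1 one_pos hr
  have hJhom : (Ideal.span (Set.range x)).IsHomogeneous 𝒜 :=
    Ideal.homogeneous_span 𝒜 _ (by rintro _ ⟨i, rfl⟩; exact ⟨1, hx i⟩)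
  have hhtm : m.toIdeal.height = d := by
    have h1 := Groth.Agent.Lib.helper19.GrHt.ringKrullDim_eq_height 𝒜 hpos m hm
    rw [hd] at h1
    exact_mod_cast h1.symm
  have hle : m.toIdeal ≤ (Ideal.span (Set.range x)).radical := by
    rw [Ideal.IsHomogeneous.radical_eq hJhom]
    refine le_sInf ?_
    rintro Q ⟨hQhom, hJQ, hQprime⟩
    have hQm : Q ≤ m.toIdeal :=
      Groth.Agent.Lib.helper19.GrHt.le_of_isHomogeneous_ne_top 𝒜 hpos m hm Q hQhom hQprime.ne_top
    by_contra hcon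
    have hlt : Q < m.toIdeal := lt_of_le_of_ne hQm (fun h => hcon h.ge)
    haveI := hQprime
    have h1 : Q.height + 1 ≤ m.toIdeal.height := Ideal.height_add_one_le_of_lt_of_isPrime hlt
    have h2 : LocCoh.idealDepth Q R = Q.height :=
      ((Groth.Agent.Lib.helper26.Depth.isCohenMacaulayRing_iff_idealDepth_eq_height R).1
        inferInstance) Q hQprime.ne_top
    have h3 : ((List.ofFn x).length : ℕ∞) ≤ LocCoh.idealDepth Q R :=
      Groth.Agent.Lib.helper26.Depth.length_le_idealDepth hreg (by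
        intro r hr
        rw [List.mem_ofFn] at hr
        obtain ⟨i, rfl⟩ := hr
        exact hJQ (Ideal.subset_span ⟨i, rfl⟩))
    rw [List.length_ofFn, h2] at h3
    rw [hhtm] at h1
    have h4 : Q.height + 1 ≤ Q.height := h1.trans h3
    have h5 : Q.height ≠ ⊤ := ne_top_of_le_ne_top (ENat.natCast_ne_top d) (le_self_add.trans h1)
    exact absurd h4 (not_le.2 (ENat.lt_add_one_iff h5 |>.2 le_rfl))
  exact Ideal.exists_pow_le_of_le_radical_of_fg hle (IsNoetherian.noetherian _)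

include hpos hm in
/-- `R` CM *local of dimension `d` with `a(R) = -d` and `x_1, …, x_d ∈ R_1` a regular sequence:
then `R_+ = (x_1, …, x_d)`. -/
theorem irr_eq_span_of_regular [LocCoh.IsCohenMacaulayRing R] {d : ℕ}
    (hd : ringKrullDim R = d) (I : StarInjRes 𝒜 𝒜)
    (ha : endDeg (I.Hgr m d) = (((-(d : ℤ) : ℤ) : WithTop ℤ) : WithBot (WithTop ℤ)))
    (x : Fin d → R) (hx : ∀ i, x i ∈ 𝒜 1) (hreg : IsWeaklyRegular R (List.ofFn x)) :
    irr 𝒜 = Ideal.span (Set.range x) := by
  classical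
  have hmax : m.toIdeal.IsMaximal :=
    Groth.Agent.Lib.helper19.StarLocalArt.isMaximal_of_isCoatom 𝒜 hpos m hm.1
  have hone : ∀ r ∈ 𝒜 1, r ∈ m.toIdeal := fun r hr =>
    Groth.Agent.Lib.helper19.StarLocalArt.pos_mem_of_coatom 𝒜 hpos m hm.1 one_pos hr
  have hJhom : (Ideal.span (Set.range x)).IsHomogeneous 𝒜 :=
    Ideal.homogeneous_span 𝒜 _ (by rintro _ ⟨i, rfl⟩; exact ⟨1, hx i⟩)
  obtain ⟨s, hs⟩ := exists_pow_le_of_regular 𝒜 hpos m hm hd x hx hreg
  apply le_antisymm
  · -- the hard inclusion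
    have hK : (Ideal.span (Set.range x) : Submodule R R).IsHomogeneous 𝒜 := hJhom
    letI : DirectSum.Decomposition (quotPiece 𝒜 (Ideal.span (Set.range x) : Submodule R R)) :=
      quotDecomposition 𝒜 _ hK
    letI : SetLike.GradedSMul 𝒜 (quotPiece 𝒜 (Ideal.span (Set.range x) : Submodule R R)) :=
      quot_gradedSMul 𝒜 𝒜 _
    obtain ⟨F⟩ := Groth.Agent.S13215.result R 𝒜 (R ⧸ (Ideal.span (Set.range x) : Submodule R R))
      (quotPiece 𝒜 (Ideal.span (Set.range x) : Submodule R R))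
    have hfst : (List.ofFn (fun i => (x i, (1 : ℤ)))).map Prod.fst = List.ofFn x := by
      rw [List.map_ofFn]; rfl
    have hsnd : (List.ofFn (fun i => (x i, (1 : ℤ)))).map Prod.snd = List.ofFn (fun _ : Fin d => (1 : ℤ)) := by
      rw [List.map_ofFn]; rfl
    have hlen : (List.ofFn (fun i => (x i, (1 : ℤ)))).length = d := List.length_ofFn
    have hsum : ((List.ofFn (fun i => (x i, (1 : ℤ)))).map Prod.snd).sum = (d : ℤ) := by
      rw [hsnd, List.sum_ofFn]
      simp
    have hker : LinearMap.ker (Ideal.span (Set.range x) : Submodule R R).mkQ =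
        Ideal.ofList ((List.ofFn (fun i => (x i, (1 : ℤ)))).map Prod.fst) • (⊤ : Submodule R R) := by
      rw [hfst, Submodule.ker_mkQ, ofList_ofFn_smul_top']
    have hmem : ∀ p ∈ List.ofFn (fun i => (x i, (1 : ℤ))), p.1 ∈ 𝒜 p.2 ∧ p.1 ∈ m.toIdeal := by
      intro p hp
      rw [List.mem_ofFn] at hp
      obtain ⟨i, rfl⟩ := hp
      exact ⟨hx i, hone _ (hx i)⟩
    have hwreg : IsWeaklyRegular R ((List.ofFn (fun i => (x i, (1 : ℤ)))).map Prod.fst) := by
      rw [hfst]; exact hreg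
    have hhtm : m.toIdeal.height = d := by
      have h1 := Groth.Agent.Lib.helper19.GrHt.ringKrullDim_eq_height 𝒜 hpos m hm
      rw [hd] at h1
      exact_mod_cast h1.symm
    have hdepth : LocCoh.idealDepth m.toIdeal R = m.toIdeal.height :=
      ((Groth.Agent.Lib.helper26.Depth.isCohenMacaulayRing_iff_idealDepth_eq_height R).1
        inferInstance) m.toIdeal hmax.ne_top
    have key := Groth.Agent.Lib.helper19.GrLes.endDeg_seq 𝒜 hpos m
      (List.ofFn (fun i => (x i, (1 : ℤ)))) R 𝒜 I _ _ F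
      (Ideal.span (Set.range x) : Submodule R R).mkQ (mkQ_isGrHom 𝒜 _)
      (Submodule.mkQ_surjective _) hker hmem d (by rw [hlen]) hwreg (by rw [hdepth, hhtm])
    rw [hlen, hsum, ha, Nat.sub_self] at key
    have key0 : endDeg (F.Hgr m 0) = (((0 : ℤ) : WithTop ℤ) : WithBot (WithTop ℤ)) := by
      rw [key]
      have : (((-(d : ℤ) : ℤ) : WithTop ℤ) : WithBot (WithTop ℤ)) + (((d : ℤ) : WithTop ℤ) : WithBot (WithTop ℤ))
          = ((((-(d : ℤ) + d : ℤ)) : WithTop ℤ) : WithBot (WithTop ℤ)) := rfl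
      rw [this, neg_add_cancel]
    have hvan : ∀ g : ℤ, 0 < g → F.Hgr m 0 g = ⊥ := by
      intro g hg
      by_contra hne
      have h1 := Groth.Agent.Lib.helper19.GrLes.le_endDeg (F.Hgr m 0) hne
      rw [key0] at h1
      have h2 : g ≤ 0 := by exact_mod_cast h1
      omega
    unfold irr
    rw [Ideal.span_le]
    intro a ha'
    simp only [Set.mem_iUnion, Set.mem_Ioi, SetLike.mem_coe, exists_prop] at ha'
    obtain ⟨g, hg, hag⟩ := ha'
    have h1 := (Groth.Agent.Lib.helper19.GrReg.Hgr_zero_eq_bot_iff F m g).1 (hvan g hg)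
      ((Ideal.span (Set.range x) : Submodule R R).mkQ a) (mkQ_isGrHom 𝒜 _ g a hag)
      ⟨s, fun r hr => by
        rw [← map_smul, Submodule.mkQ_apply, Submodule.Quotient.mk_eq_zero, smul_eq_mul]
        exact Ideal.mul_mem_right _ _ (hs hr)⟩
    rw [Submodule.mkQ_apply, Submodule.Quotient.mk_eq_zero] at h1
    exact h1
  · rw [Ideal.span_le]
    rintro _ ⟨i, rfl⟩
    exact mem_irr_of_mem 𝒜 one_pos (hx i)

end Groth.Agent.Lib.helper19.GrLin
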