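import Mathlib
import Groth.Prelude.Def_GrLC
import Groth.Prelude.Def_GrSyz
import Groth.Agent.Lib.Helper19.GrSG5
import Groth.Agent.Lib.Helper19.GrLen1

/-!
# Serre–Grothendieck formula (helper19), part 6: the standard graded polynomial ring

* `isStarLocal_poly` : `(S, 𝔪)` is *local
* `isArtinianRing_deg0_poly`
* `len_comp_eq_finrank` : `ℓ_{S_0}(M_n) = dim_k M_n`
* `formula_poly` : `dim_k M_n - P(n) = Σ_{i ≤ N} (-1)^i ℓ(H^i_𝔪(M)_n)`
-/

set_option autoImplicit false
universe u

namespace Groth.Agent.Lib.helper19.GrSG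

open GrLC MvPolynomial Groth.Agent.Lib.helper19.GrMod Groth.Agent.Lib.helper19.GrLes
  Groth.Agent.Lib.helper19.GrConv Groth.Agent.Lib.helper19.GrPoly Groth.Agent.Lib.helper19.GrFin
  Groth.Agent.Lib.helper19.GrLen

variable (k : Type u) [Field k] (N : ℕ)

theorem isStarLocal_poly : IsStarLocal (gr k N) (mm k N) := by
  classical
  have hne : (mm k N).toIdeal ≠ ⊤ := Groth.Agent.Lib.helper7.GrSyzBasic.irrel_ne_top k (Fin N)
  have hker : (mm k N).toIdeal = RingHom.ker (constantCoeff (R := k) (σ := Fin N)) := by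
    ext p
    rw [idealAdd_toIdeal, Groth.Agent.Lib.helper7.GrSyzBasic.mem_irrel_iff, RingHom.mem_ker]
  have hmax : (mm k N).toIdeal.IsMaximal := by
    rw [hker]
    exact RingHom.ker_isMaximal_of_surjective _ (fun c => ⟨C c, constantCoeff_C _ c⟩)
  have hco : IsCoatom (mm k N) := by
    constructor
    · intro h
      apply hne
      rw [h]
      rfl
    · intro b hb
      apply HomogeneousIdeal.toIdeal_injective
      have h1 : (mm k N).toIdeal < b.toIdeal := hb
      exact hmax.1.2 b.toIdeal h1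
  refine ⟨hco, fun J hJ => ?_⟩
  have hle : J ≤ mm k N := by
    intro p hp
    show p ∈ (mm k N).toIdeal
    rw [idealAdd_toIdeal, Groth.Agent.Lib.helper7.GrSyzBasic.mem_irrel_iff]
    by_contra hc
    apply hJ.1
    apply HomogeneousIdeal.toIdeal_injective
    have h0 : ((DirectSum.decompose (gr k N) p 0 : gr k N 0) : MvPolynomial (Fin N) k) ∈ J.toIdeal :=
      J.isHomogeneous 0 hp
    rw [coe_decompose_addGr, decompose_zero_eq_C] at h0
    show J.toIdeal = ⊤
    rw [Ideal.eq_top_iff_one]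
    have h1 : C (constantCoeff p)⁻¹ * C (constantCoeff p) ∈ J.toIdeal := J.toIdeal.mul_mem_left _ h0
    rwa [← C_mul, inv_mul_cancel₀ hc, C_1] at h1
  rcases eq_or_lt_of_le hle with h | h
  · exact h
  · exact absurd (hJ.2 _ h) (fun h' => hne (by rw [h']; rfl))

/-- the constants, as a ring homomorphism onto the degree zero part -/
noncomputable def toDeg0 : k →+* deg0 (gr k N) where
  toFun c := ⟨C c, isWeightedHomogeneous_C (fun _ : Fin N => (1 : ℤ)) c⟩
  map_one' := Subtype.ext C_1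
  map_mul' _ _ := Subtype.ext (C_mul)
  map_zero' := Subtype.ext C_0
  map_add' _ _ := Subtype.ext (C_add)

theorem toDeg0_surjective : Function.Surjective (toDeg0 k N) := by
  intro c
  have hc : (c : MvPolynomial (Fin N) k) ∈ GrSyz.stdGr k (Fin N) 0 := c.2
  refine ⟨constantCoeff (c : MvPolynomial (Fin N) k), Subtype.ext ?_⟩
  show C (constantCoeff (c : MvPolynomial (Fin N) k)) = (c : MvPolynomial (Fin N) k)
  rw [← decompose_zero_eq_C, DirectSum.decompose_of_mem_same _ hc]

instance isArtinianRing_deg0_poly : IsArtinianRing (deg0 (gr k N)) :=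
  (toDeg0_surjective k N).isArtinianRing

variable (M : Type u) [AddCommGroup M] [Module k M] [Module (MvPolynomial (Fin N) k) M]
  [IsScalarTower k (MvPolynomial (Fin N) k) M]
  (ℳ : ℤ → Submodule k M) [SetLike.GradedSMul (GrSyz.stdGr k (Fin N)) ℳ]

theorem length_comp_eq (n : ℤ) :
    Module.length (deg0 (gr k N)) ↥(comp (gr k N) (addGr ℳ) n) = Module.length k ↥(ℳ n) := by
  letI : Algebra k (deg0 (gr k N)) := (toDeg0 k N).toAlgebra
  letI : Module k ↥(comp (gr k N) (addGr ℳ) n) := Module.compHom _ (toDeg0 k N)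
  have hsm : ∀ (c : k) (v : ↥(comp (gr k N) (addGr ℳ) n)), c • v = toDeg0 k N c • v := fun _ _ => rfl
  haveI : IsScalarTower k (deg0 (gr k N)) ↥(comp (gr k N) (addGr ℳ) n) := ⟨fun c κ v => by
    rw [hsm, Algebra.smul_def, mul_smul]
    rfl⟩
  rw [← Module.length_eq_of_surjective (S := k) (R := deg0 (gr k N))
    (M := ↥(comp (gr k N) (addGr ℳ) n)) (toDeg0_surjective k N)]
  let e : ↥(comp (gr k N) (addGr ℳ) n) ≃ₗ[k] ↥(ℳ n) :=
    { toFun := fun v => ⟨(v : M), v.2⟩
      invFun := fun v => ⟨(v : M), v.2⟩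
      left_inv := fun v => rfl
      right_inv := fun v => rfl
      map_add' := fun v w => rfl
      map_smul' := fun c v => by
        apply Subtype.ext
        show ((toDeg0 k N c • v : ↥(comp (gr k N) (addGr ℳ) n)) : M) = c • (v : M)
        show (C c : MvPolynomial (Fin N) k) • (v : M) = c • (v : M)
        rw [← algebraMap_eq, algebraMap_smul] }
  exact e.length_eq

theorem hf_eq_finrank (n : ℤ) [Module.Finite k ↥(ℳ n)] :
    hf (gr k N) (addGr ℳ) n = Module.finrank k ↥(ℳ n) := by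
  unfold hf len
  rw [length_comp_eq k N M ℳ n, Module.length_eq_finrank]
  rfl

theorem finite_piece [DirectSum.Decomposition ℳ] [Module.Finite (MvPolynomial (Fin N) k) M] (n : ℤ) :
    Module.Finite k ↥(ℳ n) := by
  have h1 := isFiniteLength_comp (gr k N) (addGr ℳ) (gr_neg k N) n
  have h2 : Module.length k ↥(ℳ n) ≠ ⊤ := by
    rw [← length_comp_eq k N M ℳ n]
    exact Module.length_ne_top_iff.2 h1
  have h3 : IsFiniteLength k ↥(ℳ n) := Module.length_ne_top_iff.1 h2
  exact ((IsArtinianRing.tfae k ↥(ℳ n)).out 3 0).mp h3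

theorem ringKrullDim_poly : ringKrullDim (MvPolynomial (Fin N) k) = (N : ℕ) := by
  rw [MvPolynomial.ringKrullDim_of_isNoetherianRing, ringKrullDim_eq_zero_of_field, zero_add,
    Nat.card_eq_fintype_card, Fintype.card_fin]

open Polynomial in
/-- the Serre–Grothendieck formula over the standard graded polynomial ring -/
theorem formula_poly [DirectSum.Decomposition ℳ] [Module.Finite (MvPolynomial (Fin N) k) M]
    (E : StarInjRes (gr k N) (addGr ℳ)) (P : ℚ[X])
    (hP : ∃ d₁ : ℤ, ∀ d : ℤ, d₁ ≤ d → ((Module.finrank k ↥(ℳ d) : ℤ) : ℚ) = P.eval (d : ℚ)) (n : ℤ) :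
    ((Module.finrank k ↥(ℳ n) : ℤ) : ℚ) - P.eval (n : ℚ) = chi (gr k N) (mm k N) E N n := by
  have hfin := fun n => finite_piece k N M ℳ n
  obtain ⟨d₁, hd₁⟩ := hP
  have hHP : IsHilbPoly (gr k N) (addGr ℳ) P := by
    refine ⟨d₁, fun d hd => ?_⟩
    rw [← hd₁ d hd, hf_eq_finrank k N M ℳ d]
    push_cast
    rfl
  have := formula_starLocal (gr k N) (gr_neg k N) (mm k N) (isStarLocal_poly k N) N
    (ringKrullDim_poly k N) M (addGr ℳ) E P hHP n
  rw [← this, hf_eq_finrank k N M ℳ n]
  push_cast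
  rfl

end Groth.Agent.Lib.helper19.GrSG
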