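import Mathlib
import Groth.Agent.Lib.Helper19.H1Fin2

set_option autoImplicit false
universe u
namespace Groth.Agent.Lib.helper19.H1Dom
open CategoryTheory Groth.Agent.Lib.helper19.LCBridge Groth.Agent.Lib.helper19.LCLes
  Groth.Agent.Lib.helper19.LCLes2 Groth.Agent.Lib.helper19.LCZero
  Groth.Agent.Lib.helper19.ExtLoc Groth.Agent.Lib.helper19.LCFactor
  Groth.Agent.Lib.helper19.LCGroth Groth.Agent.Lib.helper19.H1Fin

section DD
variable {R : Type u} [CommRing R] (K : Type u) [Field K] [Algebra R K]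

/-- the fractional ideal `(R :_K I^n)` -/
def DD (I : Ideal R) (n : ℕ) : Submodule R K where
  carrier := {x | ∀ a ∈ I ^ n, a • x ∈ LinearMap.range (Algebra.linearMap R K)}
  zero_mem' := fun a _ => by rw [smul_zero]; exact Submodule.zero_mem _
  add_mem' := fun hx hy a ha => by rw [smul_add]; exact Submodule.add_mem _ (hx a ha) (hy a ha)
  smul_mem' := fun c _ hx a ha => by rw [smul_comm]; exact Submodule.smul_mem _ c (hx a ha)

variable {K}

lemma mem_DD {I : Ideal R} {n : ℕ} {x : K} :
    x ∈ DD K I n ↔ ∀ a ∈ I ^ n, a • x ∈ LinearMap.range (Algebra.linearMap R K) := Iff.rfl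

lemma DD_mono (I : Ideal R) {n m : ℕ} (h : n ≤ m) : DD K I n ≤ DD K I m :=
  fun _ hx a ha => hx a (Ideal.pow_le_pow_right h ha)

lemma range_le_DD (I : Ideal R) (n : ℕ) : LinearMap.range (Algebra.linearMap R K) ≤ DD K I n :=
  fun _ hx a _ => Submodule.smul_mem _ a hx

lemma mem_DD_succ {I : Ideal R} {n : ℕ} {x : K} :
    x ∈ DD K I (n + 1) ↔ ∀ b ∈ I, b • x ∈ DD K I n := by
  constructor
  · intro hx b hb a ha
    rw [smul_smul]
    apply hx
    rw [pow_succ]
    exact Ideal.mul_mem_mul ha hb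
  · intro h a ha
    rw [pow_succ] at ha
    refine Submodule.mul_induction_on ha ?_ ?_
    · intro m hm b hb
      rw [← smul_smul]
      exact h b hb m hm
    · intro y z hy hz
      rw [add_smul]
      exact Submodule.add_mem _ hy hz

/-- the ideals `(DD n : DD (n+1))` -/
def aa (I : Ideal R) (n : ℕ) : Ideal R where
  carrier := {a | ∀ x ∈ DD K I (n + 1), a • x ∈ DD K I n}
  zero_mem' := fun x _ => by rw [zero_smul]; exact Submodule.zero_mem _
  add_mem' := fun ha hb x hx => by rw [add_smul]; exact Submodule.add_mem _ (ha x hx) (hb x hx)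
  smul_mem' := fun c a ha x hx => by
    rw [smul_eq_mul, ← smul_smul]; exact Submodule.smul_mem _ c (ha x hx)

variable (K) in
lemma mem_aa {I : Ideal R} {n : ℕ} {a : R} :
    a ∈ aa (K := K) I n ↔ ∀ x ∈ DD K I (n + 1), a • x ∈ DD K I n := Iff.rfl

variable (K) in
lemma aa_mono_succ (I : Ideal R) (n : ℕ) : aa (K := K) I n ≤ aa (K := K) I (n + 1) := by
  intro a ha x hx
  rw [mem_DD_succ]
  intro b hb
  rw [smul_comm]
  exact ha _ (mem_DD_succ.1 hx b hb)

variable (K) in
lemma le_aa (I : Ideal R) (n : ℕ) : I ≤ aa (K := K) I n :=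
  fun b hb x hx => mem_DD_succ.1 hx b hb

variable (K) in
lemma aa_mono (I : Ideal R) : Monotone (fun n => aa (K := K) I n) :=
  monotone_nat_of_le_succ (aa_mono_succ K I)

lemma DD_succ_le_of_aa_eq_top {I : Ideal R} {n : ℕ} (h : aa (K := K) I n = ⊤) :
    DD K I (n + 1) ≤ DD K I n := by
  intro x hx
  have h1 : (1 : R) ∈ aa (K := K) I n := by rw [h]; trivial
  have := h1 x hx
  rwa [one_smul] at this

lemma DD_le_of_succ_le {I : Ideal R} {n : ℕ} (h : DD K I (n + 1) ≤ DD K I n) (j : ℕ) :
    DD K I j ≤ DD K I n := by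
  have key : ∀ k, DD K I (n + k) ≤ DD K I n := by
    intro k
    induction k with
    | zero => exact le_rfl
    | succ k ih =>
      intro x hx
      have hx' : x ∈ DD K I (n + k + 1) := hx
      apply h
      rw [mem_DD_succ] at hx' ⊢
      intro b hb
      exact ih (hx' b hb)
  by_cases hj : j ≤ n
  · exact DD_mono I hj
  · have : j = n + (j - n) := by omega
    rw [this]
    exact key _

end DD

end Groth.Agent.Lib.helper19.H1Dom
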