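import Mathlib
import Groth.Agent.Lib.Helper19.H1Fin2
import Groth.Agent.Lib.Helper19.H1DomA

set_option autoImplicit false
universe u
namespace Groth.Agent.Lib.helper19.H1Dom
open CategoryTheory Groth.Agent.Lib.helper19.LCBridge Groth.Agent.Lib.helper19.LCLes
  Groth.Agent.Lib.helper19.LCLes2 Groth.Agent.Lib.helper19.LCZero
  Groth.Agent.Lib.helper19.ExtLoc Groth.Agent.Lib.helper19.LCFactor
  Groth.Agent.Lib.helper19.LCGroth Groth.Agent.Lib.helper19.H1Fin

section Dom
variable {R : Type u} [CommRing R] [IsDomain R] {K : Type u} [Field K] [Algebra R K]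
  [IsFractionRing R K]

omit [IsDomain R] in
lemma DD_le_span {I : Ideal R} {n : ℕ} {c : R} (hc : c ∈ I ^ n) (hc0 : c ≠ 0) :
    DD K I n ≤ Submodule.span R {(algebraMap R K c)⁻¹} := by
  intro x hx
  obtain ⟨b, hb⟩ := hx c hc
  rw [Submodule.mem_span_singleton]
  refine ⟨b, ?_⟩
  have hc' : algebraMap R K c ≠ 0 := by
    rwa [Ne, IsFractionRing.to_map_eq_zero_iff]
  rw [Algebra.linearMap_apply] at hb
  rw [Algebra.smul_def, hb, Algebra.smul_def]
  field_simp

omit [IsFractionRing R K] in
lemma exists_ne_zero_mem_pow {I : Ideal R} (hI : I ≠ ⊥) (n : ℕ) : ∃ c ∈ I ^ n, c ≠ 0 := by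
  obtain ⟨b, hb, hb0⟩ := Submodule.exists_mem_ne_zero_of_ne_bot hI
  exact ⟨b ^ n, Ideal.pow_mem_pow hb n, pow_ne_zero n hb0⟩

omit [IsDomain R] [IsFractionRing R K] in
lemma fg_of_le_span [IsNoetherianRing R] (N : Submodule R K) (y : K)
    (h : N ≤ Submodule.span R {y}) : N.FG := by
  haveI : IsNoetherian R (Submodule.span R {y}) :=
    isNoetherian_span_of_finite R (Set.finite_singleton _)
  have h1 : (Submodule.comap (Submodule.span R {y}).subtype N).FG := IsNoetherian.noetherian _
  have h2 := h1.map (Submodule.span R {y}).subtype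
  rwa [Submodule.map_comap_subtype, inf_eq_right.2 h] at h2

lemma DD_fg [IsNoetherianRing R] {I : Ideal R} (hI : I ≠ ⊥) (n : ℕ) : (DD K I n).FG := by
  obtain ⟨c, hc, hc0⟩ := exists_ne_zero_mem_pow hI n
  exact fg_of_le_span _ _ (DD_le_span (K := K) hc hc0)

variable (K) in
/-- `H^i_I(K) = 0` for `I ≠ 0` -/
lemma H_fractionRing_subsingleton {I : Ideal R} (hI : I ≠ ⊥) (i : ℕ) :
    Subsingleton (LocCoh.H I i K) := by
  obtain ⟨c, hc, hc0⟩ := Submodule.exists_mem_ne_zero_of_ne_bot hI
  have hc' : algebraMap R K c ≠ 0 := by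
    rwa [Ne, IsFractionRing.to_map_eq_zero_iff]
  apply H_subsingleton_of_smul_injective I i (ModuleCat.of R K) c hc
  intro x hx
  -- the inverse of multiplication by `c`
  let v : ModuleCat.of R K ⟶ ModuleCat.of R K :=
    ModuleCat.ofHom (LinearMap.mulLeft R ((algebraMap R K c)⁻¹))
  have hv : (c • 𝟙 (ModuleCat.of R K)) ≫ v = 𝟙 _ := by
    apply ModuleCat.hom_ext
    apply LinearMap.ext
    intro y
    show (algebraMap R K c)⁻¹ * (c • y) = y
    rw [Algebra.smul_def, ← mul_assoc, inv_mul_cancel₀ hc', one_mul]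
  have h1 : ((localCohomology I i).map v).hom
      (((localCohomology I i).map (c • 𝟙 (ModuleCat.of R K))).hom x) = x := by
    have h0 : (localCohomology I i).map (c • 𝟙 (ModuleCat.of R K)) ≫ (localCohomology I i).map v
        = 𝟙 _ := by
      rw [← Functor.map_comp, hv, CategoryTheory.Functor.map_id]
    exact congrArg (fun t => t.hom x) h0
  rw [H_map_smul_id, hx, map_zero] at h1
  exact h1.symm

variable (K) in
/-- `H^1_I(R) ≅ Γ_I(K/R)` -/
theorem H_one_equiv (I : Ideal R) (hI : I ≠ ⊥) :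
    Nonempty (LocCoh.H I 1 R ≃ₗ[R]
      DRing.torsionSub I (K ⧸ LinearMap.range (Algebra.linearMap R K))) := by
  have hf : Function.Injective (Algebra.linearMap R K) := IsFractionRing.injective R K
  have hg : Function.Surjective (LinearMap.range (Algebra.linearMap R K)).mkQ :=
    Submodule.mkQ_surjective _
  have hex : Function.Exact (Algebra.linearMap R K)
      (LinearMap.range (Algebra.linearMap R K)).mkQ := by
    rw [LinearMap.exact_iff, Submodule.ker_mkQ]
  have hS := sc_shortExact _ _ hf hg hex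
  have e1 := shiftEquiv I 0 hS (H_fractionRing_subsingleton K hI 0)
    (H_fractionRing_subsingleton K hI 1)
  have e2 := LinearEquiv.ofBijective _ (gammaToH_bijective I
    (ModuleCat.of R (K ⧸ LinearMap.range (Algebra.linearMap R K))))
  exact ⟨e1.symm ≪≫ₗ e2.symm⟩

omit [IsDomain R] [IsFractionRing R K] in
lemma mem_DD_iff_mkQ {I : Ideal R} {n : ℕ} {x : K} :
    x ∈ DD K I n ↔ ∀ a ∈ I ^ n,
      a • (LinearMap.range (Algebra.linearMap R K)).mkQ x = 0 := by
  constructor
  · intro hx a ha
    rw [← map_smul, Submodule.mkQ_apply, Submodule.Quotient.mk_eq_zero]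
    exact hx a ha
  · intro h a ha
    have := h a ha
    rwa [← map_smul, Submodule.mkQ_apply, Submodule.Quotient.mk_eq_zero] at this

variable (K) in
/-- `H^1_I(R)` is finite iff the chain `(R : I^n)` stabilises -/
theorem finite_H_one_iff_stable [IsNoetherianRing R] (I : Ideal R) (hI : I ≠ ⊥) :
    Module.Finite R (LocCoh.H I 1 R) ↔ ∃ L, ∀ j, DD K I j ≤ DD K I L := by
  classical
  obtain ⟨e⟩ := H_one_equiv K I hI
  set π := (LinearMap.range (Algebra.linearMap R K)).mkQ with hπ
  constructor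
  · intro hfin
    haveI : Module.Finite R (DRing.torsionSub I (K ⧸ LinearMap.range (Algebra.linearMap R K))) :=
      Module.Finite.equiv e
    have hfg : (DRing.torsionSub I (K ⧸ LinearMap.range (Algebra.linearMap R K))).FG :=
      Module.Finite.iff_fg.1 inferInstance
    obtain ⟨s, hs⟩ := hfg
    have hmem : ∀ y ∈ s, ∃ n : ℕ, ∀ a ∈ I ^ n, a • y = 0 := by
      intro y hy
      have : y ∈ DRing.torsionSub I (K ⧸ LinearMap.range (Algebra.linearMap R K)) := by
        rw [← hs]
        exact Submodule.subset_span hy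
      exact this
    choose! nn hnn using hmem
    refine ⟨s.sup nn, fun j x hx => ?_⟩
    rw [mem_DD_iff_mkQ]
    have hx' : π x ∈ DRing.torsionSub I (K ⧸ LinearMap.range (Algebra.linearMap R K)) :=
      ⟨j, mem_DD_iff_mkQ.1 hx⟩
    rw [← hs] at hx'
    intro a ha
    refine Submodule.span_induction (p := fun y _ => a • y = 0) ?_ ?_ ?_ ?_ hx'
    · intro y hy
      exact hnn y hy a (Ideal.pow_le_pow_right (Finset.le_sup hy) ha)
    · exact smul_zero a
    · intro y z _ _ hy hz
      rw [smul_add, hy, hz, add_zero]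
    · intro r y _ hy
      rw [smul_comm, hy, smul_zero]
  · rintro ⟨L, hL⟩
    have heq : DRing.torsionSub I (K ⧸ LinearMap.range (Algebra.linearMap R K)) =
        (DD K I L).map π := by
      apply le_antisymm
      · intro y hy
        obtain ⟨x, rfl⟩ := Submodule.mkQ_surjective _ y
        obtain ⟨n, hn⟩ := hy
        exact ⟨x, hL n (mem_DD_iff_mkQ.2 hn), rfl⟩
      · rintro _ ⟨x, hx, rfl⟩
        exact ⟨L, mem_DD_iff_mkQ.1 hx⟩
    have hfg : (DRing.torsionSub I (K ⧸ LinearMap.range (Algebra.linearMap R K))).FG := by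
      rw [heq]
      exact (DD_fg hI L).map π
    haveI : Module.Finite R (DRing.torsionSub I (K ⧸ LinearMap.range (Algebra.linearMap R K))) :=
      Module.Finite.iff_fg.2 hfg
    exact Module.Finite.equiv e.symm

end Dom

end Groth.Agent.Lib.helper19.H1Dom
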