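import Mathlib
import Groth.Agent.Lib.Helper19.H1DomB

set_option autoImplicit false
universe u
namespace Groth.Agent.Lib.helper19.H1Dom
open CategoryTheory IsLocalRing

section Key
variable {A : Type u} [CommRing A] [IsDomain A] [IsNoetherianRing A]
  {K : Type u} [Field K] [Algebra A K] [IsFractionRing A K]
  {B : Type u} [CommRing B] [IsDomain B] [IsNoetherianRing B] [Algebra A B] [Algebra B K]
  [IsScalarTower A B K] [IsFractionRing B K]

variable (B) in
/-- the `B`-span of `(A : I^n)` -/
def WW (I : Ideal A) (n : ℕ) : Submodule B K := Submodule.span B (DD K I n : Set K)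

omit [IsDomain A] [IsNoetherianRing A] [IsFractionRing A K] [IsDomain B] [IsNoetherianRing B]
  [IsFractionRing B K] [Algebra A B] [IsScalarTower A B K] in
lemma WW_mono (I : Ideal A) {n m : ℕ} (h : n ≤ m) : WW B I n ≤ WW (K := K) B I m :=
  Submodule.span_mono (DD_mono I h)

omit [IsDomain A] [IsNoetherianRing A] [IsFractionRing A K] [IsDomain B] [IsNoetherianRing B]
  [IsFractionRing B K] in
/-- `𝔟 B · W_{n+1} ⊆ W_n` for `𝔟 = aa I n` -/
lemma map_aa_smul_WW_le (I : Ideal A) (n : ℕ) :
    ((aa (K := K) I n).map (algebraMap A B)) • WW (K := K) B I (n + 1) ≤ WW B I n := by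
  unfold WW
  rw [Ideal.map, Submodule.span_smul_span]
  apply Submodule.span_le.2
  rintro _ ⟨_, ⟨a, ha, rfl⟩, t, ht, rfl⟩
  apply Submodule.subset_span
  show algebraMap A B a • t ∈ _
  rw [algebraMap_smul]
  exact ha t ht

omit [IsDomain A] [IsNoetherianRing A] [IsFractionRing A K] [IsDomain B] [IsNoetherianRing B]
  [IsFractionRing B K] in
lemma pow_smul_WW_le (I : Ideal A) (N : ℕ) (hN : ∀ n, N ≤ n → aa (K := K) I n = aa (K := K) I N)
    (J : Ideal B) (k : ℕ) (hJ : J ^ k ≤ (aa (K := K) I N).map (algebraMap A B)) (j : ℕ) :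
    (J ^ (k * j)) • WW (K := K) B I (N + j) ≤ WW B I N := by
  induction j with
  | zero =>
    rw [Nat.mul_zero, pow_zero, Ideal.one_eq_top, Submodule.top_smul]
    exact le_rfl
  | succ j ih =>
    rw [Nat.mul_succ, pow_add, Submodule.mul_smul]
    refine le_trans (Submodule.smul_mono le_rfl ?_) ih
    refine le_trans (Submodule.smul_mono_left hJ) ?_
    rw [← hN (N + j) (Nat.le_add_right N j)]
    exact map_aa_smul_WW_le I (N + j)

omit [IsDomain A] [IsNoetherianRing A] [IsFractionRing A K] [IsDomain B] [IsNoetherianRing B]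
  [IsFractionRing B K] in
lemma smul_WW_le_range (I : Ideal A) (N : ℕ) (c : A) (hc : c ∈ I ^ N) (x : K)
    (hx : x ∈ WW (K := K) B I N) : c • x ∈ LinearMap.range (Algebra.linearMap B K) := by
  unfold WW at hx
  refine Submodule.span_induction (p := fun x _ => c • x ∈ LinearMap.range (Algebra.linearMap B K))
    ?_ ?_ ?_ ?_ hx
  · intro y hy
    obtain ⟨a, ha⟩ := hy c hc
    refine ⟨algebraMap A B a, ?_⟩
    rw [← ha, Algebra.linearMap_apply, Algebra.linearMap_apply,
      ← IsScalarTower.algebraMap_apply]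
  · rw [smul_zero]
    exact Submodule.zero_mem _
  · intro y z _ _ hy hz
    rw [smul_add]
    exact Submodule.add_mem _ hy hz
  · intro b y _ hy
    rw [smul_comm]
    exact Submodule.smul_mem _ b hy

omit [IsNoetherianRing A] [IsNoetherianRing B] in
/-- all `W_n` lie in a cyclic `B`-module -/
lemma exists_WW_le_span (I : Ideal A) (hI : I ≠ ⊥) (N : ℕ)
    (hN : ∀ n, N ≤ n → aa (K := K) I n = aa (K := K) I N)
    (J : Ideal B) (hJ0 : J ≠ ⊥) (k : ℕ) (hJ : J ^ k ≤ (aa (K := K) I N).map (algebraMap A B))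
    (hst : ∃ L, ∀ j, DD K J j ≤ DD K J L) :
    ∃ y : K, ∀ n, WW (K := K) B I n ≤ Submodule.span B {y} := by
  obtain ⟨L, hL⟩ := hst
  obtain ⟨c, hc, hc0⟩ := exists_ne_zero_mem_pow hI N
  obtain ⟨e, he, he0⟩ := exists_ne_zero_mem_pow hJ0 L
  have hc' : algebraMap A K c ≠ 0 := by
    rwa [Ne, IsFractionRing.to_map_eq_zero_iff]
  refine ⟨(algebraMap A K c)⁻¹ * (algebraMap B K e)⁻¹, fun n => ?_⟩
  have key : ∀ j, WW (K := K) B I (N + j) ≤
      Submodule.span B {(algebraMap A K c)⁻¹ * (algebraMap B K e)⁻¹} := by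
    intro j x hx
    have h1 : c • x ∈ DD K J (k * j) := by
      intro b hb
      rw [smul_comm]
      apply smul_WW_le_range I N c hc
      exact pow_smul_WW_le I N hN J k hJ j (Submodule.smul_mem_smul hb hx)
    have h2 := DD_le_span (K := K) he he0 (hL _ h1)
    rw [Submodule.mem_span_singleton] at h2 ⊢
    obtain ⟨β, hβ⟩ := h2
    refine ⟨β, ?_⟩
    rw [Algebra.smul_def] at hβ ⊢
    rw [Algebra.smul_def] at hβ
    rw [← mul_assoc, mul_comm _ ((algebraMap A K c)⁻¹), mul_assoc, hβ, ← mul_assoc,
      inv_mul_cancel₀ hc', one_mul]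
  by_cases hn : n ≤ N
  · refine le_trans (WW_mono I hn) ?_
    have := key 0
    rwa [Nat.add_zero] at this
  · have : n = N + (n - N) := by omega
    rw [this]
    exact key _

/-- the key step: a minimal prime of the stable value of `aa` at which the local chain
stabilises cannot exist -/
theorem false_of_minimalPrime (I : Ideal A) (hI : I ≠ ⊥) (N : ℕ)
    (hN : ∀ n, N ≤ n → aa (K := K) I n = aa (K := K) I N)
    (q : Ideal A) [q.IsPrime] [IsLocalization.AtPrime B q]
    (hq : q ∈ (aa (K := K) I N).minimalPrimes)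
    (hst : ∃ L, ∀ j, DD K (q.map (algebraMap A B)) j ≤ DD K (q.map (algebraMap A B)) L) :
    False := by
  classical
  have hrad := IsLocalization.AtPrime.radical_map_of_mem_minimalPrimes (A := B) q
    (aa (K := K) I N) hq
  obtain ⟨k, hk⟩ := Ideal.exists_pow_le_of_le_radical_of_fg (I := q.map (algebraMap A B))
    (J := (aa (K := K) I N).map (algebraMap A B)) hrad.ge (IsNoetherian.noetherian _)
  have hinjAB : Function.Injective (algebraMap A B) := by
    have h1 : Function.Injective (algebraMap A K) := IsFractionRing.injective A K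
    rw [IsScalarTower.algebraMap_eq A B K] at h1
    exact Function.Injective.of_comp h1
  have hJ0 : q.map (algebraMap A B) ≠ ⊥ := by
    obtain ⟨c, hc, hc0⟩ := Submodule.exists_mem_ne_zero_of_ne_bot hI
    intro h
    have h1 : algebraMap A B c ∈ q.map (algebraMap A B) :=
      Ideal.mem_map_of_mem _ (hq.1.2 (le_aa K I N hc))
    rw [h, Ideal.mem_bot] at h1
    exact hc0 (hinjAB (by rw [h1, map_zero]))
  obtain ⟨y, hy⟩ := exists_WW_le_span (B := B) I hI N hN _ hJ0 k hk hst
  -- the chain `W_n` stabilises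
  haveI : IsNoetherian B (Submodule.span B {y}) :=
    isNoetherian_span_of_finite B (Set.finite_singleton _)
  let f : ℕ →o Submodule B (Submodule.span B {y}) :=
    ⟨fun n => Submodule.comap (Submodule.span B {y}).subtype (WW (K := K) B I n),
      fun n m h => Submodule.comap_mono (WW_mono I h)⟩
  obtain ⟨n0, hn0⟩ := monotone_stabilizes_iff_noetherian.2 inferInstance f
  set n := max n0 N with hn
  have hfn : f (n + 1) = f n := by
    rw [← hn0 n (le_max_left _ _), ← hn0 (n + 1) (le_trans (le_max_left _ _) (Nat.le_succ _))]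
  have hW : WW (K := K) B I (n + 1) ≤ WW B I n := by
    intro x hx
    have h1 : (⟨x, hy _ hx⟩ : Submodule.span B {y}) ∈ f (n + 1) := hx
    rw [hfn] at h1
    exact h1
  -- generators of `DD (n+1)`
  obtain ⟨t, ht⟩ := DD_fg (K := K) hI (n + 1)
  have hz : ∀ x ∈ t, ∃ z : q.primeCompl, (z : A) • x ∈ DD K I n := by
    intro x hx
    have hx1 : x ∈ DD K I (n + 1) := by
      rw [← ht]
      exact Submodule.subset_span hx
    have hx2 : x ∈ WW (K := K) B I n := hW (Submodule.subset_span hx1)
    obtain ⟨x', hx', z, hz⟩ := (IsLocalization.mem_span_iff q.primeCompl).1 hx2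
    rw [Submodule.span_eq] at hx'
    refine ⟨z, ?_⟩
    rw [hz, ← algebraMap_smul B (z : A), smul_smul, IsLocalization.mk'_spec'_mk, map_one, one_smul]
    exact hx'
  choose! zz hzz using hz
  have hs : ∀ x ∈ t, (∏ y ∈ t, (zz y : A)) • x ∈ DD K I n := by
    intro x hx
    rw [← Finset.mul_prod_erase t _ hx, mul_comm, mul_smul]
    exact Submodule.smul_mem _ _ (hzz x hx)
  have hsaa : (∏ y ∈ t, (zz y : A)) ∈ aa (K := K) I n := by
    intro x hx
    rw [← ht] at hx
    refine Submodule.span_induction (p := fun x _ => (∏ y ∈ t, (zz y : A)) • x ∈ DD K I n)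
      ?_ ?_ ?_ ?_ hx
    · intro x hx
      exact hs x hx
    · rw [smul_zero]
      exact Submodule.zero_mem _
    · intro a b _ _ ha hb
      rw [smul_add]
      exact Submodule.add_mem _ ha hb
    · intro r a _ ha
      rw [smul_comm]
      exact Submodule.smul_mem _ r ha
  rw [hN n (le_max_right _ _)] at hsaa
  have hsq : (∏ y ∈ t, (zz y : A)) ∈ q := hq.1.2 hsaa
  have hsnq : (∏ y ∈ t, (zz y : A)) ∈ q.primeCompl :=
    Submonoid.prod_mem _ (fun y _ => (zz y).2)
  exact hsnq hsq

end Key

/-- **Local-global principle** for the finiteness of `H^1_I(A)`, `A` a Noetherian domain: it is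
enough that `H^1_m(A_q)` is finite over `A_q` for all primes `q ⊇ I`. -/
theorem finite_H_one_of_local (A : Type u) [CommRing A] [IsDomain A] [IsNoetherianRing A]
    (I : Ideal A) (hI : I ≠ ⊥)
    (h : ∀ (q : Ideal A) [q.IsPrime], I ≤ q →
      Module.Finite (Localization.AtPrime q)
        (LocCoh.H (maximalIdeal (Localization.AtPrime q)) 1 (Localization.AtPrime q))) :
    Module.Finite A (LocCoh.H I 1 A) := by
  obtain ⟨N, hN⟩ := monotone_stabilizes_iff_noetherian.2 (inferInstance : IsNoetherian A A)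
    ⟨fun n => aa (K := FractionRing A) I n, aa_mono (FractionRing A) I⟩
  have hN' : ∀ n, N ≤ n → aa (K := FractionRing A) I n = aa (K := FractionRing A) I N :=
    fun n hn => (hN n hn).symm
  by_cases htop : aa (K := FractionRing A) I N = ⊤
  · rw [finite_H_one_iff_stable (FractionRing A) I hI]
    exact ⟨N, DD_le_of_succ_le (DD_succ_le_of_aa_eq_top htop)⟩
  · exfalso
    obtain ⟨q, hq⟩ := Ideal.nonempty_minimalPrimes htop
    haveI : q.IsPrime := hq.1.1
    have hIq : I ≤ q := le_trans (le_aa (FractionRing A) I N) hq.1.2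
    have hfin := h q hIq
    have hm0 : maximalIdeal (Localization.AtPrime q) ≠ ⊥ := by
      obtain ⟨c, hc, hc0⟩ := Submodule.exists_mem_ne_zero_of_ne_bot hI
      intro hbot
      have h1 : algebraMap A (Localization.AtPrime q) c ∈ maximalIdeal (Localization.AtPrime q) := by
        rw [← IsLocalization.AtPrime.map_eq_maximalIdeal q (Localization.AtPrime q)]
        exact Ideal.mem_map_of_mem _ (hIq hc)
      rw [hbot, Ideal.mem_bot] at h1
      have hinj : Function.Injective (algebraMap A (Localization.AtPrime q)) :=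
        IsLocalization.injective _ q.primeCompl_le_nonZeroDivisors
      exact hc0 (hinj (by rw [h1, map_zero]))
    rw [finite_H_one_iff_stable (FractionRing A) _ hm0,
      ← IsLocalization.AtPrime.map_eq_maximalIdeal q (Localization.AtPrime q)] at hfin
    exact false_of_minimalPrime (K := FractionRing A) (B := Localization.AtPrime q) I hI N hN' q hq
      hfin

end Groth.Agent.Lib.helper19.H1Dom
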