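import Mathlib
import Groth.Agent.S11614
import Groth.Agent.Lib.Helper19.H1DomC
import Groth.Agent.Lib.Helper19.H1Cpl

set_option autoImplicit false
universe u
namespace Groth.Agent.Lib.helper19.H1Kol
open CategoryTheory IsLocalRing Groth.Agent.Lib.helper19.H1Fin Groth.Agent.Lib.helper19.H1Dom
  Groth.Agent.Lib.helper19.H1Cpl

/-- independence of the base ring, finiteness form: along a surjective ring map -/
theorem finite_H_of_surjective_algebraMap (R R' : Type u) [CommRing R] [IsNoetherianRing R]
    [CommRing R'] [IsNoetherianRing R'] [Algebra R R']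
    (hπ : Function.Surjective (algebraMap R R')) (I : Ideal R)
    (M' : Type u) [AddCommGroup M'] [Module R' M'] [Module R M'] [IsScalarTower R R' M'] (i : ℕ)
    (hfin : Module.Finite R' (LocCoh.H (I.map (algebraMap R R')) i M')) :
    Module.Finite R (LocCoh.H I i M') := by
  classical
  obtain ⟨φ, hφ⟩ := Groth.Agent.S11614.result R R' I M' i
  obtain ⟨s, hs⟩ := hfin.1
  refine ⟨⟨s.image φ, ?_⟩⟩
  rw [eq_top_iff]
  intro y _
  obtain ⟨x, rfl⟩ := φ.surjective y
  have hx : x ∈ Submodule.span R' (s : Set (LocCoh.H (I.map (algebraMap R R')) i M')) := by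
    rw [hs]; trivial
  refine Submodule.span_induction
    (p := fun x _ => φ x ∈ Submodule.span R ((s.image φ : Finset _) : Set (LocCoh.H I i M')))
    ?_ ?_ ?_ ?_ hx
  · intro x hx
    apply Submodule.subset_span
    rw [Finset.coe_image]
    exact ⟨x, hx, rfl⟩
  · rw [map_zero]
    exact Submodule.zero_mem _
  · intro a b _ _ ha hb
    rw [map_add]
    exact Submodule.add_mem _ ha hb
  · intro r' a _ ha
    obtain ⟨r, rfl⟩ := hπ r'
    rw [hφ]
    exact Submodule.smul_mem _ r ha

/-- transport of the finiteness of `H^i_m(S)` along a ring isomorphism of local rings -/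
theorem finite_H_maximalIdeal_of_ringEquiv {S₁ S₂ : Type u} [CommRing S₁] [IsLocalRing S₁]
    [IsNoetherianRing S₁] [CommRing S₂] [IsLocalRing S₂] [IsNoetherianRing S₂] (ε : S₁ ≃+* S₂)
    (i : ℕ) (h : Module.Finite S₂ (LocCoh.H (maximalIdeal S₂) i S₂)) :
    Module.Finite S₁ (LocCoh.H (maximalIdeal S₁) i S₁) := by
  letI : Algebra S₁ S₂ := ε.toRingHom.toAlgebra
  have hπ : Function.Surjective (algebraMap S₁ S₂) := ε.surjective
  have hmap : (maximalIdeal S₁).map (algebraMap S₁ S₂) = maximalIdeal S₂ :=
    Groth.Agent.Lib.helper19.Gor.map_maximalIdeal' hπ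
  rw [← hmap] at h
  have h1 := finite_H_of_surjective_algebraMap S₁ S₂ hπ (maximalIdeal S₁) S₂ i h
  let e : S₂ ≃ₗ[S₁] S₁ :=
    { toFun := ε.symm
      map_add' := map_add ε.symm
      map_smul' := fun s x => by
        show ε.symm (ε s * x) = s * ε.symm x
        rw [map_mul, RingEquiv.symm_apply_apply]
      invFun := ε
      left_inv := ε.apply_symm_apply
      right_inv := ε.symm_apply_apply }
  exact finite_H_of_equiv _ i e h1

/-- **Kollár's criterion, sufficiency** -/
theorem kollar (A : Type u) [CommRing A] [IsNoetherianRing A] (I : Ideal A) (M : Type u)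
    [AddCommGroup M] [Module A M] [Module.Finite A M]
    (h : ∀ p : Ideal A, p ∈ associatedPrimes A M → ¬ I ≤ p → ∀ (q : PrimeSpectrum A),
      p ≤ q.asIdeal → I ≤ q.asIdeal →
      ∀ P ∈ associatedPrimes (AdicCompletion ((IsLocalRing.maximalIdeal
          (Localization.AtPrime q.asIdeal)).map (Ideal.Quotient.mk
            (p.map (algebraMap A (Localization.AtPrime q.asIdeal)))))
          (Localization.AtPrime q.asIdeal ⧸ p.map (algebraMap A (Localization.AtPrime q.asIdeal))))
        (AdicCompletion ((IsLocalRing.maximalIdeal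
          (Localization.AtPrime q.asIdeal)).map (Ideal.Quotient.mk
            (p.map (algebraMap A (Localization.AtPrime q.asIdeal)))))
          (Localization.AtPrime q.asIdeal ⧸ p.map (algebraMap A (Localization.AtPrime q.asIdeal)))),
        (2 : WithBot ℕ∞) ≤ ringKrullDim (AdicCompletion ((IsLocalRing.maximalIdeal
          (Localization.AtPrime q.asIdeal)).map (Ideal.Quotient.mk
            (p.map (algebraMap A (Localization.AtPrime q.asIdeal)))))
          (Localization.AtPrime q.asIdeal ⧸ p.map (algebraMap A (Localization.AtPrime q.asIdeal)))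
            ⧸ P)) :
    Module.Finite A (LocCoh.H I 1 M) := by
  classical
  apply finite_H_one_of_ass I M
  intro p hp hIp
  haveI : p.IsPrime := hp.isPrime
  have hπ : Function.Surjective (algebraMap A (A ⧸ p)) := Ideal.Quotient.mk_surjective
  apply finite_H_of_surjective_algebraMap A (A ⧸ p) hπ I (A ⧸ p) 1
  have hJ0 : I.map (algebraMap A (A ⧸ p)) ≠ ⊥ := by
    rw [Ne, Ideal.map_eq_bot_iff_le_ker, Ideal.Quotient.algebraMap_eq, Ideal.mk_ker]
    exact hIp
  apply finite_H_one_of_local (A ⧸ p) _ hJ0
  intro q' _ hq'
  set q : Ideal A := q'.comap (algebraMap A (A ⧸ p)) with hq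
  haveI : q.IsPrime := Ideal.comap_isPrime _ _
  have hpq : p ≤ q := by
    intro a ha
    rw [hq, Ideal.mem_comap, Ideal.Quotient.algebraMap_eq, Ideal.Quotient.eq_zero_iff_mem.2 ha]
    exact Ideal.zero_mem _
  have hIq : I ≤ q := Ideal.map_le_iff_le_comap.1 hq'
  have hh := h p hp hIp ⟨q, inferInstance⟩ hpq hIq
  have hpq_ne : p.map (algebraMap A (Localization.AtPrime q)) ≠ ⊤ := by
    intro htop
    have h1 : p.map (algebraMap A (Localization.AtPrime q)) ≤
        maximalIdeal (Localization.AtPrime q) := by
      rw [← IsLocalization.AtPrime.map_eq_maximalIdeal q (Localization.AtPrime q)]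
      exact Ideal.map_mono hpq
    rw [htop] at h1
    exact (maximalIdeal.isMaximal (Localization.AtPrime q)).ne_top (top_le_iff.1 h1)
  haveI : Nontrivial (Localization.AtPrime q ⧸ p.map (algebraMap A (Localization.AtPrime q))) :=
    Ideal.Quotient.nontrivial_iff.2 hpq_ne
  haveI : IsLocalRing (Localization.AtPrime q ⧸ p.map (algebraMap A (Localization.AtPrime q))) :=
    IsLocalRing.of_surjective' (Ideal.Quotient.mk _) Ideal.Quotient.mk_surjective
  have hmax : (maximalIdeal (Localization.AtPrime q)).map
      (Ideal.Quotient.mk (p.map (algebraMap A (Localization.AtPrime q)))) =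
      maximalIdeal (Localization.AtPrime q ⧸ p.map (algebraMap A (Localization.AtPrime q))) :=
    Groth.Agent.Lib.helper19.Gor.map_maximalIdeal' (R := Localization.AtPrime q)
      (A := Localization.AtPrime q ⧸ p.map (algebraMap A (Localization.AtPrime q)))
      Ideal.Quotient.mk_surjective
  have hB' : Module.Finite (Localization.AtPrime q ⧸ p.map (algebraMap A (Localization.AtPrime q)))
      (LocCoh.H (maximalIdeal
        (Localization.AtPrime q ⧸ p.map (algebraMap A (Localization.AtPrime q)))) 1
        (Localization.AtPrime q ⧸ p.map (algebraMap A (Localization.AtPrime q)))) := by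
    have key : ∀ (𝔪 : Ideal (Localization.AtPrime q ⧸
        p.map (algebraMap A (Localization.AtPrime q)))),
        𝔪 = maximalIdeal (Localization.AtPrime q ⧸ p.map (algebraMap A (Localization.AtPrime q))) →
        (∀ P ∈ associatedPrimes (AdicCompletion 𝔪 (Localization.AtPrime q ⧸
            p.map (algebraMap A (Localization.AtPrime q))))
          (AdicCompletion 𝔪 (Localization.AtPrime q ⧸
            p.map (algebraMap A (Localization.AtPrime q)))),
          (2 : WithBot ℕ∞) ≤ ringKrullDim (AdicCompletion 𝔪 (Localization.AtPrime q ⧸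
            p.map (algebraMap A (Localization.AtPrime q))) ⧸ P)) →
        Module.Finite (Localization.AtPrime q ⧸ p.map (algebraMap A (Localization.AtPrime q)))
          (LocCoh.H (maximalIdeal
            (Localization.AtPrime q ⧸ p.map (algebraMap A (Localization.AtPrime q)))) 1
            (Localization.AtPrime q ⧸ p.map (algebraMap A (Localization.AtPrime q)))) := by
      rintro _ rfl hP
      exact finite_H_one_of_completion _ hP
    exact key _ hmax hh
  have hM : Algebra.algebraMapSubmonoid (A ⧸ p) q.primeCompl = q'.primeCompl := by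
    ext x
    constructor
    · rintro ⟨a, ha, rfl⟩
      exact ha
    · intro hx
      obtain ⟨a, rfl⟩ := Ideal.Quotient.mk_surjective x
      exact ⟨a, hx, rfl⟩
  haveI : IsLocalization q'.primeCompl
      (Localization.AtPrime q ⧸ p.map (algebraMap A (Localization.AtPrime q))) :=
    hM ▸ (inferInstance : IsLocalization (Algebra.algebraMapSubmonoid (A ⧸ p) q.primeCompl)
      (Localization.AtPrime q ⧸ p.map (algebraMap A (Localization.AtPrime q))))
  exact finite_H_maximalIdeal_of_ringEquiv
    (IsLocalization.algEquiv q'.primeCompl (Localization.AtPrime q')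
      (Localization.AtPrime q ⧸ p.map (algebraMap A (Localization.AtPrime q)))).toRingEquiv 1 hB'

end Groth.Agent.Lib.helper19.H1Kol
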