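import Mathlib
import Groth.Agent.Lib.Helper19.H1DomC
import Groth.Agent.Lib.Helper19.H1Cpl
import Groth.Agent.Lib.Helper26.HullFinite2

set_option autoImplicit false
universe u
namespace Groth.Agent.Lib.helper19.H1Sec
open CategoryTheory IsLocalRing Groth.Agent.Lib.helper19.H1Fin Groth.Agent.Lib.helper19.H1Dom
  Groth.Agent.Lib.helper19.H1Cpl

/-- `H^0_{pC_p}(M_p) = 0` if some `t ∈ p` is a nonzerodivisor on `M` -/
lemma H_zero_localized_of_regular {C : Type u} [CommRing C] (p : Ideal C) [p.IsPrime]
    (M : Type u) [AddCommGroup M] [Module C M] (t : C) (htp : t ∈ p) (hreg : IsSMulRegular M t) :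
    Subsingleton (LocCoh.H (maximalIdeal (Localization.AtPrime p)) 0
      (LocalizedModule p.primeCompl M)) := by
  apply H_zero_subsingleton_of_torsionSub
  intro y hy
  obtain ⟨n, hn⟩ := hy
  have ht1 : algebraMap C (Localization.AtPrime p) t ∈ maximalIdeal (Localization.AtPrime p) := by
    rw [← IsLocalization.AtPrime.map_eq_maximalIdeal p (Localization.AtPrime p)]
    exact Ideal.mem_map_of_mem _ htp
  have h1 : (algebraMap C (Localization.AtPrime p) t) ^ n • y = 0 :=
    hn _ (Ideal.pow_mem_pow ht1 n)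
  rw [← map_pow, algebraMap_smul] at h1
  have hinj0 : Function.Injective (DistribSMul.toLinearMap C M (t ^ n)) := hreg.pow n
  have hinj1 := LocalizedModule.map_injective p.primeCompl _ hinj0
  apply hinj1
  rw [map_zero]
  have h5 : LocalizedModule.map p.primeCompl (DistribSMul.toLinearMap C M (t ^ n)) y
      = (t ^ n) • y := by
    induction y using LocalizedModule.induction_on with
    | h m s =>
      rw [LocalizedModule.map_mk, LocalizedModule.smul'_mk]
      rfl
  rw [h5]
  exact h1

/-- a local domain of dimension `≥ 2` which is a quotient of a Gorenstein local ring has finite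
`H^1_m` -/
theorem finite_H_one_of_gorenstein_quotient {R : Type u} [CommRing R]
    [LocCoh.IsGorensteinLocalRing R] {D : Type u} [CommRing D] [IsDomain D] [IsLocalRing D]
    [IsNoetherianRing D] [Algebra R D] (hπ : Function.Surjective (algebraMap R D))
    (hdim : (2 : WithBot ℕ∞) ≤ ringKrullDim D) :
    Module.Finite D (LocCoh.H (maximalIdeal D) 1 D) := by
  have hfl : IsFiniteLength D (LocCoh.H (maximalIdeal D) 1 D) := by
    rw [Groth.Agent.Lib.helper19.Gor.finLenA (R := R) (A := D) hπ D 1]
    intro p _ hp e j he hj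
    have hej : (e = 0 ∧ j = 1) ∨ (e = 1 ∧ j = 0) := by omega
    rcases hej with ⟨rfl, rfl⟩ | ⟨rfl, rfl⟩
    · exact absurd (eq_maximalIdeal_of_dim_zero D p he) hp
    · have hp0 : p ≠ ⊥ := by
        rintro rfl
        rw [ringKrullDim_eq_of_ringEquiv (RingEquiv.quotientBot D)] at he
        rw [he] at hdim
        exact absurd hdim (by decide)
      obtain ⟨t, htp, ht0⟩ := Submodule.exists_mem_ne_zero_of_ne_bot hp0
      exact H_zero_localized_of_regular p D t htp
        (IsRegular.of_ne_zero ht0).left.isSMulRegular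
  obtain ⟨hN, _⟩ := isFiniteLength_iff_isNoetherian_isArtinian.1 hfl
  infer_instance

theorem localRingHom_surjective {P S : Type u} [CommRing P] [CommRing S] (f : P →+* S)
    (hf : Function.Surjective f) (J : Ideal S) [J.IsPrime] :
    Function.Surjective (Localization.localRingHom (J.comap f) J f rfl) := by
  intro y
  obtain ⟨r, s, rfl⟩ := IsLocalization.exists_mk'_eq J.primeCompl y
  obtain ⟨a, rfl⟩ := hf r
  obtain ⟨b, hb⟩ := hf s.1
  have hbJ : b ∈ (J.comap f).primeCompl := by
    intro h
    apply s.2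
    rw [← hb]
    exact h
  refine ⟨IsLocalization.mk' _ a ⟨b, hbJ⟩, ?_⟩
  rw [Localization.localRingHom_mk']
  congr 1
  exact Subtype.ext hb

/-- over a domain which is a quotient of a regular ring, `H^1_J` is finite when `ht J ≥ 2` -/
theorem finite_H_one_of_regular_quotient (R : Type u) [CommRing R] [IsRegularRing R]
    (B : Type u) [CommRing B] [IsDomain B] [IsNoetherianRing B] (g : R →+* B)
    (hg : Function.Surjective g) (J : Ideal B) (hJ : (2 : ℕ∞) ≤ J.height) :
    Module.Finite B (LocCoh.H J 1 B) := by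
  have hJ0 : J ≠ ⊥ := by
    rintro rfl
    rw [Ideal.height_bot] at hJ
    exact absurd hJ (by decide)
  apply finite_H_one_of_local B J hJ0
  intro 𝔮 _ h𝔮
  letI : Algebra (Localization.AtPrime (𝔮.comap g)) (Localization.AtPrime 𝔮) :=
    (Localization.localRingHom (𝔮.comap g) 𝔮 g rfl).toAlgebra
  haveI : LocCoh.IsGorensteinLocalRing (Localization.AtPrime (𝔮.comap g)) :=
    Groth.Agent.S0342.result _
  have hπ : Function.Surjective (algebraMap (Localization.AtPrime (𝔮.comap g))
      (Localization.AtPrime 𝔮)) := localRingHom_surjective g hg 𝔮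
  apply finite_H_one_of_gorenstein_quotient hπ
  rw [IsLocalization.AtPrime.ringKrullDim_eq_height 𝔮 (Localization.AtPrime 𝔮)]
  have h1 : (2 : ℕ∞) ≤ 𝔮.height := le_trans hJ (Ideal.height_mono h𝔮)
  have h2 : ((2 : ℕ∞) : WithBot ℕ∞) ≤ (𝔮.height : WithBot ℕ∞) := WithBot.coe_le_coe.2 h1
  exact h2

section Sec
variable (B : Type u) [CommRing B] [IsDomain B]

/-- the ring of sections of the structure sheaf of `Spec B` over the complement of `V(J)` -/
def secSub (J : Ideal B) : Subalgebra B (FractionRing B) where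
  carrier := {x | ∀ (p : Ideal B) [p.IsPrime], ¬ J ≤ p → ∃ s : B, s ∉ p ∧ ∃ a : B,
      algebraMap B (FractionRing B) a = algebraMap B (FractionRing B) s * x}
  mul_mem' := by
    intro x y hx hy p _ hp
    obtain ⟨s, hs, a, ha⟩ := hx p hp
    obtain ⟨s', hs', a', ha'⟩ := hy p hp
    refine ⟨s * s', ?_, a * a', ?_⟩
    · intro h
      rcases Ideal.IsPrime.mem_or_mem inferInstance h with h | h
      · exact hs h
      · exact hs' h
    · rw [map_mul, map_mul, ha, ha']
      ring
  one_mem' := by
    intro p _ _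
    exact ⟨1, (Ideal.ne_top_iff_one p).1 (Ideal.IsPrime.ne_top inferInstance), 1, by
      rw [map_one, one_mul]⟩
  add_mem' := by
    intro x y hx hy p _ hp
    obtain ⟨s, hs, a, ha⟩ := hx p hp
    obtain ⟨s', hs', a', ha'⟩ := hy p hp
    refine ⟨s * s', ?_, a * s' + a' * s, ?_⟩
    · intro h
      rcases Ideal.IsPrime.mem_or_mem inferInstance h with h | h
      · exact hs h
      · exact hs' h
    · rw [map_add, map_mul, map_mul, map_mul, ha, ha']
      ring
  zero_mem' := by
    intro p _ _
    exact ⟨1, (Ideal.ne_top_iff_one p).1 (Ideal.IsPrime.ne_top inferInstance), 0, by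
      rw [map_zero, mul_zero]⟩
  algebraMap_mem' := by
    intro b p _ _
    exact ⟨1, (Ideal.ne_top_iff_one p).1 (Ideal.IsPrime.ne_top inferInstance), b, by
      rw [map_one, one_mul]⟩

variable {B}

omit [IsDomain B] in
lemma mem_secSub {J : Ideal B} {x : FractionRing B} :
    x ∈ secSub B J ↔ ∀ (p : Ideal B) [p.IsPrime], ¬ J ≤ p → ∃ s : B, s ∉ p ∧ ∃ a : B,
      algebraMap B (FractionRing B) a = algebraMap B (FractionRing B) s * x := Iff.rfl

/-- sections over the complement of `V(J)` are killed into `B` by a power of `J` -/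
lemma exists_mem_DD_of_mem_secSub [IsNoetherianRing B] {J : Ideal B} {x : FractionRing B}
    (hx : x ∈ secSub B J) : ∃ n, x ∈ DD (FractionRing B) J n := by
  -- the conductor
  let 𝔠 : Ideal B :=
    { carrier := {b | b • x ∈ LinearMap.range (Algebra.linearMap B (FractionRing B))}
      zero_mem' := by
        show (0 : B) • x ∈ LinearMap.range (Algebra.linearMap B (FractionRing B))
        rw [zero_smul]; exact Submodule.zero_mem _
      add_mem' := fun {a b} ha hb => by
        show (a + b) • x ∈ LinearMap.range (Algebra.linearMap B (FractionRing B))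
        rw [add_smul]; exact Submodule.add_mem _ ha hb
      smul_mem' := fun c a ha => by
        show (c • a) • x ∈ LinearMap.range (Algebra.linearMap B (FractionRing B))
        rw [smul_assoc]; exact Submodule.smul_mem _ c ha }
  have hle : J ≤ 𝔠.radical := by
    rw [Ideal.radical_eq_sInf]
    apply le_sInf
    rintro p ⟨hcp, hp⟩
    haveI := hp
    by_contra hJp
    obtain ⟨s, hs, a, ha⟩ := hx p hJp
    apply hs
    apply hcp
    refine ⟨a, ?_⟩
    rw [Algebra.linearMap_apply, ha, Algebra.smul_def]
  obtain ⟨n, hn⟩ := Ideal.exists_pow_le_of_le_radical_of_fg hle (IsNoetherian.noetherian J)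
  exact ⟨n, fun a ha => hn ha⟩

omit [IsDomain B] in
/-- finiteness of the ring of sections from a bound -/
lemma finite_secSub_of_le [IsNoetherianRing B] {J : Ideal B} (N : Submodule B (FractionRing B))
    (hN : N.FG) (h : ∀ x ∈ secSub B J, x ∈ N) : Module.Finite B (secSub B J) := by
  haveI : Module.Finite B N := Module.Finite.iff_fg.2 hN
  haveI : IsNoetherian B N := isNoetherian_of_isNoetherianRing_of_finite B N
  let ι : (secSub B J) →ₗ[B] N :=
    { toFun := fun x => ⟨x.1, h x.1 x.2⟩
      map_add' := fun _ _ => rfl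
      map_smul' := fun _ _ => rfl }
  have hι : Function.Injective ι := by
    intro x y hxy
    apply Subtype.ext
    exact congrArg (fun t : N => (t : FractionRing B)) hxy
  exact Module.Finite.of_injective ι hι

end Sec

/-- quotients of universally catenary rings -/
theorem isUniversallyCatenary_quotient {A : Type u} [CommRing A]
    (hA : CAlg.IsUniversallyCatenary A) (p : Ideal A) :
    CAlg.IsUniversallyCatenary (A ⧸ p) := by
  haveI := hA.1
  refine ⟨inferInstance, ?_⟩
  intro S _ _ hS
  letI : Algebra A S := ((algebraMap (A ⧸ p) S).comp (Ideal.Quotient.mk p)).toAlgebra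
  haveI : IsScalarTower A (A ⧸ p) S := IsScalarTower.of_algebraMap_eq (fun _ => rfl)
  have h1 : Algebra.FiniteType A (A ⧸ p) :=
    Algebra.FiniteType.of_surjective (Algebra.ofId A (A ⧸ p)) Ideal.Quotient.mk_surjective
  exact hA.2 S (Algebra.FiniteType.trans h1 hS)

theorem isN1_quotient {A : Type u} [CommRing A] (hA : CAlg.IsUniversallyJapanese A) (p : Ideal A)
    [p.IsPrime] : Module.Finite (A ⧸ p) (integralClosure (A ⧸ p) (FractionRing (A ⧸ p))) := by
  have h1 : Algebra.FiniteType A (A ⧸ p) :=
    Algebra.FiniteType.of_surjective (Algebra.ofId A (A ⧸ p)) Ideal.Quotient.mk_surjective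
  have hN2 : CAlg.IsN2 (A ⧸ p) := hA (A ⧸ p) h1
  exact hN2 (FractionRing (A ⧸ p)) inferInstance

/-- **EGA IV 5.11.x**: finiteness of the ring of sections outside a closed subset of codimension
`≥ 2` -/
theorem sections_outside_height_two_finite (A : Type u) [CommRing A] [IsNoetherianRing A]
    (hA : (∃ (R : Type u) (_ : CommRing R), IsNoetherianRing R ∧ IsRegularRing R ∧
        ∃ f : R →+* A, Function.Surjective f) ∨
      (CAlg.IsUniversallyCatenary A ∧ CAlg.IsUniversallyJapanese A))
    (q : Ideal A) [q.IsPrime] (J : Ideal (A ⧸ q)) (hJ2 : (2 : ℕ∞) ≤ J.height) :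
    ∃ B' : Subalgebra (A ⧸ q) (FractionRing (A ⧸ q)),
      (B' : Set (FractionRing (A ⧸ q))) =
          {x | ∀ (p : Ideal (A ⧸ q)) [p.IsPrime], ¬ J ≤ p →
            ∃ s : A ⧸ q, s ∉ p ∧ ∃ a : A ⧸ q,
              algebraMap (A ⧸ q) (FractionRing (A ⧸ q)) a =
                algebraMap (A ⧸ q) (FractionRing (A ⧸ q)) s * x} ∧
        Module.Finite (A ⧸ q) B' := by
  refine ⟨secSub (A ⧸ q) J, rfl, ?_⟩
  rcases hA with ⟨R, _, _, hR, f, hf⟩ | ⟨hcat, hjap⟩
  · have hJ0 : J ≠ ⊥ := by
      rintro rfl
      rw [Ideal.height_bot] at hJ2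
      exact absurd hJ2 (by decide)
    have hfin := finite_H_one_of_regular_quotient R (A ⧸ q) ((Ideal.Quotient.mk q).comp f)
      (Ideal.Quotient.mk_surjective.comp hf) J hJ2
    rw [finite_H_one_iff_stable (FractionRing (A ⧸ q)) J hJ0] at hfin
    obtain ⟨L, hL⟩ := hfin
    refine finite_secSub_of_le (DD (FractionRing (A ⧸ q)) J L) (DD_fg hJ0 L) (fun x hx => ?_)
    obtain ⟨n, hn⟩ := exists_mem_DD_of_mem_secSub hx
    exact hL n hn
  · obtain ⟨B₁, hB₁, hfin⟩ :=
      Groth.Agent.Lib.helper26.HullFinite.heightOneHullFinite_of_isUniversallyCatenary (A ⧸ q)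
        (isUniversallyCatenary_quotient hcat q) (isN1_quotient hjap q)
    haveI := hfin
    refine finite_secSub_of_le (Subalgebra.toSubmodule B₁) (Module.Finite.iff_fg.1 hfin)
      (fun x hx => ?_)
    show x ∈ (B₁ : Set (FractionRing (A ⧸ q)))
    rw [hB₁]
    intro p _ hp
    apply hx p
    intro hJp
    have h1 : (2 : ℕ∞) ≤ p.height := le_trans hJ2 (Ideal.height_mono hJp)
    rw [hp] at h1
    exact absurd h1 (by decide)

end Groth.Agent.Lib.helper19.H1Sec
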