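import Mathlib
import Groth.Prelude.Def_Wider
import Groth.Prelude.Def_DualLC
import Groth.Agent.Lib.Helper23.LDual15
import Groth.Agent.Lib.Helper23.DimFn10
import Groth.Agent.Lib.Helper19.Conn1
import Groth.Agent.Lib.Helper19.LCBridge
import Groth.Agent.Lib.Helper24.CplCM
import Groth.Agent.S0332

set_option autoImplicit false
universe u
open CategoryTheory CategoryTheory.Limits Opposite DerivedCategory Pretriangulated IsLocalRing TensorProduct

attribute [local instance] HasDerivedCategory.standard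

/-! Hartshorne–Lichtenbaum vanishing in dualizing-complex form (Stacks 0EB1-type): for a Noetherian
local ring with normalized dualizing complex `ω`, `H^0_I(ω) = 0` implies `cd(A, I) < dim A`.
* `prozero`: `H^0_I(ω) = 0` ⇒ the system `Γ_m(A/I^n)` is pro-zero (via Ext vanishing for `ω`);
* `mem_range_lTensor_torsion`: flat base change of `(0 :_N 𝔞)`;
* `not_pow_le_of_prozero`: transfer to a flat local extension (the completion);
* `main` (= S1720). -/

namespace Groth.Agent.Lib.helper19.HLVDual
open Groth.Agent.Lib.helper23.LDual Groth.Agent.Lib.helper23.DualD Groth.Agent.Lib.helper23.DimFn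

section General
variable {A : Type u} [CommRing A]

/-- extension along an injection when the obstruction group vanishes -/
lemma exists_extension (S : ShortComplex (ModuleCat.{u} A)) (hS : S.ShortExact) (W : Dual.D A)
    (hs : Subsingleton (((singleFunctor (ModuleCat.{u} A) 0).obj S.X₃)⟦(-1 : ℤ)⟧ ⟶ W))
    (φ : (singleFunctor (ModuleCat.{u} A) 0).obj S.X₁ ⟶ W) :
    ∃ y : (singleFunctor (ModuleCat.{u} A) 0).obj S.X₂ ⟶ W,
      φ = (singleFunctor (ModuleCat.{u} A) 0).map S.f ≫ y := by
  have hT := hS.singleTriangle_distinguished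
  have hT' := inv_rot_of_distTriang _ hT
  exact Triangle.yoneda_exact₂ _ hT' φ (hs.elim _ _)

/-- `0 → L → M → M/L → 0`. -/
noncomputable def subSC {M : Type u} [AddCommGroup M] [Module A M] (L : Submodule A M) :
    ShortComplex (ModuleCat.{u} A) :=
  ShortComplex.mk (ModuleCat.ofHom L.subtype) (ModuleCat.ofHom L.mkQ) (by
    apply ModuleCat.hom_ext
    apply LinearMap.ext
    intro x
    show L.mkQ (L.subtype x) = 0
    simp)

lemma subSC_shortExact {M : Type u} [AddCommGroup M] [Module A M] (L : Submodule A M) :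
    (subSC L).ShortExact := by
  have hex : (subSC L).Exact := by
    rw [ShortComplex.moduleCat_exact_iff]
    intro x hx
    have hx' : L.mkQ x = 0 := hx
    rw [Submodule.mkQ_apply, Submodule.Quotient.mk_eq_zero] at hx'
    exact ⟨⟨x, hx'⟩, rfl⟩
  haveI : Mono (subSC L).f := by
    rw [ModuleCat.mono_iff_injective]
    exact L.injective_subtype
  haveI : Epi (subSC L).g := by
    rw [ModuleCat.epi_iff_surjective]
    exact L.mkQ_surjective
  exact ⟨hex⟩

lemma trans_trans (I : Ideal A) (K : Dual.D A) (i : ℤ) {n m l : ℕ} (h1 : n ≤ m) (h2 : m ≤ l)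
    (y : stage I K i n) :
    trans I K i h2 (trans I K i h1 y) = trans I K i (h1.trans h2) y := by
  show ((diag I K i).map (homOfLE h1).op.op ≫ (diag I K i).map (homOfLE h2).op.op) y = _
  rw [← Functor.map_comp]
  rfl

end General

section Local
variable {A : Type u} [CommRing A] [IsLocalRing A] [IsNoetherianRing A]
  (ω : Dual.D A) (hω : Dual.IsDualizing A ω) (hn : Dual.IsNormalized A ω)

include hω hn in
theorem subsingleton_hom_one (N : Type u) [AddCommGroup N] [Module A N] [Module.Finite A N] :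
    Subsingleton (Dual.inD A N ⟶ ω⟦(1 : ℤ)⟧) := by
  by_cases hN : Subsingleton N
  · have hz : IsZero (Dual.inD A N) :=
      Functor.map_isZero _ (ModuleCat.isZero_of_subsingleton (ModuleCat.of A N))
    exact ⟨fun a b => hz.eq_of_src a b⟩
  · rw [not_subsingleton_iff_nontrivial] at hN
    obtain ⟨d, hd⟩ : ∃ d : ℕ, Module.supportDim A N = d := by
      have h2 : Module.supportDim A N ≠ ⊥ := Module.supportDim_ne_bot_of_nontrivial A N
      have h1 : Module.supportDim A N ≠ ⊤ := by
        intro h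
        have := Module.supportDim_le_ringKrullDim (R := A) (M := N)
        rw [h, top_le_iff] at this
        exact ringKrullDim_ne_top this
      obtain ⟨x, hx⟩ := WithBot.ne_bot_iff_exists.1 h2
      have hx' : x ≠ ⊤ := by
        intro h
        apply h1
        rw [← hx, h]
        rfl
      obtain ⟨d, rfl⟩ := ENat.ne_top_iff_exists.1 hx'
      exact ⟨d, hx.symm⟩
    have h := (ext_dualizing_vanishing_and_support ω hω hn N d hd 1).1
    by_contra hns
    rw [not_subsingleton_iff_nontrivial] at hns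
    have := (h hns).2
    omega

include hω hn in
theorem uniform_trans (I : Ideal A) (h0 : Subsingleton (Dual2.HDI A I ω 0)) (n : ℕ) :
    ∃ (n' : ℕ) (h : n ≤ n'), ∀ y : stage I ω 0 n, trans I ω 0 h y = 0 := by
  obtain ⟨Mω⟩ := exists_model ω hω
  haveI hfin : Module.Finite A (stage I ω 0 n) :=
    Groth.Agent.Lib.helper23.FinHom.finite_hom (Dual.inD A (A ⧸ I ^ n)) ω
      (fun i => finite_homology_single (ModuleCat.of A (A ⧸ I ^ n)) i) hω.finite_cohomology
      Mω.a Mω.b Mω.injAmp 0
  obtain ⟨s, hs⟩ := Module.finite_def.mp hfin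
  have hy : ∀ y : stage I ω 0 n, ∃ m : ℕ, ∃ h : n ≤ m, trans I ω 0 h y = 0 := fun y =>
    (toHDI_eq_zero_iff I ω 0 y).1 (h0.elim _ _)
  choose m hm hm0 using hy
  have hle : n ≤ s.sup m ⊔ n := le_sup_right
  refine ⟨s.sup m ⊔ n, hle, ?_⟩
  have hker : (⊤ : Submodule A (stage I ω 0 n)) ≤ LinearMap.ker (trans I ω 0 hle).hom := by
    rw [← hs, Submodule.span_le]
    intro y hys
    have h2 : m y ≤ s.sup m ⊔ n := le_trans (Finset.le_sup hys) le_sup_left
    show trans I ω 0 hle y = 0
    rw [← trans_trans I ω 0 (hm y) h2 y, hm0 y, map_zero]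
  intro y
  exact hker (Submodule.mem_top)

include hω hn in
theorem prozero (I : Ideal A) (h0 : Subsingleton (Dual2.HDI A I ω 0)) (n : ℕ) :
    ∃ (n' : ℕ) (h : n ≤ n'), ∀ (z : A ⧸ I ^ n') (k : ℕ), (∀ a ∈ maximalIdeal A ^ k, a • z = 0) →
      Submodule.mapQ (I ^ n') (I ^ n) LinearMap.id (Ideal.pow_le_pow_right h) z = 0 := by
  obtain ⟨n', h, htr⟩ := uniform_trans ω hω hn I h0 n
  refine ⟨n', h, fun z k hz => ?_⟩
  obtain ⟨E, _, _, f, hf⟩ := Groth.Agent.S0299.result A (ResidueField A)
  let g : ModuleCat.of A (A ⧸ I ^ n') ⟶ ModuleCat.of A (A ⧸ I ^ n) :=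
    (localCohomology.ringModIdeals (localCohomology.idealPowersDiagram I)).map (homOfLE h).op
  have hg : ∀ w : A ⧸ I ^ n', g.hom w =
      Submodule.mapQ (I ^ n') (I ^ n) LinearMap.id (Ideal.pow_le_pow_right h) w := fun w => rfl
  rw [← hg]
  set W : Dual.D A := ω⟦(0 : ℤ)⟧ with hW
  let L' : Submodule A (A ⧸ I ^ n') := Submodule.span A {z}
  let L : Submodule A (A ⧸ I ^ n) := Submodule.map g.hom L'
  let q : L' →ₗ[A] L := g.hom.submoduleMap L'
  have hq : Function.Surjective q := g.hom.submoduleMap_surjective L'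
  have hL'k : ∀ a ∈ maximalIdeal A ^ k, ∀ x : L', a • x = 0 := by
    intro a ha x
    apply Subtype.ext
    obtain ⟨c, hc⟩ := Submodule.mem_span_singleton.mp x.2
    show a • (x : A ⧸ I ^ n') = 0
    rw [← hc, smul_comm, hz a ha, smul_zero]
  have hLk : ∀ a ∈ maximalIdeal A ^ k, ∀ x : L, a • x = 0 := by
    intro a ha x
    obtain ⟨x', rfl⟩ := hq x
    rw [← map_smul, hL'k a ha x', map_zero]
  have hkerk : ∀ a ∈ maximalIdeal A ^ k, ∀ x : LinearMap.ker q, a • x = 0 := by
    intro a ha x
    apply Subtype.ext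
    exact hL'k a ha x.1
  -- the square
  have hsq : ModuleCat.ofHom q ≫ ModuleCat.ofHom L.subtype = ModuleCat.ofHom L'.subtype ≫ g := by
    apply ModuleCat.hom_ext
    apply LinearMap.ext
    intro x
    rfl
  -- every map out of `L` vanishes
  have hvan : ∀ φ : Dual.inD A L ⟶ W, φ = 0 := by
    intro φ
    haveI : Module.Finite A ((A ⧸ I ^ n) ⧸ L) := inferInstance
    have hs1 : Subsingleton (((singleFunctor (ModuleCat.{u} A) 0).obj (subSC L).X₃)⟦(-1 : ℤ)⟧ ⟶ W) :=
      subsingleton_hom_shift_of (Dual.inD A ((A ⧸ I ^ n) ⧸ L)) ω (-1) 1 0 (by norm_num)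
        (subsingleton_hom_one ω hω hn ((A ⧸ I ^ n) ⧸ L))
    obtain ⟨y, hy⟩ := exists_extension (subSC L) (subSC_shortExact L) W hs1 φ
    have hs2 : Subsingleton (((singleFunctor (ModuleCat.{u} A) 0).obj
        (ModuleCat.of A (LinearMap.ker (ModuleCat.ofHom q).hom)))⟦(1 : ℤ)⟧ ⟶ W) :=
      subsingleton_hom_shift_of (Dual.inD A (LinearMap.ker q)) ω 1 (-1) 0 (by norm_num)
        ((facts_of_killed ω hω hn E f hf (LinearMap.ker q) k hkerk).1 (-1) (by norm_num))
    have hinj := comp_injective_of_subsingleton (ModuleCat.ofHom q) hq W hs2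
    apply hinj
    show (singleFunctor (ModuleCat.{u} A) 0).map (ModuleCat.ofHom q) ≫ φ =
      (singleFunctor (ModuleCat.{u} A) 0).map (ModuleCat.ofHom q) ≫ 0
    rw [comp_zero, hy]
    have h1 : (singleFunctor (ModuleCat.{u} A) 0).map (ModuleCat.ofHom q) ≫
        (singleFunctor (ModuleCat.{u} A) 0).map (subSC L).f =
        (singleFunctor (ModuleCat.{u} A) 0).map (ModuleCat.ofHom L'.subtype) ≫
          (singleFunctor (ModuleCat.{u} A) 0).map g := by
      rw [← Functor.map_comp, ← Functor.map_comp]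
      congr 1
    have h2 : (singleFunctor (ModuleCat.{u} A) 0).map g ≫ y = 0 := htr y
    calc (singleFunctor (ModuleCat.{u} A) 0).map (ModuleCat.ofHom q) ≫
          ((singleFunctor (ModuleCat.{u} A) 0).map (subSC L).f ≫ y)
        = ((singleFunctor (ModuleCat.{u} A) 0).map (ModuleCat.ofHom q) ≫
          (singleFunctor (ModuleCat.{u} A) 0).map (subSC L).f) ≫ y := (Category.assoc _ _ _).symm
      _ = ((singleFunctor (ModuleCat.{u} A) 0).map (ModuleCat.ofHom L'.subtype) ≫
          (singleFunctor (ModuleCat.{u} A) 0).map g) ≫ y := congrArg (fun t => t ≫ y) h1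
      _ = (singleFunctor (ModuleCat.{u} A) 0).map (ModuleCat.ofHom L'.subtype) ≫
          ((singleFunctor (ModuleCat.{u} A) 0).map g ≫ y) := Category.assoc _ _ _
      _ = 0 := by rw [h2, comp_zero]
  -- hence `L` is zero
  obtain ⟨e⟩ := (facts_of_killed ω hω hn E f hf L k hLk).2
  have hsub : Subsingleton (Dual.inD A L ⟶ ω) := by
    refine ⟨fun a b => ?_⟩
    have key : ∀ ψ : Dual.inD A L ⟶ ω, ψ = 0 := by
      intro ψ
      have h3 := hvan (ψ ≫ ((shiftFunctorZero (Dual.D A) ℤ).app ω).inv)
      have h4 : ψ = (ψ ≫ ((shiftFunctorZero (Dual.D A) ℤ).app ω).inv) ≫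
          ((shiftFunctorZero (Dual.D A) ℤ).app ω).hom := by
        rw [Category.assoc, Iso.inv_hom_id, Category.comp_id]
      rw [h4, h3, zero_comp]
    rw [key a, key b]
  have hsubL : Subsingleton L := by
    rw [← subsingleton_dual_iff E f hf L]
    exact e.toEquiv.subsingleton_congr.mp hsub
  have hmem : g.hom z ∈ L := Submodule.mem_map_of_mem (Submodule.mem_span_singleton_self z)
  have := hsubL.elim ⟨g.hom z, hmem⟩ 0
  exact congrArg Subtype.val this

end Local



section Flat
variable {A : Type u} [CommRing A] {B : Type u} [CommRing B] [Algebra A B] [Module.Flat A B]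

/-- elements of `B ⊗ N` killed by a f.g. ideal `𝔞` come from `B ⊗ (0 :_N 𝔞)` -/
theorem mem_range_lTensor_torsion (N : Type u) [AddCommGroup N] [Module A N] (𝔞 : Ideal A)
    (h𝔞 : 𝔞.FG) (z : B ⊗[A] N) (hz : ∀ a ∈ 𝔞, a • z = 0) :
    z ∈ LinearMap.range
      (LinearMap.lTensor B (Submodule.torsionBySet A N (𝔞 : Set A)).subtype) := by
  classical
  obtain ⟨s, hs⟩ := h𝔞
  let f : N →ₗ[A] (s → N) := LinearMap.pi (fun a => (a : A) • LinearMap.id)
  have hker : LinearMap.ker f = Submodule.torsionBySet A N (𝔞 : Set A) := by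
    ext x
    rw [LinearMap.mem_ker, ← hs, ← Submodule.torsionBySet_eq_torsionBySet_span,
      Submodule.mem_torsionBySet_iff]
    constructor
    · intro h a
      exact congrFun h a
    · intro h
      funext a
      exact h a
  have hex : Function.Exact (LinearMap.lTensor B (LinearMap.ker f).subtype)
      (LinearMap.lTensor B f) :=
    Module.Flat.lTensor_exact B (LinearMap.exact_subtype_ker_map f)
  have hz0 : LinearMap.lTensor B f z = 0 := by
    apply (TensorProduct.piRight A A B (fun _ : s => N)).injective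
    rw [map_zero]
    funext a
    have key : ∀ w : B ⊗[A] N,
        TensorProduct.piRight A A B (fun _ : s => N) (LinearMap.lTensor B f w) a = (a : A) • w := by
      intro w
      induction w using TensorProduct.induction_on with
      | zero => simp
      | tmul b x =>
        rw [LinearMap.lTensor_tmul, TensorProduct.piRight_apply, TensorProduct.piRightHom_tmul]
        show b ⊗ₜ[A] ((a : A) • x) = _
        rw [TensorProduct.tmul_smul]
      | add x y hx hy =>
        rw [map_add, map_add, Pi.add_apply, hx, hy, smul_add]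
    rw [key z]
    exact hz a (hs ▸ Ideal.subset_span a.2)
  obtain ⟨w, hw⟩ := (hex z).mp hz0
  rw [← hker]
  exact ⟨w, hw⟩

end Flat

section Transfer
variable {A : Type u} [CommRing A] [IsLocalRing A] {B : Type u} [CommRing B] [IsLocalRing B]
  [IsNoetherianRing B] [Algebra A B] [Module.Flat A B]

omit [IsLocalRing A] [IsLocalRing B] [IsNoetherianRing B] [Module.Flat A B] in
lemma tmul_one_eq_zero_iff (𝔞 : Ideal A) (b : B) :
    b ⊗ₜ[A] (1 : A ⧸ 𝔞) = 0 ↔ b ∈ 𝔞.map (algebraMap A B) := by
  rw [← Algebra.TensorProduct.quotIdealMapEquivTensorQuot_mk B 𝔞 b,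
    EmbeddingLike.map_eq_zero_iff]
  exact Ideal.Quotient.eq_zero_iff_mem

omit [IsLocalRing A] [IsLocalRing B] [IsNoetherianRing B] [Algebra A B] [Module.Flat A B] in
lemma sup_pow_le' (J P : Ideal B) (n : ℕ) : (J ⊔ P) ^ n ≤ J ^ n ⊔ P := by
  induction n with
  | zero => simp
  | succ n ih =>
    rw [pow_succ]
    calc (J ⊔ P) ^ n * (J ⊔ P) ≤ (J ^ n ⊔ P) * (J ⊔ P) := Ideal.mul_mono_left ih
      _ ≤ J ^ (n + 1) ⊔ P := by
        rw [Ideal.sup_mul, Ideal.mul_sup, Ideal.mul_sup, pow_succ]
        refine sup_le (sup_le le_sup_left ?_) (sup_le ?_ ?_)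
        · exact le_trans Ideal.mul_le_right le_sup_right
        · exact le_trans Ideal.mul_le_left le_sup_right
        · exact le_trans Ideal.mul_le_right le_sup_right

/-- transfer of the pro-zero property to a flat local extension with `m_A B = m_B` -/
theorem not_pow_le_of_prozero (hm : (IsLocalRing.maximalIdeal A).map (algebraMap A B) =
      IsLocalRing.maximalIdeal B) (I : Ideal A) (hI : I ≤ IsLocalRing.maximalIdeal A)
    (hpz : ∀ n : ℕ, ∃ (n' : ℕ) (h : n ≤ n'), ∀ (z : A ⧸ I ^ n') (k : ℕ),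
      (∀ a ∈ IsLocalRing.maximalIdeal A ^ k, a • z = 0) →
      Submodule.mapQ (I ^ n') (I ^ n) LinearMap.id (Ideal.pow_le_pow_right h) z = 0)
    (hmfg : (IsLocalRing.maximalIdeal A).FG)
    (P : Ideal B) (hP : P ∈ minimalPrimes B) (N : ℕ) :
    ¬ IsLocalRing.maximalIdeal B ^ N ≤ I.map (algebraMap A B) ⊔ P := by
  intro hN
  -- `P` is an associated prime
  have hass : P ∈ associatedPrimes B B := by
    apply Module.associatedPrimes.minimalPrimes_annihilator_subset_associatedPrimes
    have : Module.annihilator B B = ⊥ := by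
      rw [eq_bot_iff]
      intro b hb
      have := Module.mem_annihilator.mp hb 1
      rw [smul_eq_mul, mul_one] at this
      exact this
    rw [this]
    exact hP
  obtain ⟨hPp, x, hx⟩ := (isAssociatedPrime_iff).mp hass
  have hPx : ∀ p ∈ P, p * x = 0 := by
    intro p hp
    rw [hx, Submodule.mem_colon_singleton] at hp
    exact (Submodule.mem_bot B).mp hp
  have hx0 : x ≠ 0 := by
    rintro rfl
    apply hPp.ne_top
    rw [hx, eq_top_iff]
    intro b _
    rw [Submodule.mem_colon_singleton, smul_zero]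
    exact Submodule.zero_mem _
  -- `x` lies in all powers of `I B`
  have hxmem : ∀ n : ℕ, x ∈ (I.map (algebraMap A B)) ^ n := by
    intro n
    obtain ⟨n', h, hz⟩ := hpz n
    set k := N * n' with hk
    set z : B ⊗[A] (A ⧸ I ^ n') := x ⊗ₜ[A] 1 with hzdef
    have hkill : ∀ a ∈ IsLocalRing.maximalIdeal A ^ k, a • z = 0 := by
      intro a ha
      have h1 : algebraMap A B a ∈ IsLocalRing.maximalIdeal B ^ k := by
        rw [← hm, ← Ideal.map_pow]
        exact Ideal.mem_map_of_mem _ ha
      have h2 : IsLocalRing.maximalIdeal B ^ k ≤ (I.map (algebraMap A B)) ^ n' ⊔ P := by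
        rw [hk, pow_mul]
        exact le_trans (Ideal.pow_right_mono hN n') (sup_pow_le' _ _ _)
      obtain ⟨j, hj, p, hp, hjp⟩ := Submodule.mem_sup.mp (h2 h1)
      have h3 : a • x = j * x := by
        rw [Algebra.smul_def, ← hjp, add_mul, hPx p hp, add_zero]
      rw [hzdef, TensorProduct.smul_tmul', h3, tmul_one_eq_zero_iff, Ideal.map_pow]
      exact Ideal.mul_mem_right _ _ hj
    have hmem := mem_range_lTensor_torsion (B := B) (A ⧸ I ^ n') (IsLocalRing.maximalIdeal A ^ k)
      (Ideal.FG.pow hmfg) z hkill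
    obtain ⟨w, hw⟩ := hmem
    set π : (A ⧸ I ^ n') →ₗ[A] (A ⧸ I ^ n) :=
      Submodule.mapQ (I ^ n') (I ^ n) LinearMap.id (Ideal.pow_le_pow_right h) with hπ
    have hcomp : π ∘ₗ (Submodule.torsionBySet A (A ⧸ I ^ n')
        ((IsLocalRing.maximalIdeal A ^ k : Ideal A) : Set A)).subtype = 0 := by
      apply LinearMap.ext
      intro t
      rw [LinearMap.comp_apply, LinearMap.zero_apply]
      apply hz t.1 k
      intro a ha
      exact (Submodule.mem_torsionBySet_iff _ _).mp t.2 ⟨a, ha⟩
    have h4 : LinearMap.lTensor B π z = 0 := by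
      rw [← hw, ← LinearMap.comp_apply, ← LinearMap.lTensor_comp, hcomp, LinearMap.lTensor_zero,
        LinearMap.zero_apply]
    have h5 : LinearMap.lTensor B π z = x ⊗ₜ[A] (1 : A ⧸ I ^ n) := by
      rw [hzdef, LinearMap.lTensor_tmul]
      rfl
    rw [h5, tmul_one_eq_zero_iff, Ideal.map_pow] at h4
    exact h4
  have hne : I.map (algebraMap A B) ≠ ⊤ := by
    intro htop
    have : I.map (algebraMap A B) ≤ IsLocalRing.maximalIdeal B := by
      rw [← hm]
      exact Ideal.map_mono hI
    rw [htop, top_le_iff] at this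
    exact (IsLocalRing.maximalIdeal.isMaximal B).ne_top this
  have hbot := Ideal.iInf_pow_eq_bot_of_isLocalRing (I.map (algebraMap A B)) hne
  apply hx0
  have : x ∈ ⨅ i, (I.map (algebraMap A B)) ^ i := by
    rw [Ideal.mem_iInf]
    exact hxmem
  rw [hbot] at this
  exact this

end Transfer


section Final
variable (A : Type u) [CommRing A] [IsLocalRing A] [IsNoetherianRing A]

omit [IsLocalRing A] in
lemma exists_pow_le_of_dim_le_zero [IsLocalRing A] (J : Ideal A)
    (h : ringKrullDim (A ⧸ J) ≤ 0) : ∃ N : ℕ, maximalIdeal A ^ N ≤ J := by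
  have h1 : Ring.KrullDimLE 0 (A ⧸ J) := Ring.krullDimLE_iff.mpr (by exact_mod_cast h)
  rw [Ideal.krullDimLE_zero_quotient_iff_forall_minimalPrimes_isMaximal] at h1
  have hle : maximalIdeal A ≤ J.radical := by
    rw [← Ideal.sInf_minimalPrimes]
    apply le_sInf
    intro q hq
    rw [IsLocalRing.eq_maximalIdeal (h1 q hq)]
  exact Ideal.exists_pow_le_of_le_radical_of_fg hle (IsNoetherian.noetherian _)

theorem main (ω : Dual.D A) (hω : Dual.IsDualizing A ω) (hn : Dual.IsNormalized A ω) (I : Ideal A)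
    (h0 : Subsingleton (Dual2.HDI A I ω 0)) (M : Type u) [AddCommGroup M] [Module A M] (i : ℕ)
    (hi : ringKrullDim A ≤ (i : WithBot ℕ∞)) : Subsingleton (LocCoh.H I i M) := by
  classical
  by_cases hI : I = ⊤
  · refine ⟨fun x y => ?_⟩
    have key : ∀ z : LocCoh.H I i M, z = 0 := by
      intro z
      obtain ⟨n, hn'⟩ := Groth.Agent.Lib.helper19.LCBridge.H_powerTorsion I i (ModuleCat.of A M) z
      have h1 : (1 : A) ∈ I ^ n := by
        rw [hI, Ideal.top_pow]
        exact Submodule.mem_top
      have := hn' 1 h1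
      rwa [one_smul] at this
    rw [key x, key y]
  · have hIm : I ≤ maximalIdeal A := IsLocalRing.le_maximalIdeal hI
    obtain ⟨d, hd⟩ := Groth.Agent.Lib.helper19.Conn.exists_nat_dim A
    have hdi : d ≤ i := by
      rw [hd] at hi
      exact_mod_cast hi
    refine Groth.Agent.S0332.result A I d hd ?_ M i hdi
    intro P hP _
    by_contra hlt
    have h1 : ringKrullDim (AdicCompletion (maximalIdeal A) A ⧸
        (I.map (algebraMap A (AdicCompletion (maximalIdeal A) A)) ⊔ P)) ≤ 0 := by
      rw [not_le] at hlt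
      exact Order.le_of_lt_succ hlt
    obtain ⟨N, hN⟩ := exists_pow_le_of_dim_le_zero (AdicCompletion (maximalIdeal A) A) _ h1
    exact not_pow_le_of_prozero (Groth.Agent.Lib.Helper24.CplCM.map_maximalIdeal_cpl A) I hIm
      (fun n => prozero ω hω hn I h0 n) (IsNoetherian.noetherian _) P hP N hN

end Final

end Groth.Agent.Lib.helper19.HLVDual
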