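import Mathlib
import Groth.Prelude.Def_DualLC
import Groth.Agent.Lib.Helper23.HDT6
set_option autoImplicit false

/-! (helper19) For an injection `j : N → E'` into a module without `T`-torsion, the `T`-torsion of
`E' ⧸ N` injects `A`-linearly into `G T (N[1]) ≃ H^1_T(N)` (`kappa`, `kappa_injective`), hence is finite
when `H^1_T(N)` is (`finite_of_HT`). -/

universe u
open CategoryTheory CategoryTheory.Limits Opposite Pretriangulated DerivedCategory
attribute [local instance] HasDerivedCategory.standard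
namespace Groth.Agent.Lib.helper19.HTInj
open Groth.Agent.Lib.helper23.HDT

variable {A : Type u} [CommRing A] {T : Set (PrimeSpectrum A)}

section phi
variable {C : Type u} [AddCommGroup C] [Module A C]

/-- the map `A ⧸ J ⟶ C`, `1 ↦ x`, for `x` killed by `J`. -/
noncomputable def phi (x : C) (J : Ideal A) (h : ∀ a ∈ J, a • x = 0) :
    ModuleCat.of A (A ⧸ J) ⟶ ModuleCat.of A C :=
  ModuleCat.ofHom (Submodule.liftQ J (LinearMap.toSpanSingleton A C x) (by
    intro a ha
    rw [LinearMap.mem_ker, LinearMap.toSpanSingleton_apply]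
    exact h a ha))

lemma phi_mk (x : C) (J : Ideal A) (h : ∀ a ∈ J, a • x = 0) (r : A) :
    (phi x J h).hom (Submodule.Quotient.mk r) = r • x := by
  change LinearMap.toSpanSingleton A C x r = _
  rw [LinearMap.toSpanSingleton_apply]

lemma phi_ext {J : Ideal A} {f g : ModuleCat.of A (A ⧸ J) ⟶ ModuleCat.of A C}
    (h : f.hom (Submodule.Quotient.mk 1) = g.hom (Submodule.Quotient.mk 1)) : f = g := by
  apply ModuleCat.hom_ext
  apply LinearMap.ext
  intro q
  obtain ⟨r, rfl⟩ := Submodule.Quotient.mk_surjective _ q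
  have h2 : (Submodule.Quotient.mk r : A ⧸ J) = r • Submodule.Quotient.mk 1 := by
    rw [← Submodule.Quotient.mk_smul, smul_eq_mul, mul_one]
  rw [h2, map_smul, map_smul, h]

lemma phi_add (x y : C) (J : Ideal A) (hx : ∀ a ∈ J, a • x = 0) (hy : ∀ a ∈ J, a • y = 0)
    (hxy : ∀ a ∈ J, a • (x + y) = 0) : phi (x + y) J hxy = phi x J hx + phi y J hy := by
  apply phi_ext
  rw [phi_mk, ModuleCat.hom_add, LinearMap.add_apply, phi_mk, phi_mk, smul_add]

lemma phi_smul (c : A) (x : C) (J : Ideal A) (hx : ∀ a ∈ J, a • x = 0)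
    (hcx : ∀ a ∈ J, a • (c • x) = 0) : phi (c • x) J hcx = c • phi x J hx := by
  apply phi_ext
  rw [phi_mk, ModuleCat.hom_smul, LinearMap.smul_apply, phi_mk, one_smul, one_smul]

lemma phi_mapQ (x : C) {J' J : Ideal A} (hJ : J' ≤ J) (h : ∀ a ∈ J, a • x = 0) :
    ModuleCat.ofHom (Submodule.mapQ J' J LinearMap.id hJ) ≫ phi x J h =
      phi x J' (fun a ha => h a (hJ ha)) := by
  apply phi_ext
  rw [phi_mk]
  change (phi x J h).hom (Submodule.Quotient.mk 1) = _
  rw [phi_mk]

end phi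

section kappa
variable {N E' : Type u} [AddCommGroup N] [Module A N] [AddCommGroup E'] [Module A E']
  (j : N →ₗ[A] E') (hj : Function.Injective j)

/-- the short complex `N → E' → E' ⧸ N` -/
noncomputable abbrev SC : ShortComplex (ModuleCat.{u} A) :=
  ShortComplex.mk (ModuleCat.ofHom j) (ModuleCat.ofHom (LinearMap.range j).mkQ) (by
    apply ModuleCat.hom_ext
    apply LinearMap.ext
    intro x
    change (LinearMap.range j).mkQ (j x) = 0
    rw [Submodule.mkQ_apply, Submodule.Quotient.mk_eq_zero]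
    exact ⟨x, rfl⟩)

include hj in
lemma SC_shortExact : (SC j).ShortExact := by
  refine ShortComplex.ShortExact.mk' ?_ ?_ ?_
  · rw [ShortComplex.moduleCat_exact_iff]
    intro x hx
    have hx' : (LinearMap.range j).mkQ x = 0 := hx
    rw [Submodule.mkQ_apply, Submodule.Quotient.mk_eq_zero] at hx'
    exact hx'
  · rw [ModuleCat.mono_iff_injective]
    exact hj
  · rw [ModuleCat.epi_iff_surjective]
    exact Submodule.mkQ_surjective _

/-- the class in `G T (N[1])` of an element of `E' ⧸ N` killed by `J`. -/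
noncomputable def cls (x : E' ⧸ LinearMap.range j) (J : Dual2.IdealsIn T)
    (h : ∀ a ∈ J.obj, a • x = 0) : G T ((Dual.inD A N)⟦(1 : ℤ)⟧) :=
  ι J ((DerivedCategory.singleFunctor (ModuleCat.{u} A) 0).map (phi x J.obj h) ≫
    (SC_shortExact j hj).singleδ)

lemma cls_of_le (x : E' ⧸ LinearMap.range j) (J' J : Dual2.IdealsIn T) (hle : J'.obj ≤ J.obj)
    (h : ∀ a ∈ J.obj, a • x = 0) :
    cls j hj x J h = cls j hj x J' (fun a ha => h a (hle ha)) := by
  unfold cls
  rw [← ι_trans hle]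
  congr 1
  unfold qMap
  rw [← Category.assoc, ← Functor.map_comp, phi_mapQ]

lemma cls_indep (x : E' ⧸ LinearMap.range j) (J₁ J₂ : Dual2.IdealsIn T)
    (h₁ : ∀ a ∈ J₁.obj, a • x = 0) (h₂ : ∀ a ∈ J₂.obj, a • x = 0) :
    cls j hj x J₁ h₁ = cls j hj x J₂ h₂ := by
  rw [cls_of_le j hj x (infI J₁ J₂) J₁ inf_le_left h₁,
    cls_of_le j hj x (infI J₁ J₂) J₂ inf_le_right h₂]

lemma cls_add (x y : E' ⧸ LinearMap.range j) (J : Dual2.IdealsIn T)
    (hx : ∀ a ∈ J.obj, a • x = 0) (hy : ∀ a ∈ J.obj, a • y = 0)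
    (hxy : ∀ a ∈ J.obj, a • (x + y) = 0) :
    cls j hj (x + y) J hxy = cls j hj x J hx + cls j hj y J hy := by
  unfold cls
  rw [phi_add x y J.obj hx hy hxy, Functor.map_add, Preadditive.add_comp, map_add]

lemma cls_smul (c : A) (x : E' ⧸ LinearMap.range j) (J : Dual2.IdealsIn T)
    (hx : ∀ a ∈ J.obj, a • x = 0) (hcx : ∀ a ∈ J.obj, a • (c • x) = 0) :
    cls j hj (c • x) J hcx = c • cls j hj x J hx := by
  unfold cls
  rw [phi_smul c x J.obj hx hcx, Functor.map_smul, Linear.smul_comp, map_smul]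

variable (Q : Submodule A (E' ⧸ LinearMap.range j))
  (hQ : ∀ x ∈ Q, ∃ J : Dual2.IdealsIn T, ∀ a ∈ J.obj, a • x = 0)

/-- the comparison map `Q → G T (N[1])`. -/
noncomputable def kappa : Q →ₗ[A] G T ((Dual.inD A N)⟦(1 : ℤ)⟧) where
  toFun x := cls j hj x.1 (Classical.choose (hQ x.1 x.2)) (Classical.choose_spec (hQ x.1 x.2))
  map_add' x y := by
    let Jx := Classical.choose (hQ x.1 x.2)
    let Jy := Classical.choose (hQ y.1 y.2)
    have hx := Classical.choose_spec (hQ x.1 x.2)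
    have hy := Classical.choose_spec (hQ y.1 y.2)
    have hx' : ∀ a ∈ (infI Jx Jy).obj, a • x.1 = 0 := fun a ha => hx a ha.1
    have hy' : ∀ a ∈ (infI Jx Jy).obj, a • y.1 = 0 := fun a ha => hy a ha.2
    have hxy' : ∀ a ∈ (infI Jx Jy).obj, a • (x.1 + y.1) = 0 := fun a ha => by
      rw [smul_add, hx' a ha, hy' a ha, add_zero]
    rw [cls_indep j hj x.1 _ (infI Jx Jy) _ hx', cls_indep j hj y.1 _ (infI Jx Jy) _ hy',
      ← cls_add j hj x.1 y.1 (infI Jx Jy) hx' hy' hxy']
    exact cls_indep j hj _ _ _ _ _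
  map_smul' c x := by
    have hx := Classical.choose_spec (hQ x.1 x.2)
    have hcx : ∀ a ∈ (Classical.choose (hQ x.1 x.2)).obj, a • (c • x.1) = 0 := fun a ha => by
      rw [smul_comm, hx a ha, smul_zero]
    rw [RingHom.id_apply, ← cls_smul j hj c x.1 _ hx hcx]
    exact cls_indep j hj _ _ _ _ _

lemma kappa_eq (x : Q) (J : Dual2.IdealsIn T) (h : ∀ a ∈ J.obj, a • x.1 = 0) :
    kappa j hj Q hQ x = cls j hj x.1 J h :=
  cls_indep j hj _ _ _ _ _

include hQ in
theorem kappa_injective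
    (hE0 : ∀ (J : Dual2.IdealsIn T) (x : E'), (∀ a ∈ J.obj, a • x = 0) → x = 0) :
    Function.Injective (kappa j hj Q hQ) := by
  rw [← LinearMap.ker_eq_bot, LinearMap.ker_eq_bot']
  intro x hx
  obtain ⟨J, hJ⟩ := hQ x.1 x.2
  rw [kappa_eq j hj Q hQ x J hJ] at hx
  unfold cls at hx
  rw [ι_eq_zero_iff] at hx
  obtain ⟨J', hle, h0⟩ := hx
  have hJ' : ∀ a ∈ J'.obj, a • x.1 = 0 := fun a ha => hJ a (hle ha)
  have h1 : (DerivedCategory.singleFunctor (ModuleCat.{u} A) 0).map (phi x.1 J'.obj hJ') ≫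
      (SC_shortExact j hj).singleδ = 0 := by
    rw [← phi_mapQ x.1 hle hJ, Functor.map_comp, Category.assoc]
    exact h0
  obtain ⟨ψ, hψ⟩ := Triangle.coyoneda_exact₃ _ (SC_shortExact j hj).singleTriangle_distinguished
    ((DerivedCategory.singleFunctor (ModuleCat.{u} A) 0).map (phi x.1 J'.obj hJ')) h1
  obtain ⟨ψ₀, rfl⟩ := (DerivedCategory.singleFunctor (ModuleCat.{u} A) 0).map_surjective ψ
  have hψ₀ : ψ₀ = 0 := by
    apply phi_ext
    rw [ModuleCat.hom_zero, LinearMap.zero_apply]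
    apply hE0 J'
    intro a ha
    rw [← map_smul, ← Submodule.Quotient.mk_smul, (Submodule.Quotient.mk_eq_zero J'.obj).2,
      map_zero]
    rw [smul_eq_mul, mul_one]
    exact ha
  have h2 : (DerivedCategory.singleFunctor (ModuleCat.{u} A) 0).map (phi x.1 J'.obj hJ') = 0 := by
    rw [hψ, hψ₀, Functor.map_zero]
    exact Limits.zero_comp
  have h3 : phi x.1 J'.obj hJ' = 0 :=
    (DerivedCategory.singleFunctor (ModuleCat.{u} A) 0).map_injective (by
      rw [h2, Functor.map_zero])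
  have h4 := phi_mk x.1 J'.obj hJ' 1
  rw [h3, ModuleCat.hom_zero, LinearMap.zero_apply, one_smul] at h4
  exact Subtype.ext h4.symm

include hj hQ in
theorem finite_of_HT [IsNoetherianRing A] (hfin : Module.Finite A (Dual2.HT T 1 N))
    (hE0 : ∀ (J : Dual2.IdealsIn T) (x : E'), (∀ a ∈ J.obj, a • x = 0) → x = 0) :
    Module.Finite A Q := by
  have h1 : Module.Finite A (G T ((Dual.inD A N)⟦((1 : ℕ) : ℤ)⟧)) :=
    Module.Finite.equiv (HTEquiv T 1 N)
  have h2 : Module.Finite A (G T ((Dual.inD A N)⟦(1 : ℤ)⟧)) := h1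
  haveI : IsNoetherian A (G T ((Dual.inD A N)⟦(1 : ℤ)⟧)) := isNoetherian_of_isNoetherianRing_of_finite A _
  exact Module.Finite.of_injective (kappa j hj Q hQ) (kappa_injective j hj Q hQ hE0)

end kappa

end Groth.Agent.Lib.helper19.HTInj
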