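import Mathlib
import Groth.Prelude.Def_DualLC
import Groth.Agent.Lib.Helper23.HDT6
import Groth.Agent.Lib.Helper19.LCBridge

/-! (helper19) Element-level API for `H^i_T = localCohomology.ofDiagram (Dual2.idealsInDiagram T) i` in terms of
`Abelian.Ext (A/J) M i`: `toHT`, `toHT_surj`, `toHT_comp`, `toHT_eq_zero_iff`, `map_toHT`. -/
set_option autoImplicit false
universe u
open CategoryTheory CategoryTheory.Limits Opposite

namespace Groth.Agent.Lib.helper19.HTSeq1
open Groth.Agent.Lib.helper23.HDT Groth.Agent.Lib.helper19.LCBridge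

variable {A : Type u} [CommRing A] (T : Set (PrimeSpectrum A)) (i : ℕ) (M : ModuleCat.{u} A)

/-- the functor `H^i_T`. -/
noncomputable abbrev HTf : ModuleCat.{u} A ⥤ ModuleCat.{u} A :=
  localCohomology.ofDiagram.{u, u} (Dual2.idealsInDiagram T) i

/-- `A/J` as an object. -/
abbrev Qo (J : Ideal A) : ModuleCat.{u} A := ModuleCat.of A (A ⧸ J)

/-- projection `A/J' ⟶ A/J`. -/
noncomputable def qm {J' J : Ideal A} (h : J' ≤ J) : Qo J' ⟶ Qo J :=
  ModuleCat.ofHom (Submodule.mapQ J' J LinearMap.id h)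

/-- the stage (old Ext). -/
noncomputable abbrev stage (J : Dual2.IdealsIn T) : ModuleCat.{u} A :=
  ((Ext A (ModuleCat.{u} A) i).obj (op (Qo J.obj))).obj M

/-- The map from the stage to `H^i_T`. -/
noncomputable def toH0 (J : Dual2.IdealsIn T) : stage T i M J ⟶ (HTf T i).obj M :=
  (colimit.ι (DT T i) (op J)).app M

/-- Transition maps. -/
noncomputable def trans0 {J' J : Dual2.IdealsIn T} (f : J' ⟶ J) : stage T i M J ⟶ stage T i M J' :=
  ((DT T i).map f.op).app M

lemma trans0_toH0 {J' J : Dual2.IdealsIn T} (f : J' ⟶ J) :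
    trans0 T i M f ≫ toH0 T i M J' = toH0 T i M J := by
  unfold trans0 toH0
  have := congrArg (fun t => t.app M) (colimit.w (DT T i) f.op)
  exact this

lemma trans0_toH0_apply {J' J : Dual2.IdealsIn T} (f : J' ⟶ J) (y : stage T i M J) :
    toH0 T i M J' (trans0 T i M f y) = toH0 T i M J y := by
  rw [← trans0_toH0 T i M f]; rfl

lemma toH0_surj (x : ((HTf T i).obj M : ModuleCat.{u} A)) :
    ∃ (J : Dual2.IdealsIn T) (y : stage T i M J), toH0 T i M J y = x := by
  let e := colimitObjIsoColimitCompEvaluation (DT T i) M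
  obtain ⟨j, y, hy⟩ := Concrete.colimit_exists_rep ((DT T i) ⋙ (evaluation _ _).obj M) (e.hom x)
  refine ⟨j.unop, y, ?_⟩
  have h1 := colimitObjIsoColimitCompEvaluation_ι_app_hom (DT T i) j M
  apply (ModuleCat.mono_iff_injective e.hom).1 inferInstance
  rw [← hy, ← h1]
  rfl

lemma toH0_eq_zero_iff {J : Dual2.IdealsIn T} (y : stage T i M J) :
    toH0 T i M J y = 0 ↔ ∃ (J' : Dual2.IdealsIn T) (f : J' ⟶ J), trans0 T i M f y = 0 := by
  constructor
  · intro h
    let e := colimitObjIsoColimitCompEvaluation (DT T i) M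
    have h1 := colimitObjIsoColimitCompEvaluation_ι_app_hom (DT T i) (op J) M
    have h2 : colimit.ι ((DT T i) ⋙ (evaluation _ _).obj M) (op J) y =
        colimit.ι ((DT T i) ⋙ (evaluation _ _).obj M) (op J) (0 : stage T i M J) := by
      rw [← h1]
      change e.hom (toH0 T i M J y) = e.hom (toH0 T i M J 0)
      rw [h, map_zero]
    obtain ⟨k, f, g, hfg⟩ := Concrete.colimit_exists_of_rep_eq _ _ _ h2
    refine ⟨k.unop, f.unop, ?_⟩
    have : (((DT T i) ⋙ (evaluation _ _).obj M).map g) (0 : stage T i M J) = 0 := map_zero _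
    rw [this] at hfg
    exact hfg
  · rintro ⟨J', f, hy⟩
    rw [← trans0_toH0_apply T i M f, hy, map_zero]


/-- the stage equivalence -/
noncomputable def stageEquiv (J : Dual2.IdealsIn T) :
    stage T i M J ≃ₗ[A] Abelian.Ext.{u} (Qo J.obj) M i :=
  oldExtEquiv (R := A) (Qo J.obj) M i

lemma stageEquiv_trans {J' J : Dual2.IdealsIn T} (f : J' ⟶ J) (y : stage T i M J) :
    stageEquiv T i M J' (trans0 T i M f y) =
      (Abelian.Ext.mk₀ (qm (le_of_hom' f))).comp (stageEquiv T i M J y) (zero_add i) :=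
  oldExtEquiv_naturality_X (qm (le_of_hom' f)) M i y

/-- The map from `Ext^i(A/J, M)` to `H^i_T(M)`. -/
noncomputable def toHT (J : Dual2.IdealsIn T) :
    Abelian.Ext.{u} (Qo J.obj) M i →ₗ[A] ((HTf T i).obj M : ModuleCat.{u} A) :=
  (toH0 T i M J).hom ∘ₗ (stageEquiv T i M J).symm.toLinearMap

lemma toHT_surj (x : ((HTf T i).obj M : ModuleCat.{u} A)) :
    ∃ (J : Dual2.IdealsIn T) (z : Abelian.Ext.{u} (Qo J.obj) M i), toHT T i M J z = x := by
  obtain ⟨J, y, rfl⟩ := toH0_surj T i M x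
  refine ⟨J, stageEquiv T i M J y, ?_⟩
  simp [toHT]

lemma toHT_comp {J' J : Dual2.IdealsIn T} (h : J'.obj ≤ J.obj)
    (z : Abelian.Ext.{u} (Qo J.obj) M i) :
    toHT T i M J' ((Abelian.Ext.mk₀ (qm h)).comp z (zero_add i)) = toHT T i M J z := by
  obtain ⟨y, rfl⟩ := (stageEquiv T i M J).surjective z
  have := stageEquiv_trans T i M (homOfLE' h) y
  rw [← this]
  simp only [toHT, LinearMap.comp_apply, LinearEquiv.coe_coe, LinearEquiv.symm_apply_apply]
  exact trans0_toH0_apply T i M (homOfLE' h) y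

lemma toHT_eq_zero_iff {J : Dual2.IdealsIn T} (z : Abelian.Ext.{u} (Qo J.obj) M i) :
    toHT T i M J z = 0 ↔ ∃ (J' : Dual2.IdealsIn T) (h : J'.obj ≤ J.obj),
      (Abelian.Ext.mk₀ (qm h)).comp z (zero_add i) = 0 := by
  obtain ⟨y, rfl⟩ := (stageEquiv T i M J).surjective z
  have h0 : toHT T i M J (stageEquiv T i M J y) = toH0 T i M J y := by
    simp [toHT]
  rw [h0, toH0_eq_zero_iff]
  constructor
  · rintro ⟨J', f, hy⟩
    refine ⟨J', le_of_hom' f, ?_⟩
    rw [← stageEquiv_trans T i M f, hy, map_zero]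
  · rintro ⟨J', h, hy⟩
    refine ⟨J', homOfLE' h, ?_⟩
    rw [← stageEquiv_trans T i M (homOfLE' h)] at hy
    exact (stageEquiv T i M J').injective (hy.trans (map_zero _).symm)

lemma map_toHT {M' : ModuleCat.{u} A} (f : M ⟶ M') {J : Dual2.IdealsIn T}
    (z : Abelian.Ext.{u} (Qo J.obj) M i) :
    ((HTf T i).map f) (toHT T i M J z) =
      toHT T i M' J (z.comp (Abelian.Ext.mk₀ f) (add_zero i)) := by
  obtain ⟨y, rfl⟩ := (stageEquiv T i M J).surjective z
  have hnat := (colimit.ι (DT T i) (op J)).naturality f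
  have h1 : ((HTf T i).map f) (toH0 T i M J y) =
      toH0 T i M' J ((((Ext A (ModuleCat.{u} A) i).obj (op (Qo J.obj))).map f) y) :=
    (congrArg (fun t => t.hom y) hnat).symm
  have h2 : stageEquiv T i M' J ((((Ext A (ModuleCat.{u} A) i).obj (op (Qo J.obj))).map f) y) =
      (stageEquiv T i M J y).comp (Abelian.Ext.mk₀ f) (add_zero i) :=
    oldExtEquiv_naturality_Y (Qo J.obj) f i y
  rw [← h2]
  simp only [toHT, LinearMap.comp_apply, LinearEquiv.coe_coe, LinearEquiv.symm_apply_apply]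
  exact h1

end Groth.Agent.Lib.helper19.HTSeq1
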