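import Mathlib
import Groth.Agent.Lib.Helper19.HTSeq1

/-! (helper19) Classes in `H^i_T(M)` of cocycles of an injective resolution `R` of `M` killed by an ideal `J` with
`V(J) ⊆ T`: `Killed`, `elemHom`, `clsJ`, `clsJ_mono`, `clsJ_surj`, `clsJ_sub`, `clsJ_eq_zero_iff`, `map_clsJ`;
`extMk_zero_eq_zero_iff`. -/
set_option autoImplicit false
universe u
open CategoryTheory CategoryTheory.Limits Opposite

namespace Groth.Agent.Lib.helper19.HTSeq2
open Groth.Agent.Lib.helper23.HDT Groth.Agent.Lib.helper19.LCBridge Groth.Agent.Lib.helper19.HTSeq1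

variable {A : Type u} [CommRing A]

section Elem
variable {E E' : ModuleCat.{u} A}

/-- `u` is killed by the ideal `J`. -/
def Killed (J : Ideal A) (u : E) : Prop := ∀ a ∈ J, a • u = 0

lemma Killed.mono {J' J : Ideal A} (h : J' ≤ J) {u : E} (hu : Killed J u) : Killed J' u :=
  fun a ha => hu a (h ha)

lemma Killed.map {J : Ideal A} {u : E} (hu : Killed J u) (f : E ⟶ E') : Killed J (f u) :=
  fun a ha => by rw [← map_smul, hu a ha, map_zero]

lemma Killed.add {J : Ideal A} {u v : E} (hu : Killed J u) (hv : Killed J v) : Killed J (u + v) :=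
  fun a ha => by rw [smul_add, hu a ha, hv a ha, add_zero]

lemma Killed.sub {J : Ideal A} {u v : E} (hu : Killed J u) (hv : Killed J v) : Killed J (u - v) :=
  fun a ha => by rw [smul_sub, hu a ha, hv a ha, sub_zero]

lemma Killed.smul {J : Ideal A} {u : E} (hu : Killed J u) (b : A) : Killed J (b • u) :=
  fun a ha => by rw [smul_comm, hu a ha, smul_zero]

/-- the map `A/J → E`, `1 ↦ u`. -/
noncomputable def elemHom (J : Ideal A) (u : E) (h : Killed J u) : Qo J ⟶ E :=
  ModuleCat.ofHom (Submodule.liftQ J (LinearMap.toSpanSingleton A E u) (by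
    intro a ha
    rw [LinearMap.mem_ker, LinearMap.toSpanSingleton_apply]
    exact h a ha))

lemma elemHom_mk (J : Ideal A) (u : E) (h : Killed J u) (a : A) :
    (elemHom J u h) (Submodule.Quotient.mk a : A ⧸ J) = a • u := by
  show (Submodule.liftQ J (LinearMap.toSpanSingleton A E u) _) (Submodule.Quotient.mk a) = a • u
  rw [Submodule.liftQ_apply, LinearMap.toSpanSingleton_apply]

lemma elemHom_ext {J : Ideal A} {f g : Qo J ⟶ E}
    (h : f (Submodule.Quotient.mk 1 : A ⧸ J) = g (Submodule.Quotient.mk 1 : A ⧸ J)) : f = g := by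
  refine ModuleCat.hom_ext (LinearMap.ext fun x => ?_)
  obtain ⟨a, rfl⟩ := Submodule.Quotient.mk_surjective _ x
  have : (Submodule.Quotient.mk a : A ⧸ J) = a • (Submodule.Quotient.mk 1 : A ⧸ J) := by
    rw [← Submodule.Quotient.mk_smul, smul_eq_mul, mul_one]
  rw [this, map_smul, map_smul]
  exact congrArg (fun z => a • z) h

lemma killed_of_hom {J : Ideal A} (g : Qo J ⟶ E) :
    Killed J (g (Submodule.Quotient.mk 1 : A ⧸ J)) := by
  intro a ha
  rw [← map_smul, ← Submodule.Quotient.mk_smul, smul_eq_mul, mul_one]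
  have : (Submodule.Quotient.mk a : A ⧸ J) = 0 := (Submodule.Quotient.mk_eq_zero J).2 ha
  rw [this, map_zero]

lemma elemHom_eq {J : Ideal A} (g : Qo J ⟶ E) :
    elemHom J (g (Submodule.Quotient.mk 1 : A ⧸ J)) (killed_of_hom g) = g := by
  apply elemHom_ext
  rw [elemHom_mk, one_smul]

lemma elemHom_comp (J : Ideal A) (u : E) (h : Killed J u) (f : E ⟶ E') :
    elemHom J u h ≫ f = elemHom J (f u) (h.map f) := by
  apply elemHom_ext
  rw [ModuleCat.comp_apply, elemHom_mk, elemHom_mk, one_smul, one_smul]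

lemma qm_elemHom {J' J : Ideal A} (hJ : J' ≤ J) (u : E) (h : Killed J u) :
    qm hJ ≫ elemHom J u h = elemHom J' u (h.mono hJ) := by
  apply elemHom_ext
  rw [ModuleCat.comp_apply, elemHom_mk, one_smul]
  have : (qm hJ) (Submodule.Quotient.mk 1 : A ⧸ J') = (Submodule.Quotient.mk 1 : A ⧸ J) := rfl
  rw [this, elemHom_mk, one_smul]

lemma elemHom_sub (J : Ideal A) (u v : E) (hu : Killed J u) (hv : Killed J v) :
    elemHom J u hu - elemHom J v hv = elemHom J (u - v) (hu.sub hv) := by
  apply elemHom_ext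
  show (elemHom J u hu) (Submodule.Quotient.mk 1 : A ⧸ J) -
    (elemHom J v hv) (Submodule.Quotient.mk 1 : A ⧸ J) = _
  rw [elemHom_mk, elemHom_mk, elemHom_mk, one_smul, one_smul, one_smul]

end Elem


lemma elemHom_eq_zero {E : ModuleCat.{u} A} (J : Ideal A) (u : E) (h : Killed J u) (h0 : u = 0) :
    elemHom J u h = 0 := by
  apply elemHom_ext
  rw [elemHom_mk, h0, smul_zero]
  rfl

lemma elemHom_congr {E : ModuleCat.{u} A} (J : Ideal A) {u v : E} (h : Killed J u) (huv : u = v) :
    elemHom J u h = elemHom J v (huv ▸ h) := by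
  subst huv; rfl

section Cls
open CategoryTheory.Abelian
variable (T : Set (PrimeSpectrum A)) {i : ℕ} {M : ModuleCat.{u} A} (R : InjectiveResolution M)

lemma extMk_congr' {X : ModuleCat.{u} A} {n : ℕ} {f f' : X ⟶ R.cocomplex.X n} (h : f = f') (m : ℕ)
    (hm : n + 1 = m) (hf : f ≫ R.cocomplex.d n m = 0) :
    R.extMk f m hm hf = R.extMk f' m hm (h ▸ hf) := by
  subst h; rfl

lemma elemHom_comp_d (J : Ideal A) (u : R.cocomplex.X i) (hu : Killed J u)
    (hd : (R.cocomplex.d i (i + 1)) u = 0) :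
    elemHom J u hu ≫ R.cocomplex.d i (i + 1) = 0 := by
  rw [elemHom_comp]
  exact elemHom_eq_zero _ _ _ hd

/-- the class in `H^i_T(M)` of a cocycle of an injective resolution killed by `J`. -/
noncomputable def clsJ (J : Dual2.IdealsIn T) (u : R.cocomplex.X i) (hu : Killed J.obj u)
    (hd : (R.cocomplex.d i (i + 1)) u = 0) : ((HTf T i).obj M : ModuleCat.{u} A) :=
  toHT T i M J (R.extMk (elemHom J.obj u hu) (i + 1) rfl (elemHom_comp_d R J.obj u hu hd))

lemma clsJ_mono {J' J : Dual2.IdealsIn T} (h : J'.obj ≤ J.obj) (u : R.cocomplex.X i)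
    (hu : Killed J.obj u) (hd : (R.cocomplex.d i (i + 1)) u = 0) :
    clsJ T R J' u (hu.mono h) hd = clsJ T R J u hu hd := by
  unfold clsJ
  rw [← toHT_comp T i M h, InjectiveResolution.mk₀_comp_extMk]
  congr 1
  exact (extMk_congr' R (qm_elemHom h u hu) _ _ _).symm

lemma clsJ_surj (x : ((HTf T i).obj M : ModuleCat.{u} A)) :
    ∃ (J : Dual2.IdealsIn T) (u : R.cocomplex.X i) (hu : Killed J.obj u)
      (hd : (R.cocomplex.d i (i + 1)) u = 0), clsJ T R J u hu hd = x := by
  obtain ⟨J, z, rfl⟩ := toHT_surj T i M x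
  obtain ⟨f, hf, rfl⟩ := R.extMk_surjective z (i + 1) rfl
  have hd : (R.cocomplex.d i (i + 1)) (f (Submodule.Quotient.mk 1 : A ⧸ J.obj)) = 0 := by
    have := congrArg (fun g => g (Submodule.Quotient.mk 1 : A ⧸ J.obj)) hf
    exact this
  refine ⟨J, f (Submodule.Quotient.mk 1 : A ⧸ J.obj), killed_of_hom f, hd, ?_⟩
  unfold clsJ
  congr 1
  exact extMk_congr' R (elemHom_eq f) _ _ _

lemma clsJ_sub (J : Dual2.IdealsIn T) (u v : R.cocomplex.X i) (hu : Killed J.obj u)
    (hv : Killed J.obj v) (hdu : (R.cocomplex.d i (i + 1)) u = 0)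
    (hdv : (R.cocomplex.d i (i + 1)) v = 0) :
    clsJ T R J u hu hdu - clsJ T R J v hv hdv =
      clsJ T R J (u - v) (hu.sub hv) (by rw [map_sub, hdu, hdv, sub_zero]) := by
  unfold clsJ
  rw [← map_sub, InjectiveResolution.sub_extMk]
  congr 1
  exact extMk_congr' R (elemHom_sub J.obj u v hu hv) _ _ _


/-- degree zero: `extMk f = 0` iff `f = 0`. -/
lemma extMk_zero_eq_zero_iff {X : ModuleCat.{u} A} (f : X ⟶ R.cocomplex.X 0)
    (hf : f ≫ R.cocomplex.d 0 1 = 0) : R.extMk f 1 rfl hf = 0 ↔ f = 0 := by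
  constructor
  · intro h
    simp only [← R.extEquivCohomologyClass.apply_eq_iff_eq,
      InjectiveResolution.extEquivCohomologyClass_extMk,
      InjectiveResolution.extEquivCohomologyClass_zero,
      CochainComplex.HomComplex.CohomologyClass.mk_eq_zero_iff] at h
    rw [CochainComplex.HomComplex.Cocycle.fromSingleMk_mem_coboundaries_iff _ _ _ _ _ (-1)
      (by lia)] at h
    obtain ⟨g, hg⟩ := h
    have hz : IsZero (R.cochainComplex.X (-1)) :=
      CochainComplex.isZero_of_isStrictlyGE _ 0 _ (by lia)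
    have hg0 : g = 0 := hz.eq_of_tgt _ _
    rw [hg0, zero_comp] at hg
    have h2 : f ≫ (R.cochainComplexXIso 0 0 rfl).inv = 0 := hg.symm
    have h3 := congrArg (fun t => t ≫ (R.cochainComplexXIso 0 0 rfl).hom) h2
    simpa using h3
  · intro h
    subst h
    exact R.extMk_zero 1 rfl

lemma clsJ_eq_zero_iff (J : Dual2.IdealsIn T) (u : R.cocomplex.X i) (hu : Killed J.obj u)
    (hd : (R.cocomplex.d i (i + 1)) u = 0) :
    clsJ T R J u hu hd = 0 ↔ ∃ (J' : Dual2.IdealsIn T) (_ : J'.obj ≤ J.obj)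
      (v : R.cocomplex.X (i - 1)), Killed J'.obj v ∧ (R.cocomplex.d (i - 1) i) v = u := by
  unfold clsJ
  rw [toHT_eq_zero_iff]
  constructor
  · rintro ⟨J', h, hz⟩
    rw [InjectiveResolution.mk₀_comp_extMk] at hz
    refine ⟨J', h, ?_⟩
    cases i with
    | zero =>
      rw [extMk_zero_eq_zero_iff, qm_elemHom] at hz
      have h1 := congrArg (fun g => g (Submodule.Quotient.mk 1 : A ⧸ J'.obj)) hz
      have h3 : (elemHom J'.obj u (hu.mono h)) (Submodule.Quotient.mk 1 : A ⧸ J'.obj) = 0 := h1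
      rw [elemHom_mk, one_smul] at h3
      refine ⟨0, fun a _ => smul_zero a, ?_⟩
      rw [map_zero]
      exact h3.symm
    | succ p =>
      rw [R.extMk_eq_zero_iff _ _ _ _ p rfl, qm_elemHom] at hz
      obtain ⟨g, hg⟩ := hz
      refine ⟨g (Submodule.Quotient.mk 1 : A ⧸ J'.obj), killed_of_hom g, ?_⟩
      have h1 := congrArg (fun t => t (Submodule.Quotient.mk 1 : A ⧸ J'.obj)) hg
      have h3 : (R.cocomplex.d p (p + 1)) (g (Submodule.Quotient.mk 1 : A ⧸ J'.obj)) =
          (elemHom J'.obj u (hu.mono h)) (Submodule.Quotient.mk 1 : A ⧸ J'.obj) := h1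
      rw [elemHom_mk, one_smul] at h3
      exact h3
  · rintro ⟨J', h, v, hv, hvu⟩
    refine ⟨J', h, ?_⟩
    rw [InjectiveResolution.mk₀_comp_extMk]
    cases i with
    | zero =>
      have hu0 : u = 0 := by
        rw [← hvu]
        have : R.cocomplex.d (0 - 1) 0 = 0 := by
          apply R.cocomplex.shape
          simp
        rw [this]
        rfl
      rw [extMk_zero_eq_zero_iff, qm_elemHom]
      exact elemHom_eq_zero _ _ _ hu0
    | succ p =>
      rw [R.extMk_eq_zero_iff _ _ _ _ p rfl, qm_elemHom]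
      refine ⟨elemHom J'.obj v hv, ?_⟩
      rw [elemHom_comp]
      exact elemHom_congr _ _ hvu

/-- naturality of the class with respect to a morphism of injective resolutions. -/
lemma map_clsJ {M' : ModuleCat.{u} A} {R' : InjectiveResolution M'} {g : M ⟶ M'}
    (φ : InjectiveResolution.Hom R R' g) (J : Dual2.IdealsIn T) (u : R.cocomplex.X i)
    (hu : Killed J.obj u) (hd : (R.cocomplex.d i (i + 1)) u = 0) :
    ((HTf T i).map g) (clsJ T R J u hu hd) =
      clsJ T R' J ((φ.hom.f i) u) (hu.map _) (by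
        have h1 := congrArg (fun t => t u) (φ.hom.comm i (i + 1))
        have h2 : (R'.cocomplex.d i (i + 1)) ((φ.hom.f i) u) =
            (φ.hom.f (i + 1)) ((R.cocomplex.d i (i + 1)) u) := h1
        rw [h2, hd, map_zero]) := by
  unfold clsJ
  rw [map_toHT, InjectiveResolution.extMk_comp_mk₀ _ _ _ _ φ]
  congr 1
  exact extMk_congr' R' (elemHom_comp J.obj u hu (φ.hom.f i)) _ _ _

end Cls

end Groth.Agent.Lib.helper19.HTSeq2
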