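import Mathlib
import Groth.Agent.Lib.Helper13.InjTilde8

/-! (helper19) The localization functor `Lf S : ModuleCat A ⥤ ModuleCat (Localization S)` (`M ↦ LocalizedModule S M`, exact),
the localized injective resolution `locRes S R` of an injective resolution `R` over a Noetherian ring, and the localized
morphism of resolutions `locHom S R φ` (`locHom_f`, `locRes_X`, `locRes_d`, `Lf_map_mk`). -/
set_option autoImplicit false
universe u
open CategoryTheory CategoryTheory.Limits Opposite

namespace Groth.Agent.Lib.helper19.HTSeq3

variable {A : Type u} [CommRing A] (S : Submonoid A)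

/-- localization of modules as a functor (no `Shrink`). -/
noncomputable def Lf : ModuleCat.{u} A ⥤ ModuleCat.{u} (Localization S) where
  obj M := ModuleCat.of (Localization S) (LocalizedModule S M)
  map f := ModuleCat.ofHom (LocalizedModule.map S f.hom)
  map_id M := by
    refine ModuleCat.hom_ext (LinearMap.ext fun x => ?_)
    induction x using LocalizedModule.induction_on with
    | h m s => simp
  map_comp f g := by
    refine ModuleCat.hom_ext (LinearMap.ext fun x => ?_)
    induction x using LocalizedModule.induction_on with
    | h m s => simp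

lemma Lf_map_mk {M N : ModuleCat.{u} A} (f : M ⟶ N) (m : M) (s : S) :
    ((Lf S).map f) (LocalizedModule.mk m s) = LocalizedModule.mk (f m) s :=
  LocalizedModule.map_mk S f.hom m s

instance : (Lf S).Additive where
  map_add {M N f g} := by
    refine ModuleCat.hom_ext ?_
    show LocalizedModule.map S (f + g).hom =
      LocalizedModule.map S f.hom + LocalizedModule.map S g.hom
    rw [ModuleCat.hom_add, map_add]

lemma Lf_map_exact (T : ShortComplex (ModuleCat.{u} A)) (h : T.Exact) :
    (T.map (Lf S)).Exact := by
  rw [CategoryTheory.ShortComplex.ShortExact.moduleCat_exact_iff_function_exact] at h ⊢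
  exact LocalizedModule.map_exact S _ _ h

instance : PreservesFiniteLimits (Lf S) := by
  have := ((Functor.exact_tfae _).out 1 3).mp (Lf_map_exact S)
  exact this.1

instance : PreservesFiniteColimits (Lf S) := by
  have := ((Functor.exact_tfae _).out 1 3).mp (Lf_map_exact S)
  exact this.2


section Res
variable [IsNoetherianRing A] {M : ModuleCat.{u} A} (R : InjectiveResolution M)

lemma injective_Lf_obj (E : ModuleCat.{u} A) [Injective E] : Injective ((Lf S).obj E) := by
  haveI hE : Module.Injective A E := Module.injective_module_of_injective_object A E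
  haveI : Module.Injective (Localization S) (LocalizedModule S E) :=
    Groth.Agent.Lib.helper13.InjTilde.injective_of_isLocalizedModule S (Localization S)
      (LocalizedModule.mkLinearMap S E) hE
  exact Module.injective_object_of_injective_module (Localization S) (LocalizedModule S E)

/-- the localized injective resolution. -/
noncomputable def locRes : InjectiveResolution ((Lf S).obj M) where
  cocomplex := ((Lf S).mapHomologicalComplex _).obj R.cocomplex
  injective n := injective_Lf_obj S (R.cocomplex.X n)
  ι := ((HomologicalComplex.singleMapHomologicalComplex (Lf S) (ComplexShape.up ℕ) 0).inv.app M) ≫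
    ((Lf S).mapHomologicalComplex _).map R.ι
  quasiIso := inferInstance


lemma locRes_ι_comp {M' : ModuleCat.{u} A} {R' : InjectiveResolution M'} {g : M ⟶ M'}
    (φ : InjectiveResolution.Hom R R' g) :
    (locRes S R).ι ≫ ((Lf S).mapHomologicalComplex _).map φ.hom =
      (CochainComplex.single₀ _).map ((Lf S).map g) ≫ (locRes S R').ι := by
  have hnat := (HomologicalComplex.singleMapHomologicalComplex (Lf S) (ComplexShape.up ℕ) 0).inv.naturality g
  simp only [Functor.comp_map] at hnat
  have h1 : ((Lf S).mapHomologicalComplex (ComplexShape.up ℕ)).map R.ι ≫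
      ((Lf S).mapHomologicalComplex (ComplexShape.up ℕ)).map φ.hom =
      ((Lf S).mapHomologicalComplex (ComplexShape.up ℕ)).map
        ((HomologicalComplex.single (ModuleCat A) (ComplexShape.up ℕ) 0).map g) ≫
      ((Lf S).mapHomologicalComplex (ComplexShape.up ℕ)).map R'.ι := by
    rw [← Functor.map_comp, ← Functor.map_comp]
    congr 1
    exact φ.ι_comp_hom
  calc (locRes S R).ι ≫ ((Lf S).mapHomologicalComplex _).map φ.hom
      = (HomologicalComplex.singleMapHomologicalComplex (Lf S) (ComplexShape.up ℕ) 0).inv.app M ≫
          (((Lf S).mapHomologicalComplex (ComplexShape.up ℕ)).map R.ι ≫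
            ((Lf S).mapHomologicalComplex (ComplexShape.up ℕ)).map φ.hom) := Category.assoc _ _ _
    _ = (HomologicalComplex.singleMapHomologicalComplex (Lf S) (ComplexShape.up ℕ) 0).inv.app M ≫
          (((Lf S).mapHomologicalComplex (ComplexShape.up ℕ)).map
            ((HomologicalComplex.single (ModuleCat A) (ComplexShape.up ℕ) 0).map g) ≫
          ((Lf S).mapHomologicalComplex (ComplexShape.up ℕ)).map R'.ι) := by rw [h1]
    _ = ((HomologicalComplex.singleMapHomologicalComplex (Lf S) (ComplexShape.up ℕ) 0).inv.app M ≫
          ((Lf S).mapHomologicalComplex (ComplexShape.up ℕ)).map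
            ((HomologicalComplex.single (ModuleCat A) (ComplexShape.up ℕ) 0).map g)) ≫
          ((Lf S).mapHomologicalComplex (ComplexShape.up ℕ)).map R'.ι := (Category.assoc _ _ _).symm
    _ = ((HomologicalComplex.single (ModuleCat (Localization S)) (ComplexShape.up ℕ) 0).map
          ((Lf S).map g) ≫
          (HomologicalComplex.singleMapHomologicalComplex (Lf S) (ComplexShape.up ℕ) 0).inv.app M') ≫
          ((Lf S).mapHomologicalComplex (ComplexShape.up ℕ)).map R'.ι := by rw [hnat]
    _ = _ := Category.assoc _ _ _

/-- the localized morphism of injective resolutions. -/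
noncomputable def locHom {M' : ModuleCat.{u} A} {R' : InjectiveResolution M'} {g : M ⟶ M'}
    (φ : InjectiveResolution.Hom R R' g) :
    InjectiveResolution.Hom (locRes S R) (locRes S R') ((Lf S).map g) where
  hom := ((Lf S).mapHomologicalComplex _).map φ.hom
  ι_f_zero_comp_hom_f_zero := by
    have := congrArg (fun t => t.f 0) (locRes_ι_comp S R φ)
    exact this

lemma locHom_f {M' : ModuleCat.{u} A} {R' : InjectiveResolution M'} {g : M ⟶ M'}
    (φ : InjectiveResolution.Hom R R' g) (n : ℕ) :
    (locHom S R φ).hom.f n = (Lf S).map (φ.hom.f n) := rfl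

lemma locRes_X (n : ℕ) : (locRes S R).cocomplex.X n = (Lf S).obj (R.cocomplex.X n) := rfl

lemma locRes_d (n m : ℕ) : (locRes S R).cocomplex.d n m = (Lf S).map (R.cocomplex.d n m) := rfl

end Res

end Groth.Agent.Lib.helper19.HTSeq3
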