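import Mathlib
import Groth.Agent.S0301
set_option autoImplicit false

/-! Torsion with supports in a subset `T ⊆ Spec A` (helper19): `sat T K` (the `T`-saturation of a
submodule: elements sent into `K` by some ideal `J` with `V(J) ⊆ T`), `gam T M = sat T ⊥`,
`exists_ideal_of_fg`, `sat_sat`, `mkQ_mem_gam_iff`, `gam_quot_sat`; over a Noetherian ring:
`gam_baer` (`Γ_T` of an injective is injective), `quot_gam_baer`, `exists_embedding` (a `T`-torsion-free
module embeds into a `T`-torsion-free injective module). -/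

universe u
namespace Groth.Agent.Lib.helper19.TorsT

variable {A : Type u} [CommRing A] (T : Set (PrimeSpectrum A))

theorem zl_top : PrimeSpectrum.zeroLocus (((⊤ : Ideal A) : Set A)) ⊆ T := by
  rw [Submodule.top_coe, PrimeSpectrum.zeroLocus_univ]
  exact Set.empty_subset _

section sat
variable {M : Type u} [AddCommGroup M] [Module A M]

/-- the carrier of the `T`-saturation -/
def satSet (K : Submodule A M) : Set M :=
  {x | ∃ J : Ideal A, PrimeSpectrum.zeroLocus (J : Set A) ⊆ T ∧ ∀ a ∈ J, a • x ∈ K}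

theorem zero_mem_satSet (K : Submodule A M) : (0 : M) ∈ satSet T K := by
  refine ⟨(⊤ : Ideal A), zl_top T, fun a _ => ?_⟩
  rw [smul_zero]
  exact K.zero_mem

theorem add_mem_satSet (K : Submodule A M) {x y : M} (hx : x ∈ satSet T K) (hy : y ∈ satSet T K) :
    x + y ∈ satSet T K := by
  obtain ⟨J, hJ, hx⟩ := hx
  obtain ⟨J', hJ', hy⟩ := hy
  refine ⟨J * J', ?_, fun a ha => ?_⟩
  · rw [PrimeSpectrum.zeroLocus_mul]
    exact Set.union_subset hJ hJ'
  · rw [smul_add]
    exact K.add_mem (hx a (Ideal.mul_le_left ha)) (hy a (Ideal.mul_le_right ha))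

theorem smul_mem_satSet (K : Submodule A M) (c : A) {x : M} (hx : x ∈ satSet T K) :
    c • x ∈ satSet T K := by
  obtain ⟨J, hJ, hx⟩ := hx
  exact ⟨J, hJ, fun a ha => by rw [smul_comm]; exact K.smul_mem c (hx a ha)⟩

/-- the `T`-saturation of a submodule: elements sent into `K` by an ideal `J` with `V(J) ⊆ T`. -/
def sat (K : Submodule A M) : Submodule A M where
  carrier := satSet T K
  zero_mem' := zero_mem_satSet T K
  add_mem' := add_mem_satSet T K
  smul_mem' := fun c _ hx => smul_mem_satSet T K c hx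

variable {T}

theorem mem_sat {K : Submodule A M} {x : M} :
    x ∈ sat T K ↔ ∃ J : Ideal A, PrimeSpectrum.zeroLocus (J : Set A) ⊆ T ∧ ∀ a ∈ J, a • x ∈ K :=
  Iff.rfl

theorem le_sat (K : Submodule A M) : K ≤ sat T K := fun _ hx =>
  ⟨(⊤ : Ideal A), zl_top T, fun a _ => K.smul_mem a hx⟩

theorem sat_mono {K K' : Submodule A M} (h : K ≤ K') : sat T K ≤ sat T K' := by
  rintro x ⟨J, hJ, hx⟩
  exact ⟨J, hJ, fun a ha => h (hx a ha)⟩

/-- finitely many elements of `sat T K` are sent into `K` by a common ideal. -/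
theorem exists_ideal_of_finset (K : Submodule A M) (s : Finset M) (hs : ∀ x ∈ s, x ∈ sat T K) :
    ∃ J : Ideal A, PrimeSpectrum.zeroLocus (J : Set A) ⊆ T ∧ ∀ a ∈ J, ∀ x ∈ s, a • x ∈ K := by
  classical
  induction s using Finset.induction_on with
  | empty => exact ⟨(⊤ : Ideal A), zl_top T, fun a _ x hx => absurd hx (Finset.notMem_empty x)⟩
  | insert y s hy ih =>
    obtain ⟨J, hJ, hJs⟩ := ih (fun x hx => hs x (Finset.mem_insert_of_mem hx))
    obtain ⟨J', hJ', hy'⟩ := hs y (Finset.mem_insert_self y s)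
    refine ⟨J' * J, ?_, fun a ha x hx => ?_⟩
    · rw [PrimeSpectrum.zeroLocus_mul]
      exact Set.union_subset hJ' hJ
    · rcases Finset.mem_insert.1 hx with rfl | hx
      · exact hy' a (Ideal.mul_le_left ha)
      · exact hJs a (Ideal.mul_le_right ha) x hx

/-- a finitely generated submodule of `sat T K` is sent into `K` by a single ideal. -/
theorem exists_ideal_of_fg (K N : Submodule A M) (hN : N.FG) (hNK : N ≤ sat T K) :
    ∃ J : Ideal A, PrimeSpectrum.zeroLocus (J : Set A) ⊆ T ∧ ∀ a ∈ J, ∀ x ∈ N, a • x ∈ K := by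
  obtain ⟨s, rfl⟩ := hN
  obtain ⟨J, hJ, hJs⟩ := exists_ideal_of_finset K s
    (fun x hx => hNK (Submodule.subset_span (Finset.mem_coe.2 hx)))
  refine ⟨J, hJ, fun a ha x hx => ?_⟩
  induction hx using Submodule.span_induction with
  | mem x hx => exact hJs a ha x (Finset.mem_coe.1 hx)
  | zero => rw [smul_zero]; exact K.zero_mem
  | add x y _ _ hx hy => rw [smul_add]; exact K.add_mem hx hy
  | smul c x _ hx => rw [smul_comm]; exact K.smul_mem c hx

theorem sat_sat [IsNoetherianRing A] (K : Submodule A M) : sat T (sat T K) = sat T K := by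
  apply le_antisymm
  · rintro x ⟨J, hJ, hx⟩
    -- `J • x` is a finitely generated submodule of `sat T K`
    have hfg : (Submodule.map (LinearMap.toSpanSingleton A M x) J).FG :=
      Submodule.FG.map _ (IsNoetherian.noetherian J)
    obtain ⟨J', hJ', hJx⟩ := exists_ideal_of_fg K _ hfg (by
      rintro _ ⟨a, ha, rfl⟩
      rw [LinearMap.toSpanSingleton_apply]
      exact hx a ha)
    refine ⟨J' * J, ?_, fun a ha => ?_⟩
    · rw [PrimeSpectrum.zeroLocus_mul]
      exact Set.union_subset hJ' hJ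
    · refine Submodule.mul_induction_on ha (fun b hb c hc => ?_) (fun b c hb hc => ?_)
      · rw [mul_smul]
        exact hJx b hb _ ⟨c, hc, by rw [LinearMap.toSpanSingleton_apply]⟩
      · rw [add_smul]
        exact K.add_mem hb hc
  · exact le_sat _

/-- the `T`-torsion submodule. -/
abbrev gam (T : Set (PrimeSpectrum A)) (M : Type u) [AddCommGroup M] [Module A M] :
    Submodule A M := sat T (⊥ : Submodule A M)

theorem mem_gam {x : M} :
    x ∈ gam T M ↔ ∃ J : Ideal A, PrimeSpectrum.zeroLocus (J : Set A) ⊆ T ∧ ∀ a ∈ J, a • x = 0 := by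
  simp only [mem_sat, Submodule.mem_bot]

theorem mkQ_mem_gam_iff (K : Submodule A M) (x : M) :
    K.mkQ x ∈ gam T (M ⧸ K) ↔ x ∈ sat T K := by
  rw [mem_gam, mem_sat]
  constructor
  · rintro ⟨J, hJ, h⟩
    refine ⟨J, hJ, fun a ha => ?_⟩
    have := h a ha
    rw [← map_smul, Submodule.mkQ_apply, Submodule.Quotient.mk_eq_zero] at this
    exact this
  · rintro ⟨J, hJ, h⟩
    refine ⟨J, hJ, fun a ha => ?_⟩
    rw [← map_smul, Submodule.mkQ_apply, Submodule.Quotient.mk_eq_zero]
    exact h a ha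

theorem gam_quot_sat [IsNoetherianRing A] (K : Submodule A M) :
    gam T (M ⧸ sat T K) = ⊥ := by
  rw [eq_bot_iff]
  intro q hq
  obtain ⟨x, rfl⟩ := Submodule.mkQ_surjective _ q
  rw [mkQ_mem_gam_iff, sat_sat] at hq
  rw [Submodule.mem_bot, Submodule.mkQ_apply, Submodule.Quotient.mk_eq_zero]
  exact hq

theorem map_mem_gam {N : Type u} [AddCommGroup N] [Module A N] (f : M →ₗ[A] N) {x : M}
    (hx : x ∈ gam T M) : f x ∈ gam T N := by
  rw [mem_gam] at hx ⊢
  obtain ⟨J, hJ, h⟩ := hx
  exact ⟨J, hJ, fun a ha => by rw [← map_smul, h a ha, map_zero]⟩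

theorem gam_eq_bot_of_injective {N : Type u} [AddCommGroup N] [Module A N] (f : M →ₗ[A] N)
    (hf : Function.Injective f) (hN : gam T N = ⊥) : gam T M = ⊥ := by
  rw [eq_bot_iff]
  intro x hx
  have := map_mem_gam f hx
  rw [hN, Submodule.mem_bot] at this
  rw [Submodule.mem_bot]
  exact hf (by rw [this, map_zero])

end sat

section inj
open CategoryTheory
variable [IsNoetherianRing A] (E : Type u) [AddCommGroup E] [Module A E]

theorem gam_baer (hE : Module.Injective A E) : Module.Baer A (gam T E) := by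
  classical
  intro 𝔞 g
  have hfg : (Submodule.map ((gam T E).subtype ∘ₗ g) ⊤).FG :=
    Submodule.FG.map _ (Module.Finite.fg_top)
  obtain ⟨J, hJ, hJx⟩ := exists_ideal_of_fg (T := T) (⊥ : Submodule A E) _ hfg (by
    rintro _ ⟨y, -, rfl⟩
    exact (g y).2)
  set S : Submodule A E := ⨆ n : ℕ, Submodule.torsionBySet A E ((J ^ n : Ideal A) : Set A) with hS
  have hSinj : Module.Injective A S := Groth.Agent.S0301.result A E hE J
  have hSB : Module.Baer A S := Module.Baer.of_injective hSinj
  have hmono : Monotone (fun n : ℕ => Submodule.torsionBySet A E ((J ^ n : Ideal A) : Set A)) :=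
    fun a b hab => Submodule.torsionBySet_le_torsionBySet_of_subset (Ideal.pow_le_pow_right hab)
  have hSle : S ≤ gam T E := by
    intro x hx
    rw [hS, Submodule.mem_iSup_of_directed _ hmono.directed_le] at hx
    obtain ⟨n, hn⟩ := hx
    rw [mem_gam]
    refine ⟨J ^ n, ?_, fun a ha => (Submodule.mem_torsionBySet_iff _ _).1 hn ⟨a, ha⟩⟩
    by_cases h0 : n = 0
    · subst h0
      rw [pow_zero, Ideal.one_eq_top]
      exact zl_top T
    · rw [PrimeSpectrum.zeroLocus_pow _ h0]
      exact hJ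
  let g₀ : 𝔞 →ₗ[A] S := LinearMap.codRestrict S ((gam T E).subtype ∘ₗ g) (fun y => by
    rw [hS]
    refine Submodule.mem_iSup_of_mem 1 ?_
    rw [Submodule.mem_torsionBySet_iff]
    rintro ⟨a, ha⟩
    rw [pow_one] at ha
    have := hJx a ha _ ⟨y, trivial, rfl⟩
    exact this)
  obtain ⟨g₀', hg₀'⟩ := hSB 𝔞 g₀
  refine ⟨(Submodule.inclusion hSle) ∘ₗ g₀', fun x mem => ?_⟩
  apply Subtype.ext
  rw [LinearMap.comp_apply, hg₀' x mem]
  rfl

theorem quot_gam_baer (hE : Module.Injective A E) : Module.Baer A (E ⧸ gam T E) := by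
  have hΓ : Module.Baer A (gam T E) := gam_baer T E hE
  obtain ⟨r, hr⟩ := hΓ.extension_property (gam T E).subtype Subtype.val_injective LinearMap.id
  let σ : E ⧸ gam T E →ₗ[A] E :=
    (gam T E).liftQ (LinearMap.id - (gam T E).subtype ∘ₗ r) (by
      intro x hx
      rw [LinearMap.mem_ker, LinearMap.sub_apply, LinearMap.id_apply, LinearMap.comp_apply]
      have := LinearMap.congr_fun hr ⟨x, hx⟩
      rw [LinearMap.comp_apply, LinearMap.id_apply] at this
      change x - (r x).1 = 0
      have h2 : (r x) = ⟨x, hx⟩ := this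
      rw [h2, sub_self])
  have hσ : ∀ q, (gam T E).mkQ (σ q) = q := by
    intro q
    obtain ⟨x, rfl⟩ := Submodule.mkQ_surjective _ q
    change (gam T E).mkQ (x - (r x).1) = _
    rw [map_sub]
    have : (gam T E).mkQ (r x).1 = 0 := by
      rw [Submodule.mkQ_apply, Submodule.Quotient.mk_eq_zero]
      exact (r x).2
    rw [this, sub_zero]
  intro 𝔞 g
  obtain ⟨h, hh⟩ := (Module.Baer.of_injective hE) 𝔞 (σ ∘ₗ g)
  refine ⟨(gam T E).mkQ ∘ₗ h, fun x mem => ?_⟩
  rw [LinearMap.comp_apply, hh x mem, LinearMap.comp_apply, hσ]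

/-- a `T`-torsion-free module embeds into a `T`-torsion-free injective module. -/
theorem exists_embedding (N : Type u) [AddCommGroup N] [Module A N] (hN : gam T N = ⊥) :
    ∃ (E' : Type u) (_ : AddCommGroup E') (_ : Module A E') (j : N →ₗ[A] E'),
      Module.Injective A E' ∧ Function.Injective j ∧ gam T E' = ⊥ := by
  let E : ModuleCat.{u} A := Injective.under (ModuleCat.of A N)
  let j₀ : ModuleCat.of A N ⟶ E := Injective.ι (ModuleCat.of A N)
  have hj₀ : Function.Injective j₀.hom := (ModuleCat.mono_iff_injective j₀).1 inferInstance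
  have hE : Module.Injective A E :=
    @Module.injective_module_of_injective_object A E _ _ _
      (inferInstanceAs (Injective (Injective.under (ModuleCat.of A N))))
  refine ⟨E ⧸ gam T E, inferInstance, inferInstance, (gam T E).mkQ ∘ₗ j₀.hom,
    (quot_gam_baer T E hE).injective, ?_, gam_quot_sat ⊥⟩
  rw [← LinearMap.ker_eq_bot, LinearMap.ker_eq_bot']
  intro x hx
  rw [LinearMap.comp_apply, Submodule.mkQ_apply, Submodule.Quotient.mk_eq_zero, mem_gam] at hx
  obtain ⟨J, hJ, h⟩ := hx
  have hx' : x ∈ gam T N := by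
    rw [mem_gam]
    refine ⟨J, hJ, fun a ha => hj₀ ?_⟩
    rw [map_smul, h a ha, map_zero]
  rw [hN, Submodule.mem_bot] at hx'
  exact hx'

end inj

end Groth.Agent.Lib.helper19.TorsT
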