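import Mathlib
import Groth.Agent.Lib.Helper19.TorsT

/-! (helper19) Module-level lemmas for the exact sequence of local cohomology with supports `T' ⊆ T` (Noetherian ring):
`exists_ann_pow_stable`, `exists_div` (division by `f` up to `f`-torsion in a Baer module), `mk_eq_zero_iff'`,
`exists_smul_killed`, `local_lemma` (a primitive in the localization gives a primitive up to `t ∈ S`), `core_lemma`
(prime avoidance: modify a `V(J)`-torsion element by a boundary so that it becomes `T'`-torsion). -/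
set_option autoImplicit false
universe u
open CategoryTheory

namespace Groth.Agent.Lib.helper19.HTSeq4
open Groth.Agent.Lib.helper19.TorsT

variable {A : Type u} [CommRing A] [IsNoetherianRing A]

/-- stabilization of the annihilators of the powers of `f`. -/
lemma exists_ann_pow_stable (f : A) :
    ∃ k : ℕ, ∀ a : A, a * f ^ (k + 1) = 0 → a * f ^ k = 0 := by
  let I : ℕ →o Ideal A :=
    { toFun := fun k => LinearMap.ker (LinearMap.toSpanSingleton A A (f ^ k))
      monotone' := by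
        intro k l hkl a ha
        rw [LinearMap.mem_ker, LinearMap.toSpanSingleton_apply, smul_eq_mul] at ha ⊢
        obtain ⟨c, rfl⟩ := Nat.exists_eq_add_of_le hkl
        rw [pow_add, ← mul_assoc, ha, zero_mul] }
  obtain ⟨k, hk⟩ := monotone_stabilizes_iff_noetherian.2 inferInstance I
  refine ⟨k, fun a ha => ?_⟩
  have h1 : a ∈ I (k + 1) := by
    show a ∈ LinearMap.ker (LinearMap.toSpanSingleton A A (f ^ (k + 1)))
    rw [LinearMap.mem_ker, LinearMap.toSpanSingleton_apply, smul_eq_mul]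
    exact ha
  rw [← hk (k + 1) (Nat.le_succ k)] at h1
  have h2 : a ∈ LinearMap.ker (LinearMap.toSpanSingleton A A (f ^ k)) := h1
  rw [LinearMap.mem_ker, LinearMap.toSpanSingleton_apply, smul_eq_mul] at h2
  exact h2

/-- divisibility in a Baer module: `z/f` exists up to `f`-power torsion. -/
theorem exists_div {N : Type u} [AddCommGroup N] [Module A N] (hN : Module.Baer A N) (z : N)
    (f : A) : ∃ (y : N) (k : ℕ), f ^ (k + 1) • y = f ^ k • z := by
  obtain ⟨k, hk⟩ := exists_ann_pow_stable f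
  have key : ∀ a b : A, a * f ^ (k + 1) = b * f ^ (k + 1) →
      a • (f ^ k • z) = b • (f ^ k • z) := by
    intro a b hab
    have : (a - b) * f ^ k = 0 := hk _ (by rw [sub_mul, hab, sub_self])
    rw [← sub_eq_zero, ← sub_smul, smul_smul, this, zero_smul]
  let I : Ideal A := Ideal.span {f ^ (k + 1)}
  have hex : ∀ x : I, ∃ a : A, a * f ^ (k + 1) = x.1 := fun x => Ideal.mem_span_singleton'.1 x.2
  let g : I →ₗ[A] N :=
    { toFun := fun x => (Classical.choose (hex x)) • (f ^ k • z)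
      map_add' := fun x y => by
        rw [← add_smul]
        apply key
        rw [add_mul, Classical.choose_spec (hex x), Classical.choose_spec (hex y),
          Classical.choose_spec (hex (x + y))]
        rfl
      map_smul' := fun r x => by
        rw [RingHom.id_apply]
        show (Classical.choose (hex (r • x))) • (f ^ k • z) =
          r • ((Classical.choose (hex x)) • (f ^ k • z))
        rw [← mul_smul r]
        apply key
        rw [Classical.choose_spec (hex (r • x)), mul_assoc, Classical.choose_spec (hex x)]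
        rfl }
  obtain ⟨g', hg'⟩ := hN I g
  refine ⟨g' 1, k, ?_⟩
  have hmem : f ^ (k + 1) ∈ I := Ideal.subset_span rfl
  have h1 : g' (f ^ (k + 1)) = g ⟨_, hmem⟩ := hg' _ hmem
  have h2 : g ⟨_, hmem⟩ = f ^ k • z := by
    show (Classical.choose (hex ⟨_, hmem⟩)) • (f ^ k • z) = _
    have := key (Classical.choose (hex ⟨_, hmem⟩)) 1
      (by rw [Classical.choose_spec (hex ⟨_, hmem⟩), one_mul])
    rw [this, one_smul]
  rw [← h2, ← h1, ← map_smul, smul_eq_mul, mul_one]


lemma mk_eq_zero_iff' (S : Submonoid A) {E : Type u} [AddCommGroup E] [Module A E] (m : E)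
    (s : S) : LocalizedModule.mk m s = 0 ↔ ∃ c : S, c • m = 0 := by
  rw [← LocalizedModule.zero_mk (1 : S), LocalizedModule.mk_eq]
  constructor
  · rintro ⟨c, hc⟩
    refine ⟨c, ?_⟩
    rw [one_smul, smul_zero, smul_zero] at hc
    exact hc
  · rintro ⟨c, hc⟩
    refine ⟨c, ?_⟩
    rw [one_smul, smul_zero, smul_zero]
    exact hc

/-- an element of `E` whose image in the localization is killed by `K` is killed by `K` after
multiplication with an element of `S`. -/
lemma exists_smul_killed (S : Submonoid A) {E : Type u} [AddCommGroup E] [Module A E] (K : Ideal A)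
    (y : E) (s : S) (hw : ∀ a ∈ K, a • (LocalizedModule.mk y s : LocalizedModule S E) = 0) :
    ∃ v : S, ∀ a ∈ K, a • ((v : A) • y) = 0 := by
  classical
  obtain ⟨G, hG⟩ := (isNoetherian_def.1 (inferInstance : IsNoetherian A A)) K
  have h1 : ∀ g ∈ G, ∃ c : S, (c : A) • (g • y) = 0 := by
    intro g hg
    have hgK : g ∈ K := by rw [← hG]; exact Submodule.subset_span hg
    have := hw g hgK
    rw [LocalizedModule.smul'_mk, mk_eq_zero_iff'] at this
    obtain ⟨c, hc⟩ := this
    exact ⟨c, hc⟩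
  choose! c hc using h1
  refine ⟨∏ g ∈ G, c g, fun a ha => ?_⟩
  rw [← hG] at ha
  refine Submodule.span_induction (p := fun a _ => a • ((∏ g ∈ G, c g : S) : A) • y = 0)
    ?_ ?_ ?_ ?_ ha
  · intro g hg
    have hg' : g ∈ G := hg
    rw [← Finset.mul_prod_erase G c hg', Submonoid.coe_mul, mul_smul, smul_comm g, smul_comm g,
      smul_comm ((c g : S) : A), hc g hg', smul_zero]
  · rw [zero_smul]
  · intro a b _ _ ha hb
    rw [add_smul, ha, hb, add_zero]
  · intro r a _ ha
    rw [smul_eq_mul, mul_smul, ha, smul_zero]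

/-- from a primitive in the localization to a primitive up to an element of `S`. -/
theorem local_lemma (S : Submonoid A) {E₀ E₁ : Type u} [AddCommGroup E₀] [Module A E₀]
    [AddCommGroup E₁] [Module A E₁] (d : E₀ →ₗ[A] E₁) (u : E₁) (K : Ideal A)
    (w : LocalizedModule S E₀) (hw : ∀ a ∈ K, a • w = 0)
    (hdw : LocalizedModule.map S d w = LocalizedModule.mk u 1) :
    ∃ (t : A) (_ : t ∈ S) (z : E₀), (∀ a ∈ K, a • z = 0) ∧ d z = t • u := by
  induction w using LocalizedModule.induction_on with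
  | h y s =>
    rw [LocalizedModule.map_mk, LocalizedModule.mk_eq] at hdw
    obtain ⟨c, hc⟩ := hdw
    obtain ⟨v, hv⟩ := exists_smul_killed S K y s hw
    refine ⟨(v : A) * ((c : A) * (s : A)), S.mul_mem v.2 (S.mul_mem c.2 s.2), (c : A) • ((v : A) • y),
      fun a ha => ?_, ?_⟩
    · rw [smul_comm, hv a ha, smul_zero]
    · rw [one_smul] at hc
      have hc' : (c : A) • d y = (c : A) • ((s : A) • u) := hc
      rw [map_smul, map_smul, smul_comm, hc', mul_smul, mul_smul]


/-- **core lemma**: modify `u` by a boundary so that it becomes `T'`-torsion. -/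
theorem core_lemma (T T' : Set (PrimeSpectrum A))
    (hmin : ∀ q ∈ T, q ∉ T' → ∀ p ∈ T, p ≤ q → p = q)
    {E₀ E₁ : Type u} [AddCommGroup E₀] [Module A E₀] [AddCommGroup E₁] [Module A E₁]
    (hE₀ : Module.Injective A E₀) (d : E₀ →ₗ[A] E₁) (J : Ideal A)
    (hJ : PrimeSpectrum.zeroLocus (J : Set A) ⊆ T) (u : E₁)
    (hu : u ∈ gam (PrimeSpectrum.zeroLocus (J : Set A)) E₁)
    (H : ∀ p : PrimeSpectrum A, p ∈ T → p ∉ T' → J ≤ p.asIdeal →
      ∃ (t : A) (_ : t ∉ p.asIdeal) (z : E₀),
        z ∈ gam (PrimeSpectrum.zeroLocus (J : Set A)) E₀ ∧ d z = t • u) :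
    ∃ y : E₀, y ∈ gam (PrimeSpectrum.zeroLocus (J : Set A)) E₀ ∧ u - d y ∈ gam T' E₁ := by
  classical
  set W := PrimeSpectrum.zeroLocus (J : Set A) with hW
  let 𝔟 : Ideal A := (Submodule.map d (gam W E₀)).colon {u}
  have hmem𝔟 : ∀ t : A, t ∈ 𝔟 ↔ ∃ z ∈ gam W E₀, d z = t • u := by
    intro t
    show t ∈ (Submodule.map d (gam W E₀)).colon {u} ↔ _
    rw [Submodule.mem_colon_singleton, Submodule.mem_map]
  have hfin : (J.minimalPrimes).Finite := Ideal.finite_minimalPrimes_of_isNoetherianRing A J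
  let Pset : Finset (Ideal A) := hfin.toFinset.filter
    (fun p => ∀ hp : p.IsPrime, (⟨p, hp⟩ : PrimeSpectrum A) ∉ T')
  have hPprime : ∀ p ∈ Pset, p.IsPrime := by
    intro p hp
    have : p ∈ J.minimalPrimes := by
      have := (Finset.mem_filter.1 hp).1
      exact hfin.mem_toFinset.1 this
    exact this.1.1
  have hnot : ∀ p ∈ Pset, ¬ 𝔟 ≤ p := by
    intro p hp hle
    have hpm : p ∈ J.minimalPrimes := hfin.mem_toFinset.1 (Finset.mem_filter.1 hp).1
    have hpp : p.IsPrime := hpm.1.1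
    have hpT' : (⟨p, hpp⟩ : PrimeSpectrum A) ∉ T' := (Finset.mem_filter.1 hp).2 hpp
    have hpW : (⟨p, hpp⟩ : PrimeSpectrum A) ∈ W := by
      rw [hW, PrimeSpectrum.mem_zeroLocus]
      exact hpm.1.2
    obtain ⟨t, htp, z, hz, hdz⟩ := H ⟨p, hpp⟩ (hJ hpW) hpT' hpm.1.2
    exact htp (hle ((hmem𝔟 t).2 ⟨z, hz, hdz⟩))
  have havoid : ¬ ((𝔟 : Set A) ⊆ ⋃ p ∈ (Pset : Set (Ideal A)), (p : Set A)) := by
    intro hsub
    have := (Ideal.subset_union_prime (s := Pset) (f := fun p => p) ⊥ ⊥
      (fun p hp _ _ => hPprime p hp) (I := 𝔟)).1 hsub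
    obtain ⟨p, hp, hle⟩ := this
    exact hnot p hp hle
  obtain ⟨f, hf𝔟, hfP⟩ := Set.not_subset.1 havoid
  have hfP' : ∀ p ∈ Pset, f ∉ p := by
    intro p hp hfp
    apply hfP
    simp only [Set.mem_iUnion]
    exact ⟨p, hp, hfp⟩
  obtain ⟨z, hz, hdz⟩ := (hmem𝔟 f).1 hf𝔟
  obtain ⟨y, k, hyk⟩ := exists_div (gam_baer W E₀ hE₀) (⟨z, hz⟩ : gam W E₀) f
  have hyk' : f ^ (k + 1) • (y : E₀) = f ^ k • z := by
    have := congrArg Subtype.val hyk
    simpa using this
  refine ⟨y, y.2, ?_⟩
  have hu₁W : u - d y ∈ gam W E₁ := (gam W E₁).sub_mem hu (map_mem_gam d y.2)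
  have hfu₁ : f ^ (k + 1) • (u - d y) = 0 := by
    rw [smul_sub, ← map_smul, hyk', map_smul, hdz, smul_smul, ← pow_succ, sub_self]
  obtain ⟨J₁, hJ₁, hJ₁u⟩ := mem_gam.1 hu₁W
  rw [mem_gam]
  refine ⟨J₁ ⊔ Ideal.span {f ^ (k + 1)}, ?_, ?_⟩
  · intro q hq
    rw [PrimeSpectrum.zeroLocus_sup] at hq
    have hqW : q ∈ W := hJ₁ hq.1
    have hqJ : J ≤ q.asIdeal := by
      rw [hW, PrimeSpectrum.mem_zeroLocus] at hqW
      exact hqW
    have hfq : f ∈ q.asIdeal := by
      have h2 := hq.2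
      rw [PrimeSpectrum.mem_zeroLocus] at h2
      have : f ^ (k + 1) ∈ q.asIdeal := h2 (Ideal.subset_span rfl)
      exact q.isPrime.mem_of_pow_mem _ this
    by_contra hqT'
    obtain ⟨p, hpm, hpq⟩ := Ideal.exists_minimalPrimes_le hqJ
    have hpp : p.IsPrime := hpm.1.1
    have hpW : (⟨p, hpp⟩ : PrimeSpectrum A) ∈ W := by
      rw [hW, PrimeSpectrum.mem_zeroLocus]
      exact hpm.1.2
    have heq : (⟨p, hpp⟩ : PrimeSpectrum A) = q :=
      hmin q (hJ hqW) hqT' ⟨p, hpp⟩ (hJ hpW) hpq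
    have hqm : q.asIdeal ∈ Pset := by
      rw [Finset.mem_filter]
      refine ⟨hfin.mem_toFinset.2 ?_, fun hp' => ?_⟩
      · rw [← heq]
        exact hpm
      · exact hqT'
    exact hfP' _ hqm hfq
  · intro a ha
    obtain ⟨a₁, ha₁, a₂, ha₂, rfl⟩ := Submodule.mem_sup.1 ha
    obtain ⟨b, rfl⟩ := Ideal.mem_span_singleton'.1 ha₂
    rw [add_smul, hJ₁u a₁ ha₁, zero_add, mul_smul, hfu₁, smul_zero]

end Groth.Agent.Lib.helper19.HTSeq4
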