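import Mathlib
import Groth.Agent.Lib.Helper19.HTSeq2
import Groth.Agent.Lib.Helper19.HTSeq3
import Groth.Agent.Lib.Helper19.HTSeq4

/-! (helper19) The exact sequence `H^i_{T'} → H^i_T → ∏_{p minimal in T} H^i_{pA_p}` at the level of cocycle classes
(Noetherian ring, `T' ⊆ T` with `T ∖ T'` consisting of minimal points of `T`): `Tp`, `killed_mk`,
`zeroLocus_map_subset_Tp`, `locCls`, `map_locCls`, `exists_primitive`, `up`, `alpha` (middle exactness), `beta`
(exactness at `H_{T'}`, relative form). -/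
set_option autoImplicit false
universe u
open CategoryTheory CategoryTheory.Limits Opposite

namespace Groth.Agent.Lib.helper19.HTSeq5
open Groth.Agent.Lib.helper23.HDT Groth.Agent.Lib.helper19.HTSeq1 Groth.Agent.Lib.helper19.HTSeq2
  Groth.Agent.Lib.helper19.HTSeq3 Groth.Agent.Lib.helper19.HTSeq4 Groth.Agent.Lib.helper19.TorsT

variable {A : Type u} [CommRing A]

/-- the closed point of `Spec A_p`. -/
abbrev Tp (p : PrimeSpectrum A) : Set (PrimeSpectrum (Localization p.asIdeal.primeCompl)) :=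
  PrimeSpectrum.zeroLocus
    ((IsLocalRing.maximalIdeal (Localization.AtPrime p.asIdeal) : Ideal _) : Set _)

lemma killed_mk (S : Submonoid A) {E : ModuleCat.{u} A} (J : Ideal A) (u : E) (hu : Killed J u) :
    Killed (E := (Lf S).obj E) (J.map (algebraMap A (Localization S)))
      (LocalizedModule.mk u 1 : LocalizedModule S E) := by
  intro b hb
  refine Submodule.span_induction
    (p := fun b _ => b • (LocalizedModule.mk u 1 : LocalizedModule S E) = 0) ?_ ?_ ?_ ?_ hb
  · rintro _ ⟨a, ha, rfl⟩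
    rw [algebraMap_smul, LocalizedModule.smul'_mk, hu a ha, LocalizedModule.zero_mk]
  · rw [zero_smul]
  · intro a b _ _ ha hb
    rw [add_smul, ha, hb, add_zero]
  · intro r a _ ha
    rw [smul_eq_mul, mul_smul, ha, smul_zero]

lemma zeroLocus_map_subset_Tp (T : Set (PrimeSpectrum A)) (p : PrimeSpectrum A)
    (hpmin : ∀ q ∈ T, q ≤ p → q = p) (J : Ideal A)
    (hJ : PrimeSpectrum.zeroLocus (J : Set A) ⊆ T) :
    PrimeSpectrum.zeroLocus
      ((J.map (algebraMap A (Localization p.asIdeal.primeCompl)) : Ideal _) : Set _) ⊆ Tp p := by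
  intro q' hq'
  rw [PrimeSpectrum.mem_zeroLocus] at hq' ⊢
  have hq'' : J.map (algebraMap A (Localization p.asIdeal.primeCompl)) ≤ q'.asIdeal := hq'
  let q : PrimeSpectrum A := PrimeSpectrum.comap (algebraMap A (Localization p.asIdeal.primeCompl)) q'
  have hJq : J ≤ q.asIdeal := Ideal.map_le_iff_le_comap.1 hq''
  have hqT : q ∈ T := hJ ((PrimeSpectrum.mem_zeroLocus _ _).2 hJq)
  have hqp : q ≤ p := by
    intro x hx
    by_contra hxp
    have hu : IsUnit (algebraMap A (Localization p.asIdeal.primeCompl) x) :=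
      IsLocalization.map_units (Localization p.asIdeal.primeCompl) (⟨x, hxp⟩ : p.asIdeal.primeCompl)
    exact q'.isPrime.ne_top (Ideal.eq_top_of_isUnit_mem _ hx hu)
  have heq : q = p := hpmin q hqT hqp
  have h1 : Ideal.map (algebraMap A (Localization.AtPrime p.asIdeal)) p.asIdeal ≤ q'.asIdeal := by
    rw [Ideal.map_le_iff_le_comap]
    intro x hx
    have : x ∈ q.asIdeal := by rw [heq]; exact hx
    exact this
  rw [Localization.AtPrime.map_eq_maximalIdeal] at h1
  exact h1


lemma clsJ_congr (T : Set (PrimeSpectrum A)) {i : ℕ} {M : ModuleCat.{u} A}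
    (R : InjectiveResolution M) (J : Dual2.IdealsIn T) {x y : R.cocomplex.X i} (h : x = y)
    (hx : Killed J.obj x) (hd : (R.cocomplex.d i (i + 1)) x = 0) (hy : Killed J.obj y)
    (hd' : (R.cocomplex.d i (i + 1)) y = 0) :
    clsJ T R J x hx hd = clsJ T R J y hy hd' := by
  subst h; rfl

section Loc
variable [IsNoetherianRing A] (p : PrimeSpectrum A) {M : ModuleCat.{u} A}
  (R : InjectiveResolution M)

lemma locRes_d_mk (S : Submonoid A) (n m : ℕ) (x : R.cocomplex.X n) (s : S) :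
    ((locRes S R).cocomplex.d n m) (LocalizedModule.mk x s : LocalizedModule S (R.cocomplex.X n)) =
      (LocalizedModule.mk ((R.cocomplex.d n m) x) s : LocalizedModule S (R.cocomplex.X m)) :=
  Lf_map_mk S (R.cocomplex.d n m) x s

/-- the local class at `p` of an element which becomes a cocycle in the localization. -/
noncomputable def locCls (J : Ideal A)
    (hJp : PrimeSpectrum.zeroLocus
      ((J.map (algebraMap A (Localization p.asIdeal.primeCompl)) : Ideal _) : Set _) ⊆ Tp p)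
    (n : ℕ) (x : R.cocomplex.X n) (hx : Killed J x)
    (hdx : ((locRes p.asIdeal.primeCompl R).cocomplex.d n (n + 1))
      (LocalizedModule.mk x 1 : LocalizedModule p.asIdeal.primeCompl (R.cocomplex.X n)) = 0) :
    ((HTf (Tp p) n).obj ((Lf p.asIdeal.primeCompl).obj M) :
      ModuleCat.{u} (Localization p.asIdeal.primeCompl)) :=
  clsJ (Tp p) (locRes p.asIdeal.primeCompl R) (mkI (Tp p) _ hJp)
    (LocalizedModule.mk x 1 : LocalizedModule p.asIdeal.primeCompl (R.cocomplex.X n))
    (killed_mk p.asIdeal.primeCompl J x hx) hdx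

lemma map_locCls {M' : ModuleCat.{u} A} {R' : InjectiveResolution M'} {g : M ⟶ M'}
    (φ : InjectiveResolution.Hom R R' g) (J : Ideal A)
    (hJp : PrimeSpectrum.zeroLocus
      ((J.map (algebraMap A (Localization p.asIdeal.primeCompl)) : Ideal _) : Set _) ⊆ Tp p)
    (n : ℕ) (x : R.cocomplex.X n) (hx : Killed J x)
    (hdx : ((locRes p.asIdeal.primeCompl R).cocomplex.d n (n + 1))
      (LocalizedModule.mk x 1 : LocalizedModule p.asIdeal.primeCompl (R.cocomplex.X n)) = 0)
    (hdx' : ((locRes p.asIdeal.primeCompl R').cocomplex.d n (n + 1))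
      (LocalizedModule.mk ((φ.hom.f n) x) 1 :
        LocalizedModule p.asIdeal.primeCompl (R'.cocomplex.X n)) = 0) :
    ((HTf (Tp p) n).map ((Lf p.asIdeal.primeCompl).map g)) (locCls p R J hJp n x hx hdx) =
      locCls p R' J hJp n ((φ.hom.f n) x) (hx.map _) hdx' := by
  unfold locCls
  rw [map_clsJ (Tp p) (locRes p.asIdeal.primeCompl R) (locHom p.asIdeal.primeCompl R φ)]
  exact clsJ_congr (Tp p) _ _ (Lf_map_mk p.asIdeal.primeCompl (φ.hom.f n) x 1) _ _ _ _


/-- if the local class at `p` vanishes then the element is a boundary of a `V(J)`-torsion element up to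
a scalar outside `p`. -/
theorem exists_primitive (J : Ideal A) (hJle : J ≤ p.asIdeal)
    (hJp : PrimeSpectrum.zeroLocus
      ((J.map (algebraMap A (Localization p.asIdeal.primeCompl)) : Ideal _) : Set _) ⊆ Tp p)
    (n : ℕ) (x : R.cocomplex.X n) (hx : Killed J x)
    (hdx : ((locRes p.asIdeal.primeCompl R).cocomplex.d n (n + 1))
      (LocalizedModule.mk x 1 : LocalizedModule p.asIdeal.primeCompl (R.cocomplex.X n)) = 0)
    (h0 : locCls p R J hJp n x hx hdx = 0) :
    ∃ (t : A) (_ : t ∉ p.asIdeal) (z : R.cocomplex.X (n - 1)),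
      z ∈ gam (PrimeSpectrum.zeroLocus (J : Set A)) (R.cocomplex.X (n - 1)) ∧
        (R.cocomplex.d (n - 1) n) z = t • x := by
  unfold locCls at h0
  rw [clsJ_eq_zero_iff] at h0
  obtain ⟨J'', _, w₀, hw, hdw⟩ := h0
  let w : LocalizedModule p.asIdeal.primeCompl (R.cocomplex.X (n - 1)) := w₀
  have hrad : IsLocalRing.maximalIdeal (Localization.AtPrime p.asIdeal) ≤ J''.obj.radical :=
    (PrimeSpectrum.zeroLocus_subset_zeroLocus_iff _ _).1 J''.property
  have hJm : J.map (algebraMap A (Localization.AtPrime p.asIdeal)) ≤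
      IsLocalRing.maximalIdeal (Localization.AtPrime p.asIdeal) := by
    rw [Ideal.map_le_iff_le_comap]
    have h1 := IsLocalization.AtPrime.under_maximalIdeal (Localization.AtPrime p.asIdeal) p.asIdeal
    intro a ha
    have h2 : a ∈ (IsLocalRing.maximalIdeal (Localization.AtPrime p.asIdeal)).under A := by
      rw [h1]; exact hJle ha
    exact h2
  have hfg : (J.map (algebraMap A (Localization.AtPrime p.asIdeal))).FG :=
    Ideal.FG.map ((isNoetherianRing_iff_ideal_fg A).1 inferInstance J) _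
  obtain ⟨m, hm⟩ := Ideal.exists_pow_le_of_le_radical_of_fg (hJm.trans hrad) hfg
  have hw' : ∀ a ∈ J ^ (m + 1), a • w = 0 := by
    intro a ha
    have h1 : algebraMap A (Localization.AtPrime p.asIdeal) a ∈ J''.obj := by
      apply hm
      have h2 : algebraMap A (Localization.AtPrime p.asIdeal) a ∈
          (J.map (algebraMap A (Localization.AtPrime p.asIdeal))) ^ (m + 1) := by
        rw [← Ideal.map_pow]
        exact Ideal.mem_map_of_mem _ ha
      exact Ideal.pow_le_pow_right (Nat.le_succ m) h2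
    have h3 : algebraMap A (Localization.AtPrime p.asIdeal) a • w = 0 := hw _ h1
    rw [← algebraMap_smul (Localization.AtPrime p.asIdeal) a w]
    exact h3
  have hdw' : LocalizedModule.map p.asIdeal.primeCompl (R.cocomplex.d (n - 1) n).hom w =
      LocalizedModule.mk x 1 := hdw
  obtain ⟨t, ht, z, hz, hdz⟩ := local_lemma p.asIdeal.primeCompl (R.cocomplex.d (n - 1) n).hom x
    (J ^ (m + 1)) w hw' hdw'
  refine ⟨t, fun htp => ht htp, z, ?_, hdz⟩
  rw [mem_gam]
  refine ⟨J ^ (m + 1), ?_, hz⟩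
  rw [PrimeSpectrum.zeroLocus_pow _ (Nat.succ_ne_zero m)]

end Loc


section AlphaBeta
variable [IsNoetherianRing A] (T T' : Set (PrimeSpectrum A)) (hT'T : T' ⊆ T)
  (hmin : ∀ q ∈ T, q ∉ T' → ∀ p ∈ T, p ≤ q → p = q)

/-- lift an ideal of `IdealsIn T'` to `IdealsIn T`. -/
def up (J' : Dual2.IdealsIn T') : Dual2.IdealsIn T := mkI T J'.obj (J'.property.trans hT'T)

lemma d_d_apply {M : ModuleCat.{u} A} (R : InjectiveResolution M) (a b c : ℕ)
    (x : R.cocomplex.X a) : (R.cocomplex.d b c) ((R.cocomplex.d a b) x) = 0 := by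
  have := congrArg (fun t => t x) (R.cocomplex.d_comp_d a b c)
  exact this

include hmin in
/-- **middle exactness**: a class in `H^i_T` all of whose local classes at the minimal points of `T`
vanish comes from `H^i_{T'}`. -/
theorem alpha {M : ModuleCat.{u} A} (R : InjectiveResolution M) (i : ℕ) (J : Dual2.IdealsIn T)
    (e : R.cocomplex.X i) (he : Killed J.obj e) (hd : (R.cocomplex.d i (i + 1)) e = 0)
    (Hloc : ∀ p : PrimeSpectrum A, p ∈ T → p ∉ T' → J.obj ≤ p.asIdeal →
      ∀ hJp hdx, locCls p R J.obj hJp i e he hdx = 0) :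
    ∃ (J' : Dual2.IdealsIn T') (e₁ : R.cocomplex.X i) (he₁ : Killed J'.obj e₁)
      (hd₁ : (R.cocomplex.d i (i + 1)) e₁ = 0),
      clsJ T R J e he hd = clsJ T R (up T T' hT'T J') e₁ he₁ hd₁ := by
  have hE₀ : Module.Injective A (R.cocomplex.X (i - 1)) :=
    Module.injective_module_of_injective_object A (R.cocomplex.X (i - 1)) (inj := R.injective (i - 1))
  have hu : e ∈ gam (PrimeSpectrum.zeroLocus (J.obj : Set A)) (R.cocomplex.X i) :=
    mem_gam.2 ⟨J.obj, subset_rfl, he⟩
  have H : ∀ p : PrimeSpectrum A, p ∈ T → p ∉ T' → J.obj ≤ p.asIdeal →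
      ∃ (t : A) (_ : t ∉ p.asIdeal) (z : R.cocomplex.X (i - 1)),
        z ∈ gam (PrimeSpectrum.zeroLocus (J.obj : Set A)) (R.cocomplex.X (i - 1)) ∧
          (R.cocomplex.d (i - 1) i).hom z = t • e := by
    intro p hp hpT' hle
    have hpmin : ∀ q ∈ T, q ≤ p → q = p := hmin p hp hpT'
    have hJp := zeroLocus_map_subset_Tp T p hpmin J.obj J.property
    have hdx : ((locRes p.asIdeal.primeCompl R).cocomplex.d i (i + 1))
        (LocalizedModule.mk e 1 : LocalizedModule p.asIdeal.primeCompl (R.cocomplex.X i)) = 0 := by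
      rw [locRes_d_mk, hd, LocalizedModule.zero_mk]
      rfl
    exact exists_primitive p R J.obj hle hJp i e he hdx (Hloc p hp hpT' hle hJp hdx)
  obtain ⟨y, hy, hmem⟩ := core_lemma T T' hmin hE₀ (R.cocomplex.d (i - 1) i).hom J.obj J.property
    e hu H
  obtain ⟨J₁, hJ₁, hk₁⟩ := mem_gam.1 hmem
  obtain ⟨J₂, hJ₂, hk₂⟩ := mem_gam.1 hy
  have hd₁ : (R.cocomplex.d i (i + 1)) (e - (R.cocomplex.d (i - 1) i).hom y) = 0 := by
    rw [map_sub, hd]
    have := d_d_apply R (i - 1) i (i + 1) y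
    rw [sub_eq_zero]
    exact this.symm
  refine ⟨mkI T' J₁ hJ₁, e - (R.cocomplex.d (i - 1) i).hom y, hk₁, hd₁, ?_⟩
  let J₂' : Dual2.IdealsIn T := mkI T J₂ (hJ₂.trans J.property)
  let J₃ : Dual2.IdealsIn T := infI (infI J (up T T' hT'T (mkI T' J₁ hJ₁))) J₂'
  have h3J : J₃.obj ≤ J.obj := inf_le_left.trans inf_le_left
  have h3J₁ : J₃.obj ≤ (up T T' hT'T (mkI T' J₁ hJ₁)).obj := inf_le_left.trans inf_le_right
  have h3J₂ : J₃.obj ≤ J₂ := inf_le_right
  rw [← clsJ_mono T R h3J e he hd, ← clsJ_mono T R h3J₁ _ hk₁ hd₁, ← sub_eq_zero, clsJ_sub,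
    clsJ_eq_zero_iff]
  refine ⟨J₃, le_rfl, y, fun a ha => hk₂ a (h3J₂ ha), ?_⟩
  rw [sub_sub_cancel]


lemma hom_comm_apply {M N : ModuleCat.{u} A} {R : InjectiveResolution M}
    {R' : InjectiveResolution N} {g : M ⟶ N} (φ : InjectiveResolution.Hom R R' g) (a b : ℕ)
    (x : R.cocomplex.X a) :
    (R'.cocomplex.d a b) ((φ.hom.f a) x) = (φ.hom.f b) ((R.cocomplex.d a b) x) := by
  have := congrArg (fun t => t x) (φ.hom.comm a b)
  exact this

include hmin in
/-- **exactness at `H^i_{T'}`** (relative form): if the maps on local cohomology in degree `j` at the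
minimal points of `T` vanish for `g : M ⟶ N`, then a class of `H^{j+1}_{T'}(M)` dying in
`H^{j+1}_T(M)` dies in `H^{j+1}_{T'}(N)`. -/
theorem beta {M N : ModuleCat.{u} A} {R : InjectiveResolution M} {R' : InjectiveResolution N}
    {g : M ⟶ N} (φ : InjectiveResolution.Hom R R' g) (j : ℕ)
    (Hloc : ∀ p : PrimeSpectrum A, p ∈ T → p ∉ T' →
      (HTf (Tp p) j).map ((Lf p.asIdeal.primeCompl).map g) = 0)
    (J' : Dual2.IdealsIn T') (e : R.cocomplex.X (j + 1)) (he : Killed J'.obj e)
    (hd : (R.cocomplex.d (j + 1) (j + 1 + 1)) e = 0)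
    (hzero : clsJ T R (up T T' hT'T J') e he hd = 0)
    (hd' : (R'.cocomplex.d (j + 1) (j + 1 + 1)) ((φ.hom.f (j + 1)) e) = 0) :
    clsJ T' R' J' ((φ.hom.f (j + 1)) e) (he.map _) hd' = 0 := by
  rw [clsJ_eq_zero_iff] at hzero
  obtain ⟨J₀, hle, (e' : R.cocomplex.X j), he',
    (hde' : (R.cocomplex.d j (j + 1)) e' = e)⟩ := hzero
  have hle' : J₀.obj ≤ J'.obj := hle
  have hE₀ : Module.Injective A (R'.cocomplex.X (j - 1)) :=
    Module.injective_module_of_injective_object A (R'.cocomplex.X (j - 1))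
      (inj := R'.injective (j - 1))
  have hu : (φ.hom.f j) e' ∈ gam (PrimeSpectrum.zeroLocus (J₀.obj : Set A)) (R'.cocomplex.X j) :=
    mem_gam.2 ⟨J₀.obj, subset_rfl, he'.map _⟩
  have H : ∀ p : PrimeSpectrum A, p ∈ T → p ∉ T' → J₀.obj ≤ p.asIdeal →
      ∃ (t : A) (_ : t ∉ p.asIdeal) (z : R'.cocomplex.X (j - 1)),
        z ∈ gam (PrimeSpectrum.zeroLocus (J₀.obj : Set A)) (R'.cocomplex.X (j - 1)) ∧
          (R'.cocomplex.d (j - 1) j).hom z = t • (φ.hom.f j) e' := by
    intro p hp hpT' hlep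
    have hpmin : ∀ q ∈ T, q ≤ p → q = p := hmin p hp hpT'
    have hJp := zeroLocus_map_subset_Tp T p hpmin J₀.obj J₀.property
    have hnle : ¬ J'.obj ≤ p.asIdeal := fun h =>
      hpT' (J'.property ((PrimeSpectrum.mem_zeroLocus _ _).2 h))
    obtain ⟨a, haJ, hap⟩ := SetLike.not_le_iff_exists.1 hnle
    have hdx : ((locRes p.asIdeal.primeCompl R).cocomplex.d j (j + 1))
        (LocalizedModule.mk e' 1 : LocalizedModule p.asIdeal.primeCompl (R.cocomplex.X j)) = 0 := by
      rw [locRes_d_mk, hde']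
      exact (mk_eq_zero_iff' p.asIdeal.primeCompl e 1).2 ⟨⟨a, hap⟩, he a haJ⟩
    have hdx' : ((locRes p.asIdeal.primeCompl R').cocomplex.d j (j + 1))
        (LocalizedModule.mk ((φ.hom.f j) e') 1 :
          LocalizedModule p.asIdeal.primeCompl (R'.cocomplex.X j)) = 0 := by
      rw [locRes_d_mk, hom_comm_apply φ j (j + 1) e', hde']
      refine (mk_eq_zero_iff' p.asIdeal.primeCompl _ 1).2 ⟨⟨a, hap⟩, ?_⟩
      show a • (φ.hom.f (j + 1)) e = 0
      rw [← map_smul, he a haJ, map_zero]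
    have h1 := map_locCls p R φ J₀.obj hJp j e' he' hdx hdx'
    rw [Hloc p hp hpT'] at h1
    have h0 : locCls p R' J₀.obj hJp j ((φ.hom.f j) e') (he'.map _) hdx' = 0 := h1.symm
    exact exists_primitive p R' J₀.obj hlep hJp j ((φ.hom.f j) e') (he'.map _) hdx' h0
  obtain ⟨y, hy, hmem⟩ := core_lemma T T' hmin hE₀ (R'.cocomplex.d (j - 1) j).hom J₀.obj
    J₀.property ((φ.hom.f j) e') hu H
  obtain ⟨J₃, hJ₃, hk₃⟩ := mem_gam.1 hmem
  rw [clsJ_eq_zero_iff]
  refine ⟨infI (mkI T' J₃ hJ₃) J', inf_le_right,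
    ((φ.hom.f j) e' - (R'.cocomplex.d (j - 1) j).hom y : R'.cocomplex.X j),
    fun a ha => hk₃ a (inf_le_left (a := J₃) (b := J'.obj) ha), ?_⟩
  show (R'.cocomplex.d j (j + 1)) ((φ.hom.f j) e' - (R'.cocomplex.d (j - 1) j).hom y) = _
  rw [map_sub, hom_comm_apply φ j (j + 1) e', hde']
  have := d_d_apply R' (j - 1) j (j + 1) y
  rw [sub_eq_self]
  exact this

end AlphaBeta

end Groth.Agent.Lib.helper19.HTSeq5
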