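import Mathlib
import Groth.Agent.Lib.Helper19.HTSeq5
import Groth.Agent.Lib.Helper23.Falt15

/-! (helper19) Pro-zero-ness of `H^i_T(M_n)` from uniform local pro-zero-ness (Stacks 52.10.1): `nonMin T` (non-minimal
points), `ChainLT`, `chainLT_of_krullDim_le`, `chainLT_nonMin`, `res`, `resHom`, `clsJ_up_eq_zero`, `HT_empty_eq_zero`,
`step`, `iterate_le_iterate`, `proZero`, `HTf_Tp_map_eq_zero`. -/
set_option autoImplicit false
universe u
open CategoryTheory CategoryTheory.Limits Opposite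

namespace Groth.Agent.Lib.helper19.HTSeq6
open Groth.Agent.Lib.helper23.HDT Groth.Agent.Lib.helper19.HTSeq1 Groth.Agent.Lib.helper19.HTSeq2
  Groth.Agent.Lib.helper19.HTSeq3 Groth.Agent.Lib.helper19.HTSeq4 Groth.Agent.Lib.helper19.HTSeq5
  Groth.Agent.Lib.helper19.TorsT

variable {A : Type u} [CommRing A]

/-- the non-minimal points of `T`. -/
def nonMin (T : Set (PrimeSpectrum A)) : Set (PrimeSpectrum A) := {q | q ∈ T ∧ ∃ p ∈ T, p < q}

lemma nonMin_subset (T : Set (PrimeSpectrum A)) : nonMin T ⊆ T := fun _ h => h.1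

lemma nonMin_min (T : Set (PrimeSpectrum A)) :
    ∀ q ∈ T, q ∉ nonMin T → ∀ p ∈ T, p ≤ q → p = q := by
  intro q hq hqn p hp hpq
  by_contra hne
  exact hqn ⟨hq, p, hp, lt_of_le_of_ne hpq hne⟩

/-- all chains of `T` have length `< e`. -/
def ChainLT (T : Set (PrimeSpectrum A)) (e : ℕ) : Prop := ∀ s : LTSeries ↥T, s.length < e

lemma chainLT_of_krullDim_le (T : Set (PrimeSpectrum A)) (e : ℕ)
    (he : Order.krullDim ↥T ≤ (e : WithBot ℕ∞)) : ChainLT T (e + 1) := by
  intro s
  have h1 : (s.length : WithBot ℕ∞) ≤ Order.krullDim ↥T := Order.LTSeries.length_le_krullDim s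
  have h2 : (s.length : WithBot ℕ∞) ≤ (e : WithBot ℕ∞) := h1.trans he
  have h3 : s.length ≤ e := by exact_mod_cast h2
  omega

lemma chainLT_zero_eq_empty (T : Set (PrimeSpectrum A)) (h : ChainLT T 0) : T = ∅ := by
  rw [Set.eq_empty_iff_forall_notMem]
  intro q hq
  have := h (RelSeries.singleton _ (⟨q, hq⟩ : ↥T))
  omega

lemma chainLT_nonMin (T : Set (PrimeSpectrum A)) (e : ℕ) (h : ChainLT T (e + 1)) :
    ChainLT (nonMin T) e := by
  intro s
  -- map to a series in `T` and prepend a smaller point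
  let ι : ↥(nonMin T) → ↥T := fun q => ⟨q.1, q.2.1⟩
  have hι : StrictMono ι := fun a b hab => hab
  let s' : LTSeries ↥T := s.map ι hι
  obtain ⟨p, hp, hpq⟩ := (s.head).2.2
  have hlt : (⟨p, hp⟩ : ↥T) < s'.head := by
    show (⟨p, hp⟩ : ↥T) < ι s.head
    exact hpq
  have := h (s'.cons ⟨p, hp⟩ hlt)
  simp only [RelSeries.cons_length] at this
  show s.length < e
  have h2 : s'.length = s.length := rfl
  omega


section Sys
variable [IsNoetherianRing A]

/-- chosen injective resolution. -/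
noncomputable def res (M : ModuleCat.{u} A) : InjectiveResolution M := injectiveResolution M

/-- chosen lift of a morphism to the chosen resolutions. -/
noncomputable def resHom {M N : ModuleCat.{u} A} (g : M ⟶ N) :
    InjectiveResolution.Hom (res M) (res N) g :=
  ⟨InjectiveResolution.desc g (res N) (res M),
    HomologicalComplex.congr_hom (InjectiveResolution.desc_commutes g (res N) (res M)) 0⟩

/-- a class of `H_{T'}` which vanishes also vanishes in `H_T`. -/
lemma clsJ_up_eq_zero (T T' : Set (PrimeSpectrum A)) (hT'T : T' ⊆ T) {i : ℕ} {M : ModuleCat.{u} A}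
    (R : InjectiveResolution M) (J' : Dual2.IdealsIn T') (e : R.cocomplex.X i)
    (he : Killed J'.obj e) (hd : (R.cocomplex.d i (i + 1)) e = 0)
    (h : clsJ T' R J' e he hd = 0) : clsJ T R (up T T' hT'T J') e he hd = 0 := by
  rw [clsJ_eq_zero_iff] at h ⊢
  obtain ⟨J'', hle, v, hv, hdv⟩ := h
  exact ⟨up T T' hT'T J'', hle, v, hv, hdv⟩

/-- `H_∅ = 0`. -/
lemma HT_empty_eq_zero (i : ℕ) (M : ModuleCat.{u} A)
    (x : ((HTf (∅ : Set (PrimeSpectrum A)) i).obj M : ModuleCat.{u} A)) : x = 0 := by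
  obtain ⟨J, e, he, hd, rfl⟩ := clsJ_surj ∅ (res M) x
  have hJ : J.obj = ⊤ := by
    have := J.property
    rw [Set.subset_empty_iff, PrimeSpectrum.zeroLocus_empty_iff_eq_top] at this
    exact this
  have he0 : e = 0 := by
    have := he 1 (by rw [hJ]; trivial)
    rwa [one_smul] at this
  rw [clsJ_eq_zero_iff]
  refine ⟨J, le_rfl, 0, fun a _ => smul_zero a, ?_⟩
  rw [map_zero, he0]

variable (M : ℕ → Type u) [∀ n, AddCommGroup (M n)] [∀ n, Module A (M n)]
  (φ : ∀ k m : ℕ, m ≤ k → (M k →ₗ[A] M m))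
  (hφ : ∀ (k l m : ℕ) (h₁ : m ≤ l) (h₂ : l ≤ k), φ k m (h₁.trans h₂) = φ l m h₁ ∘ₗ φ k l h₂)

lemma le_iterate (m' : ℕ → ℕ) (hm' : ∀ m, m ≤ m' m) (c : ℕ) (m : ℕ) : m ≤ m'^[c] m := by
  induction c with
  | zero => exact le_rfl
  | succ c ih =>
    rw [Function.iterate_succ_apply']
    exact ih.trans (hm' _)

include hφ in
/-- the inductive step for pro-zero-ness. -/
theorem step (T : Set (PrimeSpectrum A)) (i : ℕ) (m' : ℕ → ℕ) (hm' : ∀ m, m ≤ m' m)
    (hloc : ∀ p ∈ T, ∀ (m k : ℕ) (h : m ≤ k), m' m ≤ k →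
      (HTf (Tp p) i).map ((Lf p.asIdeal.primeCompl).map (ModuleCat.ofHom (φ k m h))) = 0)
    (c : ℕ) (hc : ∀ (m k : ℕ) (h : m ≤ k), m'^[c] m ≤ k →
      (HTf (nonMin T) i).map (ModuleCat.ofHom (φ k m h)) = 0) :
    ∀ (m k : ℕ) (h : m ≤ k), m'^[c + 1] m ≤ k →
      (HTf T i).map (ModuleCat.ofHom (φ k m h)) = 0 := by
  intro m k h hk
  set l := m'^[c] m with hl
  have hml : m ≤ l := le_iterate m' hm' c m
  have hlk' : m' l ≤ k := by
    rw [Function.iterate_succ_apply'] at hk
    exact hk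
  have hlk : l ≤ k := (hm' l).trans hlk'
  have hcomp : ModuleCat.ofHom (φ k m h) =
      ModuleCat.ofHom (φ k l hlk) ≫ ModuleCat.ofHom (φ l m hml) := by
    rw [← ModuleCat.ofHom_comp, ← hφ k l m hml hlk]
  refine ModuleCat.hom_ext (LinearMap.ext fun x => ?_)
  rw [hcomp, Functor.map_comp]
  show ((HTf T i).map (ModuleCat.ofHom (φ l m hml)))
    (((HTf T i).map (ModuleCat.ofHom (φ k l hlk))) x) = 0
  obtain ⟨J, e, he, hd, rfl⟩ := clsJ_surj T (res (ModuleCat.of A (M k))) x
  rw [map_clsJ T _ (resHom (ModuleCat.ofHom (φ k l hlk)))]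
  -- apply middle exactness
  obtain ⟨J', e₁, he₁, hd₁, heq⟩ := alpha T (nonMin T) (nonMin_subset T) (nonMin_min T)
    (res (ModuleCat.of A (M l))) i J _ (he.map _) _ (by
      intro p hp hpT' hle hJp hdx
      have hdx0 : ((locRes p.asIdeal.primeCompl (res (ModuleCat.of A (M k)))).cocomplex.d i (i + 1))
          (LocalizedModule.mk e 1 : LocalizedModule p.asIdeal.primeCompl
            ((res (ModuleCat.of A (M k))).cocomplex.X i)) = 0 := by
        rw [locRes_d_mk, hd, LocalizedModule.zero_mk]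
        rfl
      have h1 := map_locCls p (res (ModuleCat.of A (M k))) (resHom (ModuleCat.ofHom (φ k l hlk)))
        J.obj hJp i e he hdx0 hdx
      rw [hloc p hp l k hlk hlk'] at h1
      exact h1.symm)
  rw [heq, map_clsJ T _ (resHom (ModuleCat.ofHom (φ l m hml)))]
  apply clsJ_up_eq_zero
  have h2 := congrArg (fun t => t (clsJ (nonMin T) (res (ModuleCat.of A (M l))) J' e₁ he₁ hd₁))
    (hc m l hml le_rfl)
  have h3 : ((HTf (nonMin T) i).map (ModuleCat.ofHom (φ l m hml)))
      (clsJ (nonMin T) (res (ModuleCat.of A (M l))) J' e₁ he₁ hd₁) = 0 := h2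
  rw [map_clsJ (nonMin T) _ (resHom (ModuleCat.ofHom (φ l m hml)))] at h3
  exact h3


lemma iterate_le_iterate (m' : ℕ → ℕ) (hm' : ∀ m, m ≤ m' m) {a b : ℕ} (hab : a ≤ b) (m : ℕ) :
    m'^[a] m ≤ m'^[b] m := by
  obtain ⟨d, rfl⟩ := Nat.exists_eq_add_of_le hab
  rw [add_comm, Function.iterate_add_apply]
  exact le_iterate m' hm' d _

include hφ in
/-- pro-zero-ness of `H^i_T(M_n)` from uniform local pro-zero-ness, by induction on `dim T`. -/
theorem proZero (i : ℕ) (m' : ℕ → ℕ) (hm' : ∀ m, m ≤ m' m) (e : ℕ) :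
    ∀ (T : Set (PrimeSpectrum A)), ChainLT T e →
    (∀ p ∈ T, ∀ (m k : ℕ) (h : m ≤ k), m' m ≤ k →
      (HTf (Tp p) i).map ((Lf p.asIdeal.primeCompl).map (ModuleCat.ofHom (φ k m h))) = 0) →
    ∀ (m k : ℕ) (h : m ≤ k), m'^[e] m ≤ k →
      (HTf T i).map (ModuleCat.ofHom (φ k m h)) = 0 := by
  induction e with
  | zero =>
    intro T hT _ m k h _
    have hT0 := chainLT_zero_eq_empty T hT
    subst hT0
    refine ModuleCat.hom_ext (LinearMap.ext fun x => ?_)
    exact HT_empty_eq_zero i _ _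
  | succ e ih =>
    intro T hT hloc
    exact step M φ hφ T i m' hm' hloc e
      (ih (nonMin T) (chainLT_nonMin T e hT) (fun p hp => hloc p (nonMin_subset T hp)))

/-- transport of the local hypothesis from Mathlib's `localCohomology` to `H_{Tp}`. -/
lemma HTf_Tp_map_eq_zero (p : PrimeSpectrum A) (i : ℕ)
    {X Y : ModuleCat.{u} (Localization.AtPrime p.asIdeal)} (f : X ⟶ Y)
    (h : (localCohomology (IsLocalRing.maximalIdeal (Localization.AtPrime p.asIdeal)) i).map f = 0) :
    (HTf (Tp p) i).map f = 0 := by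
  haveI : IsNoetherianRing (Localization.AtPrime p.asIdeal) :=
    IsLocalization.isNoetherianRing p.asIdeal.primeCompl _ inferInstance
  let e := Groth.Agent.Lib.helper23.Falt.HTIsoH
    (IsLocalRing.maximalIdeal (Localization.AtPrime p.asIdeal)) i
  have h1 : (HTf (Tp p) i).map f = e.hom.app X ≫
      (localCohomology (IsLocalRing.maximalIdeal (Localization.AtPrime p.asIdeal)) i).map f ≫
        e.inv.app Y := by
    rw [← Category.assoc, ← e.hom.naturality f, Category.assoc, Iso.hom_inv_id_app,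
      Category.comp_id]
  rw [h1, h, zero_comp, comp_zero]

end Sys

end Groth.Agent.Lib.helper19.HTSeq6
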