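import Mathlib
import Groth.Agent.Lib.Helper19.HTSeq6

/-! # HTSeq7 (helper19): injectivity of essentially-constant image systems of `H^i_T`
Induction on the dimension of `T` for the *injectivity* statement (S8946): `locCls_eq_zero_of_clsJ_eq_zero`,
`beta0`, `Fmap_comp(_apply)`, `InjProp`, `stepInj`, `injProp`, `HTf_Tp_inj`. -/
set_option autoImplicit false
universe u
open CategoryTheory CategoryTheory.Limits Opposite

namespace Groth.Agent.Lib.helper19.HTSeq7
open Groth.Agent.Lib.helper23.HDT Groth.Agent.Lib.helper19.HTSeq1 Groth.Agent.Lib.helper19.HTSeq2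
  Groth.Agent.Lib.helper19.HTSeq3 Groth.Agent.Lib.helper19.HTSeq4 Groth.Agent.Lib.helper19.HTSeq5
  Groth.Agent.Lib.helper19.HTSeq6 Groth.Agent.Lib.helper19.TorsT

variable {A : Type u} [CommRing A] [IsNoetherianRing A]

/-- a global class which vanishes has vanishing local classes. -/
lemma locCls_eq_zero_of_clsJ_eq_zero (T : Set (PrimeSpectrum A)) (p : PrimeSpectrum A)
    (hpmin : ∀ q ∈ T, q ≤ p → q = p) {M : ModuleCat.{u} A} (R : InjectiveResolution M) (i : ℕ)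
    (J : Dual2.IdealsIn T) (x : R.cocomplex.X i) (hx : Killed J.obj x)
    (hd : (R.cocomplex.d i (i + 1)) x = 0) (h0 : clsJ T R J x hx hd = 0)
    (hJp : PrimeSpectrum.zeroLocus
      ((J.obj.map (algebraMap A (Localization p.asIdeal.primeCompl)) : Ideal _) : Set _) ⊆ Tp p)
    (hdx : ((locRes p.asIdeal.primeCompl R).cocomplex.d i (i + 1))
      (LocalizedModule.mk x 1 : LocalizedModule p.asIdeal.primeCompl (R.cocomplex.X i)) = 0) :
    locCls p R J.obj hJp i x hx hdx = 0 := by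
  rw [clsJ_eq_zero_iff] at h0
  obtain ⟨J'', hle, v, hv, hdv⟩ := h0
  unfold locCls
  rw [clsJ_eq_zero_iff]
  refine ⟨mkI (Tp p) (J''.obj.map (algebraMap A (Localization p.asIdeal.primeCompl)))
    (zeroLocus_map_subset_Tp T p hpmin J''.obj J''.property), Ideal.map_mono hle,
    (LocalizedModule.mk v 1 : LocalizedModule p.asIdeal.primeCompl (R.cocomplex.X (i - 1))),
    killed_mk p.asIdeal.primeCompl J''.obj v hv, ?_⟩
  rw [locRes_d_mk, hdv]

/-- degree zero: a class of `H^0_{T'}` dying in `H^0_T` is zero. -/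
lemma beta0 (T T' : Set (PrimeSpectrum A)) (hT'T : T' ⊆ T) {M : ModuleCat.{u} A}
    (R : InjectiveResolution M) (J' : Dual2.IdealsIn T') (e : R.cocomplex.X 0)
    (he : Killed J'.obj e) (hd : (R.cocomplex.d 0 (0 + 1)) e = 0)
    (h : clsJ T R (up T T' hT'T J') e he hd = 0) : clsJ T' R J' e he hd = 0 := by
  rw [clsJ_eq_zero_iff] at h ⊢
  obtain ⟨J'', _, v, _, hdv⟩ := h
  have h0 : R.cocomplex.d (0 - 1) 0 = 0 := by
    apply R.cocomplex.shape
    simp
  refine ⟨J', le_rfl, 0, fun a _ => smul_zero a, ?_⟩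
  rw [map_zero, ← hdv, h0]
  rfl


section Sys
variable (M : ℕ → Type u) [∀ n, AddCommGroup (M n)] [∀ n, Module A (M n)]
  (φ : ∀ k m : ℕ, m ≤ k → (M k →ₗ[A] M m))
  (hφ : ∀ (k l m : ℕ) (h₁ : m ≤ l) (h₂ : l ≤ k), φ k m (h₁.trans h₂) = φ l m h₁ ∘ₗ φ k l h₂)

include hφ in
lemma Fmap_comp {C : Type*} [Category C] (F : ModuleCat.{u} A ⥤ C) (a b c : ℕ) (h₁ : c ≤ b)
    (h₂ : b ≤ a) (h : c ≤ a) :
    F.map (ModuleCat.ofHom (φ a c h)) =
      F.map (ModuleCat.ofHom (φ a b h₂)) ≫ F.map (ModuleCat.ofHom (φ b c h₁)) := by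
  rw [← Functor.map_comp, ← ModuleCat.ofHom_comp, ← hφ a b c h₁ h₂]

include hφ in
lemma Fmap_comp_apply {B : Type u} [CommRing B] (F : ModuleCat.{u} A ⥤ ModuleCat.{u} B)
    (a b c : ℕ) (h₁ : c ≤ b) (h₂ : b ≤ a) (h : c ≤ a) (y : F.obj (ModuleCat.of A (M a))) :
    (F.map (ModuleCat.ofHom (φ a c h))) y =
      (F.map (ModuleCat.ofHom (φ b c h₁))) ((F.map (ModuleCat.ofHom (φ a b h₂))) y) := by
  rw [Fmap_comp M φ hφ F a b c h₁ h₂ h]
  rfl

/-- the injectivity property of the images (image form). -/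
def InjProp (T : Set (PrimeSpectrum A)) (i : ℕ) : Prop :=
  ∃ m₀ : ℕ, ∀ (m : ℕ) (hm : m₀ ≤ m), ∃ m'' : ℕ, m ≤ m'' ∧ ∀ (k : ℕ) (h : m ≤ k), m'' ≤ k →
    ∀ y : ((HTf T i).obj (ModuleCat.of A (M k)) : ModuleCat.{u} A),
      ((HTf T i).map (ModuleCat.ofHom (φ m m₀ hm)))
        (((HTf T i).map (ModuleCat.ofHom (φ k m h))) y) = 0 →
      ((HTf T i).map (ModuleCat.ofHom (φ k m h))) y = 0


include hφ in
/-- the inductive step for the injectivity property. -/
theorem stepInj (T : Set (PrimeSpectrum A)) (i : ℕ) (m' : ℕ → ℕ) (hm' : ∀ m, m ≤ m' m)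
    (hA1 : ∀ j : ℕ, i = j + 1 → ∀ p ∈ T, ∀ (m k : ℕ) (h : m ≤ k), m' m ≤ k →
      (HTf (Tp p) j).map ((Lf p.asIdeal.primeCompl).map (ModuleCat.ofHom (φ k m h))) = 0)
    (hD : ∀ p ∈ T, ∀ (m k : ℕ) (h : m ≤ k), m' m ≤ k →
      ∀ y : ((HTf (Tp p) i).obj ((Lf p.asIdeal.primeCompl).obj (ModuleCat.of A (M k))) :
        ModuleCat.{u} (Localization p.asIdeal.primeCompl)),
      ((HTf (Tp p) i).map ((Lf p.asIdeal.primeCompl).map (ModuleCat.ofHom (φ m 0 (Nat.zero_le m)))))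
        (((HTf (Tp p) i).map ((Lf p.asIdeal.primeCompl).map (ModuleCat.ofHom (φ k m h)))) y) = 0 →
      ((HTf (Tp p) i).map ((Lf p.asIdeal.primeCompl).map (ModuleCat.ofHom (φ k m h)))) y = 0)
    (hQ' : InjProp M φ (nonMin T) i) : InjProp M φ T i := by
  obtain ⟨m₀', hB⟩ := hQ'
  refine ⟨m' m₀', fun m hm => ?_⟩
  have hm0' : m₀' ≤ m := (hm' m₀').trans hm
  obtain ⟨m₁, hmm₁, hB'⟩ := hB m hm0'
  refine ⟨m' m₁, hmm₁.trans (hm' m₁), fun k h hk y hy => ?_⟩
  have hm₁k : m₁ ≤ k := (hm' m₁).trans hk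
  obtain ⟨J, e₃, he₃, hd₃, rfl⟩ := clsJ_surj T (res (ModuleCat.of A (M k))) y
  -- pass to level `m₁`
  rw [Fmap_comp_apply M φ hφ (HTf T i) k m₁ m hmm₁ hm₁k h] at hy ⊢
  rw [map_clsJ T _ (resHom (ModuleCat.ofHom (φ k m₁ hm₁k)))] at hy ⊢
  set e₁ := ((resHom (ModuleCat.ofHom (φ k m₁ hm₁k))).hom.f i) e₃ with he₁def
  -- the class at level `m₁` dies in level `0`
  have hzero0 : ∀ hk₁ hd₁, ((HTf T i).map (ModuleCat.ofHom (φ m₁ 0 (Nat.zero_le m₁))))
      (clsJ T (res (ModuleCat.of A (M m₁))) J e₁ hk₁ hd₁) = 0 := by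
    intro hk₁ hd₁
    rw [Fmap_comp_apply M φ hφ (HTf T i) m₁ m 0 (Nat.zero_le m) hmm₁ (Nat.zero_le m₁),
      Fmap_comp_apply M φ hφ (HTf T i) m (m' m₀') 0 (Nat.zero_le _) hm (Nat.zero_le m), hy, map_zero]
  have hk₁ : Killed J.obj e₁ := he₃.map _
  have hd₁ : ((res (ModuleCat.of A (M m₁))).cocomplex.d i (i + 1)) e₁ = 0 := by
    rw [he₁def, hom_comm_apply, hd₃, map_zero]
  -- middle exactness
  obtain ⟨J', e₁', he₁', hd₁', heq⟩ := alpha T (nonMin T) (nonMin_subset T) (nonMin_min T)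
    (res (ModuleCat.of A (M m₁))) i J e₁ hk₁ hd₁ (by
      intro p hp hpT' hle hJp hdx
      have hpmin : ∀ q ∈ T, q ≤ p → q = p := nonMin_min T p hp hpT'
      have hdx0 : ((locRes p.asIdeal.primeCompl (res (ModuleCat.of A (M k)))).cocomplex.d i (i + 1))
          (LocalizedModule.mk e₃ 1 : LocalizedModule p.asIdeal.primeCompl
            ((res (ModuleCat.of A (M k))).cocomplex.X i)) = 0 := by
        rw [locRes_d_mk, hd₃, LocalizedModule.zero_mk]
        rfl
      have h1 := map_locCls p (res (ModuleCat.of A (M k))) (resHom (ModuleCat.ofHom (φ k m₁ hm₁k)))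
        J.obj hJp i e₃ he₃ hdx0 hdx
      rw [← h1]
      apply hD p hp m₁ k hm₁k hk
      rw [h1]
      have hd₀ : ((res (ModuleCat.of A (M 0))).cocomplex.d i (i + 1))
          (((resHom (ModuleCat.ofHom (φ m₁ 0 (Nat.zero_le m₁)))).hom.f i) e₁) = 0 := by
        rw [hom_comm_apply, hd₁, map_zero]
      have hdx1 : ((locRes p.asIdeal.primeCompl (res (ModuleCat.of A (M 0)))).cocomplex.d i (i + 1))
          (LocalizedModule.mk (((resHom (ModuleCat.ofHom (φ m₁ 0 (Nat.zero_le m₁)))).hom.f i) e₁) 1 :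
            LocalizedModule p.asIdeal.primeCompl
              ((res (ModuleCat.of A (M 0))).cocomplex.X i)) = 0 := by
        rw [locRes_d_mk, hd₀, LocalizedModule.zero_mk]
        rfl
      rw [map_locCls p (res (ModuleCat.of A (M m₁)))
        (resHom (ModuleCat.ofHom (φ m₁ 0 (Nat.zero_le m₁)))) J.obj hJp i e₁ hk₁ hdx hdx1]
      apply locCls_eq_zero_of_clsJ_eq_zero T p hpmin (res (ModuleCat.of A (M 0))) i J _ (hk₁.map _)
        hd₀
      rw [← map_clsJ T (res (ModuleCat.of A (M m₁)))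
        (resHom (ModuleCat.ofHom (φ m₁ 0 (Nat.zero_le m₁)))) J e₁ hk₁ hd₁]
      exact hzero0 hk₁ hd₁)
  rw [heq] at hy ⊢
  rw [map_clsJ T _ (resHom (ModuleCat.ofHom (φ m₁ m hmm₁)))] at hy ⊢
  apply clsJ_up_eq_zero
  -- the class `b₀` in `H_{T'}`
  rw [← map_clsJ (nonMin T) _ (resHom (ModuleCat.ofHom (φ m₁ m hmm₁))) J' e₁' he₁' hd₁']
  apply hB' m₁ hmm₁ le_rfl
  rw [map_clsJ (nonMin T) _ (resHom (ModuleCat.ofHom (φ m₁ m hmm₁)))]
  rw [Fmap_comp_apply M φ hφ (HTf (nonMin T) i) m (m' m₀') m₀' (hm' m₀') hm hm0']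
  rw [map_clsJ (nonMin T) _ (resHom (ModuleCat.ofHom (φ m (m' m₀') hm)))]
  rw [map_clsJ T _ (resHom (ModuleCat.ofHom (φ m (m' m₀') hm)))] at hy
  obtain rfl | ⟨j, rfl⟩ : i = 0 ∨ ∃ j, i = j + 1 := by
    rcases Nat.eq_zero_or_eq_succ_pred i with h0 | h0
    · exact Or.inl h0
    · exact Or.inr ⟨_, h0⟩
  · rw [beta0 T (nonMin T) (nonMin_subset T) _ J' _ _ _ hy, map_zero]
  · rw [map_clsJ (nonMin T) _ (resHom (ModuleCat.ofHom (φ (m' m₀') m₀' (hm' m₀'))))]
    exact beta T (nonMin T) (nonMin_subset T) (nonMin_min T)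
      (resHom (ModuleCat.ofHom (φ (m' m₀') m₀' (hm' m₀')))) j
      (fun p hp _ => hA1 j rfl p hp m₀' (m' m₀') (hm' m₀') le_rfl) J' _ _ _ hy _


include hφ in
/-- the injectivity property by induction on the dimension of `T`. -/
theorem injProp (i : ℕ) (m' : ℕ → ℕ) (hm' : ∀ m, m ≤ m' m) (e : ℕ) :
    ∀ (T : Set (PrimeSpectrum A)), ChainLT T e →
    (∀ j : ℕ, i = j + 1 → ∀ p ∈ T, ∀ (m k : ℕ) (h : m ≤ k), m' m ≤ k →
      (HTf (Tp p) j).map ((Lf p.asIdeal.primeCompl).map (ModuleCat.ofHom (φ k m h))) = 0) →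
    (∀ p ∈ T, ∀ (m k : ℕ) (h : m ≤ k), m' m ≤ k →
      ∀ y : ((HTf (Tp p) i).obj ((Lf p.asIdeal.primeCompl).obj (ModuleCat.of A (M k))) :
        ModuleCat.{u} (Localization p.asIdeal.primeCompl)),
      ((HTf (Tp p) i).map ((Lf p.asIdeal.primeCompl).map (ModuleCat.ofHom (φ m 0 (Nat.zero_le m)))))
        (((HTf (Tp p) i).map ((Lf p.asIdeal.primeCompl).map (ModuleCat.ofHom (φ k m h)))) y) = 0 →
      ((HTf (Tp p) i).map ((Lf p.asIdeal.primeCompl).map (ModuleCat.ofHom (φ k m h)))) y = 0) →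
    InjProp M φ T i := by
  induction e with
  | zero =>
    intro T hT _ _
    have hT0 := chainLT_zero_eq_empty T hT
    subst hT0
    exact ⟨0, fun m _ => ⟨m, le_rfl, fun k h _ y _ => HT_empty_eq_zero i _ _⟩⟩
  | succ e ih =>
    intro T hT hA1 hD
    exact stepInj M φ hφ T i m' hm' hA1 hD
      (ih (nonMin T) (chainLT_nonMin T e hT)
        (fun j hj p hp => hA1 j hj p (nonMin_subset T hp))
        (fun p hp => hD p (nonMin_subset T hp)))

/-- transport of the local injectivity hypotheses from Mathlib's `localCohomology` to `H_{Tp}`. -/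
lemma HTf_Tp_inj (p : PrimeSpectrum A) (i : ℕ)
    {X Y Z W : ModuleCat.{u} (Localization.AtPrime p.asIdeal)} (f : X ⟶ Y) (f' : W ⟶ Y) (g : Y ⟶ Z)
    (h2 : LinearMap.range ((localCohomology (IsLocalRing.maximalIdeal
        (Localization.AtPrime p.asIdeal)) i).map f).hom =
      LinearMap.range ((localCohomology (IsLocalRing.maximalIdeal
        (Localization.AtPrime p.asIdeal)) i).map f').hom)
    (h3 : ∀ x : ↑((localCohomology (IsLocalRing.maximalIdeal
        (Localization.AtPrime p.asIdeal)) i).obj Y),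
      x ∈ LinearMap.range ((localCohomology (IsLocalRing.maximalIdeal
        (Localization.AtPrime p.asIdeal)) i).map f').hom →
      ((localCohomology (IsLocalRing.maximalIdeal
        (Localization.AtPrime p.asIdeal)) i).map g).hom x = 0 → x = 0)
    (y : ((HTf (Tp p) i).obj X : ModuleCat.{u} (Localization.AtPrime p.asIdeal)))
    (hy : ((HTf (Tp p) i).map g) (((HTf (Tp p) i).map f) y) = 0) :
    ((HTf (Tp p) i).map f) y = 0 := by
  haveI : IsNoetherianRing (Localization.AtPrime p.asIdeal) :=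
    IsLocalization.isNoetherianRing p.asIdeal.primeCompl _ inferInstance
  let e := Groth.Agent.Lib.helper23.Falt.HTIsoH
    (IsLocalRing.maximalIdeal (Localization.AtPrime p.asIdeal)) i
  have hnat : ∀ {U V : ModuleCat.{u} (Localization.AtPrime p.asIdeal)} (t : U ⟶ V)
      (z : ((HTf (Tp p) i).obj U : ModuleCat.{u} (Localization.AtPrime p.asIdeal))),
      (e.hom.app V) (((HTf (Tp p) i).map t) z) =
        ((localCohomology (IsLocalRing.maximalIdeal (Localization.AtPrime p.asIdeal)) i).map t)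
          ((e.hom.app U) z) := by
    intro U V t z
    have := congrArg (fun s => s z) (e.hom.naturality t)
    exact this
  have hinv : ∀ z : ((HTf (Tp p) i).obj Y : ModuleCat.{u} (Localization.AtPrime p.asIdeal)),
      (e.inv.app Y) ((e.hom.app Y) z) = z := by
    intro z
    have := congrArg (fun s => s z) (e.hom_inv_id_app Y)
    exact this
  have hinj : Function.Injective (e.hom.app Y) := by
    intro a b hab
    rw [← hinv a, ← hinv b, hab]
  apply hinj
  rw [map_zero]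
  apply h3
  · rw [← h2, hnat]
    exact ⟨_, rfl⟩
  · have := hnat g (((HTf (Tp p) i).map f) y)
    rw [hy, map_zero] at this
    exact this.symm

end Sys

end Groth.Agent.Lib.helper19.HTSeq7
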