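import Mathlib
import Groth.Prelude.Def_Wider
import Groth.Agent.Lib.Helper19.MatlisLen
import Groth.Agent.Lib.Helper19.RightExactIso
import Groth.Agent.Lib.Helper19.Gor1
import Groth.Agent.Lib.Helper19.ExtLen
import Groth.Agent.S0342
import Groth.Agent.S0323
import Groth.Agent.Lib.Helper26.ProjDimRegular
import Groth.Agent.Lib.Helper15.Regular
set_option autoImplicit false

/-! Lengths of `Hom(I, R/J)` over a regular local ring of dimension two:
`length Hom(I, R/J) + length R/(I:J) = length R/J + length R/I` for ideals of finite colength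
(`main`).  Tools: lengths in four term exact sequences (`length_four_term`), the low degree `Ext`
sequence with lengths (`length_hom_four`, `length_ext_connecting`), `Ext^n(X, A/J) ≅ W/JW` for
`W = Ext^n(X, A)` when `Ext^{n+1}(X, -) = 0` (`ker_qstar`, `length_ext_quot`), Matlis duality
`length W/JW = length M[J]` when `M ≅ Hom(W, E)` (`length_quot_smul_top`) and
`length (R/I)[J] + length R/(I:J) = length R/I` (`length_torsion_add_length_colon`). -/

universe u

namespace Groth.Agent.Lib.helper19.HomIdealLen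
open CategoryTheory IsLocalRing

section four
variable {A : Type*} [Ring A] {X₁ X₂ X₃ X₄ : Type*} [AddCommGroup X₁] [Module A X₁]
  [AddCommGroup X₂] [Module A X₂] [AddCommGroup X₃] [Module A X₃] [AddCommGroup X₄] [Module A X₄]

/-- lengths in a four term exact sequence -/
theorem length_four_term (a : X₁ →ₗ[A] X₂) (b : X₂ →ₗ[A] X₃) (c : X₃ →ₗ[A] X₄)
    (ha : Function.Injective a) (hab : Function.Exact a b) (hbc : Function.Exact b c)
    (hc : Function.Surjective c) :
    Module.length A X₁ + Module.length A X₃ = Module.length A X₂ + Module.length A X₄ := by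
  have h2 : Module.length A X₂ = Module.length A X₁ + Module.length A (LinearMap.range b) :=
    Module.length_eq_add_of_exact a b.rangeRestrict ha b.surjective_rangeRestrict (by
      intro y
      rw [← hab y]
      constructor
      · intro h; exact congrArg Subtype.val h
      · intro h; exact Subtype.ext h)
  have h3 : Module.length A X₃ = Module.length A (LinearMap.range b) + Module.length A X₄ :=
    Module.length_eq_add_of_exact (LinearMap.range b).subtype c (Submodule.injective_subtype _) hc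
      (by
        intro y
        rw [hbc y]
        constructor
        · rintro ⟨x, rfl⟩; exact ⟨⟨b x, x, rfl⟩, rfl⟩
        · rintro ⟨⟨_, x, rfl⟩, rfl⟩; exact ⟨x, rfl⟩)
  rw [h2, h3, add_assoc]

end four

section ExtLES
variable {A : Type u} [CommRing A] {S : ShortComplex (ModuleCat.{u} A)} (hS : S.ShortExact)
  (Y : ModuleCat.{u} A)

include hS in
/-- `0 → Hom(X₃,Y) → Hom(X₂,Y) → Hom(X₁,Y) → Ext¹(X₃,Y) → 0` when `Ext¹(X₂,Y) = 0` -/
theorem length_hom_four (h2 : ∀ z : Abelian.Ext.{u} S.X₂ Y 1, z = 0) :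
    Module.length A (Abelian.Ext.{u} S.X₃ Y 0) + Module.length A (Abelian.Ext.{u} S.X₁ Y 0) =
      Module.length A (Abelian.Ext.{u} S.X₂ Y 0) + Module.length A (Abelian.Ext.{u} S.X₃ Y 1) := by
  haveI : Epi S.g := hS.epi_g
  refine length_four_term
    (Abelian.Ext.precompOfLinear (Abelian.Ext.mk₀ S.g) A Y (zero_add 0))
    (Abelian.Ext.precompOfLinear (Abelian.Ext.mk₀ S.f) A Y (zero_add 0))
    (Abelian.Ext.precompOfLinear hS.extClass A Y (add_zero 1)) ?_ ?_ ?_ ?_
  · intro x y hxy
    exact Abelian.Ext.precomp_mk₀_injective_of_epi Y S.g hxy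
  · intro y
    constructor
    · intro hy
      obtain ⟨x, hx⟩ := Abelian.Ext.contravariant_sequence_exact₂ hS Y y hy
      exact ⟨x, hx⟩
    · rintro ⟨x, rfl⟩
      show (Abelian.Ext.mk₀ S.f).comp ((Abelian.Ext.mk₀ S.g).comp x (zero_add 0)) (zero_add 0) = 0
      rw [← Abelian.Ext.comp_assoc _ _ x (zero_add 0) (zero_add 0) (by lia),
        Abelian.Ext.mk₀_comp_mk₀, S.zero, Abelian.Ext.mk₀_zero, Abelian.Ext.zero_comp]
  · intro y
    constructor
    · intro hy
      obtain ⟨x, hx⟩ := Abelian.Ext.contravariant_sequence_exact₁ hS Y y (add_zero 1) hy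
      exact ⟨x, hx⟩
    · rintro ⟨x, rfl⟩
      show hS.extClass.comp ((Abelian.Ext.mk₀ S.f).comp x (zero_add 0)) (add_zero 1) = 0
      rw [← Abelian.Ext.comp_assoc _ _ x (add_zero 1) (zero_add 0) (by lia), hS.extClass_comp,
        Abelian.Ext.zero_comp]
  · intro z
    obtain ⟨x, hx⟩ := Abelian.Ext.contravariant_sequence_exact₃ hS Y z (h2 _) (add_zero 1)
    exact ⟨x, hx⟩

include hS in
/-- `Ext¹(X₃,Y)` is a quotient of `Hom(X₁,Y)` when `Ext¹(X₂,Y) = 0` -/
theorem length_ext_one_le (h2 : ∀ z : Abelian.Ext.{u} S.X₂ Y 1, z = 0) :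
    Module.length A (Abelian.Ext.{u} S.X₃ Y 1) ≤ Module.length A (Abelian.Ext.{u} S.X₁ Y 0) :=
  Module.length_le_of_surjective (Abelian.Ext.precompOfLinear hS.extClass A Y (add_zero 1)) (by
    intro z
    obtain ⟨x, hx⟩ := Abelian.Ext.contravariant_sequence_exact₃ hS Y z (h2 _) (add_zero 1)
    exact ⟨x, hx⟩)

include hS in
/-- the connecting isomorphism `Ext^n(X₁,Y) ≅ Ext^{n+1}(X₃,Y)` when `Ext^n(X₂,Y) = Ext^{n+1}(X₂,Y) = 0` -/
theorem length_ext_connecting (n : ℕ) (h2 : ∀ z : Abelian.Ext.{u} S.X₂ Y n, z = 0)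
    (h2' : ∀ z : Abelian.Ext.{u} S.X₂ Y (n + 1), z = 0) :
    Module.length A (Abelian.Ext.{u} S.X₁ Y n) =
      Module.length A (Abelian.Ext.{u} S.X₃ Y (n + 1)) := by
  have hbij : Function.Bijective
      (Abelian.Ext.precompOfLinear hS.extClass A Y (add_comm 1 n)) := by
    constructor
    · rw [injective_iff_map_eq_zero]
      intro y hy
      obtain ⟨x, hx⟩ := Abelian.Ext.contravariant_sequence_exact₁ hS Y y (add_comm 1 n) hy
      rw [← hx, h2 x, Abelian.Ext.comp_zero]
    · intro z
      obtain ⟨x, hx⟩ := Abelian.Ext.contravariant_sequence_exact₃ hS Y z (h2' _) (add_comm 1 n)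
      exact ⟨x, hx⟩
  exact (LinearEquiv.ofBijective _ hbij).length_eq

end ExtLES


section quot
variable {A : Type u} [CommRing A]

lemma comp_mk₀_sum {X Y Z : ModuleCat.{u} A} {n : ℕ} (u : Abelian.Ext.{u} X Y n) {ι : Type*}
    (s : Finset ι) (f : ι → (Y ⟶ Z)) :
    u.comp (Abelian.Ext.mk₀ (∑ j ∈ s, f j)) (add_zero n) =
      ∑ j ∈ s, u.comp (Abelian.Ext.mk₀ (f j)) (add_zero n) := by
  classical
  induction s using Finset.induction_on with
  | empty => rw [Finset.sum_empty, Finset.sum_empty, Abelian.Ext.mk₀_zero, Abelian.Ext.comp_zero]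
  | insert a s ha ih =>
    rw [Finset.sum_insert ha, Finset.sum_insert ha, Abelian.Ext.mk₀_add, Abelian.Ext.comp_add, ih]

variable [IsNoetherianRing A] (X : ModuleCat.{u} A) (n : ℕ)
  (hvan : ∀ (Y : ModuleCat.{u} A) (z : Abelian.Ext.{u} X Y (n + 1)), z = 0) (J : Ideal A)

/-- the map `Ext^n(X, A) → Ext^n(X, A/J)` -/
noncomputable abbrev qstar :
    Abelian.Ext.{u} X (ModuleCat.of A A) n →ₗ[A] Abelian.Ext.{u} X (ModuleCat.of A (A ⧸ J)) n :=
  Abelian.Ext.postcompOfLinear
    (Abelian.Ext.mk₀ (ModuleCat.ofHom (Ideal.Quotient.mkₐ A J).toLinearMap)) A X (add_zero n)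

include hvan in
theorem qstar_surjective : Function.Surjective (qstar X n J) := by
  intro z
  have hq : Function.Surjective (Ideal.Quotient.mkₐ A J).toLinearMap :=
    Ideal.Quotient.mk_surjective
  have hS := LinearMap.shortExact_shortComplexKer hq
  obtain ⟨x, hx⟩ := Abelian.Ext.covariant_sequence_exact₃ X hS z rfl (hvan _ _)
  exact ⟨x, hx⟩

include hvan in
theorem ker_qstar : LinearMap.ker (qstar X n J) =
    J • (⊤ : Submodule A (Abelian.Ext.{u} X (ModuleCat.of A A) n)) := by
  classical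
  have hq : Function.Surjective (Ideal.Quotient.mkₐ A J).toLinearMap :=
    Ideal.Quotient.mk_surjective
  set q := (Ideal.Quotient.mkₐ A J).toLinearMap with hqdef
  have hkerq : ∀ x, x ∈ LinearMap.ker q ↔ x ∈ J := by
    intro x; rw [LinearMap.mem_ker]; exact Ideal.Quotient.eq_zero_iff_mem
  have hS := LinearMap.shortExact_shortComplexKer hq
  apply le_antisymm
  · intro w hw
    rw [LinearMap.mem_ker] at hw
    obtain ⟨v, hv⟩ := Abelian.Ext.covariant_sequence_exact₂ X hS w hw
    obtain ⟨s, p, hp⟩ := Module.Finite.exists_fin' A (LinearMap.ker q)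
    have hS' := LinearMap.shortExact_shortComplexKer hp
    obtain ⟨u, hu⟩ := Abelian.Ext.covariant_sequence_exact₃ X hS' v rfl (hvan _ _)
    let a : ModuleCat.of A (Fin s → A) ⟶ ModuleCat.of A A :=
      ModuleCat.ofHom p ≫ ModuleCat.ofHom (LinearMap.ker q).subtype
    have hw' : w = u.comp (Abelian.Ext.mk₀ a) (add_zero n) := by
      rw [← hv, ← hu, Abelian.Ext.comp_assoc _ _ _ (add_zero n) (add_zero 0) (by lia),
        Abelian.Ext.mk₀_comp_mk₀]
    have hsingle : ∀ j : Fin s,
        ModuleCat.ofHom (LinearMap.single A (fun _ : Fin s => A) j) ≫ a =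
          (((p (Pi.single j 1) : LinearMap.ker q) : A)) • 𝟙 (ModuleCat.of A A) := by
      intro j
      apply ModuleCat.hom_ext
      apply LinearMap.ext_ring
      simp [a]
    have ha : a = ∑ j : Fin s,
        (ModuleCat.ofHom (LinearMap.proj (R := A) (φ := fun _ : Fin s => A) j) ≫
          ModuleCat.ofHom (LinearMap.single A (fun _ : Fin s => A) j)) ≫ a := by
      rw [← Preadditive.sum_comp, ← Groth.Agent.Lib.helper19.RightExactIso.id_pi,
        Category.id_comp]
    have hw'' : w = ∑ j : Fin s, ((p (Pi.single j 1) : LinearMap.ker q) : A) •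
        (u.comp (Abelian.Ext.mk₀ (ModuleCat.ofHom
          (LinearMap.proj (R := A) (φ := fun _ : Fin s => A) j))) (add_zero n)) := by
      rw [hw']
      conv_lhs => rw [ha, comp_mk₀_sum]
      refine Finset.sum_congr rfl fun j _ => ?_
      rw [Category.assoc, hsingle j, ← Abelian.Ext.mk₀_comp_mk₀,
        ← Abelian.Ext.comp_assoc _ _ _ (add_zero n) (add_zero 0) (by lia),
        ← Abelian.Ext.smul_eq_comp_mk₀]
    rw [hw'']
    refine Submodule.sum_mem _ fun j _ => ?_
    exact Submodule.smul_mem_smul ((hkerq _).mp (p (Pi.single j 1)).2) Submodule.mem_top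
  · rw [Submodule.smul_le]
    intro j hj w _
    rw [LinearMap.mem_ker, map_smul, Abelian.Ext.smul_eq_comp_mk₀]
    have h0 : j • 𝟙 (ModuleCat.of A (A ⧸ J)) = 0 := by
      apply ModuleCat.hom_ext
      apply LinearMap.ext
      intro x
      obtain ⟨y, rfl⟩ := Ideal.Quotient.mk_surjective x
      show j • (Ideal.Quotient.mk J y) = 0
      have : j • (Ideal.Quotient.mk J y) = Ideal.Quotient.mk J (j * y) := rfl
      rw [this]
      exact Ideal.Quotient.eq_zero_iff_mem.mpr (J.mul_mem_right y hj)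
    rw [h0, Abelian.Ext.mk₀_zero, Abelian.Ext.comp_zero]

include hvan in
theorem length_ext_quot : Module.length A (Abelian.Ext.{u} X (ModuleCat.of A (A ⧸ J)) n) =
    Module.length A (Abelian.Ext.{u} X (ModuleCat.of A A) n ⧸
      (J • ⊤ : Submodule A (Abelian.Ext.{u} X (ModuleCat.of A A) n))) := by
  rw [← ker_qstar X n hvan J]
  exact ((qstar X n J).quotKerEquivOfSurjective (qstar_surjective X n hvan J)).length_eq.symm

end quot


section matlis
variable {A : Type u} [CommRing A] [IsLocalRing A] {E : Type u} [AddCommGroup E] [Module A E]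
  (f : ResidueField A →ₗ[A] E) (hf : InjHull.IsInjectiveHull f)
  {W M : Type u} [AddCommGroup W] [Module A W] [AddCommGroup M] [Module A M]
  (σ : M ≃ₗ[A] (W →ₗ[A] E)) (J : Ideal A)

include hf σ in
/-- if `M ≅ Hom(W, E)` then `W/JW` and `M[J]` have the same length (when finite) -/
theorem length_quot_smul_top (hfin : IsFiniteLength A (W ⧸ (J • ⊤ : Submodule A W))) :
    Module.length A (W ⧸ (J • ⊤ : Submodule A W)) =
      Module.length A (Submodule.torsionBySet A M (J : Set A)) := by
  rw [← MatlisLen.length_hom_eq f hf _ hfin]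
  set Φ : ((W ⧸ (J • ⊤ : Submodule A W)) →ₗ[A] E) →ₗ[A] (W →ₗ[A] E) :=
    LinearMap.lcomp A E (J • ⊤ : Submodule A W).mkQ with hΦ
  have hΦinj : Function.Injective Φ := by
    intro φ ψ h
    apply LinearMap.ext
    intro x
    obtain ⟨w, rfl⟩ := Submodule.mkQ_surjective _ x
    exact LinearMap.congr_fun h w
  have hrange : LinearMap.range Φ =
      Submodule.map σ.toLinearMap (Submodule.torsionBySet A M (J : Set A)) := by
    ext φ
    rw [Submodule.mem_map]
    constructor
    · rintro ⟨ψ, rfl⟩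
      refine ⟨σ.symm (Φ ψ), ?_, by simp⟩
      rw [Submodule.mem_torsionBySet_iff]
      rintro ⟨j, hj⟩
      apply σ.injective
      rw [map_smul, map_zero, LinearEquiv.apply_symm_apply]
      apply LinearMap.ext
      intro w
      show j • (ψ (Submodule.Quotient.mk w)) = 0
      rw [← map_smul, ← Submodule.Quotient.mk_smul,
        (Submodule.Quotient.mk_eq_zero _).mpr (Submodule.smul_mem_smul hj Submodule.mem_top),
        map_zero]
    · rintro ⟨m, hm, rfl⟩
      rw [Submodule.mem_torsionBySet_iff] at hm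
      have hle : (J • ⊤ : Submodule A W) ≤ LinearMap.ker (σ m) := by
        rw [Submodule.smul_le]
        intro j hj w _
        rw [LinearMap.mem_ker, map_smul, ← LinearMap.smul_apply, ← map_smul, hm ⟨j, hj⟩, map_zero,
          LinearMap.zero_apply]
      exact ⟨(J • ⊤ : Submodule A W).liftQ (σ m) hle, by apply LinearMap.ext; intro w; rfl⟩
  rw [(LinearEquiv.ofInjective Φ hΦinj).length_eq, hrange]
  exact (σ.submoduleMap _).symm.length_eq

end matlis

section colon
variable {A : Type u} [CommRing A] (I J : Ideal A)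

theorem length_torsion_add_length_colon :
    Module.length A (Submodule.torsionBySet A (A ⧸ I) (J : Set A)) +
      Module.length A (A ⧸ I.colon (J : Set A)) = Module.length A (A ⧸ I) := by
  have hle : I ≤ I.colon (J : Set A) := by
    intro x hx
    rw [Submodule.mem_colon]
    intro j _
    exact I.mul_mem_right j hx
  let g : (A ⧸ I) →ₗ[A] (A ⧸ I.colon (J : Set A)) :=
    Submodule.mapQ I (I.colon (J : Set A)) LinearMap.id hle
  symm
  refine Module.length_eq_add_of_exact (Submodule.torsionBySet A (A ⧸ I) (J : Set A)).subtype g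
    (Submodule.injective_subtype _) ?_ ?_
  · intro y
    obtain ⟨x, rfl⟩ := Submodule.Quotient.mk_surjective _ y
    exact ⟨Submodule.Quotient.mk x, rfl⟩
  · intro y
    obtain ⟨x, rfl⟩ := Submodule.Quotient.mk_surjective _ y
    have h1 : g (Submodule.Quotient.mk x) = 0 ↔ x ∈ I.colon (J : Set A) :=
      Submodule.Quotient.mk_eq_zero _
    rw [h1, Submodule.mem_colon]
    have h2 : ∀ j : A, j • (Submodule.Quotient.mk x : A ⧸ I) = 0 ↔ x • j ∈ I := by
      intro j
      rw [← Submodule.Quotient.mk_smul, Submodule.Quotient.mk_eq_zero, smul_eq_mul, smul_eq_mul,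
        mul_comm]
    constructor
    · intro h
      refine ⟨⟨Submodule.Quotient.mk x, ?_⟩, rfl⟩
      rw [Submodule.mem_torsionBySet_iff]
      rintro ⟨j, hj⟩
      exact (h2 j).mpr (h j hj)
    · rintro ⟨⟨y, hy⟩, hyx⟩ j hj
      rw [Submodule.mem_torsionBySet_iff] at hy
      have hyx' : y = Submodule.Quotient.mk x := hyx
      subst hyx'
      exact (h2 j).mp (hy ⟨j, hj⟩)

end colon


section free
variable {A : Type u} [CommRing A] [Nontrivial A]

/-- `Ext^0` is `Hom` -/
noncomputable def ext0Equiv (X Y : Type u) [AddCommGroup X] [Module A X] [AddCommGroup Y]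
    [Module A Y] :
    Abelian.Ext.{u} (ModuleCat.of A X) (ModuleCat.of A Y) 0 ≃ₗ[A] (X →ₗ[A] Y) :=
  (Abelian.Ext.linearEquiv₀ (R := A)).trans ModuleCat.homLinearEquiv

theorem length_hom_free (Z N : Type u) [AddCommGroup Z] [Module A Z] [AddCommGroup N] [Module A N]
    [Module.Free A Z] [Module.Finite A Z] :
    Module.length A (Z →ₗ[A] N) = (Module.finrank A Z : ℕ∞) * Module.length A N := by
  let b := Module.finBasis A Z
  rw [← (b.constr A (M' := N)).length_eq, Module.length_pi, ENat.card_eq_coe_fintype_card,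
    Fintype.card_fin]

end free

section main
open Groth.Agent.S5162

theorem main (R : Type u) [CommRing R] [IsRegularLocalRing R] (hdim : ringKrullDim R = 2)
    (I J : Ideal R) (hI : Module.length R (R ⧸ I) < ⊤) (hJ : Module.length R (R ⧸ J) < ⊤) :
    Module.length R (↥I →ₗ[R] (R ⧸ J)) + Module.length R (R ⧸ I.colon (J : Set R)) =
      Module.length R (R ⧸ J) + Module.length R (R ⧸ I) := by
  classical
  haveI : IsDomain R := Groth.Agent.Lib.helper15.isDomain_of_isRegularLocalRing R
  haveI : LocCoh.IsGorensteinLocalRing R := Groth.Agent.S0342.result R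
  have hd2 : ringKrullDim R = ((2 : ℕ) : WithBot ℕ∞) := by rw [hdim]; rfl
  have hspan : (maximalIdeal R).spanFinrank = 2 := by
    have h := IsRegularLocalRing.spanFinrank_maximalIdeal (R := R)
    rw [hd2] at h
    exact_mod_cast h
  have hpd : HasProjectiveDimensionLT (ModuleCat.of R (R ⧸ I)) 3 :=
    Groth.Agent.Lib.helper26.PDReg.hasProjectiveDimensionLE_of_isRegularLocalRing 2 R hspan (R ⧸ I)
  -- `I ≠ ⊥`
  have hIne : I ≠ ⊥ := by
    rintro rfl
    have h1 : Module.length R R < ⊤ := by
      rw [← (Submodule.quotEquivOfEqBot (⊥ : Ideal R) rfl).length_eq]; exact hI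
    have h2 : IsFiniteLength R R := Module.length_ne_top_iff.mp h1.ne
    haveI h3 : IsArtinianRing R := (isFiniteLength_iff_isNoetherian_isArtinian.mp h2).2
    have h4 : Ring.KrullDimLE 0 R := inferInstance
    have h5 := Ring.krullDimLE_iff.mp h4
    rw [hd2] at h5
    have h6 : ((2 : ℕ) : ℕ∞) ≤ ((0 : ℕ) : ℕ∞) := WithBot.coe_le_coe.mp h5
    have h7 : (2 : ℕ) ≤ 0 := by exact_mod_cast h6
    omega
  -- SES 1
  let q : R →ₗ[R] R ⧸ I := (Ideal.Quotient.mkₐ R I).toLinearMap
  have hq : Function.Surjective q := Ideal.Quotient.mk_surjective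
  have hex1 : Function.Exact I.subtype q := by
    intro y
    constructor
    · intro h; exact ⟨⟨y, Ideal.Quotient.eq_zero_iff_mem.mp h⟩, rfl⟩
    · rintro ⟨⟨z, hz⟩, rfl⟩; exact Ideal.Quotient.eq_zero_iff_mem.mpr hz
  have hS1 := sesOf_shortExact I.subtype q I.injective_subtype hq hex1
  have hpdI : HasProjectiveDimensionLT (ModuleCat.of R I) 2 := by
    apply hS1.hasProjectiveDimensionLT_X₁ 2
    · exact hasProjectiveDimensionLT_of_ge (ModuleCat.of R R) 1 2 (by omega)
    · exact hpd
  -- SES 2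
  obtain ⟨n, π, hπ⟩ := Module.Finite.exists_fin' R I
  have hS2 := LinearMap.shortExact_shortComplexKer hπ
  have hpdZ : HasProjectiveDimensionLT (ModuleCat.of R (LinearMap.ker π)) 1 := by
    apply hS2.hasProjectiveDimensionLT_X₁ 1
    · exact (inferInstance : HasProjectiveDimensionLT (ModuleCat.of R (Fin n → R)) 1)
    · exact hpdI
  have hproj : Module.Projective R (LinearMap.ker π) := by
    rw [IsProjective.iff_projective]
    infer_instance
  haveI : Module.Free R (LinearMap.ker π) := Module.free_of_flat_of_isLocalRing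
  -- ranks
  have hrankI : Module.finrank R I = 1 := by
    have h1 := Submodule.finrank_quotient_add_finrank I
    have htors : Module.IsTorsion R (R ⧸ I) := by
      intro x
      obtain ⟨a, haI, ha0⟩ := Submodule.exists_mem_ne_zero_of_ne_bot hIne
      refine ⟨⟨a, mem_nonZeroDivisors_of_ne_zero ha0⟩, ?_⟩
      obtain ⟨y, rfl⟩ := Ideal.Quotient.mk_surjective x
      show a • (Ideal.Quotient.mk I y) = 0
      have : a • (Ideal.Quotient.mk I y) = Ideal.Quotient.mk I (a * y) := rfl
      rw [this]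
      exact Ideal.Quotient.eq_zero_iff_mem.mpr (I.mul_mem_right y haI)
    rw [htors.finrank_eq_zero, Module.finrank_self, zero_add] at h1
    exact h1
  have hrankZ : 1 + Module.finrank R (LinearMap.ker π) = n := by
    have h1 := Submodule.finrank_quotient_add_finrank (LinearMap.ker π)
    rw [(π.quotKerEquivOfSurjective hπ).finrank_eq, hrankI, Module.finrank_fin_fun] at h1
    exact h1
  set r := Module.finrank R (LinearMap.ker π) with hr
  -- four term sequence
  have h4 : Module.length R (Abelian.Ext.{u} (ModuleCat.of R I) (ModuleCat.of R (R ⧸ J)) 0) +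
      Module.length R (Abelian.Ext.{u} (ModuleCat.of R (LinearMap.ker π))
        (ModuleCat.of R (R ⧸ J)) 0) =
      Module.length R (Abelian.Ext.{u} (ModuleCat.of R (Fin n → R)) (ModuleCat.of R (R ⧸ J)) 0) +
      Module.length R (Abelian.Ext.{u} (ModuleCat.of R I) (ModuleCat.of R (R ⧸ J)) 1) :=
    length_hom_four hS2 (ModuleCat.of R (R ⧸ J)) (fun z => Abelian.Ext.eq_zero_of_projective z)
  have h4le : Module.length R (Abelian.Ext.{u} (ModuleCat.of R I) (ModuleCat.of R (R ⧸ J)) 1) ≤
      Module.length R (Abelian.Ext.{u} (ModuleCat.of R (LinearMap.ker π))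
        (ModuleCat.of R (R ⧸ J)) 0) :=
    length_ext_one_le hS2 (ModuleCat.of R (R ⧸ J)) (fun z => Abelian.Ext.eq_zero_of_projective z)
  have e3 : Module.length R (Abelian.Ext.{u} (ModuleCat.of R I) (ModuleCat.of R (R ⧸ J)) 0) =
      Module.length R (↥I →ₗ[R] (R ⧸ J)) := (ext0Equiv I (R ⧸ J)).length_eq
  have e1 : Module.length R (Abelian.Ext.{u} (ModuleCat.of R (LinearMap.ker π))
      (ModuleCat.of R (R ⧸ J)) 0) = (r : ℕ∞) * Module.length R (R ⧸ J) := by
    rw [(ext0Equiv _ _).length_eq, length_hom_free]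
  have e2 : Module.length R (Abelian.Ext.{u} (ModuleCat.of R (Fin n → R))
      (ModuleCat.of R (R ⧸ J)) 0) = (n : ℕ∞) * Module.length R (R ⧸ J) := by
    rw [(ext0Equiv _ _).length_eq, length_hom_free, Module.finrank_fin_fun]
  rw [e3, e1, e2] at h4
  rw [e1] at h4le
  set x₄ := Module.length R (Abelian.Ext.{u} (ModuleCat.of R I) (ModuleCat.of R (R ⧸ J)) 1)
    with hx₄
  obtain ⟨c, hc⟩ := ENat.ne_top_iff_exists.mp hJ.ne
  have hfinite : (r : ℕ∞) * Module.length R (R ⧸ J) ≠ ⊤ := by
    rw [← hc]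
    exact_mod_cast ENat.natCast_ne_top (r * c)
  have hx₄fin : x₄ ≠ ⊤ := ne_top_of_le_ne_top hfinite h4le
  have hcancel : Module.length R (↥I →ₗ[R] (R ⧸ J)) = Module.length R (R ⧸ J) + x₄ := by
    apply ENat.add_left_injective_of_ne_top hfinite
    show _ + _ = _ + _
    rw [h4, ← hrankZ]
    push_cast
    ring
  -- connecting isomorphism
  have hprojR1 : ∀ z : Abelian.Ext.{u} (ModuleCat.of R R) (ModuleCat.of R (R ⧸ J)) 1, z = 0 :=
    fun z => Abelian.Ext.eq_zero_of_projective z
  have hprojR2 : ∀ z : Abelian.Ext.{u} (ModuleCat.of R R) (ModuleCat.of R (R ⧸ J)) (1 + 1),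
      z = 0 := fun z => Abelian.Ext.eq_zero_of_projective z
  have h5 : x₄ = Module.length R (Abelian.Ext.{u} (ModuleCat.of R (R ⧸ I))
      (ModuleCat.of R (R ⧸ J)) 2) :=
    length_ext_connecting hS1 (ModuleCat.of R (R ⧸ J)) 1 hprojR1 hprojR2
  have hvan : ∀ (Y : ModuleCat.{u} R) (z : Abelian.Ext.{u} (ModuleCat.of R (R ⧸ I)) Y (2 + 1)),
      z = 0 := fun Y z => Abelian.Ext.eq_zero_of_hasProjectiveDimensionLT z 3 le_rfl
  have h6 := length_ext_quot (ModuleCat.of R (R ⧸ I)) 2 hvan J
  -- duality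
  obtain ⟨f, hf, ⟨ε⟩⟩ := Groth.Agent.Lib.helper19.Gor.exists_dual R 2 hd2 (R ⧸ I) 0 2 rfl
  have hMfin : IsFiniteLength R (R ⧸ I) := Module.length_ne_top_iff.mp hI.ne
  obtain ⟨k, hk⟩ := Groth.Agent.Lib.helper19.ExtLen.exists_kill_of_isFiniteLength (R ⧸ I) hMfin
  have hpt : LocCoh.IsPowerTorsion (maximalIdeal R) (R ⧸ I) :=
    fun m => ⟨k, fun a ha => hk a ha m⟩
  obtain ⟨ρ⟩ := (Groth.Agent.S0323.result R (maximalIdeal R) (R ⧸ I) hpt).1
  have hfin : IsFiniteLength R (Abelian.Ext.{u} (ModuleCat.of R (R ⧸ I)) (ModuleCat.of R R) 2 ⧸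
      (J • ⊤ : Submodule R (Abelian.Ext.{u} (ModuleCat.of R (R ⧸ I)) (ModuleCat.of R R) 2))) := by
    rw [← Module.length_ne_top_iff, ← h6, ← h5]
    exact hx₄fin
  have h7 := length_quot_smul_top f hf (ρ.symm.trans ε) J hfin
  have h8 := length_torsion_add_length_colon I J
  rw [hcancel, h5, h6, h7, add_assoc, h8]

end main

end Groth.Agent.Lib.helper19.HomIdealLen
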