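import Groth.Agent.Lib.Helper7.KerSections
import Groth.Agent.Lib.Helper7.CohKer
import Groth.Agent.Lib.Helper16.QCohEpi

/-!
# Sections of cycles and homology of a short complex of quasi-coherent modules (helper19, block H of helper20's
S11924 plan)

For a short complex `S` of `O_X`-modules:
* `iCycles_app_injective`, `exists_cycle`: sections of `S.cycles` over any open are the sections of `S.X₂` killed by `S.g`.
* `exists_of_exact`: for an exact short complex of quasi-coherent modules, sections over an affine open are exact.
* `homologyπ_app_surjective`, `exists_of_homologyπ_eq_zero`: over an affine open, sections of the homology of a short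
  complex of quasi-coherent modules are cycles modulo boundaries.
* `isQuasicoherent_cycles`, `isQuasicoherent_homology`.
-/

set_option autoImplicit false
set_option linter.style.haveILetI false
set_option linter.unusedSectionVars false
universe u
open CategoryTheory CategoryTheory.Limits AlgebraicGeometry TopologicalSpace Opposite
open Scheme.Modules
open Groth.Agent.Lib.helper7 Groth.Agent.Lib.helper16

namespace Groth.Agent.Lib.helper19.HomologySections

variable {X : Scheme.{u}} (S : ShortComplex X.Modules)

/-- the left exact short complex `0 → S.cycles → S.X₂ → S.X₃` -/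
noncomputable abbrev cyclesSC : ShortComplex X.Modules :=
  ShortComplex.mk S.iCycles S.g S.iCycles_g

theorem cyclesSC_exact : (cyclesSC S).Exact :=
  ShortComplex.exact_of_f_is_kernel _ S.cyclesIsKernel

theorem iCycles_app_injective (U : X.Opens) : Function.Injective (S.iCycles.app U).hom :=
  (KerSections.sections_leftExact (cyclesSC S) (cyclesSC_exact S) U).1

theorem exists_cycle (U : X.Opens) (z : Γ(S.X₂, U)) (hz : (S.g.app U).hom z = 0) :
    ∃ y : Γ(S.cycles, U), (S.iCycles.app U).hom y = z :=
  (KerSections.sections_leftExact (cyclesSC S) (cyclesSC_exact S) U).2 z hz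

theorem isQuasicoherent_of_iso {F G : X.Modules} (e : F ≅ G) [hF : F.IsQuasicoherent] :
    G.IsQuasicoherent :=
  (SheafOfModules.isQuasicoherent X.ringCatSheaf).prop_of_iso e hF

theorem isQuasicoherent_cycles [S.X₂.IsQuasicoherent] [S.X₃.IsQuasicoherent] :
    S.cycles.IsQuasicoherent := by
  haveI : (kernel S.g).IsQuasicoherent := CohKer.isQuasicoherent_kernel S.g
  exact isQuasicoherent_of_iso S.cyclesIsoKernel.symm

theorem isQuasicoherent_homology [S.X₁.IsQuasicoherent] [S.X₂.IsQuasicoherent]
    [S.X₃.IsQuasicoherent] : S.homology.IsQuasicoherent := by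
  haveI : (kernel S.g).IsQuasicoherent := CohKer.isQuasicoherent_kernel S.g
  haveI : (cokernel (kernel.lift S.g S.f S.zero)).IsQuasicoherent :=
    CohKer.isQuasicoherent_cokernel _
  exact isQuasicoherent_of_iso S.homologyIsoCokernelLift.symm

/-- sections over an affine open of an exact short complex of quasi-coherent modules are exact -/
theorem exists_of_exact (T : ShortComplex X.Modules) (hT : T.Exact) [T.X₁.IsQuasicoherent]
    [T.X₂.IsQuasicoherent] [T.X₃.IsQuasicoherent] {U : X.Opens} (hU : IsAffineOpen U)
    (y : Γ(T.X₂, U)) (hy : (T.g.app U).hom y = 0) : ∃ u : Γ(T.X₁, U), (T.f.app U).hom u = y := by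
  haveI : (kernel T.g).IsQuasicoherent := CohKer.isQuasicoherent_kernel T.g
  haveI : Epi (kernel.lift T.g T.f T.zero) := T.exact_iff_epi_kernel_lift.1 hT
  obtain ⟨t, ht⟩ := KerSections.exists_kernel_section T.g U y hy
  obtain ⟨u, hu⟩ := QCohEpi.surjective_app_of_epi (kernel.lift T.g T.f T.zero) hU t
  refine ⟨u, ?_⟩
  rw [← ht, ← hu]
  have h := kernel.lift_ι T.g T.f T.zero
  exact (congrArg (fun ψ => (Scheme.Modules.Hom.app ψ U).hom u) h).symm

theorem homologyπ_app_surjective [S.X₁.IsQuasicoherent] [S.X₂.IsQuasicoherent]
    [S.X₃.IsQuasicoherent] {U : X.Opens} (hU : IsAffineOpen U) :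
    Function.Surjective (S.homologyπ.app U).hom := by
  haveI := isQuasicoherent_cycles S
  haveI := isQuasicoherent_homology S
  exact QCohEpi.surjective_app_of_epi S.homologyπ hU

theorem exists_of_homologyπ_eq_zero [S.X₁.IsQuasicoherent] [S.X₂.IsQuasicoherent]
    [S.X₃.IsQuasicoherent] {U : X.Opens} (hU : IsAffineOpen U) (y : Γ(S.cycles, U))
    (hy : (S.homologyπ.app U).hom y = 0) : ∃ u : Γ(S.X₁, U), (S.toCycles.app U).hom u = y := by
  haveI := isQuasicoherent_cycles S
  haveI := isQuasicoherent_homology S
  let T : ShortComplex X.Modules := ShortComplex.mk S.toCycles S.homologyπ S.toCycles_comp_homologyπ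
  have hT : T.Exact := ShortComplex.exact_of_g_is_cokernel _ S.homologyIsCokernel
  exact exists_of_exact T hT hU y hy

end Groth.Agent.Lib.helper19.HomologySections
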