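import Mathlib
import Groth.Prelude.Def_CAlg
import Groth.Agent.Lib.Helper26.Depth1
import Groth.Agent.Lib.Helper26.Depth2
import Groth.Agent.Lib.Helper26.Depth5
import Groth.Agent.Lib.Helper26.Depth6
import Groth.Agent.Lib.Helper26.Depth7
set_option autoImplicit false

/-! Hypersurface periodicity tools.
* `ker_free_of_dim_two` : over a regular local ring of dimension two, the kernel of a surjection from a
  finite free module onto a finite module of positive depth is free.
* `liftK_surjective`, `smul_eq_zero_of_mem_ker_liftK` : for `R = S/(f)` and a presentation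
  `p : R^k → M`, `K = ker (S^k → M)`, the map `R ⊗_S K → ker p` is onto and its kernel is killed by
  `Ann_R M`. -/

universe u

namespace Groth.Agent.Lib.helper19.Hyper
open IsLocalRing LocCoh TensorProduct

section Free
variable (S : Type u) [CommRing S] [IsRegularLocalRing S] (hS : ringKrullDim S = 2)
  {F M : Type u} [AddCommGroup F] [Module S F] [Module.Free S F] [Module.Finite S F]
  [AddCommGroup M] [Module S M] [Module.Finite S M]
  (q : F →ₗ[S] M) (hq : Function.Surjective q) (x : S) (hx : x ∈ maximalIdeal S)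
  (hxM : IsSMulRegular M x)

include hS hq hx hxM in
theorem ker_free_of_dim_two : Module.Free S (LinearMap.ker q) := by
  haveI : IsNoetherianRing S := inferInstance
  by_cases hK : Subsingleton (LinearMap.ker q)
  · exact Module.Free.of_subsingleton S _
  rw [not_subsingleton_iff_nontrivial] at hK
  haveI : Nontrivial F := by
    obtain ⟨a, b, hab⟩ := hK
    exact ⟨⟨a.1, b.1, fun h => hab (Subtype.ext h)⟩⟩
  haveI : Module.Finite S (LinearMap.ker q) := Module.Finite.of_injective (LinearMap.ker q).subtype
    (Submodule.injective_subtype _)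
  have hdS : ((depth S S : ℕ∞) : WithBot ℕ∞) = ringKrullDim S :=
    Groth.Agent.Lib.helper26.Depth.depth_eq_ringKrullDim_of_isRegularLocalRing S
  rw [hS] at hdS
  have hdS' : depth S S = 2 := by
    have h : ((depth S S : ℕ∞) : WithBot ℕ∞) = ((2 : ℕ∞) : WithBot ℕ∞) := hdS
    exact WithBot.coe_injective h
  have hdF : idealDepth (maximalIdeal S) F = 2 := by
    have := Groth.Agent.Lib.helper26.Depth.depth_free (A := S) F
    rw [hdS'] at this
    exact this
  have hdM : (1 : ℕ∞) ≤ idealDepth (maximalIdeal S) M := by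
    have hreg : RingTheory.Sequence.IsWeaklyRegular M [x] := by
      rw [RingTheory.Sequence.isWeaklyRegular_cons_iff]
      exact ⟨hxM, RingTheory.Sequence.IsWeaklyRegular.nil S _⟩
    have := Groth.Agent.Lib.helper26.Depth.length_le_idealDepth (I := maximalIdeal S) hreg
      (by intro r hr; rw [List.mem_singleton] at hr; rw [hr]; exact hx)
    simpa using this
  have h1 := Groth.Agent.Lib.helper26.Depth.min_le_idealDepth_X₁ (maximalIdeal S)
    (LinearMap.ker q).subtype q (Submodule.injective_subtype _) hq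
    (by
      intro y
      show q y = 0 ↔ y ∈ LinearMap.range (LinearMap.ker q).subtype
      rw [Submodule.range_subtype, LinearMap.mem_ker])
  have h2 : (2 : ℕ∞) ≤ idealDepth (maximalIdeal S) (LinearMap.ker q) := by
    refine le_trans ?_ h1
    rw [hdF]
    refine le_min le_rfl ?_
    have : (1 : ℕ∞) + 1 ≤ idealDepth (maximalIdeal S) M + 1 := add_le_add hdM le_rfl
    exact le_trans (by norm_num) this
  have h3 : ((depth S (LinearMap.ker q) : ℕ∞) : WithBot ℕ∞) ≤ ringKrullDim S :=
    (Groth.Agent.Lib.helper26.Depth.depth_le_supportDim (A := S) (LinearMap.ker q)).trans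
      (Module.supportDim_le_ringKrullDim S _)
  apply Groth.Agent.Lib.helper26.Depth.free_of_depth_eq_ringKrullDim S
  apply le_antisymm h3
  rw [hS]
  have : ((2 : ℕ∞) : WithBot ℕ∞) ≤ ((depth S (LinearMap.ker q) : ℕ∞) : WithBot ℕ∞) :=
    WithBot.coe_le_coe.2 h2
  exact this

end Free

section Lift
variable (S : Type u) {R : Type u} [CommRing S] [CommRing R] [Algebra S R]
  {M : Type u} [AddCommGroup M] [Module R M] [Module S M] [IsScalarTower S R M]
  (k : ℕ) (p : (Fin k → R) →ₗ[R] M)

/-- the componentwise algebra map `S^k → R^k` -/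
noncomputable def piMap : (Fin k → S) →ₗ[S] (Fin k → R) := (Algebra.linearMap S R).compLeft (Fin k)

omit [AddCommGroup M] [Module R M] [Module S M] [IsScalarTower S R M] in
theorem piMap_apply (v : Fin k → S) (j : Fin k) : piMap S (R := R) k v j = algebraMap S R (v j) := rfl

/-- the composite `S^k → R^k → M` -/
noncomputable def qmap : (Fin k → S) →ₗ[S] M := (p.restrictScalars S) ∘ₗ piMap S k

theorem qmap_apply (v : Fin k → S) : qmap S k p v = p (piMap S k v) := rfl

/-- `K = ker (S^k → M) → ker (R^k → M)` -/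
noncomputable def rho : LinearMap.ker (qmap S k p) →ₗ[S] LinearMap.ker p where
  toFun v := ⟨piMap S k v.1, by rw [LinearMap.mem_ker]; exact v.2⟩
  map_add' a b := Subtype.ext (map_add _ _ _)
  map_smul' c a := Subtype.ext (map_smul _ _ _)

/-- `R ⊗_S K → ker (R^k → M)` -/
noncomputable def liftK : R ⊗[S] LinearMap.ker (qmap S k p) →ₗ[R] LinearMap.ker p :=
  LinearMap.liftBaseChange R (rho S k p)

theorem liftK_tmul (r : R) (κ : LinearMap.ker (qmap S k p)) :
    liftK S k p (r ⊗ₜ κ) = r • rho S k p κ :=
  LinearMap.liftBaseChange_tmul _ _ _ _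

variable (hsurj : Function.Surjective (algebraMap S R))

include hsurj in
theorem qmap_surjective (hp : Function.Surjective p) : Function.Surjective (qmap S k p) := by
  intro y
  obtain ⟨ω, rfl⟩ := hp y
  choose v hv using fun j => hsurj (ω j)
  refine ⟨v, ?_⟩
  rw [qmap_apply]
  congr 1
  funext j
  exact hv j

include hsurj in
theorem liftK_surjective : Function.Surjective (liftK S k p) := by
  intro ω
  choose v hv using fun j => hsurj (ω.1 j)
  have hPi : piMap S (R := R) k v = ω.1 := by
    funext j
    exact hv j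
  have hvK : v ∈ LinearMap.ker (qmap S k p) := by
    rw [LinearMap.mem_ker, qmap_apply, hPi]
    exact ω.2
  refine ⟨1 ⊗ₜ ⟨v, hvK⟩, ?_⟩
  rw [liftK_tmul, one_smul]
  exact Subtype.ext hPi

include hsurj in
theorem exists_one_tmul (z : R ⊗[S] LinearMap.ker (qmap S k p)) :
    ∃ κ : LinearMap.ker (qmap S k p), z = 1 ⊗ₜ κ := by
  induction z using TensorProduct.induction_on with
  | zero => exact ⟨0, (TensorProduct.tmul_zero _ _).symm⟩
  | tmul r κ =>
    obtain ⟨s, rfl⟩ := hsurj r
    refine ⟨s • κ, ?_⟩
    rw [← TensorProduct.smul_tmul, Algebra.smul_def, mul_one]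
  | add a b ha hb =>
    obtain ⟨κ₁, rfl⟩ := ha
    obtain ⟨κ₂, rfl⟩ := hb
    exact ⟨κ₁ + κ₂, (TensorProduct.tmul_add _ _ _).symm⟩

variable (f : S) (hker : RingHom.ker (algebraMap S R) = Ideal.span {f})

include hsurj hker in
/-- the kernel of `R ⊗_S K → ker p` is killed by the annihilator of `M` -/
theorem smul_eq_zero_of_liftK_eq_zero (a : R) (ha : a ∈ Module.annihilator R M)
    (z : R ⊗[S] LinearMap.ker (qmap S k p)) (hz : liftK S k p z = 0) : a • z = 0 := by
  obtain ⟨κ, rfl⟩ := exists_one_tmul S k p hsurj z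
  rw [liftK_tmul, one_smul] at hz
  have hz' : piMap S (R := R) k κ.1 = 0 := congrArg Subtype.val hz
  have hcomp : ∀ j, ∃ w : S, κ.1 j = f * w := by
    intro j
    have h1 : algebraMap S R (κ.1 j) = 0 := congrFun hz' j
    have h2 : κ.1 j ∈ RingHom.ker (algebraMap S R) := h1
    rw [hker, Ideal.mem_span_singleton'] at h2
    obtain ⟨w, hw⟩ := h2
    exact ⟨w, by rw [← hw, mul_comm]⟩
  choose w hw using hcomp
  obtain ⟨a', rfl⟩ := hsurj a
  have hwK : a' • w ∈ LinearMap.ker (qmap S k p) := by
    rw [LinearMap.mem_ker, map_smul, ← algebraMap_smul R a' (qmap S k p w)]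
    exact Module.mem_annihilator.1 ha _
  have h3 : a' • κ = f • (⟨a' • w, hwK⟩ : LinearMap.ker (qmap S k p)) := by
    apply Subtype.ext
    funext j
    show a' * κ.1 j = f * (a' * w j)
    rw [hw j]
    ring
  have hf0 : algebraMap S R f = 0 := by
    have : f ∈ RingHom.ker (algebraMap S R) := by
      rw [hker]
      exact Ideal.mem_span_singleton_self f
    exact this
  rw [TensorProduct.smul_tmul', smul_eq_mul, mul_one]
  have h4 : (algebraMap S R a') ⊗ₜ[S] κ = (1 : R) ⊗ₜ[S] (a' • κ) := by
    rw [← TensorProduct.smul_tmul, Algebra.smul_def, mul_one]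
  rw [h4, h3, ← TensorProduct.smul_tmul, Algebra.smul_def, mul_one, hf0, TensorProduct.zero_tmul]

end Lift

end Groth.Agent.Lib.helper19.Hyper
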