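import Mathlib
import Groth.Agent.Lib.Helper19.TorDual1
set_option autoImplicit false

/-! `Tor_n(E, M) ≃ Hom(Ext^n(M, A), E)`: the categorical layer (helper19). -/

universe u

namespace Groth.Agent.Lib.helper19.TorDual
open CategoryTheory MonoidalCategory Groth.Agent.Lib.helper19.LCBridge

section Cat
variable {A : Type u} [CommRing A]

theorem next_eq (n : ℕ) : (ComplexShape.down ℕ).next n = n - 1 := by
  cases n with
  | zero => exact ChainComplex.next_nat_zero
  | succ k => exact ChainComplex.next_nat_succ k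

theorem range_toCycles_eq (S : ShortComplex (ModuleCat.{u} A)) :
    LinearMap.range S.moduleCatToCycles = bdry S.f.hom S.g.hom := by
  ext ⟨y, hy⟩
  constructor
  · rintro ⟨x, hx⟩
    exact ⟨x, congrArg Subtype.val hx⟩
  · rintro ⟨x, hx⟩
    exact ⟨x, Subtype.ext hx⟩

/-- homology of a chain complex of modules as `ker / im` -/
noncomputable def homologyEquiv (D : ChainComplex (ModuleCat.{u} A) ℕ) (n : ℕ) :
    D.homology n ≃ₗ[A] Hmod (D.d (n + 1) n).hom (D.d n (n - 1)).hom :=
  ((D.homologyIsoSc' (n + 1) n (n - 1) (by simp) (next_eq n)) ≪≫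
    (D.sc' (n + 1) n (n - 1)).moduleCatHomologyIso).toLinearEquiv ≪≫ₗ
    (Submodule.quotEquivOfEq _ _ (range_toCycles_eq (D.sc' (n + 1) n (n - 1))))

variable (E : Type u) [AddCommGroup E] [Module A E]
variable (C : ChainComplex (ModuleCat.{u} A) ℕ)

/-- the complex `E ⊗ C` -/
noncomputable abbrev L : ChainComplex (ModuleCat.{u} A) ℕ :=
  (((tensoringLeft (ModuleCat.{u} A)).obj (ModuleCat.of A E)).mapHomologicalComplex
    (ComplexShape.down ℕ)).obj C

theorem L_d_hom (i j : ℕ) : ((L E C).d i j).hom = LinearMap.lTensor E (C.d i j).hom := rfl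

section ExtSide
variable {X : ModuleCat.{u} A} (P : ProjectiveResolution X) (Y : ModuleCat.{u} A)

/-- `Ext^n(X, Y)` as `ker / im` of `Hom(P_•, Y)` -/
noncomputable def extEquiv (n : ℕ) :
    Hmod ((K (R := A) P Y).d (n - 1) n).hom ((K (R := A) P Y).d n (n + 1)).hom ≃ₗ[A]
      Abelian.Ext.{u} X Y n :=
  LinearEquiv.ofBijective
    (Submodule.liftQ _ (cocycleToExt (R := A) P Y n (n + 1) rfl) (by
      rintro f ⟨g, hg⟩
      rw [LinearMap.mem_ker]
      exact (cocycleToExt_eq_zero_iff P Y (n - 1) n (n + 1) rfl (by omega) f).mpr ⟨g, hg⟩))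
    (by
      constructor
      · rw [← LinearMap.ker_eq_bot, LinearMap.ker_eq_bot']
        intro x hx
        obtain ⟨f, rfl⟩ := Submodule.Quotient.mk_surjective _ x
        rw [Submodule.liftQ_apply] at hx
        obtain ⟨g, hg⟩ := (cocycleToExt_eq_zero_iff P Y (n - 1) n (n + 1) rfl (by omega) f).mp hx
        rw [Submodule.Quotient.mk_eq_zero]
        exact ⟨g, hg⟩
      · intro α
        obtain ⟨f, rfl⟩ := cocycleToExt_surjective (R := A) P Y n (n + 1) rfl α
        exact ⟨Submodule.Quotient.mk f, rfl⟩)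

end ExtSide

section Glue
variable {X : ModuleCat.{u} A} (P : ProjectiveResolution X)
  [hfin : ∀ j, Module.Finite A (P.complex.X j)] [hfree : ∀ j, Module.Free A (P.complex.X j)]

/-- `Hom(P_j, A)` as linear maps versus morphisms -/
noncomputable def homE (j : ℕ) :
    (P.complex.X j →ₗ[A] A) ≃ₗ[A] (K (R := A) P (ModuleCat.of A A)).X j :=
  (ModuleCat.homLinearEquiv (R := A) (S := A) (M := P.complex.X j) (N := ModuleCat.of A A)).symm

omit hfin hfree in
theorem homE_symm_apply (j : ℕ) (φ : P.complex.X j ⟶ ModuleCat.of A A) :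
    (homE P j).symm φ = φ.hom := rfl

/-- `E ⊗ P_j ≃ Hom(Hom(P_j, A), E)` -/
noncomputable def tauK (j : ℕ) :
    TensorProduct A E (P.complex.X j) ≃ₗ[A] ((K (R := A) P (ModuleCat.of A A)).X j →ₗ[A] E) :=
  (tau A E (P.complex.X j)).trans
    (LinearEquiv.arrowCongr (homE P j) (LinearEquiv.refl A E))

theorem tauK_tmul (j : ℕ) (e : E) (p : P.complex.X j) (φ : P.complex.X j ⟶ ModuleCat.of A A) :
    tauK E P j (e ⊗ₜ p) φ = (φ.hom p : A) • e := by
  unfold tauK
  rw [LinearEquiv.trans_apply, LinearEquiv.arrowCongr_apply]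
  exact tau_tmul A E (P.complex.X j) e p φ.hom

theorem tauK_nat (i j : ℕ) (t : TensorProduct A E (P.complex.X i)) :
    tauK E P j (LinearMap.lTensor E (P.complex.d i j).hom t) =
      (tauK E P i t).comp ((K (R := A) P (ModuleCat.of A A)).d j i).hom := by
  induction t using TensorProduct.induction_on with
  | zero => simp only [map_zero, LinearMap.zero_comp]
  | tmul e p =>
    apply LinearMap.ext
    intro φ
    rw [LinearMap.comp_apply, LinearMap.lTensor_tmul, tauK_tmul, K_d_apply, tauK_tmul]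
    rfl
  | add x y hx hy => simp only [map_add, hx, hy, LinearMap.add_comp]

omit hfin hfree in
theorem K_d_comp (a b c : ℕ) (x : (K (R := A) P (ModuleCat.of A A)).X a) :
    ((K (R := A) P (ModuleCat.of A A)).d b c).hom
      (((K (R := A) P (ModuleCat.of A A)).d a b).hom x) = 0 := by
  have := (K (R := A) P (ModuleCat.of A A)).d_comp_d a b c
  have h2 := congrArg (fun f => f.hom x) this
  simpa using h2

/-- **`Tor_n(E, X) ≃ Hom(Ext^n(X, A), E)`** for `E` injective, `X` resolved by finite free modules -/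
noncomputable def torEquiv (hE : Module.Baer A E) (n : ℕ) :
    (((Tor (ModuleCat.{u} A) n).obj (ModuleCat.of A E)).obj X) ≃ₗ[A]
      (Abelian.Ext.{u} X (ModuleCat.of A A) n →ₗ[A] E) :=
  let e1 : (((Tor (ModuleCat.{u} A) n).obj (ModuleCat.of A E)).obj X) ≃ₗ[A]
      (L E P.complex).homology n :=
    (P.isoLeftDerivedObj ((tensoringLeft (ModuleCat.{u} A)).obj (ModuleCat.of A E)) n).toLinearEquiv
  let e2 : (L E P.complex).homology n ≃ₗ[A]
      Hmod (LinearMap.lTensor E (P.complex.d (n + 1) n).hom)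
        (LinearMap.lTensor E (P.complex.d n (n - 1)).hom) := homologyEquiv (L E P.complex) n
  let e3 := dualEquiv ((K (R := A) P (ModuleCat.of A A)).d (n - 1) n).hom
    ((K (R := A) P (ModuleCat.of A A)).d n (n + 1)).hom
    (LinearMap.lTensor E (P.complex.d (n + 1) n).hom)
    (LinearMap.lTensor E (P.complex.d n (n - 1)).hom)
    (tauK E P (n + 1)) (tauK E P n) (tauK E P (n - 1))
    (fun t => tauK_nat E P (n + 1) n t) (fun t => tauK_nat E P n (n - 1) t)
    (fun x => K_d_comp P (n - 1) n (n + 1) x) hE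
  e1 ≪≫ₗ e2 ≪≫ₗ e3 ≪≫ₗ
    (LinearEquiv.arrowCongr (extEquiv P (ModuleCat.of A A) n) (LinearEquiv.refl A E))

end Glue

end Cat

end Groth.Agent.Lib.helper19.TorDual
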