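import Mathlib
import Groth.Agent.Lib.Helper19.TorDual2
set_option autoImplicit false

/-! `Tor_n(M, X)` as `ker/im` from a projective resolution of `X`; resolutions extending a given
finite free presentation (helper19). -/

universe u

namespace Groth.Agent.Lib.helper19.TorDual
open CategoryTheory MonoidalCategory Groth.Agent.Lib.helper10.MinRes

section
variable {A : Type u} [CommRing A]

/-- `Tor_n(M, X)` computed from a projective resolution of `X` -/
noncomputable def torHmod {X : ModuleCat.{u} A} (P : ProjectiveResolution X)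
    (M : Type u) [AddCommGroup M] [Module A M] (n : ℕ) :
    (((Tor (ModuleCat.{u} A) n).obj (ModuleCat.of A M)).obj X) ≃ₗ[A]
      Hmod (LinearMap.lTensor M (P.complex.d (n + 1) n).hom)
        (LinearMap.lTensor M (P.complex.d n (n - 1)).hom) :=
  let e1 : (((Tor (ModuleCat.{u} A) n).obj (ModuleCat.of A M)).obj X) ≃ₗ[A]
      (L M P.complex).homology n :=
    (P.isoLeftDerivedObj ((tensoringLeft (ModuleCat.{u} A)).obj (ModuleCat.of A M)) n).toLinearEquiv
  let e2 : (L M P.complex).homology n ≃ₗ[A]
      Hmod (LinearMap.lTensor M (P.complex.d (n + 1) n).hom)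
        (LinearMap.lTensor M (P.complex.d n (n - 1)).hom) := homologyEquiv (L M P.complex) n
  e1 ≪≫ₗ e2

theorem subsingleton_Hmod_of_injective {X₁ X₂ X₃ : Type u} [AddCommGroup X₁] [Module A X₁]
    [AddCommGroup X₂] [Module A X₂] [AddCommGroup X₃] [Module A X₃]
    (f : X₁ →ₗ[A] X₂) (g : X₂ →ₗ[A] X₃) (hg : Function.Injective g) : Subsingleton (Hmod f g) := by
  have hk : LinearMap.ker g = ⊥ := LinearMap.ker_eq_bot.mpr hg
  have : Subsingleton (LinearMap.ker g) := by
    rw [hk]
    infer_instance
  infer_instance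

/-- `Tor_1(M, X) = 0` if `M ⊗ d₀` is injective for a finite free resolution of `X` -/
theorem isZero_tor_one_of_injective {X : Type u} [AddCommGroup X] [Module A X] (F : Res A X)
    (M : Type u) [AddCommGroup M] [Module A M]
    (h : Function.Injective (LinearMap.lTensor M (F.dLin 0))) :
    Limits.IsZero (((Tor (ModuleCat.{u} A) 1).obj (ModuleCat.of A M)).obj (ModuleCat.of A X)) := by
  have e := torHmod F.projRes M 1
  have hd : (F.projRes.complex.d 1 0).hom = F.dLin 0 := by
    show ((Res.cx F).d (0 + 1) 0).hom = F.dLin 0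
    rw [Res.cx_d]
    rfl
  have hs : Subsingleton (Hmod (LinearMap.lTensor M (F.projRes.complex.d (1 + 1) 1).hom)
      (LinearMap.lTensor M (F.projRes.complex.d 1 (1 - 1)).hom)) := by
    apply subsingleton_Hmod_of_injective
    show Function.Injective (LinearMap.lTensor M (F.projRes.complex.d 1 0).hom)
    rw [hd]
    exact h
  haveI := e.injective.subsingleton
  exact ModuleCat.isZero_of_subsingleton _

end

section Pres
variable (A : Type u) [CommRing A] [IsNoetherianRing A]

/-- ranks of a resolution extending a presentation -/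
noncomputable def presRk (b a : ℕ) (d₀ : (Fin a → A) →ₗ[A] (Fin b → A)) : ℕ → ℕ
  | 0 => b
  | i + 1 => (stage A ⟨a, LinearMap.ker d₀⟩ i).r

/-- differentials of a resolution extending a presentation -/
noncomputable def presD (b a : ℕ) (d₀ : (Fin a → A) →ₗ[A] (Fin b → A)) :
    (i : ℕ) → (Fin (presRk A b a d₀ (i + 1)) → A) →ₗ[A] (Fin (presRk A b a d₀ i) → A)
  | 0 => d₀
  | i + 1 => nextD A (stage A ⟨a, LinearMap.ker d₀⟩ i)

/-- a finite free resolution extending a given finite free presentation -/
noncomputable def resOfPresentation {M : Type u} [AddCommGroup M] [Module A M] (b a : ℕ)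
    (ε : (Fin b → A) →ₗ[A] M) (d₀ : (Fin a → A) →ₗ[A] (Fin b → A))
    (hε : Function.Surjective ε) (hex : LinearMap.ker ε = LinearMap.range d₀) : Res A M where
  rk := presRk A b a d₀
  dLin := presD A b a d₀
  augLin := ε
  aug_surjective := hε
  exact_zero := hex
  exact_succ := fun i => match i with
    | 0 => (range_nextD A ⟨a, LinearMap.ker d₀⟩).symm
    | i + 1 => (range_nextD A (stage A ⟨a, LinearMap.ker d₀⟩ (i + 1))).symm

theorem resOfPresentation_dLin_zero {M : Type u} [AddCommGroup M] [Module A M] (b a : ℕ)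
    (ε : (Fin b → A) →ₗ[A] M) (d₀ : (Fin a → A) →ₗ[A] (Fin b → A))
    (hε : Function.Surjective ε) (hex : LinearMap.ker ε = LinearMap.range d₀) :
    (resOfPresentation A b a ε d₀ hε hex).dLin 0 = d₀ := rfl

end Pres

end Groth.Agent.Lib.helper19.TorDual
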