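import Mathlib
import Groth.Agent.Lib.Helper19.Hyper1
import Groth.Agent.Lib.Helper19.TorDual3
set_option autoImplicit false

/-! Hypersurface tools II: for `R = S/(f)`, `S` a domain, and a presentation `p : R^k → N` with
`K = ker (S^k → N)` finite free over `S`: a finite free presentation of `Hom_R(N, R)` whose first
differential stays injective after `M ⊗ -` as soon as `Hom_S(N, M) = 0`. Consequently
`Tor_1^R(M, Hom_R(N,R)) = 0`. -/

universe u

namespace Groth.Agent.Lib.helper19.Hyper
open TensorProduct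

section MF
variable {S R : Type u} [CommRing S] [IsDomain S] [CommRing R] [Algebra S R]
  (hsurj : Function.Surjective (algebraMap S R)) (f : S) (hf : f ≠ 0)
  (hker : RingHom.ker (algebraMap S R) = Ideal.span {f})
variable {P Q : Type u} [AddCommGroup P] [Module S P] [AddCommGroup Q] [Module S Q]

include hf hker in
/-- division by `f` of a functional with values in `(f)` -/
theorem exists_div (θ : Q →ₗ[S] S) (hθ : ∀ v, algebraMap S R (θ v) = 0) :
    ∃ ρ : Q →ₗ[S] S, ∀ v, θ v = f * ρ v := by
  let μ : S →ₗ[S] S := LinearMap.mulLeft S f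
  have hμ : Function.Injective μ := fun a b h => mul_left_cancel₀ hf h
  have hmem : ∀ v, θ v ∈ LinearMap.range μ := by
    intro v
    have h1 : θ v ∈ RingHom.ker (algebraMap S R) := hθ v
    rw [hker, Ideal.mem_span_singleton'] at h1
    obtain ⟨a, ha⟩ := h1
    exact ⟨a, by rw [← ha, mul_comm]; rfl⟩
  refine ⟨((LinearEquiv.ofInjective μ hμ).symm : LinearMap.range μ →ₗ[S] S) ∘ₗ
    θ.codRestrict (LinearMap.range μ) hmem, fun v => ?_⟩
  have h2 := (LinearEquiv.ofInjective μ hμ).apply_symm_apply ⟨θ v, hmem v⟩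
  have h3 := congrArg Subtype.val h2
  exact h3.symm

include hsurj hf hker in
/-- the key lifting property of a "matrix factorization" -/
theorem mf_lift [Module.Projective S P] (a : P →ₗ[S] Q) (b : Q →ₗ[S] P)
    (hba : ∀ v, b (a v) = f • v) (ν' : P →ₗ[S] R) (hν : ∀ w, ν' (b w) = 0) :
    ∃ ν : Q →ₗ[S] R, ∀ v, ν (a v) = ν' v := by
  obtain ⟨νt, hνt⟩ := Module.projective_lifting_property (Algebra.linearMap S R) ν' hsurj
  have hνt' : ∀ v, algebraMap S R (νt v) = ν' v := fun v => LinearMap.congr_fun hνt v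
  obtain ⟨ρ, hρ⟩ := exists_div (R := R) f hf hker (νt ∘ₗ b) (by
    intro w
    rw [LinearMap.comp_apply, hνt', hν])
  refine ⟨(Algebra.linearMap S R) ∘ₗ ρ, fun v => ?_⟩
  rw [LinearMap.comp_apply, Algebra.linearMap_apply, ← hνt']
  congr 1
  apply mul_left_cancel₀ hf
  rw [← hρ, LinearMap.comp_apply, hba, map_smul, smul_eq_mul]

end MF

section Desc
variable {S : Type u} [CommRing S] {F N M' : Type u} [AddCommGroup F] [Module S F] [AddCommGroup N]
  [Module S N] [AddCommGroup M'] [Module S M']

/-- descent of a linear map along a surjection -/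
theorem exists_desc (q : F →ₗ[S] N) (hq : Function.Surjective q) (l : F →ₗ[S] M')
    (h : LinearMap.ker q ≤ LinearMap.ker l) : ∃ χ : N →ₗ[S] M', ∀ v, χ (q v) = l v := by
  refine ⟨((LinearMap.ker q).liftQ l h) ∘ₗ (q.quotKerEquivOfSurjective hq).symm.toLinearMap,
    fun v => ?_⟩
  rw [LinearMap.comp_apply]
  have : (q.quotKerEquivOfSurjective hq).symm (q v) = Submodule.Quotient.mk v := by
    rw [LinearEquiv.symm_apply_eq]
    rfl
  rw [LinearEquiv.coe_coe, this, Submodule.liftQ_apply]

end Desc

section Dual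
variable (S : Type u) {R : Type u} [CommRing S] [CommRing R] [Algebra S R]
  (hsurj : Function.Surjective (algebraMap S R)) (f : S) (hf : f ≠ 0)
  (hker : RingHom.ker (algebraMap S R) = Ideal.span {f})
  {N : Type u} [AddCommGroup N] [Module R N] [Module S N] [IsScalarTower S R N]
  (k : ℕ) (p : (Fin k → R) →ₗ[R] N) (hp : Function.Surjective p)

include hker in
theorem algebraMap_f : algebraMap S R f = 0 := by
  have : f ∈ RingHom.ker (algebraMap S R) := by
    rw [hker]
    exact Ideal.mem_span_singleton_self f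
  exact this

include hker in
theorem smul_mem_ker (v : Fin k → S) : f • v ∈ LinearMap.ker (qmap S k p) := by
  rw [LinearMap.mem_ker, map_smul, ← algebraMap_smul R f (qmap S k p v), algebraMap_f S f hker,
    zero_smul]

/-- `v ↦ f v` as a map `S^k → K` -/
noncomputable def jK : (Fin k → S) →ₗ[S] LinearMap.ker (qmap S k p) :=
  (LinearMap.lsmul S (Fin k → S) f).codRestrict _ (fun v => smul_mem_ker S f hker k p v)

theorem jK_coe (v : Fin k → S) : (jK S f hker k p v : Fin k → S) = f • v := rfl

/-- restriction `Hom_S(S^k, R) → Hom_S(K, R)` -/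
noncomputable def resR :
    ((Fin k → S) →ₗ[S] R) →ₗ[R] (LinearMap.ker (qmap S k p) →ₗ[S] R) where
  toFun ν := ν ∘ₗ (LinearMap.ker (qmap S k p)).subtype
  map_add' _ _ := LinearMap.add_comp _ _ _
  map_smul' _ _ := LinearMap.smul_comp _ _ _

theorem resR_apply (ν : (Fin k → S) →ₗ[S] R) (κ : LinearMap.ker (qmap S k p)) :
    resR S k p ν κ = ν κ.1 := rfl

/-- `ν ↦ ν ∘ (f ·)` : `Hom_S(K, R) → Hom_S(S^k, R)` -/
noncomputable def coresR :
    (LinearMap.ker (qmap S k p) →ₗ[S] R) →ₗ[R] ((Fin k → S) →ₗ[S] R) where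
  toFun ν := ν ∘ₗ jK S f hker k p
  map_add' _ _ := LinearMap.add_comp _ _ _
  map_smul' _ _ := LinearMap.smul_comp _ _ _

theorem coresR_apply (ν : LinearMap.ker (qmap S k p) →ₗ[S] R) (v : Fin k → S) :
    coresR S f hker k p ν v = ν (jK S f hker k p v) := rfl

theorem resR_coresR (ν : LinearMap.ker (qmap S k p) →ₗ[S] R) :
    resR S k p (coresR S f hker k p ν) = 0 := by
  apply LinearMap.ext
  intro κ
  rw [resR_apply, coresR_apply]
  have : jK S f hker k p κ.1 = f • κ := Subtype.ext rfl
  rw [this, map_smul, ← algebraMap_smul R f (ν κ), algebraMap_f S f hker, zero_smul]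
  rfl

theorem coresR_resR (ν : (Fin k → S) →ₗ[S] R) :
    coresR S f hker k p (resR S k p ν) = 0 := by
  apply LinearMap.ext
  intro v
  rw [coresR_apply, resR_apply, jK_coe, map_smul, ← algebraMap_smul R f (ν v),
    algebraMap_f S f hker, zero_smul]
  rfl

include hsurj hf in
theorem ker_resR_le [IsDomain S] : LinearMap.ker (resR S k p) ≤ LinearMap.range (coresR S f hker k p) := by
  intro ν' hν'
  obtain ⟨ν, hν⟩ := mf_lift hsurj f hf hker (jK S f hker k p)
    (LinearMap.ker (qmap S k p)).subtype (fun v => rfl) ν' (fun w => by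
      have := LinearMap.congr_fun (LinearMap.mem_ker.mp hν') w
      exact this)
  exact ⟨ν, LinearMap.ext hν⟩

include hsurj hf in
theorem ker_coresR_le [IsDomain S] [Module.Free S (LinearMap.ker (qmap S k p))] :
    LinearMap.ker (coresR S f hker k p) ≤ LinearMap.range (resR S k p) := by
  intro ν hν
  obtain ⟨ν', hν'⟩ := mf_lift hsurj f hf hker (LinearMap.ker (qmap S k p)).subtype
    (jK S f hker k p) (fun κ => Subtype.ext rfl) ν (fun w => by
      have := LinearMap.congr_fun (LinearMap.mem_ker.mp hν) w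
      exact this)
  exact ⟨ν', LinearMap.ext hν'⟩

/-- `Hom_R(N, R) → ker (Hom_S(S^k,R) → Hom_S(K,R))` -/
noncomputable def dualToX : (N →ₗ[R] R) →ₗ[R] LinearMap.ker (resR S k p) where
  toFun l := ⟨(l.restrictScalars S) ∘ₗ qmap S k p, by
    rw [LinearMap.mem_ker]
    apply LinearMap.ext
    intro κ
    rw [resR_apply, LinearMap.comp_apply, LinearMap.mem_ker.mp κ.2, map_zero]
    rfl⟩
  map_add' a b := Subtype.ext (by
    apply LinearMap.ext
    intro v
    rfl)
  map_smul' c a := Subtype.ext (by
    apply LinearMap.ext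
    intro v
    rfl)

theorem dualToX_apply (l : N →ₗ[R] R) (v : Fin k → S) :
    (dualToX S k p l).1 v = l (qmap S k p v) := rfl

include hsurj hp in
theorem dualToX_bijective : Function.Bijective (dualToX S k p) := by
  have hq := qmap_surjective S k p hsurj hp
  constructor
  · refine (injective_iff_map_eq_zero _).mpr ?_
    intro l hl
    apply LinearMap.ext
    intro y
    obtain ⟨v, rfl⟩ := hq y
    have := LinearMap.congr_fun (congrArg Subtype.val hl) v
    rw [dualToX_apply] at this
    exact this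
  · rintro ⟨ν, hν⟩
    obtain ⟨χ, hχ⟩ := exists_desc (qmap S k p) hq ν (by
      intro v hv
      have := LinearMap.congr_fun (LinearMap.mem_ker.mp hν) ⟨v, hv⟩
      exact this)
    refine ⟨χ.extendScalarsOfSurjective hsurj, Subtype.ext ?_⟩
    apply LinearMap.ext
    intro v
    rw [dualToX_apply]
    exact hχ v

section Pres
variable [IsDomain S] [Module.Free S (LinearMap.ker (qmap S k p))]
  [Module.Finite S (LinearMap.ker (qmap S k p))]

/-- `R^k ≃ Hom_S(S^k, R)` -/
noncomputable def cF : (Fin k → R) ≃ₗ[R] ((Fin k → S) →ₗ[S] R) :=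
  (Pi.basisFun S (Fin k)).constr R

/-- `R^k' ≃ Hom_S(K, R)` -/
noncomputable def cK : (Fin (Module.finrank S (LinearMap.ker (qmap S k p))) → R) ≃ₗ[R]
    (LinearMap.ker (qmap S k p) →ₗ[S] R) :=
  (Module.finBasis S (LinearMap.ker (qmap S k p))).constr R

/-- first differential of the presentation of `Hom_R(N,R)` -/
noncomputable def dZero : (Fin k → R) →ₗ[R]
    (Fin (Module.finrank S (LinearMap.ker (qmap S k p))) → R) :=
  (cK S k p).symm.toLinearMap ∘ₗ resR S k p ∘ₗ (cF S k).toLinearMap

/-- augmentation of the presentation of `ker resR ≃ Hom_R(N,R)` -/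
noncomputable def augX : (Fin (Module.finrank S (LinearMap.ker (qmap S k p))) → R) →ₗ[R]
    LinearMap.ker (resR S k p) :=
  ((coresR S f hker k p).codRestrict (LinearMap.ker (resR S k p))
    (fun ν => LinearMap.mem_ker.mpr (resR_coresR S f hker k p ν))) ∘ₗ (cK S k p).toLinearMap

include hsurj hf in
theorem augX_surjective : Function.Surjective (augX S f hker k p) := by
  rintro ⟨ν', hν'⟩
  obtain ⟨ν, hν⟩ := ker_resR_le S hsurj f hf hker k p hν'
  refine ⟨(cK S k p).symm ν, Subtype.ext ?_⟩
  show coresR S f hker k p ((cK S k p) ((cK S k p).symm ν)) = ν'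
  rw [LinearEquiv.apply_symm_apply]
  exact hν

include hsurj hf in
theorem ker_augX : LinearMap.ker (augX S f hker k p) = LinearMap.range (dZero S k p) := by
  ext z
  rw [LinearMap.mem_ker]
  constructor
  · intro hz
    have h1 : coresR S f hker k p ((cK S k p) z) = 0 := congrArg Subtype.val hz
    obtain ⟨ν', hν'⟩ := ker_coresR_le S hsurj f hf hker k p (LinearMap.mem_ker.mpr h1)
    refine ⟨(cF S k).symm ν', ?_⟩
    show (cK S k p).symm (resR S k p ((cF S k) ((cF S k).symm ν'))) = z
    rw [LinearEquiv.apply_symm_apply, hν', LinearEquiv.symm_apply_apply]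
  · rintro ⟨w, rfl⟩
    apply Subtype.ext
    show coresR S f hker k p ((cK S k p) ((cK S k p).symm (resR S k p ((cF S k) w)))) = 0
    rw [LinearEquiv.apply_symm_apply, coresR_resR]

/-- a finite free resolution of `ker resR ≃ Hom_R(N,R)` starting with `dZero` -/
noncomputable def dualRes [IsNoetherianRing R] :
    Groth.Agent.Lib.helper10.MinRes.Res R (LinearMap.ker (resR S k p)) :=
  Groth.Agent.Lib.helper19.TorDual.resOfPresentation R _ k (augX S f hker k p) (dZero S k p)
    (augX_surjective S hsurj f hf hker k p) (ker_augX S hsurj f hf hker k p)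

theorem dualRes_dLin_zero [IsNoetherianRing R] :
    (dualRes S hsurj f hf hker k p).dLin 0 = dZero S k p := rfl

end Pres

section Theta
variable {M : Type u} [AddCommGroup M] [Module R M] [Module S M] [IsScalarTower S R M]
variable {P : Type u} [AddCommGroup P] [Module S P]

/-- `m, ν ↦ (v ↦ ν v • m)` -/
noncomputable def thetaB : M →ₗ[R] (P →ₗ[S] R) →ₗ[R] (P →ₗ[S] M) :=
  LinearMap.mk₂ R (fun m ν => ((LinearMap.toSpanSingleton R M m).restrictScalars S) ∘ₗ ν)
    (fun m₁ m₂ ν => by
      apply LinearMap.ext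
      intro v
      show ν v • (m₁ + m₂) = ν v • m₁ + ν v • m₂
      exact smul_add _ _ _)
    (fun c m ν => by
      apply LinearMap.ext
      intro v
      show ν v • c • m = c • ν v • m
      exact smul_comm _ _ _)
    (fun m ν₁ ν₂ => by
      apply LinearMap.ext
      intro v
      show (ν₁ v + ν₂ v) • m = ν₁ v • m + ν₂ v • m
      exact add_smul _ _ _)
    (fun c m ν => by
      apply LinearMap.ext
      intro v
      show (c • ν v) • m = c • ν v • m
      exact smul_assoc _ _ _)

/-- `M ⊗_R Hom_S(P, R) → Hom_S(P, M)` -/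
noncomputable def theta : M ⊗[R] (P →ₗ[S] R) →ₗ[R] (P →ₗ[S] M) := TensorProduct.lift (thetaB S)

theorem theta_tmul (m : M) (ν : P →ₗ[S] R) (v : P) : theta S (m ⊗ₜ[R] ν) v = ν v • m := rfl

theorem theta_res (z : M ⊗[R] ((Fin k → S) →ₗ[S] R)) :
    theta S (LinearMap.lTensor M (resR S k p) z) =
      (theta S z) ∘ₗ (LinearMap.ker (qmap S k p)).subtype := by
  induction z using TensorProduct.induction_on with
  | zero => simp only [map_zero, LinearMap.zero_comp]
  | tmul m ν =>
    apply LinearMap.ext
    intro κ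
    rw [LinearMap.lTensor_tmul, theta_tmul, LinearMap.comp_apply, theta_tmul]
    rfl
  | add x y hx hy => simp only [map_add, hx, hy, LinearMap.add_comp]

/-- the coordinate functionals `S^k → R` -/
noncomputable def piR (a : Fin k) : (Fin k → S) →ₗ[S] R :=
  (Algebra.linearMap S R) ∘ₗ (LinearMap.proj a : (Fin k → S) →ₗ[S] S)

theorem piR_apply (a : Fin k) (v : Fin k → S) : piR S (R := R) k a v = algebraMap S R (v a) := rfl

theorem eq_sum_piR (ν : (Fin k → S) →ₗ[S] R) :
    ν = ∑ a, ν (Pi.single a 1) • piR S (R := R) k a := by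
  classical
  apply LinearMap.ext
  intro v
  rw [LinearMap.sum_apply]
  conv_lhs => rw [LinearMap.pi_apply_eq_sum_univ ν v]
  refine Finset.sum_congr rfl (fun a _ => ?_)
  rw [LinearMap.smul_apply, piR_apply, smul_eq_mul, mul_comm, ← Algebra.smul_def]
  congr 2
  funext b
  simp [Pi.single_apply, eq_comm]

theorem eq_sum_theta (z : M ⊗[R] ((Fin k → S) →ₗ[S] R)) :
    z = ∑ a, (theta S z (Pi.single a 1)) ⊗ₜ[R] piR S (R := R) k a := by
  induction z using TensorProduct.induction_on with
  | zero => simp
  | tmul m ν =>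
    conv_lhs => rw [eq_sum_piR S k ν, TensorProduct.tmul_sum]
    refine Finset.sum_congr rfl (fun a _ => ?_)
    rw [theta_tmul, TensorProduct.smul_tmul]
  | add x y hx hy =>
    conv_lhs => rw [hx, hy]
    rw [← Finset.sum_add_distrib]
    refine Finset.sum_congr rfl (fun a _ => ?_)
    rw [map_add, LinearMap.add_apply, TensorProduct.add_tmul]

include hsurj hp in
theorem lTensor_resR_injective (hHom : ∀ χ : N →ₗ[S] M, χ = 0) :
    Function.Injective (LinearMap.lTensor M (resR S k p)) := by
  refine (injective_iff_map_eq_zero _).mpr ?_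
  intro z hz
  have h1 : (theta S z) ∘ₗ (LinearMap.ker (qmap S k p)).subtype = 0 := by
    rw [← theta_res, hz, map_zero]
  obtain ⟨χ, hχ⟩ := exists_desc (qmap S k p) (qmap_surjective S k p hsurj hp) (theta S z) (by
    intro v hv
    have := LinearMap.congr_fun h1 ⟨v, hv⟩
    exact this)
  have h2 : theta S z = 0 := by
    apply LinearMap.ext
    intro v
    rw [← hχ, hHom χ]
    rfl
  rw [eq_sum_theta S k z, h2]
  simp

end Theta

section Final
variable [IsDomain S] [Module.Free S (LinearMap.ker (qmap S k p))]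
  [Module.Finite S (LinearMap.ker (qmap S k p))] [IsNoetherianRing R]
  {M : Type u} [AddCommGroup M] [Module R M] [Module S M] [IsScalarTower S R M]

omit [IsNoetherianRing R] in
include hsurj hp in
theorem lTensor_dZero_injective (hHom : ∀ χ : N →ₗ[S] M, χ = 0) :
    Function.Injective (LinearMap.lTensor M (dZero S k p)) := by
  unfold dZero
  rw [LinearMap.lTensor_comp, LinearMap.lTensor_comp]
  exact ((LinearEquiv.lTensor M (cK S k p).symm).injective).comp
    ((lTensor_resR_injective S hsurj k p hp hHom).comp (LinearEquiv.lTensor M (cF S k)).injective)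

open CategoryTheory in
include hsurj hf hp hker in
/-- **`Tor_1^R(M, Hom_R(N, R)) = 0`** as soon as `Hom_S(N, M) = 0` -/
theorem isZero_tor_one_dual (hHom : ∀ χ : N →ₗ[S] M, χ = 0) :
    Limits.IsZero (((Tor (ModuleCat.{u} R) 1).obj (ModuleCat.of R M)).obj
      (ModuleCat.of R (Module.Dual R N))) := by
  have e : Module.Dual R N ≃ₗ[R] LinearMap.ker (resR S k p) :=
    LinearEquiv.ofBijective (dualToX S k p) (dualToX_bijective S hsurj k p hp)
  have hz := Groth.Agent.Lib.helper19.TorDual.isZero_tor_one_of_injective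
    (dualRes S hsurj f hf hker k p) M (by
      rw [dualRes_dLin_zero]
      exact lTensor_dZero_injective S hsurj k p hp hHom)
  exact hz.of_iso (((Tor (ModuleCat.{u} R) 1).obj (ModuleCat.of R M)).mapIso e.toModuleIso)

end Final

end Dual

end Groth.Agent.Lib.helper19.Hyper
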