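import Mathlib
import Groth.Agent.S1727
import Groth.Agent.Lib.Helper19.TorsT
import Groth.Agent.Lib.Helper19.DepthTwo
import Groth.Agent.Lib.Helper19.HTInj
set_option autoImplicit false

/-! (helper19) `finite_HT_one`: over a Noetherian ring with a dualizing complex, `H^1_T(N)` is finite when
`depth N_p ≥ 1` along immediate specializations `p ⋖ q`, `p ∉ T`, `q ∈ T` (from S1727). `main` (= S1738):
the map `M → M''` to the `T'`-ideal transform of `M / Γ_{T'} M`, realised as the `T'`-saturation of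
`M / Γ_{T'} M` inside a `T'`-torsion-free injective module; `M''` is finite, `M_p ≅ M''_p` outside `T'` and
`depth M''_p ≥ 2` on `T'`. -/

universe u
open CategoryTheory
attribute [local instance] HasDerivedCategory.standard
namespace Groth.Agent.Lib.helper19.IdealTransT
open Groth.Agent.Lib.helper19.TorsT Groth.Agent.Lib.helper19.DepthTwo Groth.Agent.Lib.helper19.HTInj
open Groth.Agent.Lib.helper26.Depth LocCoh

variable {A : Type u} [CommRing A] [IsNoetherianRing A]

/-- finiteness of `H^1_T` from the depth condition along immediate specializations. -/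
theorem finite_HT_one (hA : ∃ ω : Dual.D A, Dual.IsDualizing A ω) (T : Set (PrimeSpectrum A))
    (hT : StableUnderSpecialization T) (N : Type u) [AddCommGroup N] [Module A N]
    [Module.Finite A N]
    (hdepth : ∀ p q : PrimeSpectrum A, p ⋖ q → q ∈ T → p ∉ T →
      1 ≤ LocCoh.depth (Localization.AtPrime p.asIdeal) (LocalizedModule p.asIdeal.primeCompl N)) :
    Module.Finite A (Dual2.HT T 1 N) := by
  refine (Groth.Agent.S1727.result A hA T hT 1 N).2 ?_ 1 le_rfl
  intro p q hp hq hpq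
  have hlt : p < q := lt_of_le_of_ne hpq (by rintro rfl; exact hp hq)
  by_cases hcov : p ⋖ q
  · have hd := hdepth p q hcov hq hp
    have hk : (1 : WithBot ℕ∞) ≤ Order.krullDim (Set.Icc p q) :=
      Order.one_le_krullDim_iff.2 ⟨⟨p, le_rfl, hpq⟩, ⟨q, hpq, le_rfl⟩, hlt⟩
    have hd' : (1 : WithBot ℕ∞) ≤ ((LocCoh.depth (Localization.AtPrime p.asIdeal)
        (LocalizedModule p.asIdeal.primeCompl N) : ℕ∞) : WithBot ℕ∞) := by
      exact_mod_cast hd
    calc ((1 : ℕ) : WithBot ℕ∞) < 1 + 1 := by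
          rw [Nat.cast_one, one_add_one_eq_two]
          exact_mod_cast (by norm_num : (1 : ℕ∞) < 2)
      _ ≤ _ := add_le_add hd' hk
  · rw [not_covBy_iff hlt] at hcov
    obtain ⟨r, hpr, hrq⟩ := hcov
    have hh : 1 < Order.height (⟨q, hpq, le_rfl⟩ : Set.Icc p q) :=
      Order.one_lt_height_iff.2 ⟨⟨r, hpr.le, hrq.le⟩, ⟨p, le_rfl, hpq⟩, hpr, hrq⟩
    have hk : (2 : WithBot ℕ∞) ≤ Order.krullDim (Set.Icc p q) := by
      have h2 : (2 : ℕ∞) ≤ Order.height (⟨q, hpq, le_rfl⟩ : Set.Icc p q) := by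
        have := Order.add_one_le_of_lt hh
        rw [one_add_one_eq_two] at this
        exact this
      refine le_trans ?_ (Order.height_le_krullDim (⟨q, hpq, le_rfl⟩ : Set.Icc p q))
      have h3 : ((2 : ℕ∞) : WithBot ℕ∞) ≤
          ((Order.height (⟨q, hpq, le_rfl⟩ : Set.Icc p q) : ℕ∞) : WithBot ℕ∞) :=
        WithBot.coe_le_coe.2 h2
      exact h3
    have h0 : (0 : WithBot ℕ∞) ≤ ((LocCoh.depth (Localization.AtPrime p.asIdeal)
        (LocalizedModule p.asIdeal.primeCompl N) : ℕ∞) : WithBot ℕ∞) := by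
      exact_mod_cast WithBot.coe_le_coe.2 (zero_le : (0 : ℕ∞) ≤ LocCoh.depth (Localization.AtPrime p.asIdeal)
        (LocalizedModule p.asIdeal.primeCompl N))
    calc ((1 : ℕ) : WithBot ℕ∞) < 2 := by
          rw [Nat.cast_one]
          exact_mod_cast (by norm_num : (1 : ℕ∞) < 2)
      _ ≤ Order.krullDim (Set.Icc p q) := hk
      _ ≤ _ := le_add_of_nonneg_left h0

omit [IsNoetherianRing A] in
/-- primes outside `T` do not contain ideals of `IdealsIn T`. -/
lemma exists_notMem_of_notMem {T : Set (PrimeSpectrum A)} {J : Ideal A}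
    (hJ : PrimeSpectrum.zeroLocus (J : Set A) ⊆ T) {p : PrimeSpectrum A} (hp : p ∉ T) :
    ∃ s ∈ J, s ∉ p.asIdeal := by
  by_contra hcon
  push Not at hcon
  exact hp (hJ (by
    rw [PrimeSpectrum.mem_zeroLocus]
    exact fun s hs => hcon s hs))

theorem main (hA : ∃ ω : Dual.D A, Dual.IsDualizing A ω) (T' : Set (PrimeSpectrum A))
    (hT : StableUnderSpecialization T') (M : Type u) [AddCommGroup M] [Module A M]
    [Module.Finite A M]
    (hM : ∀ p q : PrimeSpectrum A, p ⋖ q → q ∈ T' → p ∉ T' →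
      1 ≤ LocCoh.depth (Localization.AtPrime p.asIdeal) (LocalizedModule p.asIdeal.primeCompl M)) :
    ∃ (M'' : Type u) (_ : AddCommGroup M'') (_ : Module A M'') (_ : Module.Finite A M'')
      (f : M →ₗ[A] M''),
      (∀ p : PrimeSpectrum A, p ∉ T' →
        Function.Bijective (LocalizedModule.map p.asIdeal.primeCompl f)) ∧
      ∀ p : PrimeSpectrum A, p ∈ T' →
        2 ≤ LocCoh.depth (Localization.AtPrime p.asIdeal)
          (LocalizedModule p.asIdeal.primeCompl M'') := by
  classical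
  -- step 1: kill the torsion
  set Γ : Submodule A M := gam T' M with hΓ
  let N := M ⧸ Γ
  have hN : gam T' N = ⊥ := gam_quot_sat ⊥
  obtain ⟨J₀, hJ₀, hJ₀Γ⟩ := exists_ideal_of_fg (T := T') (⊥ : Submodule A M) Γ
    (IsNoetherian.noetherian Γ) le_rfl
  have hbijN : ∀ p : PrimeSpectrum A, p ∉ T' →
      Function.Bijective (LocalizedModule.map p.asIdeal.primeCompl Γ.mkQ) := by
    intro p hp
    obtain ⟨s, hsJ, hsp⟩ := exists_notMem_of_notMem hJ₀ hp
    refine localizedMap_bijective p.asIdeal.primeCompl Γ.mkQ s hsp ?_ ?_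
    · intro x hx
      rw [Submodule.mkQ_apply, Submodule.Quotient.mk_eq_zero] at hx
      exact (Submodule.mem_bot A).1 (hJ₀Γ s hsJ x hx)
    · intro y
      obtain ⟨x, rfl⟩ := Submodule.mkQ_surjective _ y
      exact ⟨s • x, map_smul _ _ _⟩
  -- step 2: finiteness of `H^1_{T'}(N)`
  have hdepthN : ∀ p q : PrimeSpectrum A, p ⋖ q → q ∈ T' → p ∉ T' →
      1 ≤ LocCoh.depth (Localization.AtPrime p.asIdeal)
        (LocalizedModule p.asIdeal.primeCompl N) := by
    intro p q hpq hq hp
    let e : LocalizedModule p.asIdeal.primeCompl M ≃ₗ[Localization.AtPrime p.asIdeal]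
        LocalizedModule p.asIdeal.primeCompl N :=
      LinearEquiv.ofBijective (LocalizedModule.map p.asIdeal.primeCompl Γ.mkQ) (hbijN p hp)
    have := hM p q hpq hq hp
    unfold LocCoh.depth at this ⊢
    rw [← idealDepth_congr (I := IsLocalRing.maximalIdeal (Localization.AtPrime p.asIdeal)) e]
    exact this
  have hfin : Module.Finite A (Dual2.HT T' 1 N) := finite_HT_one hA T' hT N hdepthN
  -- step 3: the torsion-free injective hull substitute
  obtain ⟨E', _, _, j, hE', hj, hE'0⟩ := exists_embedding T' N hN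
  have hE0 : ∀ (J : Dual2.IdealsIn T') (x : E'), (∀ a ∈ J.obj, a • x = 0) → x = 0 := by
    intro J x hx
    have : x ∈ gam T' E' := mem_gam.2 ⟨J.obj, J.property, hx⟩
    rw [hE'0] at this
    exact (Submodule.mem_bot A).1 this
  set Q : Submodule A (E' ⧸ LinearMap.range j) := gam T' (E' ⧸ LinearMap.range j) with hQdef
  have hQ : ∀ x ∈ Q, ∃ J : Dual2.IdealsIn T', ∀ a ∈ J.obj, a • x = 0 := by
    intro x hx
    obtain ⟨J, hJ, h⟩ := mem_gam.1 hx
    exact ⟨⟨J, hJ⟩, h⟩
  have hQfin : Module.Finite A Q := finite_of_HT j hj Q hQ hfin hE0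
  -- step 4: the module `D`
  set D : Submodule A E' := sat T' (LinearMap.range j) with hD
  have hDmap : D.map (LinearMap.range j).mkQ = Q := by
    ext q
    constructor
    · rintro ⟨x, hx, rfl⟩
      exact (mkQ_mem_gam_iff _ x).2 hx
    · intro hq
      obtain ⟨x, rfl⟩ := Submodule.mkQ_surjective _ q
      exact ⟨x, (mkQ_mem_gam_iff _ x).1 hq, rfl⟩
  have hDfg : D.FG := by
    refine Submodule.fg_of_fg_map_of_fg_inf_ker (LinearMap.range j).mkQ ?_ ?_
    · rw [hDmap]
      exact (Module.Finite.iff_fg).1 hQfin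
    · rw [Submodule.ker_mkQ, inf_eq_right.2 (le_sat _)]
      rw [LinearMap.range_eq_map]
      exact Submodule.FG.map _ Module.Finite.fg_top
  haveI hDfin : Module.Finite A D := (Module.Finite.iff_fg).2 hDfg
  let f : M →ₗ[A] D := LinearMap.codRestrict D (j ∘ₗ Γ.mkQ) (fun x => le_sat _ ⟨_, rfl⟩)
  obtain ⟨J₁, hJ₁, hJ₁Q⟩ := exists_ideal_of_fg (T := T') (⊥ : Submodule A (E' ⧸ LinearMap.range j)) Q
    ((Module.Finite.iff_fg).1 hQfin) le_rfl
  refine ⟨D, inferInstance, inferInstance, hDfin, f, ?_, ?_⟩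
  · intro p hp
    obtain ⟨s₀, hs₀J, hs₀p⟩ := exists_notMem_of_notMem hJ₀ hp
    obtain ⟨s₁, hs₁J, hs₁p⟩ := exists_notMem_of_notMem hJ₁ hp
    refine localizedMap_bijective p.asIdeal.primeCompl f (s₀ * s₁)
      (p.asIdeal.primeCompl.mul_mem hs₀p hs₁p) ?_ ?_
    · intro x hx
      have h1 : j (Γ.mkQ x) = 0 := congrArg Subtype.val hx
      have h2 : Γ.mkQ x = 0 := hj (by rw [h1, map_zero])
      rw [Submodule.mkQ_apply, Submodule.Quotient.mk_eq_zero] at h2
      rw [mul_comm, mul_smul, (Submodule.mem_bot A).1 (hJ₀Γ s₀ hs₀J x h2), smul_zero]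
    · intro y
      have hyQ : (LinearMap.range j).mkQ y.1 ∈ Q := (mkQ_mem_gam_iff _ y.1).2 y.2
      have h1 := (Submodule.mem_bot A).1 (hJ₁Q s₁ hs₁J _ hyQ)
      rw [← map_smul, Submodule.mkQ_apply, Submodule.Quotient.mk_eq_zero] at h1
      obtain ⟨n, hn⟩ := h1
      obtain ⟨m, rfl⟩ := Submodule.mkQ_surjective _ n
      refine ⟨s₀ • m, ?_⟩
      apply Subtype.ext
      rw [map_smul, Submodule.coe_smul, Submodule.coe_smul, mul_smul]
      congr 1
  · intro p hp
    have hV : PrimeSpectrum.zeroLocus ((p.asIdeal : Ideal A) : Set A) ⊆ T' := by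
      intro q hq
      rw [PrimeSpectrum.mem_zeroLocus] at hq
      have hle : p ≤ q := hq
      exact hT ((PrimeSpectrum.le_iff_specializes p q).1 hle) hp
    have h2 : (2 : ℕ∞) ≤ idealDepth p.asIdeal D := by
      refine two_le_idealDepth p.asIdeal D E' D.subtype Subtype.val_injective hE' ?_ ?_
      · intro x hx
        have : x ∈ gam T' E' := mem_gam.2 ⟨p.asIdeal, hV, hx⟩
        rw [hE'0] at this
        exact (Submodule.mem_bot A).1 this
      · intro x hx
        rw [Submodule.range_subtype] at hx ⊢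
        have : x ∈ sat T' D := ⟨p.asIdeal, hV, hx⟩
        rw [hD, sat_sat] at this
        exact this
    exact le_trans h2 (idealDepth_le_depth_localization p.asIdeal D p.asIdeal le_rfl)

end Groth.Agent.Lib.helper19.IdealTransT
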