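import Mathlib
import Groth.Agent.Lib.Helper8.LocalFlat
import Groth.Agent.S1267

/-!
# Bourbaki's local criterion (ideally separated form) and flatness along chains of ideals

* `bourbaki` : over a Noetherian ring, if `M / Jᵏ M` is flat over `A / Jᵏ` for all `k ≥ 1` and
  `𝔟 ⊗ M` is `J`-adically separated for all ideals `𝔟`, then `M` is flat.
* `step` : square-zero step of flatness, with local flatness at a finite set of primes.
* `main` : chain version.
-/

set_option autoImplicit false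
universe u

namespace Groth.Agent.Lib.Helper19.IdeallySep

open TensorProduct Function
open Groth.Agent.Lib.helper8.LocalFlat
open Groth.Agent.Lib.helper8.Mil

section Bourbaki

variable {A : Type u} [CommRing A] [IsNoetherianRing A]

/-- (copied from the proof of helper8's `flat_of_forall_flat_quotient_pow`): elements of the kernel
lie in all `Jᵐ • ⊤`. -/
theorem mem_pow_smul_top_of_forall_flat_quotient_pow (J : Ideal A) (M : Type u) [AddCommGroup M]
    [Module A M]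
    (h : ∀ k : ℕ, 0 < k → Module.Flat (A ⧸ J ^ k) ((A ⧸ J ^ k) ⊗[A] M)) (𝔟 : Ideal A)
    (x : 𝔟 ⊗[A] M) (hx : 𝔟.subtype.rTensor M x = 0) (m : ℕ) :
    x ∈ (J ^ m) • (⊤ : Submodule A (𝔟 ⊗[A] M)) := by
  -- Step 1
  have step1 : ∀ k : ℕ, 0 < k →
      ∃ y, (Submodule.inclusion (inf_le_right : J ^ k ⊓ 𝔟 ≤ 𝔟)).rTensor M y = x := by
    intro k hk
    haveI := h k hk
    let μ : ↥(J ^ k ⊓ 𝔟) →ₗ[A] 𝔟 := Submodule.inclusion inf_le_right
    have hrange : ∀ b : 𝔟, b ∈ LinearMap.range μ ↔ b.1 ∈ J ^ k := by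
      intro b
      constructor
      · rintro ⟨z, rfl⟩
        exact z.2.1
      · intro hb
        exact ⟨⟨b.1, hb, b.2⟩, Subtype.ext rfl⟩
    have hle2 : LinearMap.range μ ≤ Submodule.comap 𝔟.subtype (J ^ k) := fun b hb =>
      (hrange b).mp hb
    let g : (𝔟 ⧸ LinearMap.range μ) →ₗ[A] (A ⧸ J ^ k) := Submodule.mapQ _ (J ^ k) 𝔟.subtype hle2
    have hg : Function.Injective g := by
      rw [injective_iff_map_eq_zero]
      intro z hz
      obtain ⟨b, rfl⟩ := Submodule.mkQ_surjective _ z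
      rw [Submodule.mkQ_apply, Submodule.mapQ_apply, Submodule.Quotient.mk_eq_zero] at hz
      rw [Submodule.mkQ_apply, Submodule.Quotient.mk_eq_zero]
      exact (hrange b).mpr hz
    have hQ₁ : ∀ j ∈ J ^ k, ∀ q : 𝔟 ⧸ LinearMap.range μ, j • q = 0 := by
      intro j hj q
      obtain ⟨b, rfl⟩ := Submodule.mkQ_surjective _ q
      rw [← map_smul, Submodule.mkQ_apply, Submodule.Quotient.mk_eq_zero, hrange]
      exact (J ^ k).mul_mem_right _ hj
    have hQ₂ : ∀ j ∈ J ^ k, ∀ q : A ⧸ J ^ k, j • q = 0 := by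
      intro j hj q
      obtain ⟨r, rfl⟩ := Submodule.mkQ_surjective _ q
      rw [← map_smul, Submodule.mkQ_apply, Submodule.Quotient.mk_eq_zero]
      exact (J ^ k).mul_mem_right _ hj
    exact exists_rTensor_eq_of_chase₁ M μ 𝔟.subtype (LinearMap.range μ).mkQ
      (Submodule.mkQ (J ^ k)) g (LinearMap.exact_map_mkQ_range μ) (Submodule.mkQ_surjective _)
      (by ext b; rfl) (rTensor_injective_of_torsion (J ^ k) M hQ₁ hQ₂ g hg) x hx
  -- Step 2: Artin–Rees
  obtain ⟨k₀, hk₀⟩ := Ideal.exists_pow_inf_eq_pow_smul J (𝔟 : Submodule A A)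
  obtain ⟨y, rfl⟩ := step1 (m + k₀ + 1) (Nat.succ_pos _)
  apply range_inclusion_rTensor_le M (J ^ m) 𝔟 _ inf_le_right
  intro c hc
  have h1 := hk₀ (m + k₀ + 1) (by omega)
  have h2 : c ∈ J ^ (m + k₀ + 1) • (⊤ : Submodule A A) ⊓ 𝔟 := by
    refine ⟨?_, hc.2⟩
    rw [smul_eq_mul, Ideal.mul_top]
    exact hc.1
  rw [h1] at h2
  have h3 : m + k₀ + 1 - k₀ = m + 1 := by omega
  rw [h3] at h2
  have h4 : J ^ (m + 1) • (J ^ k₀ • (⊤ : Submodule A A) ⊓ 𝔟) ≤ J ^ m * 𝔟 := by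
    rw [smul_eq_mul]
    exact Ideal.mul_mono (Ideal.pow_le_pow_right (Nat.le_succ m)) inf_le_right
  exact h4 h2

/-- **Bourbaki's local criterion of flatness, ideally separated form.** -/
theorem bourbaki (J : Ideal A) (M : Type u) [AddCommGroup M] [Module A M]
    (hsep : ∀ 𝔟 : Ideal A, IsHausdorff J (↥𝔟 ⊗[A] M))
    (h : ∀ k : ℕ, 0 < k → Module.Flat (A ⧸ J ^ k) ((A ⧸ J ^ k) ⊗[A] M)) : Module.Flat A M := by
  rw [Module.Flat.iff_rTensor_injective']
  intro 𝔟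
  rw [injective_iff_map_eq_zero]
  intro x hx
  apply (hsep 𝔟).haus' x
  intro n
  rw [SModEq.zero]
  exact mem_pow_smul_top_of_forall_flat_quotient_pow J M h 𝔟 x hx n

end Bourbaki

section Step
variable {A : Type u} [CommRing A]

/-- Square-zero step, with flatness at a finite set of primes `Ps` and regularity of elements
avoiding `Ps`. -/
theorem step (J : Ideal A) (M : Type u) [AddCommGroup M] [Module A M]
    [Module.Flat (A ⧸ J) ((A ⧸ J) ⊗[A] M)]
    (Ps : Finset (Ideal A)) (hPp : ∀ p ∈ Ps, p.IsPrime)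
    (hloc : ∀ (p : Ideal A) [p.IsPrime], p ∈ Ps →
      Module.Flat A (LocalizedModule p.primeCompl M))
    (L₁ L₂ : Ideal A) (hJL : J * L₂ ≤ L₁) (hL2J : L₂ ≤ J)
    (hreg : ∀ s : A, (∀ p ∈ Ps, s ∉ p) → ∀ y ∈ L₂, s * y ∈ L₁ → y ∈ L₁)
    [Module.Flat (A ⧸ L₂) ((A ⧸ L₂) ⊗[A] M)] :
    Module.Flat (A ⧸ L₁) ((A ⧸ L₁) ⊗[A] M) := by
  classical
  set L : Ideal (A ⧸ L₁) := L₂.map (Ideal.Quotient.mk L₁) with hLdef
  have hL2 : L ^ 2 = ⊥ := by
    rw [hLdef, ← Ideal.map_pow, eq_bot_iff]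
    calc Ideal.map (Ideal.Quotient.mk L₁) (L₂ ^ 2) ≤ Ideal.map (Ideal.Quotient.mk L₁) L₁ := by
          apply Ideal.map_mono
          rw [pow_two]
          exact (Ideal.mul_mono_left hL2J).trans hJL
      _ = ⊥ := Ideal.map_quotient_self L₁
  have hLnil : IsNilpotent L := ⟨2, hL2⟩
  have htors : Module.IsTorsionBySet A ↥L (J : Set A) := by
    intro y a
    obtain ⟨a, ha⟩ := a
    obtain ⟨y, hyL⟩ := y
    obtain ⟨b, hb, rfl⟩ := (Ideal.mem_map_iff_of_surjective _ Ideal.Quotient.mk_surjective).mp hyL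
    apply Subtype.ext
    show a • (Ideal.Quotient.mk L₁ b) = 0
    rw [Algebra.smul_def]
    show Ideal.Quotient.mk L₁ a * Ideal.Quotient.mk L₁ b = 0
    rw [← map_mul, Ideal.Quotient.eq_zero_iff_mem]
    exact hJL (Ideal.mul_mem_mul ha hb)
  letI : Module (A ⧸ J) ↥L := htors.module
  haveI : IsScalarTower A (A ⧸ J) ↥L := htors.isScalarTower
  have hmapI : ∀ a ∈ L₂, algebraMap A ((A ⧸ L₁) ⧸ L) a = 0 := by
    intro a ha
    have : algebraMap A ((A ⧸ L₁) ⧸ L) a = Ideal.Quotient.mk L (Ideal.Quotient.mk L₁ a) := rfl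
    rw [this, Ideal.Quotient.eq_zero_iff_mem]
    exact Ideal.mem_map_of_mem _ ha
  letI : Algebra (A ⧸ L₂) ((A ⧸ L₁) ⧸ L) :=
    (Ideal.Quotient.lift L₂ (algebraMap A ((A ⧸ L₁) ⧸ L)) hmapI).toAlgebra
  haveI : IsScalarTower A (A ⧸ L₂) ((A ⧸ L₁) ⧸ L) := IsScalarTower.of_algebraMap_eq (fun x => rfl)
  haveI : Module.Flat ((A ⧸ L₁) ⧸ L) (((A ⧸ L₁) ⧸ L) ⊗[A ⧸ L₁] ((A ⧸ L₁) ⊗[A] M)) := by
    let e2 := AlgebraTensorModule.cancelBaseChange A (A ⧸ L₂) ((A ⧸ L₁) ⧸ L) ((A ⧸ L₁) ⧸ L) M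
    let e3 := AlgebraTensorModule.cancelBaseChange A (A ⧸ L₁) ((A ⧸ L₁) ⧸ L) ((A ⧸ L₁) ⧸ L) M
    exact Module.Flat.of_linearEquiv (e3 ≪≫ₗ e2.symm)
  refine flat_of_isNilpotent (R := A ⧸ L₁) L ((A ⧸ L₁) ⊗[A] M) ?_ hLnil
  suffices hmain : Injective ((L.subtype.restrictScalars A).lTensor M) by
    have hr : Injective ((L.subtype.restrictScalars A).rTensor M) :=
      (LinearMap.lTensor_inj_iff_rTensor_inj M _).mp hmain
    intro x y hxy
    apply (AlgebraTensorModule.cancelBaseChange A (A ⧸ L₁) (A ⧸ L₁) L M).injective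
    apply hr
    rw [cancelBaseChange_rTensor, cancelBaseChange_rTensor, hxy]
  rw [injective_iff_map_eq_zero]
  intro x hx
  have hlocx : ∀ p ∈ Ps, ∃ s : A, s ∉ p ∧ s • x = 0 := by
    intro p hp
    haveI : p.IsPrime := hPp p hp
    haveI := hloc p hp
    exact Groth.Agent.S1267.exists_smul_eq_zero p M (L.subtype.restrictScalars A)
      (by intro a b hab; exact Subtype.ext hab) x hx
  let 𝔞 : Ideal A := LinearMap.ker (LinearMap.toSpanSingleton A _ x)
  have h𝔞 : ∀ s : A, s ∈ 𝔞 ↔ s • x = 0 := by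
    intro s
    rw [LinearMap.mem_ker, LinearMap.toSpanSingleton_apply]
  obtain ⟨s, hs𝔞, hsreg⟩ : ∃ s ∈ 𝔞, ∀ p ∈ Ps, s ∉ p := by
    by_contra hcon
    push Not at hcon
    have hsub : (𝔞 : Set A) ⊆ ⋃ p ∈ (Ps : Set (Ideal A)), ((id p : Ideal A) : Set A) := by
      intro s hs
      obtain ⟨p, hp, hsp⟩ := hcon s hs
      exact Set.mem_iUnion₂.mpr ⟨p, by simpa using hp, hsp⟩
    obtain ⟨p, hp, hle⟩ := (Ideal.subset_union_prime (R := A) (f := id) ⊥ ⊥
      (fun i hi _ _ => hPp i hi)).mp hsub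
    obtain ⟨s, hsp, hsx⟩ := hlocx p hp
    exact hsp (hle ((h𝔞 s).mpr hsx))
  let g : ↥L →ₗ[A ⧸ J] ↥L := (Ideal.Quotient.mk J s) • (LinearMap.id : ↥L →ₗ[A ⧸ J] ↥L)
  have hgapp : ∀ y : ↥L, g y = s • y := by
    intro y
    show (Ideal.Quotient.mk J s) • y = s • y
    rw [← algebraMap_smul (A ⧸ J) s y]
    rfl
  have hginj : Injective g := by
    rw [injective_iff_map_eq_zero]
    intro y hy
    rw [hgapp] at hy
    obtain ⟨y, hyL⟩ := y
    obtain ⟨b, hb, rfl⟩ := (Ideal.mem_map_iff_of_surjective _ Ideal.Quotient.mk_surjective).mp hyL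
    apply Subtype.ext
    show Ideal.Quotient.mk L₁ b = 0
    rw [Ideal.Quotient.eq_zero_iff_mem]
    apply hreg s hsreg b hb
    have := congrArg Subtype.val hy
    rw [← Ideal.Quotient.eq_zero_iff_mem]
    simpa [Algebra.smul_def] using this
  have hgM : Injective ((g.restrictScalars A).lTensor M) :=
    (LinearMap.lTensor_inj_iff_rTensor_inj M _).mpr
      (Groth.Agent.S1267.rTensor_injective_of_torsion J M g hginj)
  apply hgM
  rw [map_zero]
  have hg2 : g.restrictScalars A = s • (LinearMap.id : ↥L →ₗ[A] ↥L) := by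
    apply LinearMap.ext
    intro y
    simp only [LinearMap.coe_restrictScalars, LinearMap.smul_apply, LinearMap.id_coe, id_eq]
    exact hgapp y
  rw [hg2, LinearMap.lTensor_smul, LinearMap.lTensor_id, LinearMap.smul_apply, LinearMap.id_coe,
    id_eq]
  exact (h𝔞 s).mp hs𝔞

/-- the chain `L k = J ⊓ (L₀ : J^k)` -/
def chain (J L₀ : Ideal A) (k : ℕ) : Ideal A := J ⊓ L₀.colon ((J ^ k : Ideal A) : Set A)

theorem mem_chain (J L₀ : Ideal A) (k : ℕ) (y : A) :
    y ∈ chain J L₀ k ↔ y ∈ J ∧ ∀ z ∈ J ^ k, y * z ∈ L₀ := by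
  unfold chain
  rw [Submodule.mem_inf, Submodule.mem_colon]
  simp only [smul_eq_mul, SetLike.mem_coe]

theorem chain_zero (J L₀ : Ideal A) (h : L₀ ≤ J) : chain J L₀ 0 = L₀ := by
  apply le_antisymm
  · intro y hy
    have := ((mem_chain J L₀ 0 y).mp hy).2 1 (by rw [pow_zero, Ideal.one_eq_top]; trivial)
    rwa [mul_one] at this
  · intro y hy
    exact (mem_chain J L₀ 0 y).mpr ⟨h hy, fun z _ => Ideal.mul_mem_right _ _ hy⟩

theorem chain_of_pow_le (J L₀ : Ideal A) (N : ℕ) (hN : J ^ N ≤ L₀) : chain J L₀ N = J := by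
  apply le_antisymm
  · intro y hy; exact ((mem_chain J L₀ N y).mp hy).1
  · intro y hy
    exact (mem_chain J L₀ N y).mpr ⟨hy, fun z hz => Ideal.mul_mem_left _ _ (hN hz)⟩

theorem main (J L₀ : Ideal A) (hL₀ : L₀ ≤ J) (N : ℕ) (hN : J ^ N ≤ L₀)
    (M : Type u) [AddCommGroup M] [Module A M]
    [Module.Flat (A ⧸ J) ((A ⧸ J) ⊗[A] M)]
    (Ps : Finset (Ideal A)) (hPp : ∀ p ∈ Ps, p.IsPrime)
    (hloc : ∀ (p : Ideal A) [p.IsPrime], p ∈ Ps →
      Module.Flat A (LocalizedModule p.primeCompl M))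
    (hreg0 : ∀ s : A, (∀ p ∈ Ps, s ∉ p) → ∀ y : A, s * y ∈ L₀ → y ∈ L₀) :
    Module.Flat (A ⧸ L₀) ((A ⧸ L₀) ⊗[A] M) := by
  have key : ∀ k : ℕ, Module.Flat (A ⧸ chain J L₀ k) ((A ⧸ chain J L₀ k) ⊗[A] M) →
      Module.Flat (A ⧸ chain J L₀ 0) ((A ⧸ chain J L₀ 0) ⊗[A] M) := by
    intro k
    induction k with
    | zero => exact id
    | succ k ih =>
      intro h
      apply ih
      haveI := h
      refine step J M Ps hPp hloc (chain J L₀ k) (chain J L₀ (k + 1)) ?_ ?_ ?_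
      · rw [Ideal.mul_le]
        intro j hj y hy
        obtain ⟨h1, h2⟩ := (mem_chain J L₀ (k+1) y).mp hy
        refine (mem_chain J L₀ k _).mpr ⟨Ideal.mul_mem_right _ _ hj, fun z hz => ?_⟩
        have : j * z ∈ J ^ (k + 1) := by
          rw [pow_succ']
          exact Ideal.mul_mem_mul hj hz
        have h3 := h2 _ this
        rw [mul_comm j y, mul_assoc]; exact h3
      · intro y hy; exact ((mem_chain J L₀ (k+1) y).mp hy).1
      · intro s hs y hy hsy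
        obtain ⟨h1, _⟩ := (mem_chain J L₀ (k+1) y).mp hy
        obtain ⟨_, h4⟩ := (mem_chain J L₀ k _).mp hsy
        refine (mem_chain J L₀ k y).mpr ⟨h1, fun z hz => ?_⟩
        have h5 := h4 z hz
        rw [mul_assoc] at h5
        exact hreg0 s hs _ h5
  have h0 := key N (by rw [chain_of_pow_le J L₀ N hN]; infer_instance)
  rw [chain_zero J L₀ hL₀] at h0
  exact h0

end Step

end Groth.Agent.Lib.Helper19.IdeallySep
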