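import Mathlib
import Groth.Agent.S0301
import Groth.Agent.S0304
import Groth.Agent.S0307

set_option autoImplicit false
universe u

namespace Groth.Agent.Lib.helper19.InjColim
open InjHull

section Indec
variable {R : Type u} [CommRing R] {E : Type u} [AddCommGroup E] [Module R E]

/-- an injective submodule of an indecomposable module is `⊥` or `⊤`. -/
theorem eq_bot_or_eq_top_of_injective (hE : IsIndecomposable R E) (N : Submodule R E)
    (hN : Module.Injective R N) : N = ⊥ ∨ N = ⊤ := by
  haveI := hN
  obtain ⟨h, hh⟩ := Module.Injective.extension_property R N N E N.subtype N.injective_subtype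
    LinearMap.id
  have hproj : ∀ x : N, h x = x := fun x => by
    have := congrArg (fun f => f x) hh
    simpa using this
  have hc : IsCompl N (LinearMap.ker h) := LinearMap.isCompl_of_proj hproj
  rcases hE.2 N (LinearMap.ker h) hc with h1 | h1
  · exact Or.inl h1
  · right
    rw [h1] at hc
    exact eq_top_of_isCompl_bot hc

variable [IsNoetherianRing R]

/-- structure of an indecomposable injective: a prime `p` with `R ∖ p` acting bijectively and
every element killed by a power of `p`. -/
theorem exists_prime (hE : IsIndecomposable R E) (hinj : Module.Injective R E) :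
    ∃ p : Ideal R, p.IsPrime ∧ (∀ s : R, s ∉ p → Function.Bijective (fun x : E => s • x)) ∧
      ∀ x : E, ∃ n : ℕ, ∀ a ∈ p ^ n, a • x = 0 := by
  haveI := hE.1
  obtain ⟨huni, -⟩ := Groth.Agent.S0304.result R E hE hinj
  obtain ⟨p, hp⟩ := associatedPrimes.nonempty R E
  obtain ⟨hpp, y, hy⟩ := isAssociatedPrime_iff.1 hp
  have hann : ∀ a : R, a ∈ p ↔ a • y = 0 := by
    intro a
    rw [hy, Submodule.mem_colon_singleton, Submodule.mem_bot]
  have hy0 : y ≠ 0 := by
    intro h0
    apply hpp.ne_top
    rw [Ideal.eq_top_iff_one, hann, h0, smul_zero]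
  refine ⟨p, hpp, ?_, ?_⟩
  · intro s hs
    have hinj_s : Function.Injective (fun x : E => s • x) := by
      intro x x' hxx'
      by_contra hne
      have hx0 : x - x' ≠ 0 := sub_ne_zero.2 hne
      have hsx : s • (x - x') = 0 := by
        rw [smul_sub]; exact sub_eq_zero.2 hxx'
      have h1 : Submodule.span R {x - x'} ≠ ⊥ := by
        rw [Ne, Submodule.span_singleton_eq_bot]; exact hx0
      have h2 : Submodule.span R {y} ≠ ⊥ := by
        rw [Ne, Submodule.span_singleton_eq_bot]; exact hy0
      have h3 := huni _ _ h1 h2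
      obtain ⟨z, hz, hz0⟩ := (Submodule.ne_bot_iff _).1 h3
      obtain ⟨hz1, hz2⟩ := Submodule.mem_inf.1 hz
      obtain ⟨a, rfl⟩ := Submodule.mem_span_singleton.1 hz1
      obtain ⟨b, hb⟩ := Submodule.mem_span_singleton.1 hz2
      have h4 : s • (b • y) = 0 := by
        rw [hb, smul_comm, hsx, smul_zero]
      rw [smul_smul, ← hann] at h4
      have h5 : b ∈ p := (hpp.mem_or_mem h4).resolve_left hs
      apply hz0
      rw [← hb, (hann b).1 h5]
    refine ⟨hinj_s, ?_⟩
    -- surjectivity
    let f : E →ₗ[R] E := LinearMap.lsmul R E s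
    have hf : Function.Injective f := hinj_s
    have hN : Module.Injective R (LinearMap.range f) :=
      Groth.Agent.S0307.injective_of_equiv (LinearEquiv.ofInjective f hf) hinj
    rcases eq_bot_or_eq_top_of_injective hE _ hN with h1 | h1
    · exfalso
      apply hy0
      have : f y ∈ LinearMap.range f := ⟨y, rfl⟩
      rw [h1, Submodule.mem_bot] at this
      exact hf (by rw [this, map_zero])
    · intro x
      have : x ∈ LinearMap.range f := by rw [h1]; trivial
      obtain ⟨x', hx'⟩ := this
      exact ⟨x', hx'⟩
  · -- power torsion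
    have hΓ := Groth.Agent.S0301.result R E hinj p
    have hmono : Monotone (fun n : ℕ => Submodule.torsionBySet R E ((p ^ n : Ideal R) : Set R)) := by
      intro n m hnm x hx
      rw [Submodule.mem_torsionBySet_iff] at hx ⊢
      intro a
      exact hx ⟨a.1, Ideal.pow_le_pow_right hnm a.2⟩
    rcases eq_bot_or_eq_top_of_injective hE _ hΓ with h1 | h1
    · exfalso
      apply hy0
      have : y ∈ (⨆ n : ℕ, Submodule.torsionBySet R E ((p ^ n : Ideal R) : Set R)) := by
        refine Submodule.mem_iSup_of_mem 1 ?_
        rw [Submodule.mem_torsionBySet_iff]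
        intro a
        have ha : (a : R) ∈ p := by simpa using a.2
        exact (hann a).1 ha
      rw [h1, Submodule.mem_bot] at this
      exact this
    · intro x
      have : x ∈ (⨆ n : ℕ, Submodule.torsionBySet R E ((p ^ n : Ideal R) : Set R)) := by
        rw [h1]; trivial
      obtain ⟨n, hn⟩ := (Submodule.mem_iSup_of_directed _ hmono.directed_le).1 this
      refine ⟨n, fun a ha => ?_⟩
      rw [Submodule.mem_torsionBySet_iff] at hn
      exact hn ⟨a, ha⟩

end Indec

section Loc
variable {R : Type u} [CommRing R] (S : Submonoid R) (E : Type u) [AddCommGroup E] [Module R E]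

/-- if `S` acts bijectively on `E` then `E → S⁻¹E` is bijective. -/
theorem mkLinearMap_bijective (h : ∀ s ∈ S, Function.Bijective (fun x : E => s • x)) :
    Function.Bijective (LocalizedModule.mkLinearMap S E) := by
  constructor
  · intro x x' hxx'
    rw [LocalizedModule.mkLinearMap_apply, LocalizedModule.mkLinearMap_apply,
      LocalizedModule.mk_eq] at hxx'
    obtain ⟨u, hu⟩ := hxx'
    simp only [one_smul] at hu
    exact (h u.1 u.2).1 hu
  · intro y
    induction y using LocalizedModule.induction_on with
    | h x s =>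
      obtain ⟨x', hx'⟩ := (h s.1 s.2).2 x
      refine ⟨x', ?_⟩
      rw [LocalizedModule.mkLinearMap_apply, LocalizedModule.mk_eq]
      refine ⟨1, ?_⟩
      simp only [one_smul]
      exact hx'

/-- power torsion passes to the localization at a prime. -/
theorem localized_torsion (p : Ideal R) [p.IsPrime] (x : E) (n : ℕ)
    (hx : ∀ a ∈ p ^ n, a • x = 0) :
    ∀ a ∈ (IsLocalRing.maximalIdeal (Localization.AtPrime p)) ^ n,
      a • (LocalizedModule.mkLinearMap p.primeCompl E x) = 0 := by
  intro a ha
  rw [← Localization.AtPrime.map_eq_maximalIdeal, ← Ideal.map_pow, Ideal.map] at ha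
  induction ha using Submodule.span_induction with
  | mem a ha =>
    obtain ⟨b, hb, rfl⟩ := ha
    rw [algebraMap_smul, ← map_smul, hx b hb, map_zero]
  | zero => exact zero_smul _ _
  | add a a' _ _ ha ha' => rw [add_smul, ha, ha', add_zero]
  | smul c a _ ha => rw [smul_eq_mul, mul_smul, ha, smul_zero]

end Loc

section Good
variable (R : Type u) [CommRing R]

/-- an `R`-module which is a finite module over some Artinian `R`-algebra. -/
def Good (N : Type u) [AddCommGroup N] [Module R N] : Prop :=
  ∃ (B : Type u) (_ : CommRing B) (_ : Algebra R B) (_ : IsArtinianRing B)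
    (_ : Module B N) (_ : IsScalarTower R B N), Module.Finite B N

variable {R}

theorem Good.of_equiv {N N' : Type u} [AddCommGroup N] [Module R N] [AddCommGroup N']
    [Module R N'] (e : N ≃ₗ[R] N') (h : Good R N') : Good R N := by
  obtain ⟨B, _, _, _, _, _, hfin⟩ := h
  letI : Module B N := e.toAddEquiv.module B
  haveI : IsScalarTower R B N := LinearEquiv.isScalarTower B e
  refine ⟨B, inferInstance, inferInstance, inferInstance, inferInstance, inferInstance, ?_⟩
  exact Module.Finite.equiv (e.toAddEquiv.linearEquiv B).symm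

theorem Good.pi {κ : Type u} [Fintype κ] [DecidableEq κ] (N : κ → Type u)
    [∀ k, AddCommGroup (N k)] [∀ k, Module R (N k)] (h : ∀ k, Good R (N k)) :
    Good R (∀ k, N k) := by
  classical
  choose B hB1 hB2 hB3 hB4 hB5 hB6 using h
  letI := hB1
  letI := hB2
  haveI := hB3
  letI := hB4
  haveI := hB5
  haveI := hB6
  haveI : IsScalarTower R (∀ k, B k) (∀ k, N k) := by
    constructor
    intro r b n
    funext k
    exact smul_assoc r (b k) (n k)
  refine ⟨∀ k, B k, inferInstance, inferInstance, inferInstance, inferInstance, inferInstance, ?_⟩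
  -- finiteness
  choose S hS using fun k => (Module.finite_def.1 (hB6 k))
  refine ⟨⟨Finset.univ.biUnion (fun k => (S k).image (fun x => Pi.single k x)), ?_⟩⟩
  rw [eq_top_iff]
  rintro n -
  have key : ∀ k (x : N k), (Pi.single k x : ∀ k, N k) ∈ Submodule.span (∀ k, B k)
      ((Finset.univ.biUnion (fun k => (S k).image (fun x => Pi.single k x)) :
        Finset (∀ k, N k)) : Set (∀ k, N k)) := by
    intro k x
    have hx : x ∈ Submodule.span (B k) ((S k : Finset (N k)) : Set (N k)) := by
      rw [hS k]; trivial
    induction hx using Submodule.span_induction with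
    | mem x hx =>
      apply Submodule.subset_span
      simp only [Finset.coe_biUnion, Finset.coe_univ, Set.mem_univ, Finset.coe_image,
        Set.iUnion_true, Set.mem_iUnion, Set.mem_image]
      exact ⟨k, x, hx, rfl⟩
    | zero => rw [Pi.single_zero]; exact Submodule.zero_mem _
    | add x y _ _ hx hy => rw [Pi.single_add]; exact Submodule.add_mem _ hx hy
    | smul b x _ hx =>
      have : (Pi.single k (b • x) : ∀ k, N k) = (Pi.single k b : ∀ k, B k) • Pi.single k x := by
        funext k'
        by_cases hk : k' = k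
        · subst hk; simp
        · simp [Pi.single_eq_of_ne hk]
      rw [this]
      exact Submodule.smul_mem _ _ hx
  have hn : n = ∑ k, Pi.single k (n k) := (Finset.univ_sum_single n).symm
  rw [hn]
  exact Submodule.sum_mem _ (fun k _ => key k (n k))

theorem isArtinianRing_quot_pow [IsNoetherianRing R] (p : Ideal R) [p.IsPrime] (n : ℕ) :
    IsArtinianRing (Localization.AtPrime p ⧸
      (IsLocalRing.maximalIdeal (Localization.AtPrime p)) ^ n) := by
  rw [isArtinianRing_iff_krullDimLE_zero,
    Ideal.krullDimLE_zero_quotient_iff_forall_minimalPrimes_isMaximal]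
  intro q hq
  have h1 : IsLocalRing.maximalIdeal (Localization.AtPrime p) ≤ q :=
    hq.1.1.le_of_pow_le hq.1.2
  have h2 : q = IsLocalRing.maximalIdeal (Localization.AtPrime p) :=
    le_antisymm (IsLocalRing.le_maximalIdeal hq.1.1.ne_top) h1
  rw [h2]
  infer_instance

theorem good_of_localization [IsNoetherianRing R] (p : Ideal R) [p.IsPrime] (W : Type u)
    [AddCommGroup W] [Module R W] [Module (Localization.AtPrime p) W]
    [IsScalarTower R (Localization.AtPrime p) W] [Module.Finite (Localization.AtPrime p) W]
    (n : ℕ) (hW : ∀ a ∈ (IsLocalRing.maximalIdeal (Localization.AtPrime p)) ^ n,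
      ∀ w : W, a • w = 0) : Good R W := by
  have hT : Module.IsTorsionBySet (Localization.AtPrime p) W
      (((IsLocalRing.maximalIdeal (Localization.AtPrime p)) ^ n : Ideal _) : Set _) := by
    intro w a
    exact hW a.1 a.2 w
  letI := hT.module
  haveI := isArtinianRing_quot_pow p n
  haveI : IsScalarTower R (Localization.AtPrime p ⧸
      (IsLocalRing.maximalIdeal (Localization.AtPrime p)) ^ n) W := hT.isScalarTower
  haveI : IsScalarTower (Localization.AtPrime p) (Localization.AtPrime p ⧸
      (IsLocalRing.maximalIdeal (Localization.AtPrime p)) ^ n) W := hT.isScalarTower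
  refine ⟨Localization.AtPrime p ⧸ (IsLocalRing.maximalIdeal (Localization.AtPrime p)) ^ n,
    inferInstance, inferInstance, inferInstance, inferInstance, inferInstance, ?_⟩
  exact Module.Finite.of_restrictScalars_finite (Localization.AtPrime p) _ W

end Good

section System
open IsLocalRing
variable {R : Type u} [CommRing R] [IsNoetherianRing R] {ι₀ : Type u} (p : ι₀ → Ideal R)
  [∀ i, (p i).IsPrime] (M : ι₀ → Type u) [∀ i, AddCommGroup (M i)] [∀ i, Module R (M i)]
  [∀ i, Module (Localization.AtPrime (p i)) (M i)]
  [∀ i, IsScalarTower R (Localization.AtPrime (p i)) (M i)]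

/-- the `R_{p_i}`-span of the `i`-th components of a finite set. -/
def W (s : Finset (Π₀ i, M i)) (i : ι₀) : Submodule (Localization.AtPrime (p i)) (M i) :=
  Submodule.span (Localization.AtPrime (p i)) ((fun x : Π₀ i, M i => x i) '' (s : Set (Π₀ i, M i)))

/-- the finitely supported families with components in `W s i`. -/
def Dsub (s : Finset (Π₀ i, M i)) : Submodule R (Π₀ i, M i) where
  carrier := {y | ∀ i, y i ∈ W p M s i}
  add_mem' := by
    intro a b ha hb i
    rw [DFinsupp.add_apply]
    exact Submodule.add_mem _ (ha i) (hb i)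
  zero_mem' := by
    intro i
    rw [DFinsupp.zero_apply]
    exact Submodule.zero_mem _
  smul_mem' := by
    intro c a ha i
    rw [DFinsupp.smul_apply, ← algebraMap_smul (Localization.AtPrime (p i)) c (a i)]
    exact Submodule.smul_mem _ _ (ha i)

lemma W_mono {s t : Finset (Π₀ i, M i)} (h : s ≤ t) (i : ι₀) : W p M s i ≤ W p M t i :=
  Submodule.span_mono (Set.image_mono (Finset.coe_subset.2 h))

lemma Dsub_mono {s t : Finset (Π₀ i, M i)} (h : s ≤ t) : Dsub p M s ≤ Dsub p M t :=
  fun _ hy i => W_mono p M h i (hy i)

lemma mem_Dsub_self {s : Finset (Π₀ i, M i)} {x : Π₀ i, M i} (hx : x ∈ s) : x ∈ Dsub p M s :=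
  fun _ => Submodule.subset_span ⟨x, hx, rfl⟩

/-- `Dsub s` is a finite module over a finite product of Artinian local algebras. -/
theorem good_Dsub
    (htor : ∀ (i : ι₀) (y : M i), ∃ n : ℕ,
      ∀ a ∈ (maximalIdeal (Localization.AtPrime (p i))) ^ n, a • y = 0)
    (s : Finset (Π₀ i, M i)) : Good R (Dsub p M s) := by
  classical
  let I : Finset ι₀ := s.biUnion (fun x => x.support)
  have hW0 : ∀ i, i ∉ I → W p M s i = ⊥ := by
    intro i hi
    rw [W, Submodule.span_eq_bot]
    rintro _ ⟨x, hx, rfl⟩
    by_contra hne
    apply hi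
    rw [Finset.mem_biUnion]
    exact ⟨x, hx, DFinsupp.mem_support_iff.2 hne⟩
  -- the equivalence with the finite product
  let φ : Dsub p M s →ₗ[R] (∀ i : I, W p M s i.1) :=
    { toFun := fun y i => ⟨y.1 i.1, y.2 i.1⟩
      map_add' := fun y y' => by
        funext i
        apply Subtype.ext
        simp [DFinsupp.add_apply]
      map_smul' := fun c y => by
        funext i
        apply Subtype.ext
        simp [DFinsupp.smul_apply] }
  have hφ : Function.Bijective φ := by
    constructor
    · rw [← LinearMap.ker_eq_bot, LinearMap.ker_eq_bot']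
      intro y hy
      apply Subtype.ext
      ext i
      by_cases hi : i ∈ I
      · have := congrArg (fun w => (w ⟨i, hi⟩).1) hy
        simpa [φ] using this
      · have := y.2 i
        rw [hW0 i hi, Submodule.mem_bot] at this
        simpa using this
    · intro w
      refine ⟨⟨DFinsupp.mk I (fun i => (w ⟨i.1, i.2⟩).1), ?_⟩, ?_⟩
      · intro i
        rw [DFinsupp.mk_apply]
        split_ifs with hi
        · exact (w ⟨i, hi⟩).2
        · exact Submodule.zero_mem _
      · funext i
        apply Subtype.ext
        change (DFinsupp.mk I (fun i => (w ⟨i.1, i.2⟩).1)) i.1 = (w i).1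
        rw [DFinsupp.mk_apply, dif_pos i.2]
  refine Good.of_equiv (LinearEquiv.ofBijective φ hφ) ?_
  refine Good.pi _ (fun i => ?_)
  -- each `W s i` is good
  haveI : Module.Finite (Localization.AtPrime (p i.1)) (W p M s i.1) :=
    Module.Finite.span_of_finite _ (Set.Finite.image _ s.finite_toSet)
  choose n hn using htor i.1
  refine good_of_localization (p i.1) (W p M s i.1) (s.sup (fun x => n (x i.1))) ?_
  intro a ha w
  obtain ⟨w, hw⟩ := w
  apply Subtype.ext
  change a • w = 0
  have hw' : w ∈ Submodule.span (Localization.AtPrime (p i.1))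
      ((fun x : Π₀ i, M i => x i.1) '' (s : Set (Π₀ i, M i))) := hw
  clear hw
  induction hw' using Submodule.span_induction with
  | mem y hy =>
    obtain ⟨x, hx, rfl⟩ := hy
    apply hn (x i.1)
    exact Ideal.pow_le_pow_right (Finset.le_sup (f := fun x => n (x i.1)) hx) ha
  | zero => exact smul_zero _
  | add y y' _ _ hy hy' => rw [smul_add, hy, hy', add_zero]
  | smul c y _ hy => rw [smul_comm, hy, smul_zero]

open CategoryTheory CategoryTheory.Limits in
theorem system_main
    (htor : ∀ (i : ι₀) (y : M i), ∃ n : ℕ,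
      ∀ a ∈ (maximalIdeal (Localization.AtPrime (p i))) ^ n, a • y = 0) :
    ∃ (ι : Type u) (_ : SmallCategory ι) (_ : IsFiltered ι) (D : ι ⥤ ModuleCat.{u} R)
      (c : Cocone D) (_ : IsColimit c), Nonempty (c.pt ≅ ModuleCat.of R (Π₀ i, M i)) ∧
      ∀ i : ι, Good R (D.obj i) := by
  classical
  let G : Finset (Π₀ i, M i) → Type u := fun s => Dsub p M s
  let f : ∀ s t : Finset (Π₀ i, M i), s ≤ t → G s →ₗ[R] G t :=
    fun s t h => Submodule.inclusion (Dsub_mono p M h)
  haveI : DirectedSystem G (fun s t h => f s t h) :=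
    ⟨fun _ _ => rfl, fun _ _ _ _ _ _ => rfl⟩
  let L : Module.DirectLimit G f →ₗ[R] (Π₀ i, M i) :=
    Module.DirectLimit.lift R (Finset (Π₀ i, M i)) G f (fun s => (Dsub p M s).subtype)
      (fun _ _ _ _ => rfl)
  have hL : Function.Bijective L := by
    constructor
    · exact Module.DirectLimit.lift_injective _ _
        (fun s => (Dsub p M s).injective_subtype)
    · intro x
      refine ⟨Module.DirectLimit.of R _ G f {x} ⟨x, mem_Dsub_self p M (Finset.mem_singleton_self x)⟩, ?_⟩
      exact Module.DirectLimit.lift_of _ _ _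
  refine ⟨Finset (Π₀ i, M i), inferInstance, inferInstance, ModuleCat.directLimitDiagram G f,
    ModuleCat.directLimitCocone G f, ModuleCat.directLimitIsColimit G f,
    ⟨(LinearEquiv.ofBijective L hL).toModuleIso⟩, fun s => good_Dsub p M htor s⟩

end System

section Final
open CategoryTheory CategoryTheory.Limits

theorem main (A : Type u) [CommRing A] [IsNoetherianRing A]
    (J : Type u) [AddCommGroup J] [Module A J] [Module.Injective A J] :
    ∃ (ι : Type u) (_ : SmallCategory ι) (_ : IsFiltered ι) (D : ι ⥤ ModuleCat.{u} A)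
      (c : Cocone D) (_ : IsColimit c), Nonempty (c.pt ≅ ModuleCat.of A J) ∧
      ∀ i : ι, ∃ (B : Type u) (_ : CommRing B) (_ : Algebra A B) (_ : IsArtinianRing B)
        (_ : Module B (D.obj i)) (_ : IsScalarTower A B (D.obj i)), Module.Finite B (D.obj i) := by
  classical
  obtain ⟨ι₀, E, hint, hE⟩ := Groth.Agent.S0307.result A J inferInstance
  choose p hp hbij htors using fun i => exists_prime (hE i).1 (hE i).2
  haveI := hp
  let M : ι₀ → Type u := fun i => LocalizedModule (p i).primeCompl (E i)
  let lam : ∀ i, E i ≃ₗ[A] M i := fun i =>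
    LinearEquiv.ofBijective (LocalizedModule.mkLinearMap (p i).primeCompl (E i))
      (mkLinearMap_bijective _ _ (fun s hs => hbij i s hs))
  have htor' : ∀ (i : ι₀) (y : M i), ∃ n : ℕ,
      ∀ a ∈ (IsLocalRing.maximalIdeal (Localization.AtPrime (p i))) ^ n, a • y = 0 := by
    intro i y
    obtain ⟨x, rfl⟩ := (lam i).surjective y
    obtain ⟨n, hn⟩ := htors i x
    exact ⟨n, localized_torsion (E i) (p i) x n hn⟩
  obtain ⟨ι, i1, i2, D, c, hc, ⟨e⟩, hgood⟩ := system_main p M htor'
  let e1 : (DirectSum ι₀ fun i => E i) ≃ₗ[A] J :=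
    LinearEquiv.ofBijective (DirectSum.coeLinearMap E) hint
  let e2 : (Π₀ i, E i) ≃ₗ[A] (Π₀ i, M i) := DFinsupp.mapRange.linearEquiv lam
  refine ⟨ι, i1, i2, D, c, hc, ⟨e ≪≫ (e2.symm ≪≫ₗ e1).toModuleIso⟩, fun i => hgood i⟩

end Final

end Groth.Agent.Lib.helper19.InjColim
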