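import Mathlib

/-! Finiteness of integral closure passes to localizations of the base. -/

set_option autoImplicit false
universe u v

namespace Groth.Agent.Lib.helper19

/-- If `S = M⁻¹R`, `L` is an `S`-algebra and the integral closure of `R` in `L` is a finite
`R`-module, then the integral closure of `S` in `L` is a finite `S`-module. -/
theorem finite_integralClosure_of_isLocalization {R : Type u} [CommRing R] (M : Submonoid R)
    (S : Type u) [CommRing S] [Algebra R S] [IsLocalization M S]
    (L : Type v) [CommRing L] [Algebra R L] [Algebra S L] [IsScalarTower R S L]
    (h : Module.Finite R (integralClosure R L)) : Module.Finite S (integralClosure S L) := by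
  have h1 : Module.Finite R ↥(Subalgebra.toSubmodule (integralClosure R L)) :=
    Module.Finite.equiv (Subalgebra.toSubmoduleEquiv (integralClosure R L)).symm
  obtain ⟨G, hG⟩ := Module.Finite.iff_fg.mp h1
  have hfg : (Subalgebra.toSubmodule (integralClosure S L)).FG := by
    refine ⟨G, ?_⟩
    apply le_antisymm
    · rw [Submodule.span_le]
      intro g hg
      have hgR : g ∈ Subalgebra.toSubmodule (integralClosure R L) := by
        rw [← hG]; exact Submodule.subset_span hg
      have : IsIntegral R g := hgR
      exact this.tower_top
    · intro x hx
      have hxS : IsIntegral S x := hx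
      obtain ⟨m, hm⟩ := IsIntegral.exists_multiple_integral_of_isLocalization M x hxS
      have hmem : (m • x : L) ∈ Subalgebra.toSubmodule (integralClosure R L) := hm
      rw [← hG] at hmem
      have hmem' : (m • x : L) ∈ Submodule.span S (G : Set L) :=
        Submodule.span_le_restrictScalars R S (G : Set L) hmem
      have hx' : x = (IsLocalization.mk' S (1 : R) m) • (m • x : L) := by
        rw [Submonoid.smul_def, Algebra.smul_def, Algebra.smul_def, ← mul_assoc,
          IsScalarTower.algebraMap_apply R S L, ← map_mul, IsLocalization.mk'_spec, map_one,
          map_one, one_mul]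
      rw [hx']
      exact Submodule.smul_mem _ _ hmem'
  have h2 : Module.Finite S ↥(Subalgebra.toSubmodule (integralClosure S L)) :=
    Module.Finite.iff_fg.mpr hfg
  exact Module.Finite.equiv (Subalgebra.toSubmoduleEquiv (integralClosure S L))

/-- A submonoid `M` of a domain `R` whose localization is a domain consists of nonzero divisors. -/
theorem le_nonZeroDivisors_of_isLocalization_domain {R : Type u} [CommRing R] [IsDomain R]
    (M : Submonoid R) (S : Type v) [CommRing S] [Nontrivial S] [Algebra R S] [IsLocalization M S] :
    M ≤ nonZeroDivisors R := by
  intro m hm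
  rw [mem_nonZeroDivisors_iff_ne_zero]
  rintro rfl
  have h := IsLocalization.map_units S (⟨0, hm⟩ : M)
  simp at h

/-- The fraction ring of a localization `S = M⁻¹R` (a domain) is a fraction ring of `R`. -/
theorem isFractionRing_of_isFractionRing_localization {R : Type u} [CommRing R] [IsDomain R]
    (M : Submonoid R) (S : Type v) [CommRing S] [IsDomain S] [Algebra R S] [IsLocalization M S]
    (T : Type*) [CommRing T] [Algebra S T] [Algebra R T] [IsScalarTower R S T]
    [IsFractionRing S T] : IsFractionRing R T := by
  have hM : M ≤ nonZeroDivisors R := le_nonZeroDivisors_of_isLocalization_domain M S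
  have hinj : Function.Injective (algebraMap R S) := IsLocalization.injective S hM
  have hloc := IsLocalization.localization_localization_isLocalization M (nonZeroDivisors S) T
  have heq : IsLocalization.localizationLocalizationSubmodule M (nonZeroDivisors S) =
      nonZeroDivisors R := by
    ext r
    rw [IsLocalization.mem_localizationLocalizationSubmodule, mem_nonZeroDivisors_iff_ne_zero]
    constructor
    · rintro ⟨n, m, h⟩ rfl
      rw [map_zero] at h
      have hn : (n : S) ≠ 0 := nonZeroDivisors.ne_zero n.2
      have hm : algebraMap R S m ≠ 0 :=
        (map_ne_zero_iff _ hinj).mpr (nonZeroDivisors.ne_zero (hM m.2))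
      exact mul_ne_zero hn hm h.symm
    · intro hr
      exact ⟨⟨algebraMap R S r,
        mem_nonZeroDivisors_iff_ne_zero.mpr ((map_ne_zero_iff _ hinj).mpr hr)⟩, 1, by simp⟩
  rw [heq] at hloc
  exact hloc

end Groth.Agent.Lib.helper19
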