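import Mathlib
import Groth.Prelude.Def_Wider
import Groth.Agent.Lib.Helper19.LCBridge
import Groth.Agent.Lib.Helper19.LCGroth
import Groth.Agent.S11618

/-!
# Local cohomology with support in a maximal ideal vanishes above the local dimension (helper19)

`H_subsingleton_of_supportDim_localization_lt`: for a maximal ideal `m` of a Noetherian ring and any
module `M`, `H^i_m(M) = 0` as soon as `i > dim_{R_m} M_m`.
-/

set_option autoImplicit false
universe u

namespace Groth.Agent.Lib.helper19.LCLoc

variable {R : Type u} [CommRing R] [IsNoetherianRing R]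

/-- a module all of whose elements are killed by a power of the maximal ideal `m` vanishes if its
localization at `m` does -/
theorem subsingleton_of_localization (m : Ideal R) [m.IsMaximal] (H : Type u) [AddCommGroup H] [Module R H]
    (htors : ∀ y : H, ∃ n : ℕ, ∀ r ∈ m ^ n, r • y = 0)
    (hloc : Subsingleton (LocalizedModule m.primeCompl H)) : Subsingleton H := by
  refine ⟨fun a b => ?_⟩
  have hz : ∀ y : H, y = 0 := by
    intro y
    have h1 : LocalizedModule.mk y (1 : m.primeCompl) = LocalizedModule.mk 0 (1 : m.primeCompl) :=
      Subsingleton.elim _ _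
    rw [LocalizedModule.mk_eq] at h1
    obtain ⟨s, hs⟩ := h1
    rw [one_smul, one_smul, smul_zero] at hs
    obtain ⟨n, hn⟩ := htors y
    obtain ⟨c, i, hi, hci⟩ := Ideal.IsMaximal.exists_inv_pow m s.2 n
    have h2 : y = (c * (s : R) + i) • y := by rw [hci, one_smul]
    rw [h2, add_smul, hn i hi, mul_smul]
    have h3 : (s : R) • y = 0 := hs
    rw [h3, smul_zero, add_zero]
  rw [hz a, hz b]

/-- local cohomology with support in a maximal ideal vanishes above the local dimension -/
theorem H_subsingleton_of_supportDim_localization_lt (m : Ideal R) [m.IsMaximal]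
    (M : Type u) [AddCommGroup M] [Module R M] (i : ℕ)
    (h : Module.supportDim (Localization.AtPrime m) (LocalizedModule m.primeCompl M) < (i : WithBot ℕ∞)) :
    Subsingleton (LocCoh.H m i M) := by
  apply subsingleton_of_localization m
  · intro y
    exact Groth.Agent.Lib.helper19.LCBridge.H_powerTorsion m i (ModuleCat.of R M) y
  · obtain ⟨e⟩ := Groth.Agent.S11618.result R m m.primeCompl M i
    have hv : Subsingleton (LocCoh.H (Ideal.map (algebraMap R (Localization m.primeCompl)) m) i
        (LocalizedModule m.primeCompl M)) :=
      Groth.Agent.Lib.helper19.LCGroth.vanish _ _ i h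
    exact e.toEquiv.subsingleton

end Groth.Agent.Lib.helper19.LCLoc
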