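import Mathlib
import Groth.Agent.Lib.Helper19.LCLes
import Groth.Agent.Lib.Helper19.Conn1
import Groth.Agent.Lib.Helper19.CoprodFilt
import Groth.Agent.S11607

/-! # LCRep1 (helper19): local cohomology as a left adjoint
* `additive`: `localCohomology I i` is additive;
* `preservesFiniteColimits_of_vanish`: `H^i_I` is right exact if `H^{i+1}_I` vanishes identically;
* `preservesColimitsOfShape_discrete`: over a Noetherian ring `H^i_I` commutes with coproducts;
* `preservesColimits_of_vanish`: then `H^i_I` preserves all (small) colimits;
* `cdLE_of_le_radical_span`: `cd(R, J) ≤ d` if `J ⊆ √(u₁,…,u_d) ` and `u_k ∈ J`;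
* `isLeftAdjoint_of_preservesColimits`: special adjoint functor theorem for module categories. -/
set_option autoImplicit false
universe u
open CategoryTheory CategoryTheory.Limits Opposite

namespace Groth.Agent.Lib.helper19.LCRep1
open Groth.Agent.Lib.helper19.LCBridge Groth.Agent.Lib.helper19.LCLes

variable {R : Type u} [CommRing R] (I : Ideal R) (i : ℕ)

/-- local cohomology is an additive functor. -/
instance additive : (localCohomology I i).Additive where
  map_add := by
    intro X Y f g
    apply ModuleCat.hom_ext
    apply LinearMap.ext
    intro x
    obtain ⟨n, z, rfl⟩ := toH'_surj I i X x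
    change ((localCohomology I i).map (f + g)) (toH' I i X n z) =
      ((localCohomology I i).map f) (toH' I i X n z) + ((localCohomology I i).map g) (toH' I i X n z)
    rw [map_toH', map_toH', map_toH', ← map_add, Abelian.Ext.mk₀_add, Abelian.Ext.comp_add]

/-- if `H^{i+1}_I` vanishes identically, `H^i_I` is right exact. -/
theorem preservesFiniteColimits_of_vanish
    (hv : ∀ M : ModuleCat.{u} R, Subsingleton ((localCohomology I (i + 1)).obj M : ModuleCat.{u} R)) :
    PreservesFiniteColimits (localCohomology I i) := by
  apply ((localCohomology I i).preservesFiniteColimits_tfae.out 0 3).1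
  intro S hS
  constructor
  · rw [ShortComplex.moduleCat_exact_iff]
    intro x hx
    exact H_exact_mid I i hS x hx
  · rw [ModuleCat.epi_iff_surjective]
    exact H_surjective_of_vanish I i hS (hv _)


/-- over a Noetherian ring local cohomology commutes with arbitrary coproducts. -/
theorem preservesColimitsOfShape_discrete [IsNoetherianRing R] (α : Type u) :
    PreservesColimitsOfShape (Discrete α) (localCohomology I i) := by
  classical
  haveI : PreservesColimitsOfShape (Finset (Discrete α)) (localCohomology I i) :=
    Groth.Agent.S11607.result R I i (Finset (Discrete α))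
  haveI : ∀ f : α → ModuleCat.{u} R, PreservesColimit (Discrete.functor f) (localCohomology I i) :=
    fun f => Groth.Agent.Lib.helper19.CoprodFilt.preservesCoproduct_of_finite_and_filtered _ f
  exact preservesColimitsOfShape_of_discrete _

/-- if `H^{i+1}_I` vanishes identically (Noetherian ring), `H^i_I` preserves all colimits. -/
theorem preservesColimits_of_vanish [IsNoetherianRing R]
    (hv : ∀ M : ModuleCat.{u} R, Subsingleton ((localCohomology I (i + 1)).obj M : ModuleCat.{u} R)) :
    PreservesColimitsOfSize.{u, u} (localCohomology I i) := by
  haveI := preservesFiniteColimits_of_vanish I i hv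
  haveI : PreservesColimitsOfShape WalkingParallelPair (localCohomology I i) := inferInstance
  haveI : ∀ J : Type u, PreservesColimitsOfShape (Discrete J) (localCohomology I i) :=
    fun J => preservesColimitsOfShape_discrete I i J
  exact preservesColimits_of_preservesCoequalizers_and_coproducts _


/-- `cd(R, J) ≤ d` if `J` is generated up to radical by `d` elements. -/
theorem cdLE_of_le_radical_span [IsNoetherianRing R] (J : Ideal R) (d : ℕ) (u : Fin d → R)
    (hu : ∀ k, u k ∈ J) (hJ : J ≤ (Ideal.span (Set.range u)).radical) : LocCoh.CdLE R J d := by
  classical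
  have h1 := Groth.Agent.S0326.result R (Finset.univ.image u)
  have h2 : (Finset.univ.image u).card ≤ d := by
    refine (Finset.card_image_le).trans ?_
    simp
  have h3 : ((Finset.univ.image u : Finset R) : Set R) = Set.range u := by
    simp
  rw [h3] at h1
  have h4 : LocCoh.CdLE R (Ideal.span (Set.range u)) d := fun M _ _ k hk =>
    h1 M k (lt_of_le_of_lt h2 hk)
  refine Groth.Agent.Lib.helper19.Conn.cdLE_of_radical_eq _ _ ?_ d h4
  apply le_antisymm
  · apply Ideal.radical_mono
    rw [Ideal.span_le]
    rintro _ ⟨k, rfl⟩
    exact hu k
  · rw [Ideal.radical_le_radical_iff]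
    exact hJ

/-- a colimit preserving functor out of a module category is a left adjoint. -/
theorem isLeftAdjoint_of_preservesColimits {S : Type u} [CommRing S] {D : Type*} [Category.{u} D]
    (G : ModuleCat.{u} S ⥤ D) [PreservesColimitsOfSize.{u, u} G] : G.IsLeftAdjoint :=
  isLeftAdjoint_of_preservesColimits_of_isSeparating (ModuleCat.isSeparator S) G

end Groth.Agent.Lib.helper19.LCRep1
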