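import Mathlib
import Groth.Prelude.Def_W4c1bouilletffgsL3

/-!
# The Jacobi ideal of three-dimensional Lie algebras (helper19)

For `I = (Q1,Q2,Q3)`, `L = (L1,L2,L3)`, `J = I + (detM)` in `A[a..i]` (any commutative ring `A`):
`I ≤ L`, `L * detM ≤ I` (Cramer), `detM` is a nonzerodivisor modulo `L`; hence `I = J ⊓ L`, `(I : J) = L`.
-/

set_option autoImplicit false
universe u
open Lie3Mod

namespace Groth.Agent.Lib.helper19.Lie3

open MvPolynomial

variable (A : Type u) [CommRing A]

/-- images of the variables: kills `L`, with `c ↦ T` and `h ↦ h + T`. -/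
noncomputable def psiVec : Fin 9 → Polynomial (D A) :=
  ![Polynomial.C (X 8 : D A), -Polynomial.C (X 5 : D A), (Polynomial.X : Polynomial (D A)),
    -(Polynomial.C (X 7 : D A) + Polynomial.X), Polynomial.C (X 4 : D A), Polynomial.C (X 5 : D A),
    Polynomial.C (X 6 : D A), Polynomial.C (X 7 : D A) + Polynomial.X, Polynomial.C (X 8 : D A)]

noncomputable def psi : D A →ₐ[A] Polynomial (D A) := MvPolynomial.aeval (psiVec A)

noncomputable def sigmaVec : Fin 9 → D A :=
  ![(X 0 : D A), X 1, X 2, X 3, X 4, X 5, X 6, X 7 - X 2, X 8]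

/-- `h ↦ h - c` on coefficients. -/
noncomputable def sigma : D A →ₐ[A] D A := MvPolynomial.aeval (sigmaVec A)

noncomputable def rho : Polynomial (D A) →+* D A :=
  Polynomial.eval₂RingHom (sigma A).toRingHom (X 2)

theorem psi_X (k : Fin 9) : psi A (X k) = psiVec A k := by
  simp [psi]

theorem sigma_X (k : Fin 9) : sigma A (X k) = sigmaVec A k := by
  simp [sigma]

theorem theta_X_sub (k : Fin 9) : rho A (psi A (X k)) - X k ∈ idL A := by
  have h1 : (X 8 : D A) - X 0 ∈ idL A := by
    have : (X 8 : D A) - X 0 = -(L1 A) := by simp [L1]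
    rw [this]; exact neg_mem (Ideal.subset_span (by simp))
  have h2 : -(X 5 : D A) - X 1 ∈ idL A := by
    have : -(X 5 : D A) - X 1 = -(L2 A) := by simp [L2]; ring
    rw [this]; exact neg_mem (Ideal.subset_span (by simp))
  have h3 : -(X 7 : D A) - X 3 ∈ idL A := by
    have : -(X 7 : D A) - X 3 = -(L3 A) := by simp [L3]; ring
    rw [this]; exact neg_mem (Ideal.subset_span (by simp))
  rw [psi_X]
  fin_cases k <;> simp [rho, sigma_X, psiVec, sigmaVec]
  · exact h1
  · exact h2
  · convert h3 using 1; ring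


theorem theta_sub (p : D A) : rho A (psi A p) - p ∈ idL A := by
  induction p using MvPolynomial.induction_on with
  | C a =>
    have : rho A (psi A (C a)) = C a := by
      have h1 : psi A (C a) = Polynomial.C (C a) := by
        rw [← MvPolynomial.algebraMap_eq, AlgHom.commutes]; rfl
      rw [h1]
      simp only [rho, Polynomial.coe_eval₂RingHom, Polynomial.eval₂_C]
      show sigma A (C a) = C a
      rw [← MvPolynomial.algebraMap_eq, AlgHom.commutes]
    rw [this, sub_self]; exact zero_mem _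
  | add p q hp hq =>
    have : rho A (psi A (p + q)) - (p + q) = (rho A (psi A p) - p) + (rho A (psi A q) - q) := by
      rw [map_add, map_add]; ring
    rw [this]; exact add_mem hp hq
  | mul_X p k hp =>
    have : rho A (psi A (p * X k)) - p * X k =
        (rho A (psi A p) - p) * rho A (psi A (X k)) + p * (rho A (psi A (X k)) - X k) := by
      rw [map_mul, map_mul]; ring
    rw [this]
    exact add_mem (Ideal.mul_mem_right _ _ hp) (Ideal.mul_mem_left _ _ (theta_X_sub A k))

theorem psi_L_le : idL A ≤ RingHom.ker (psi A).toRingHom := by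
  unfold idL
  rw [Ideal.span_le]
  rintro x hx
  simp only [Set.mem_insert_iff, Set.mem_singleton_iff] at hx
  rw [SetLike.mem_coe, RingHom.mem_ker]
  rcases hx with rfl | rfl | rfl
  · simp [L1, psi_X, psiVec]
  · simp [L2, psi_X, psiVec]
  · simp [L3, psi_X, psiVec]

theorem mem_L_of_psi_eq_zero (x : D A) (hx : psi A x = 0) : x ∈ idL A := by
  have := theta_sub A x
  rw [hx, map_zero, zero_sub] at this
  simpa using neg_mem this

theorem psi_detM : psi A (detM A) = -(Polynomial.X ^ 3 +
    (Polynomial.C (X 7 + X 7 : D A) * Polynomial.X ^ 2 +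
      Polynomial.C (X 7 ^ 2 + X 6 * X 4 + (X 5 * X 8 + X 5 * X 8) : D A) * Polynomial.X +
      Polynomial.C (X 6 * X 5 ^ 2 - X 4 * X 8 ^ 2 + (X 7 * X 5 * X 8 + X 7 * X 5 * X 8) : D A))) := by
  simp only [detM, map_neg, map_add, map_sub, map_mul, map_pow, psi_X]
  simp [psiVec]
  ring

theorem monicPart : (Polynomial.X ^ 3 +
    (Polynomial.C (X 7 + X 7 : D A) * Polynomial.X ^ 2 +
      Polynomial.C (X 7 ^ 2 + X 6 * X 4 + (X 5 * X 8 + X 5 * X 8) : D A) * Polynomial.X +
      Polynomial.C (X 6 * X 5 ^ 2 - X 4 * X 8 ^ 2 + (X 7 * X 5 * X 8 + X 7 * X 5 * X 8) : D A))).Monic := by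
  apply Polynomial.monic_X_pow_add
  exact lt_of_le_of_lt Polynomial.degree_quadratic_le (by norm_num)

/-- `detM` is a nonzerodivisor modulo `L`. -/
theorem mem_L_of_mul_detM (x : D A) (hx : x * detM A ∈ idL A) : x ∈ idL A := by
  apply mem_L_of_psi_eq_zero
  have h1 : psi A (x * detM A) = 0 := psi_L_le A hx
  rw [map_mul, psi_detM] at h1
  refine (monicPart A).mul_left_eq_zero_iff.mp ?_
  linear_combination -h1

theorem I_le_L : idI A ≤ idL A := by
  unfold idI
  rw [Ideal.span_le]
  rintro x hx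
  simp only [Set.mem_insert_iff, Set.mem_singleton_iff] at hx
  have hL1 : L1 A ∈ idL A := Ideal.subset_span (by simp)
  have hL2 : L2 A ∈ idL A := Ideal.subset_span (by simp)
  have hL3 : L3 A ∈ idL A := Ideal.subset_span (by simp)
  rcases hx with rfl | rfl | rfl
  · have : Q1 A = vh * L1 A + (-vg) * L2 A + vi * L3 A := by
      simp only [Q1, L1, L2, L3]; ring
    rw [this]
    exact add_mem (add_mem (Ideal.mul_mem_left _ _ hL1) (Ideal.mul_mem_left _ _ hL2))
      (Ideal.mul_mem_left _ _ hL3)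
  · have : Q2 A = (-ve) * L1 A + (-vh) * L2 A + vb * L3 A := by
      simp only [Q2, L1, L2, L3]; ring
    rw [this]
    exact add_mem (add_mem (Ideal.mul_mem_left _ _ hL1) (Ideal.mul_mem_left _ _ hL2))
      (Ideal.mul_mem_left _ _ hL3)
  · have : Q3 A = (-vf) * L1 A + (-vi) * L2 A + vc * L3 A := by
      simp only [Q3, L1, L2, L3]; ring
    rw [this]
    exact add_mem (add_mem (Ideal.mul_mem_left _ _ hL1) (Ideal.mul_mem_left _ _ hL2))
      (Ideal.mul_mem_left _ _ hL3)

/-- Cramer: `detM • L ⊆ I`. -/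
theorem L_mul_detM (x : D A) (hx : x ∈ idL A) : x * detM A ∈ idI A := by
  have hQ1 : Q1 A ∈ idI A := Ideal.subset_span (by simp)
  have hQ2 : Q2 A ∈ idI A := Ideal.subset_span (by simp)
  have hQ3 : Q3 A ∈ idI A := Ideal.subset_span (by simp)
  have comb : ∀ p q r : D A, p * Q1 A + q * Q2 A + r * Q3 A ∈ idI A := fun p q r =>
    add_mem (add_mem (Ideal.mul_mem_left _ _ hQ1) (Ideal.mul_mem_left _ _ hQ2))
      (Ideal.mul_mem_left _ _ hQ3)
  have e1 : L1 A * detM A = (-(vh * vc) + vb * vi) * Q1 A + (vg * vc - vi ^ 2) * Q2 A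
      + (-(vg * vb) + vi * vh) * Q3 A := by
    simp only [Q1, Q2, Q3, L1, detM]; ring
  have e2 : L2 A * detM A = (ve * vc - vb * vf) * Q1 A + (vh * vc + vi * vf) * Q2 A
      + (-(vh * vb) - vi * ve) * Q3 A := by
    simp only [Q1, Q2, Q3, L2, detM]; ring
  have e3 : L3 A * detM A = (ve * vi - vh * vf) * Q1 A + (vh * vi + vg * vf) * Q2 A
      + (-(vh ^ 2) - vg * ve) * Q3 A := by
    simp only [Q1, Q2, Q3, L3, detM]; ring
  unfold idL at hx
  induction hx using Submodule.span_induction with
  | mem y hy =>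
    simp only [Set.mem_insert_iff, Set.mem_singleton_iff] at hy
    rcases hy with rfl | rfl | rfl
    · rw [e1]; exact comb _ _ _
    · rw [e2]; exact comb _ _ _
    · rw [e3]; exact comb _ _ _
  | zero => rw [zero_mul]; exact zero_mem _
  | add y z _ _ hy hz => rw [add_mul]; exact add_mem hy hz
  | smul r y _ hy => rw [smul_eq_mul, mul_assoc]; exact Ideal.mul_mem_left _ _ hy

theorem mem_J_iff (x : D A) : x ∈ idJ A ↔ ∃ y ∈ idI A, ∃ t : D A, x = y + t * detM A := by
  have hJ : idJ A = idI A ⊔ Ideal.span {detM A} := by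
    unfold idJ idI
    rw [← Ideal.span_union]
    congr 1
    ext z
    simp only [Set.mem_insert_iff, Set.mem_singleton_iff, Set.union_singleton]
    tauto
  rw [hJ, Submodule.mem_sup]
  constructor
  · rintro ⟨y, hy, z, hz, rfl⟩
    obtain ⟨t, rfl⟩ := Ideal.mem_span_singleton'.mp hz
    exact ⟨y, hy, t, rfl⟩
  · rintro ⟨y, hy, t, rfl⟩
    exact ⟨y, hy, t * detM A, Ideal.mem_span_singleton'.mpr ⟨t, rfl⟩, rfl⟩

theorem I_eq_J_inf_L : idI A = idJ A ⊓ idL A := by
  apply le_antisymm
  · refine le_inf ?_ (I_le_L A)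
    intro x hx
    exact (mem_J_iff A x).mpr ⟨x, hx, 0, by simp⟩
  · rintro x ⟨hxJ, hxL⟩
    obtain ⟨y, hy, t, rfl⟩ := (mem_J_iff A x).mp hxJ
    have ht : t * detM A ∈ idL A := by
      have := sub_mem hxL (I_le_L A hy)
      simpa using this
    exact add_mem hy (L_mul_detM A t (mem_L_of_mul_detM A t ht))

theorem colon_I_J : (idI A).colon (idJ A : Set (D A)) = idL A := by
  ext x
  rw [Submodule.mem_colon]
  constructor
  · intro h
    have hd : detM A ∈ idJ A := Ideal.subset_span (by simp)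
    have := h (detM A) hd
    rw [smul_eq_mul] at this
    exact mem_L_of_mul_detM A x (I_le_L A this)
  · intro hx p hp
    obtain ⟨y, hy, t, rfl⟩ := (mem_J_iff A p).mp hp
    rw [smul_eq_mul, mul_add]
    refine add_mem (Ideal.mul_mem_left _ _ hy) ?_
    have := L_mul_detM A x hx
    have e : x * (t * detM A) = t * (x * detM A) := by ring
    rw [e]
    exact Ideal.mul_mem_left _ _ this


end Groth.Agent.Lib.helper19.Lie3
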