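import Mathlib
set_option autoImplicit false

/-! Linkage: for an ideal `I` of a commutative ring `A` with annihilator `J = (0 : I)`, the class of
ideals `𝔞` with `Ext^i(A/I, A/𝔞) = 0` (`i ≥ 1`), `J + 𝔞 = (𝔞 : I)` and `J ∩ 𝔞 = 𝔞 J` is stable under
adding an element regular on `A/𝔞`; consequently it contains every ideal generated by an `A`-regular
sequence as soon as `Ext^i(A/I, A) = 0` for `i ≥ 1`. -/

universe u

namespace Groth.Agent.Lib.helper19.Link
open CategoryTheory Abelian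

variable {A : Type u} [CommRing A] (I : Ideal A)

/-- the class of "good" ideals with respect to `I` -/
structure Good (𝔞 : Ideal A) : Prop where
  p1 : ∀ i : ℕ, 1 ≤ i →
    Subsingleton (Ext.{u} (ModuleCat.of A (A ⧸ I)) (ModuleCat.of A (A ⧸ 𝔞)) i)
  p2 : Submodule.annihilator I ⊔ 𝔞 = Submodule.colon 𝔞 (I : Set A)
  p3 : Submodule.annihilator I ⊓ 𝔞 = 𝔞 * Submodule.annihilator I

variable {I}

lemma mem_ann_iff (x : A) : x ∈ Submodule.annihilator I ↔ ∀ i ∈ I, x * i = 0 := by
  rw [Submodule.mem_annihilator]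
  rfl

/-- the multiplication by `a` short complex `A/𝔞 → A/𝔞 → A/(𝔞 + (a))` -/
noncomputable def sc (𝔞 : Ideal A) (a : A) : ShortComplex (ModuleCat.{u} A) :=
  ShortComplex.mk (X₁ := ModuleCat.of A (A ⧸ 𝔞)) (X₂ := ModuleCat.of A (A ⧸ 𝔞))
    (X₃ := ModuleCat.of A (A ⧸ (𝔞 ⊔ Ideal.span {a})))
    (ModuleCat.ofHom (LinearMap.lsmul A (A ⧸ 𝔞) a))
    (ModuleCat.ofHom (Submodule.factor (le_sup_left : 𝔞 ≤ 𝔞 ⊔ Ideal.span {a}))) (by
      refine ModuleCat.hom_ext (LinearMap.ext fun x => ?_)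
      obtain ⟨x, rfl⟩ := Ideal.Quotient.mk_surjective x
      change Submodule.factor (le_sup_left : 𝔞 ≤ 𝔞 ⊔ Ideal.span {a})
        (a • (Submodule.Quotient.mk x : A ⧸ 𝔞)) = 0
      rw [← Submodule.Quotient.mk_smul]
      change Submodule.factor (le_sup_left : 𝔞 ≤ 𝔞 ⊔ Ideal.span {a}) (Submodule.mkQ 𝔞 (a • x)) = 0
      rw [Submodule.factor_mk]
      change (Submodule.Quotient.mk (a • x) : A ⧸ (𝔞 ⊔ Ideal.span {a})) = 0
      rw [Submodule.Quotient.mk_eq_zero]
      exact Ideal.mem_sup_right (Ideal.mem_span_singleton'.mpr ⟨x, by rw [smul_eq_mul, mul_comm]⟩))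

lemma sc_shortExact (𝔞 : Ideal A) (a : A) (ha : IsSMulRegular (A ⧸ 𝔞) a) :
    (sc 𝔞 a).ShortExact := by
  refine ModuleCat.shortComplex_shortExact _ ?_ ?_ ?_
  · intro x
    constructor
    · intro hx
      obtain ⟨x, rfl⟩ := Ideal.Quotient.mk_surjective x
      have h1 : Submodule.factor (le_sup_left : 𝔞 ≤ 𝔞 ⊔ Ideal.span {a}) (Submodule.mkQ 𝔞 x) = 0 :=
        hx
      rw [Submodule.factor_mk] at h1
      have h2 : x ∈ 𝔞 ⊔ Ideal.span {a} := (Submodule.Quotient.mk_eq_zero _).mp h1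
      obtain ⟨y, hy, z, hz, rfl⟩ := Submodule.mem_sup.mp h2
      obtain ⟨c, rfl⟩ := Ideal.mem_span_singleton'.mp hz
      refine ⟨Ideal.Quotient.mk 𝔞 c, ?_⟩
      change a • (Submodule.Quotient.mk c : A ⧸ 𝔞) = Submodule.Quotient.mk (y + c * a)
      rw [← Submodule.Quotient.mk_smul]
      refine (Submodule.Quotient.eq _).mpr ?_
      have : a • c - (y + c * a) = -y := by rw [smul_eq_mul]; ring
      rw [this]
      exact 𝔞.neg_mem hy
    · rintro ⟨y, rfl⟩
      exact congrArg (fun t => t.hom y) (sc 𝔞 a).zero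
  · intro x y hxy
    exact ha hxy
  · exact Submodule.factor_surjective (le_sup_left : 𝔞 ≤ 𝔞 ⊔ Ideal.span {a})


lemma good_step (𝔞 : Ideal A) (a : A) (ha : IsSMulRegular (A ⧸ 𝔞) a) (h : Good I 𝔞) :
    Good I (𝔞 ⊔ Ideal.span {a}) := by
  have hS := sc_shortExact 𝔞 a ha
  have hle : 𝔞 ≤ 𝔞 ⊔ Ideal.span {a} := le_sup_left
  have hreg : ∀ c : A, a * c ∈ 𝔞 → c ∈ 𝔞 := by
    intro c hc
    have h1 : a • (Submodule.Quotient.mk c : A ⧸ 𝔞) = a • (0 : A ⧸ 𝔞) := by
      rw [smul_zero, ← Submodule.Quotient.mk_smul, Submodule.Quotient.mk_eq_zero]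
      exact hc
    exact (Submodule.Quotient.mk_eq_zero _).mp (ha h1)
  refine ⟨?_, ?_, ?_⟩
  · intro i hi
    haveI : Subsingleton (Ext.{u} (ModuleCat.of A (A ⧸ I)) (sc 𝔞 a).X₂ i) := h.p1 i hi
    haveI : Subsingleton (Ext.{u} (ModuleCat.of A (A ⧸ I)) (sc 𝔞 a).X₁ (i + 1)) :=
      h.p1 (i + 1) (by omega)
    have key : ∀ x₃ : Ext.{u} (ModuleCat.of A (A ⧸ I)) (sc 𝔞 a).X₃ i, x₃ = 0 := by
      intro x₃
      obtain ⟨x₂, hx₂⟩ := Ext.covariant_sequence_exact₃ _ hS x₃ (rfl : i + 1 = i + 1)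
        (Subsingleton.elim _ _)
      rw [← hx₂, Subsingleton.elim x₂ 0, Ext.zero_comp]
    exact ⟨fun x y => (key x).trans (key y).symm⟩
  · apply le_antisymm
    · refine sup_le ?_ ?_
      · intro x hx
        rw [Submodule.mem_colon]
        intro i hi
        rw [smul_eq_mul, (mem_ann_iff x).mp hx i hi]
        exact zero_mem _
      · intro x hx
        rw [Submodule.mem_colon]
        intro i hi
        exact Ideal.mul_mem_right _ _ hx
    · intro x hx
      rw [Submodule.mem_colon] at hx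
      let φ : (A ⧸ I) →ₗ[A] (A ⧸ (𝔞 ⊔ Ideal.span {a})) :=
        Submodule.liftQ I (LinearMap.toSpanSingleton A (A ⧸ (𝔞 ⊔ Ideal.span {a}))
          (Submodule.Quotient.mk x)) (by
            intro i hi
            rw [LinearMap.mem_ker, LinearMap.toSpanSingleton_apply, ← Submodule.Quotient.mk_smul,
              Submodule.Quotient.mk_eq_zero, smul_eq_mul, mul_comm]
            exact hx i hi)
      haveI : Subsingleton (Ext.{u} (ModuleCat.of A (A ⧸ I)) (sc 𝔞 a).X₁ (0 + 1)) :=
        h.p1 1 le_rfl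
      obtain ⟨x₂, hx₂⟩ := Ext.covariant_sequence_exact₃ _ hS
        (Ext.mk₀ (ModuleCat.ofHom φ : ModuleCat.of A (A ⧸ I) ⟶ (sc 𝔞 a).X₃)) (rfl : 0 + 1 = 1)
        (Subsingleton.elim _ _)
      obtain ⟨ψ, rfl⟩ := (Ext.mk₀_bijective _ _).2 x₂
      rw [Ext.mk₀_comp_mk₀] at hx₂
      have hx₃ := (Ext.mk₀_bijective _ _).1 hx₂
      obtain ⟨y, hy⟩ := Ideal.Quotient.mk_surjective (ψ.hom (1 : A ⧸ I))
      have h1 : (Submodule.Quotient.mk y : A ⧸ (𝔞 ⊔ Ideal.span {a})) = Submodule.Quotient.mk x := by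
        have := congrArg (fun t => t.hom (1 : A ⧸ I)) hx₃
        change Submodule.factor hle (ψ.hom (1 : A ⧸ I)) = φ 1 at this
        rw [← hy] at this
        change Submodule.factor hle (Submodule.mkQ 𝔞 y) = φ (Submodule.Quotient.mk 1) at this
        rw [Submodule.factor_mk, Submodule.liftQ_apply, LinearMap.toSpanSingleton_apply,
          one_smul] at this
        exact this
      have h2 : y ∈ Submodule.colon 𝔞 (I : Set A) := by
        rw [Submodule.mem_colon]
        intro i hi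
        have h3 : (Submodule.Quotient.mk (i • y) : A ⧸ 𝔞) = 0 := by
          rw [Submodule.Quotient.mk_smul]
          change i • (Ideal.Quotient.mk 𝔞 y) = 0
          rw [hy]
          refine Eq.trans (ψ.hom.map_smul i (1 : A ⧸ I)).symm ?_
          have : i • (1 : A ⧸ I) = 0 := by
            change i • (Submodule.Quotient.mk 1 : A ⧸ I) = 0
            rw [← Submodule.Quotient.mk_smul, Submodule.Quotient.mk_eq_zero, smul_eq_mul, mul_one]
            exact hi
          rw [this, map_zero]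
          rfl
        have h4 := (Submodule.Quotient.mk_eq_zero _).mp h3
        rw [smul_eq_mul] at h4 ⊢
        rw [mul_comm]
        exact h4
      rw [← h.p2] at h2
      have h5 : x - y ∈ 𝔞 ⊔ Ideal.span {a} := by
        have := (Submodule.Quotient.eq _).mp h1
        rw [← neg_sub]
        exact Submodule.neg_mem _ this
      have h6 : x = y + (x - y) := by ring
      rw [h6]
      refine Submodule.add_mem _ ?_ (Ideal.mem_sup_right h5)
      exact (sup_le_sup_left hle _) h2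
  · apply le_antisymm
    · rintro x ⟨hxJ, hx⟩
      obtain ⟨y, hy, z, hz, rfl⟩ := Submodule.mem_sup.mp hx
      obtain ⟨c, rfl⟩ := Ideal.mem_span_singleton'.mp hz
      have hc : c ∈ Submodule.colon 𝔞 (I : Set A) := by
        rw [Submodule.mem_colon]
        intro i hi
        rw [smul_eq_mul]
        apply hreg
        have h1 := (mem_ann_iff _).mp hxJ i hi
        have h2 : a * (c * i) = -(y * i) := by
          have : a * (c * i) = (y + c * a) * i - y * i := by ring
          rw [this, h1, zero_sub]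
        rw [h2]
        exact 𝔞.neg_mem (Ideal.mul_mem_right _ _ hy)
      rw [← h.p2] at hc
      obtain ⟨j, hj, z, hz', rfl⟩ := Submodule.mem_sup.mp hc
      have h3 : y + (j + z) * a = (y + z * a) + a * j := by ring
      rw [h3]
      have h4 : a * j ∈ (𝔞 ⊔ Ideal.span {a}) * Submodule.annihilator I :=
        Ideal.mul_mem_mul (Ideal.mem_sup_right (Ideal.mem_span_singleton_self a)) hj
      refine Submodule.add_mem _ ?_ h4
      have h5 : y + z * a ∈ Submodule.annihilator I ⊓ 𝔞 := by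
        refine ⟨?_, 𝔞.add_mem hy (Ideal.mul_mem_right _ _ hz')⟩
        have : y + z * a = (y + (j + z) * a) - a * j := by ring
        change y + z * a ∈ Submodule.annihilator I
        rw [this]
        exact Submodule.sub_mem _ hxJ (Ideal.mul_mem_left _ _ hj)
      rw [h.p3] at h5
      exact Ideal.mul_mono_left hle h5
    · exact Ideal.mul_le_inf.trans (le_of_eq (inf_comm _ _))


lemma good_bot (h : ∀ i : ℕ, 1 ≤ i →
    Subsingleton (Ext.{u} (ModuleCat.of A (A ⧸ I)) (ModuleCat.of A A) i)) :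
    Good I (⊥ : Ideal A) := by
  refine ⟨?_, ?_, ?_⟩
  · intro i hi
    haveI := h i hi
    let e : ModuleCat.of A A ≅ ModuleCat.of A (A ⧸ (⊥ : Ideal A)) :=
      (Submodule.quotEquivOfEqBot (⊥ : Ideal A) rfl).symm.toModuleIso
    have key : ∀ x : Ext.{u} (ModuleCat.of A (A ⧸ I)) (ModuleCat.of A (A ⧸ (⊥ : Ideal A))) i,
        x = 0 := by
      intro x
      have h1 : x = (x.comp (Ext.mk₀ e.inv) (add_zero i)).comp (Ext.mk₀ e.hom) (add_zero i) := by
        rw [Ext.comp_assoc_of_third_deg_zero, Ext.mk₀_comp_mk₀, e.inv_hom_id, Ext.comp_mk₀_id]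
      rw [h1, Subsingleton.elim (x.comp (Ext.mk₀ e.inv) (add_zero i)) 0, Ext.zero_comp]
    exact ⟨fun x y => (key x).trans (key y).symm⟩
  · rw [sup_bot_eq, Submodule.bot_colon]
  · rw [inf_bot_eq, Ideal.bot_mul]

/-- every ideal generated by a (weakly) regular sequence is good, provided
`Ext^i(A/I, A) = 0` for `i ≥ 1`. -/
theorem good_ofList (h0 : ∀ i : ℕ, 1 ≤ i →
    Subsingleton (Ext.{u} (ModuleCat.of A (A ⧸ I)) (ModuleCat.of A A) i)) (as : List A)
    (hreg : RingTheory.Sequence.IsWeaklyRegular A as) : Good I (Ideal.ofList as) := by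
  induction as using List.reverseRecOn with
  | nil =>
    rw [Ideal.ofList_nil]
    exact good_bot h0
  | append_singleton l a ih =>
    rw [RingTheory.Sequence.isWeaklyRegular_append_iff] at hreg
    obtain ⟨h1, h2⟩ := hreg
    rw [RingTheory.Sequence.isWeaklyRegular_singleton_iff] at h2
    rw [Ideal.ofList_append, Ideal.ofList_singleton]
    refine good_step _ a ?_ (ih h1)
    have e : (A ⧸ (Ideal.ofList l • ⊤ : Submodule A A)) ≃ₗ[A] (A ⧸ Ideal.ofList l) :=
      Submodule.quotEquivOfEq _ _ (by rw [smul_eq_mul, Ideal.mul_top])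
    exact (e.isSMulRegular_congr a).mp h2

end Groth.Agent.Lib.helper19.Link
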