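import Mathlib
import Groth.Agent.S0318
import Groth.Agent.Lib.Helper19.Gor2
import Groth.Agent.Lib.Helper19.Link1
import Groth.Agent.Lib.Helper26.DepthCR2
import Groth.Agent.Lib.Helper26.Depth6
set_option autoImplicit false

/-! Linkage over a Gorenstein local ring: for an ideal `I` with `A/I` Cohen–Macaulay of the same
dimension as `A`, `Ext^e_A(A/I, A) = 0` for `e ≥ 1`, hence every ideal generated by an `A`-regular
sequence is good in the sense of `Link1`. -/

universe u

namespace Groth.Agent.Lib.helper19.Link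
open CategoryTheory Abelian IsLocalRing

variable (A : Type u) [CommRing A] [LocCoh.IsGorensteinLocalRing A] (I : Ideal A)
  (hI : ringKrullDim (A ⧸ I) = ringKrullDim A) [LocCoh.IsCohenMacaulayLocalRing (A ⧸ I)]

include hI in
/-- `A/I` is a maximal Cohen–Macaulay `A`-module: its depth over `A` is `dim A`. -/
theorem depth_quot (d : ℕ) (hd : ringKrullDim A = d) :
    LocCoh.idealDepth (maximalIdeal A) (A ⧸ I) = d := by
  haveI : IsLocalHom (algebraMap A (A ⧸ I)) :=
    IsLocalHom.of_surjective (Ideal.Quotient.mk I) Ideal.Quotient.mk_surjective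
  have h1 : LocCoh.depth A (A ⧸ I) = LocCoh.depth (A ⧸ I) (A ⧸ I) :=
    Groth.Agent.Lib.helper26.Depth.depth_eq_of_isLocalHom (A := A) (B := A ⧸ I) (A ⧸ I)
  have h2 := LocCoh.IsCohenMacaulayLocalRing.supportDim_eq_depth (R := A ⧸ I)
  rw [Module.supportDim_self_eq_ringKrullDim, hI, hd] at h2
  change LocCoh.depth A (A ⧸ I) = d
  rw [h1]
  have h3 : ((d : ℕ∞) : WithBot ℕ∞) = ((LocCoh.depth (A ⧸ I) (A ⧸ I) : ℕ∞) : WithBot ℕ∞) := h2
  exact (WithBot.coe_injective h3).symm

include hI in
/-- `Ext^e_A(A/I, A) = 0` for `e ≥ 1`. -/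
theorem ext_quot_subsingleton (e : ℕ) (he : 1 ≤ e) :
    Subsingleton (Ext.{u} (ModuleCat.of A (A ⧸ I)) (ModuleCat.of A A) e) := by
  obtain ⟨d, hd⟩ := Groth.Agent.Lib.helper19.Gor.exists_dim A
  by_cases hed : d < e
  · exact Groth.Agent.Lib.helper19.Gor.ext_subsingleton_of_gt A d hd (A ⧸ I) e hed
  · have hj : (d - e) + e = d := by omega
    refine (Groth.Agent.Lib.helper19.Gor.H_subsingleton_iff A d hd (A ⧸ I) (d - e) e hj).mp ?_
    have hdep := depth_quot A I hI d hd
    have hne : maximalIdeal A • (⊤ : Submodule A (A ⧸ I)) ≠ ⊤ :=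
      Groth.Agent.Lib.helper26.Depth.maximalIdeal_smul_top_ne_top (A := A) (A ⧸ I)
    exact ((Groth.Agent.S0318.result A (maximalIdeal A) (A ⧸ I) hne d).mp hdep).1 (d - e) (by omega)

include hI in
/-- every ideal generated by a weakly regular sequence is good -/
theorem good_ofList_gor (as : List A) (hreg : RingTheory.Sequence.IsWeaklyRegular A as) :
    Good I (Ideal.ofList as) :=
  good_ofList (fun i hi => ext_quot_subsingleton A I hI i hi) as hreg

end Groth.Agent.Lib.helper19.Link
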