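import Mathlib
import Groth.Agent.Lib.Helper8.LocalFlat
import Groth.Agent.Lib.Helper19.Link3
set_option autoImplicit false

/-! Flatness criterion: `R → A` a local homomorphism of Noetherian local rings, `M` a finite
`A`-module. If the maximal ideal of `R` is generated by a weakly `M`-regular sequence then `M` is
flat over `R`. -/

universe u

namespace Groth.Agent.Lib.helper19.Link
open TensorProduct IsLocalRing

theorem flat_of_isWeaklyRegular {R A M : Type u} [CommRing R] [CommRing A] [IsNoetherianRing R]
    [IsLocalRing R] [IsNoetherianRing A] [IsLocalRing A] [Algebra R A]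
    [IsLocalHom (algebraMap R A)] [AddCommGroup M] [Module R M] [Module A M] [IsScalarTower R A M]
    [Module.Finite A M] (rs : List R) (hrs : Ideal.ofList rs = maximalIdeal R)
    (hreg : RingTheory.Sequence.IsWeaklyRegular M rs) : Module.Flat R M := by
  have h1 : Function.Injective ((maximalIdeal R).subtype.rTensor M) := by
    rw [← hrs]
    exact rTensor_injective_of_isWeaklyRegular M rs hreg
  refine Groth.Agent.Lib.helper8.LocalFlat.flat_of_forall_flat_quotient_pow (S := A)
    (maximalIdeal R) ?_ ?_
  · rw [IsLocalRing.jacobson_eq_maximalIdeal ⊥ bot_ne_top]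
    exact IsLocalRing.map_maximalIdeal_le (algebraMap R A)
  · intro k _
    haveI : Module.Flat (R ⧸ maximalIdeal R) ((R ⧸ maximalIdeal R) ⊗[R] M) := by
      letI : Field (R ⧸ maximalIdeal R) := Ideal.Quotient.field (maximalIdeal R)
      exact inferInstance
    exact Groth.Agent.Lib.helper8.LocalFlat.flat_quotient_pow (maximalIdeal R) M h1 k

end Groth.Agent.Lib.helper19.Link
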