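import Mathlib
import Groth.Agent.S0341
import Groth.Agent.Lib.Helper15.Regular
import Groth.Agent.Lib.Helper19.Link2
import Groth.Agent.Lib.Helper19.Link4
import Groth.Agent.Lib.Helper26.CM2
set_option autoImplicit false

/-! Gorenstein linkage over a regular base: regular sequences on `A/I` and `A/(0:I)`, flatness. -/

universe u

namespace Groth.Agent.Lib.helper19.Link
open CategoryTheory Abelian IsLocalRing RingTheory.Sequence

/-- the maximal ideal of a regular local ring is generated by a (weakly) regular sequence -/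
theorem exists_regular_generators (R : Type u) [CommRing R] [IsRegularLocalRing R] :
    ∃ rs : List R, Ideal.ofList rs = maximalIdeal R ∧ IsWeaklyRegular R rs := by
  obtain ⟨s, hscard, hsspan⟩ :=
    Submodule.FG.exists_span_finset_card_eq_spanFinrank
      (IsNoetherian.noetherian (IsLocalRing.maximalIdeal R))
  set n := (IsLocalRing.maximalIdeal R).spanFinrank with hn
  let e : Fin n ≃ s := (Finset.equivFinOfCardEq hscard).symm
  let x : Fin n → R := fun i => (e i : R)
  have hrange : Set.range x = (s : Set R) := by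
    ext z
    constructor
    · rintro ⟨i, rfl⟩
      exact (e i).2
    · intro hz
      exact ⟨e.symm ⟨z, hz⟩, by simp [x]⟩
  have hx : Ideal.span (Set.range x) = IsLocalRing.maximalIdeal R := by
    rw [hrange]
    exact hsspan
  have hwr := Groth.Agent.Lib.helper15.isWeaklyRegular_ofFn R n rfl x hx
  refine ⟨List.ofFn x, ?_, hwr⟩
  rw [← hx]
  unfold Ideal.ofList
  congr 1
  ext z
  simp [List.mem_ofFn]

section Quot

variable (A : Type u) [CommRing A] [LocCoh.IsGorensteinLocalRing A] (I : Ideal A)
  (hI : ringKrullDim (A ⧸ I) = ringKrullDim A) [LocCoh.IsCohenMacaulayLocalRing (A ⧸ I)]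

include hI in
/-- `A/I` is a Cohen–Macaulay `A`-module -/
theorem isCohenMacaulayModule_quot : LocCoh.IsCohenMacaulayModule A (A ⧸ I) := by
  obtain ⟨d, hd⟩ := Groth.Agent.Lib.helper19.Gor.exists_dim A
  unfold LocCoh.IsCohenMacaulayModule LocCoh.depth
  rw [depth_quot A I hI d hd, Module.supportDim_quotient_eq_ringKrullDim, hI, hd]
  rfl

include hI in
/-- an `A`-regular sequence (in the maximal ideal) is `A/I`-regular -/
theorem isWeaklyRegular_quot (as : List A) (hmem : ∀ a ∈ as, a ∈ maximalIdeal A)
    (hA : IsWeaklyRegular A as) : IsWeaklyRegular (A ⧸ I) as := by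
  have hCM := isCohenMacaulayModule_quot A I hI
  refine Groth.Agent.Lib.helper26.Depth.isWeaklyRegular_of_supportDim_quot_ofList as (A ⧸ I) hCM
    hmem ?_
  have h1 := Groth.Agent.Lib.helper26.Depth.supportDim_le_supportDim_quot_ofList_add_length as
    (A ⧸ I) hmem
  have hAreg : IsRegular A as :=
    Groth.Agent.Lib.helper26.Depth.isRegular_of_mem (I := maximalIdeal A)
      (Groth.Agent.Lib.helper26.Depth.maximalIdeal_smul_top_ne_top (A := A) A) hA hmem
  have h2 := Module.supportDim_add_length_eq_supportDim_of_isRegular as hAreg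
  rw [Module.supportDim_self_eq_ringKrullDim] at h2
  have h3 : Module.supportDim A ((A ⧸ I) ⧸ (Ideal.ofList as • ⊤ : Submodule A (A ⧸ I))) ≤
      Module.supportDim A (A ⧸ (Ideal.ofList as • ⊤ : Submodule A A)) := by
    have hle : (Ideal.ofList as • ⊤ : Submodule A A) ≤
        Submodule.comap (Submodule.mkQ I) (Ideal.ofList as • ⊤ : Submodule A (A ⧸ I)) := by
      rw [← Submodule.map_le_iff_le_comap, Submodule.map_smul'']
      exact Submodule.smul_mono le_rfl le_top
    refine Module.supportDim_le_of_surjective (Submodule.mapQ _ _ (Submodule.mkQ I) hle) ?_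
    intro y
    obtain ⟨y, rfl⟩ := Submodule.Quotient.mk_surjective _ y
    obtain ⟨y, rfl⟩ := Submodule.Quotient.mk_surjective _ y
    exact ⟨Submodule.Quotient.mk y, rfl⟩
  rw [Module.supportDim_quotient_eq_ringKrullDim I, hI] at h1 ⊢
  apply le_antisymm
  · rw [← h2]
    exact add_le_add_left h3 _
  · exact h1

omit [LocCoh.IsGorensteinLocalRing A] in
lemma mem_smul_top_quot (J 𝔞 : Ideal A) (x : A) :
    (Submodule.Quotient.mk x : A ⧸ J) ∈ (𝔞 • ⊤ : Submodule A (A ⧸ J)) ↔ x ∈ J ⊔ 𝔞 := by
  have h1 : (𝔞 • ⊤ : Submodule A (A ⧸ J)) = Submodule.map (Submodule.mkQ J) 𝔞 := by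
    have h2 : (⊤ : Submodule A (A ⧸ J)) = Submodule.map (Submodule.mkQ J) ⊤ := by
      rw [Submodule.map_top, Submodule.range_mkQ]
    rw [h2, ← Submodule.map_smul'']
    congr 1
    rw [smul_eq_mul, Ideal.mul_top]
  rw [h1, ← Submodule.comap_map_mkQ]
  rfl

include hI in
/-- an `A`-regular sequence is `A/(0:I)`-regular -/
theorem isWeaklyRegular_quot_ann (as : List A) (hA : IsWeaklyRegular A as) :
    IsWeaklyRegular (A ⧸ Submodule.annihilator I) as := by
  induction as using List.reverseRecOn with
  | nil => exact IsWeaklyRegular.nil A _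
  | append_singleton l a ih =>
    rw [isWeaklyRegular_append_iff] at hA ⊢
    obtain ⟨h1, h2⟩ := hA
    refine ⟨ih h1, ?_⟩
    rw [isWeaklyRegular_singleton_iff] at h2 ⊢
    have hg := good_ofList_gor A I hI l h1
    have hreg : ∀ c : A, a * c ∈ Ideal.ofList l → c ∈ Ideal.ofList l := by
      intro c hc
      have h3 : a • (Submodule.Quotient.mk c : A ⧸ (Ideal.ofList l • ⊤ : Submodule A A)) =
          a • (0 : A ⧸ (Ideal.ofList l • ⊤ : Submodule A A)) := by
        rw [smul_zero, ← Submodule.Quotient.mk_smul, Submodule.Quotient.mk_eq_zero, smul_eq_mul,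
          smul_eq_mul, Ideal.mul_top]
        exact hc
      have h4 := (Submodule.Quotient.mk_eq_zero _).mp (h2 h3)
      rwa [smul_eq_mul, Ideal.mul_top] at h4
    rw [isSMulRegular_iff_right_eq_zero_of_smul]
    intro y hy
    obtain ⟨y, rfl⟩ := Submodule.Quotient.mk_surjective _ y
    obtain ⟨c, rfl⟩ := Submodule.Quotient.mk_surjective _ y
    rw [← Submodule.Quotient.mk_smul, ← Submodule.Quotient.mk_smul, Submodule.Quotient.mk_eq_zero,
      mem_smul_top_quot, hg.p2, Submodule.mem_colon] at hy
    rw [Submodule.Quotient.mk_eq_zero, mem_smul_top_quot, hg.p2, Submodule.mem_colon]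
    intro i hi
    apply hreg
    have := hy i hi
    rwa [smul_eq_mul, smul_eq_mul, mul_assoc] at this

end Quot

end Groth.Agent.Lib.helper19.Link
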