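import Mathlib
import Groth.Agent.Lib.Helper19.Link5
import Groth.Agent.Lib.Helper26.Depth5
set_option autoImplicit false

/-! Local linkage: `A` Gorenstein local, `A/I` Cohen–Macaulay of dimension `dim A`, `J = (0 : I)`
proper. Then `A/J` is Cohen–Macaulay of dimension `dim A`. -/

universe u

namespace Groth.Agent.Lib.helper19.Link
open CategoryTheory Abelian IsLocalRing RingTheory.Sequence

variable (A : Type u) [CommRing A] [LocCoh.IsGorensteinLocalRing A] (I : Ideal A)
  (hI : ringKrullDim (A ⧸ I) = ringKrullDim A) [LocCoh.IsCohenMacaulayLocalRing (A ⧸ I)]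

include hI in
/-- depth of `A/(0:I)` over `A` is `dim A`, and so is its dimension. -/
theorem depth_quot_ann (hJ : Submodule.annihilator I ≠ ⊤) (d : ℕ) (hd : ringKrullDim A = d) :
    LocCoh.depth A (A ⧸ Submodule.annihilator I) = d ∧
      ringKrullDim (A ⧸ Submodule.annihilator I) = d := by
  haveI hCM : LocCoh.IsCohenMacaulayLocalRing A := Groth.Agent.S0341.result A
  haveI : Nontrivial (A ⧸ Submodule.annihilator I) := Ideal.Quotient.nontrivial_iff.mpr hJ
  have h1 := hCM.supportDim_eq_depth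
  rw [Module.supportDim_self_eq_ringKrullDim, hd] at h1
  have h2 : ((d : ℕ) : ℕ∞) ≤ LocCoh.idealDepth (maximalIdeal A) A := by
    have : ((d : ℕ∞) : WithBot ℕ∞) = ((LocCoh.depth A A : ℕ∞) : WithBot ℕ∞) := h1
    exact le_of_eq (WithBot.coe_injective this)
  obtain ⟨as, hlen, hmem, hreg⟩ := Groth.Agent.Lib.helper26.Depth.exists_isWeaklyRegular_of_le
    (Groth.Agent.Lib.helper26.Depth.maximalIdeal_smul_top_ne_top (A := A) A) h2
  have h3 := isWeaklyRegular_quot_ann A I hI as hreg
  have h4 : ((as.length : ℕ) : ℕ∞) ≤ LocCoh.depth A (A ⧸ Submodule.annihilator I) :=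
    Groth.Agent.Lib.helper26.Depth.length_le_idealDepth h3 hmem
  rw [hlen] at h4
  have h5 := Groth.Agent.Lib.helper26.Depth.depth_le_supportDim (A := A)
    (A ⧸ Submodule.annihilator I)
  rw [Module.supportDim_quotient_eq_ringKrullDim] at h5
  have h6 : ringKrullDim (A ⧸ Submodule.annihilator I) ≤ d := by
    rw [← hd]
    exact ringKrullDim_quotient_le _
  have h7 : ((d : ℕ∞) : WithBot ℕ∞) ≤
      ((LocCoh.depth A (A ⧸ Submodule.annihilator I) : ℕ∞) : WithBot ℕ∞) :=
    WithBot.coe_le_coe.mpr h4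
  have h8 : ((LocCoh.depth A (A ⧸ Submodule.annihilator I) : ℕ∞) : WithBot ℕ∞) = (d : ℕ∞) :=
    le_antisymm (h5.trans h6) h7
  refine ⟨WithBot.coe_injective h8, le_antisymm h6 ?_⟩
  exact h7.trans h5

include hI in
/-- **local linkage**: `A/(0:I)` is a Cohen–Macaulay local ring of dimension `dim A`. -/
theorem isCohenMacaulayLocalRing_quot_ann (hJ : Submodule.annihilator I ≠ ⊤) :
    LocCoh.IsCohenMacaulayLocalRing (A ⧸ Submodule.annihilator I) ∧
      ringKrullDim (A ⧸ Submodule.annihilator I) = ringKrullDim A := by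
  obtain ⟨d, hd⟩ := Groth.Agent.Lib.helper19.Gor.exists_dim A
  obtain ⟨h1, h2⟩ := depth_quot_ann A I hI hJ d hd
  haveI : Nontrivial (A ⧸ Submodule.annihilator I) := Ideal.Quotient.nontrivial_iff.mpr hJ
  haveI : IsLocalRing (A ⧸ Submodule.annihilator I) :=
    IsLocalRing.of_surjective' (Ideal.Quotient.mk _) Ideal.Quotient.mk_surjective
  haveI : IsLocalHom (algebraMap A (A ⧸ Submodule.annihilator I)) :=
    IsLocalHom.of_surjective (Ideal.Quotient.mk _) Ideal.Quotient.mk_surjective
  refine ⟨?_, h2.trans hd.symm⟩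
  refine { supportDim_eq_depth := ?_ }
  rw [Module.supportDim_self_eq_ringKrullDim, h2,
    ← Groth.Agent.Lib.helper26.Depth.depth_eq_of_isLocalHom (A := A)
      (B := A ⧸ Submodule.annihilator I) (A ⧸ Submodule.annihilator I), h1]
  rfl

end Groth.Agent.Lib.helper19.Link
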