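import Mathlib
import Groth.Agent.Lib.Helper19.Link6
import Groth.Agent.Lib.Helper17.GorIso
set_option autoImplicit false

/-! Globalization of local linkage: if `𝔠 : I = J`, `𝔠 : J = I` in a Noetherian ring `R` with `R/𝔠`
Gorenstein and `R/I` is Cohen–Macaulay then `R/J` is Cohen–Macaulay. -/

universe u

namespace Groth.Agent.Lib.helper19.Link
open IsLocalRing

/-- Cohen–Macaulayness of local rings is invariant under ring isomorphisms. -/
theorem isCM_of_ringEquiv {S T : Type u} [CommRing S] [CommRing T] (e : S ≃+* T)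
    (h : LocCoh.IsCohenMacaulayLocalRing S) : LocCoh.IsCohenMacaulayLocalRing T := by
  haveI : IsNoetherianRing S := h.toIsNoetherian
  haveI : IsLocalRing S := h.toIsLocalRing
  haveI : IsNoetherianRing T := isNoetherianRing_of_ringEquiv S e
  haveI : IsLocalRing T := e.isLocalRing
  refine { supportDim_eq_depth := ?_ }
  have h1 := h.supportDim_eq_depth
  rw [Module.supportDim_self_eq_ringKrullDim] at h1 ⊢
  have key : LocCoh.depth S S = LocCoh.depth T T := by
    let _ : Algebra S T := (e : S →+* T).toAlgebra
    have hloc : IsLocalHom (algebraMap S T) := by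
      constructor
      intro a ha
      have : IsUnit (e a) := ha
      exact (isUnit_map_iff e a).mp this
    have hfin : Module.Finite S T :=
      Module.Finite.of_surjective (Algebra.linearMap S T) e.surjective
    have h2 := Groth.Agent.Lib.helper26.Depth.depth_eq_of_isLocalHom (A := S) (B := T) T
    rw [← h2]
    unfold LocCoh.depth
    exact Groth.Agent.Lib.helper26.Depth.idealDepth_congr
      (LinearEquiv.ofBijective (Algebra.linearMap S T) e.bijective)
  rw [← ringKrullDim_eq_of_ringEquiv e, h1, key]

section LocQuot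

variable {R : Type u} [CommRing R] (I : Ideal R) (𝔮 : Ideal (R ⧸ I)) [𝔮.IsPrime]

/-- the localization of `R/I` at a prime is the quotient of the localization of `R`. -/
noncomputable def locQuotEquiv :
    Localization.AtPrime 𝔮 ≃+*
      (Localization.AtPrime (𝔮.comap (Ideal.Quotient.mk I)) ⧸
        I.map (algebraMap R (Localization.AtPrime (𝔮.comap (Ideal.Quotient.mk I))))) := by
  have hsub : Algebra.algebraMapSubmonoid (R ⧸ I) (𝔮.comap (Ideal.Quotient.mk I)).primeCompl =
      𝔮.primeCompl := by
    ext y
    constructor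
    · rintro ⟨x, hx, rfl⟩
      exact hx
    · intro hy
      obtain ⟨x, rfl⟩ := Ideal.Quotient.mk_surjective y
      exact ⟨x, hy, rfl⟩
  haveI : IsLocalization 𝔮.primeCompl
      (Localization.AtPrime (𝔮.comap (Ideal.Quotient.mk I)) ⧸
        I.map (algebraMap R (Localization.AtPrime (𝔮.comap (Ideal.Quotient.mk I))))) := by
    rw [← hsub]
    infer_instance
  exact (IsLocalization.algEquiv 𝔮.primeCompl (Localization.AtPrime 𝔮)
      (Localization.AtPrime (𝔮.comap (Ideal.Quotient.mk I)) ⧸
        I.map (algebraMap R (Localization.AtPrime (𝔮.comap (Ideal.Quotient.mk I)))))).toRingEquiv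

end LocQuot

section Colon

/-- the annihilator of the image of `I'` in `L/𝔠'` is the image of `𝔠' : I'`. -/
lemma annihilator_map_mk {L : Type u} [CommRing L] (𝔠' I' : Ideal L) :
    Submodule.annihilator (I'.map (Ideal.Quotient.mk 𝔠')) =
      (𝔠'.colon (I' : Set L)).map (Ideal.Quotient.mk 𝔠') := by
  ext x
  obtain ⟨x, rfl⟩ := Ideal.Quotient.mk_surjective x
  rw [mem_ann_iff]
  constructor
  · intro h
    refine Ideal.mem_map_of_mem _ ?_
    rw [Submodule.mem_colon]
    intro i hi
    have := h (Ideal.Quotient.mk 𝔠' i) (Ideal.mem_map_of_mem _ hi)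
    rw [← map_mul, Ideal.Quotient.eq_zero_iff_mem] at this
    exact this
  · intro h i hi
    obtain ⟨y, hy, hxy⟩ := (Ideal.mem_map_iff_of_surjective _ Ideal.Quotient.mk_surjective).mp h
    obtain ⟨j, hj, rfl⟩ := (Ideal.mem_map_iff_of_surjective _ Ideal.Quotient.mk_surjective).mp hi
    rw [← hxy, ← map_mul, Ideal.Quotient.eq_zero_iff_mem]
    exact (Submodule.mem_colon.mp hy) j hj

variable {R : Type u} [CommRing R] [IsNoetherianRing R] (Q : Ideal R) [Q.IsPrime]

/-- localization commutes with colon by a (finitely generated) ideal -/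
lemma colon_map_localization (𝔠 I : Ideal R) :
    (𝔠.map (algebraMap R (Localization.AtPrime Q))).colon
        ((I.map (algebraMap R (Localization.AtPrime Q)) : Ideal (Localization.AtPrime Q)) :
          Set (Localization.AtPrime Q)) =
      (𝔠.colon (I : Set R)).map (algebraMap R (Localization.AtPrime Q)) := by
  classical
  apply le_antisymm
  · intro x hx
    obtain ⟨r, s, rfl⟩ := IsLocalization.exists_mk'_eq Q.primeCompl x
    obtain ⟨gens, hgens⟩ := (IsNoetherian.noetherian I : I.FG)
    have key : ∀ i ∈ gens, ∃ t ∈ Q.primeCompl, t * (r * i) ∈ 𝔠 := by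
      intro i hi
      have hiI : i ∈ I := by
        rw [← hgens]
        exact Submodule.subset_span hi
      have h1 := (Submodule.mem_colon.mp hx) (algebraMap R _ i) (Ideal.mem_map_of_mem _ hiI)
      rw [smul_eq_mul, ← IsLocalization.mk'_one (M := Q.primeCompl) (Localization.AtPrime Q) i,
        ← IsLocalization.mk'_mul, IsLocalization.mk'_mem_map_algebraMap_iff] at h1
      exact h1
    choose! t ht htc using key
    rw [IsLocalization.mk'_mem_map_algebraMap_iff]
    refine ⟨∏ i ∈ gens, t i, Submonoid.prod_mem _ (fun i hi => ht i hi), ?_⟩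
    rw [← Ideal.colon_span (S := (I : Set R)), Ideal.span_eq, ← hgens, Ideal.submodule_span_eq,
      Ideal.colon_span, Submodule.mem_colon]
    intro i hi
    rw [← Finset.mul_prod_erase gens t hi, smul_eq_mul]
    have : (t i * ∏ x ∈ gens.erase i, t x) * r * i =
        (∏ x ∈ gens.erase i, t x) * (t i * (r * i)) := by
      ring
    rw [this]
    exact 𝔠.mul_mem_left _ (htc i hi)
  · rw [Ideal.map_le_iff_le_comap]
    intro x hx
    rw [Ideal.mem_comap]
    show algebraMap R (Localization.AtPrime Q) x ∈
      (𝔠.map (algebraMap R (Localization.AtPrime Q))).colon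
        ((Ideal.span (algebraMap R (Localization.AtPrime Q) '' (I : Set R)) :
          Ideal (Localization.AtPrime Q)) : Set (Localization.AtPrime Q))
    rw [Ideal.colon_span, Submodule.mem_colon]
    rintro _ ⟨i, hi, rfl⟩
    rw [smul_eq_mul, ← map_mul]
    exact Ideal.mem_map_of_mem _ ((Submodule.mem_colon.mp hx) i hi)

end Colon


section Dim

/-- `Ass (A / ann 𝔟) ⊆ Ass A` for a Noetherian ring `A`. -/
lemma associatedPrimes_quot_ann_subset {A : Type u} [CommRing A] [IsNoetherianRing A] (𝔟 : Ideal A) :
    associatedPrimes A (A ⧸ Submodule.annihilator 𝔟) ⊆ associatedPrimes A A := by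
  classical
  intro P hP
  obtain ⟨hprime, x, hx⟩ := isAssociatedPrime_iff.mp hP
  obtain ⟨y, rfl⟩ := Ideal.Quotient.mk_surjective x
  obtain ⟨gens, hgens⟩ := (IsNoetherian.noetherian 𝔟 : 𝔟.FG)
  have hmem : ∀ a : A, a ∈ P ↔ ∀ g ∈ gens, a * (y * g) = 0 := by
    intro a
    rw [hx, Submodule.mem_colon_singleton, Submodule.mem_bot]
    change a • (Submodule.Quotient.mk y : A ⧸ Submodule.annihilator 𝔟) = 0 ↔ _
    rw [← Submodule.Quotient.mk_smul, Submodule.Quotient.mk_eq_zero, mem_ann_iff]
    constructor
    · intro h g hg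
      have hg' : g ∈ 𝔟 := by
        rw [← hgens]
        exact Submodule.subset_span hg
      have := h g hg'
      rw [smul_eq_mul] at this
      rw [← mul_assoc]
      exact this
    · intro h i hi
      rw [← hgens] at hi
      refine Submodule.span_induction ?_ ?_ ?_ ?_ hi
      · intro g hg
        rw [smul_eq_mul, mul_assoc]
        exact h g hg
      · rw [mul_zero]
      · intro u v _ _ hu hv
        rw [mul_add, hu, hv, add_zero]
      · intro c u _ hu
        rw [smul_eq_mul] at hu ⊢
        rw [smul_eq_mul]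
        have : a * y * (c * u) = c * (a * y * u) := by ring
        rw [this, hu, mul_zero]
  -- `P` is the intersection of the annihilators of the `y * g`
  have hPinf : gens.inf (fun g => (⊥ : Submodule A A).colon {y * g}) ≤ P := by
    intro a ha
    rw [hmem]
    intro g hg
    have h0 : gens.inf (fun g => (⊥ : Submodule A A).colon {y * g}) ≤
        (⊥ : Submodule A A).colon {y * g} := Finset.inf_le hg
    have h1 : a ∈ (⊥ : Submodule A A).colon {y * g} := h0 ha
    rw [Submodule.mem_colon_singleton, Submodule.mem_bot, smul_eq_mul] at h1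
    exact h1
  obtain ⟨g, hg, hgP⟩ := hprime.inf_le'.mp hPinf
  refine isAssociatedPrime_iff.mpr ⟨hprime, y * g, le_antisymm ?_ hgP⟩
  intro a ha
  rw [Submodule.mem_colon_singleton, Submodule.mem_bot, smul_eq_mul]
  exact (hmem a).mp ha g hg

/-- in a Cohen–Macaulay local ring `A`, `dim A / ann 𝔟 = dim A` whenever `ann 𝔟` is proper. -/
theorem ringKrullDim_quot_ann (A : Type u) [CommRing A] [hA : LocCoh.IsCohenMacaulayLocalRing A]
    (𝔟 : Ideal A) (h : Submodule.annihilator 𝔟 ≠ ⊤) :
    ringKrullDim (A ⧸ Submodule.annihilator 𝔟) = ringKrullDim A := by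
  haveI : Nontrivial (A ⧸ Submodule.annihilator 𝔟) := Ideal.Quotient.nontrivial_iff.mpr h
  obtain ⟨P, hP⟩ := associatedPrimes.nonempty A (A ⧸ Submodule.annihilator 𝔟)
  have hP' := associatedPrimes_quot_ann_subset 𝔟 hP
  have hCM : LocCoh.IsCohenMacaulayModule A A := hA.supportDim_eq_depth
  have h1 := Groth.Agent.Lib.helper26.Depth.ringKrullDim_quotient_eq_supportDim_of_isCohenMacaulayModule
    A hCM P hP'
  rw [Module.supportDim_self_eq_ringKrullDim] at h1
  have hle : Submodule.annihilator 𝔟 ≤ P := by
    obtain ⟨hprime, x, hx⟩ := isAssociatedPrime_iff.mp hP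
    intro a ha
    rw [hx, Submodule.mem_colon_singleton, Submodule.mem_bot]
    obtain ⟨y, rfl⟩ := Ideal.Quotient.mk_surjective x
    change a • (Submodule.Quotient.mk y : A ⧸ Submodule.annihilator 𝔟) = 0
    rw [← Submodule.Quotient.mk_smul, Submodule.Quotient.mk_eq_zero, smul_eq_mul]
    exact Ideal.mul_mem_right _ _ ha
  apply le_antisymm (ringKrullDim_quotient_le _)
  rw [← h1]
  exact ringKrullDim_le_of_surjective (Ideal.Quotient.factor hle) (Ideal.Quotient.factor_surjective hle)

end Dim

end Groth.Agent.Lib.helper19.Link
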