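import Mathlib
import Groth.Agent.Lib.Helper19.Link7
set_option autoImplicit false

/-! Linked ideals: Cohen–Macaulayness passes through direct linkage by a Gorenstein ideal. -/

universe u

namespace Groth.Agent.Lib.helper19.Link
open IsLocalRing

section LocQuot'

variable {R : Type u} [CommRing R] (I : Ideal R) (𝔮 : Ideal (R ⧸ I)) [𝔮.IsPrime]
  (Q : Ideal R) [Q.IsPrime] (hQ : 𝔮.comap (Ideal.Quotient.mk I) = Q)

/-- the localization of `R/I` at a prime is the quotient of the localization of `R` (with the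
contraction `Q` given up to propositional equality). -/
noncomputable def locQuotEquiv' :
    Localization.AtPrime 𝔮 ≃+*
      (Localization.AtPrime Q ⧸ I.map (algebraMap R (Localization.AtPrime Q))) := by
  have hsub : Algebra.algebraMapSubmonoid (R ⧸ I) Q.primeCompl = 𝔮.primeCompl := by
    ext y
    constructor
    · rintro ⟨x, hx, rfl⟩
      intro hmem
      apply hx
      rw [← hQ]
      exact hmem
    · intro hy
      obtain ⟨x, rfl⟩ := Ideal.Quotient.mk_surjective y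
      refine ⟨x, ?_, rfl⟩
      intro hx
      apply hy
      rw [← hQ] at hx
      exact hx
  haveI : IsLocalization 𝔮.primeCompl
      (Localization.AtPrime Q ⧸ I.map (algebraMap R (Localization.AtPrime Q))) := by
    rw [← hsub]
    infer_instance
  exact (IsLocalization.algEquiv 𝔮.primeCompl (Localization.AtPrime 𝔮)
      (Localization.AtPrime Q ⧸ I.map (algebraMap R (Localization.AtPrime Q)))).toRingEquiv

end LocQuot'

/-- **Linkage preserves Cohen–Macaulayness.** -/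
theorem isCohenMacaulayRing_of_linked (R : Type u) [CommRing R] [IsNoetherianRing R]
    (𝔠 I J : Ideal R) [hG : LocCoh.IsGorensteinRing (R ⧸ 𝔠)]
    (hIJ : 𝔠.colon (I : Set R) = J) (hJI : 𝔠.colon (J : Set R) = I)
    [hCM : LocCoh.IsCohenMacaulayRing (R ⧸ I)] : LocCoh.IsCohenMacaulayRing (R ⧸ J) := by
  refine { isCohenMacaulayLocalRing_localization := ?_ }
  intro 𝔮 h𝔮
  set Q : Ideal R := 𝔮.comap (Ideal.Quotient.mk J) with hQ
  haveI hQp : Q.IsPrime := Ideal.comap_isPrime _ _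
  have h𝔠J : 𝔠 ≤ J := by rw [← hIJ]; exact Ideal.le_colon
  have h𝔠I : 𝔠 ≤ I := by rw [← hJI]; exact Ideal.le_colon
  -- the Gorenstein local ring `A = R_Q / 𝔠 R_Q`
  set 𝔠L : Ideal (Localization.AtPrime Q) := 𝔠.map (algebraMap R (Localization.AtPrime Q)) with h𝔠L
  set IL : Ideal (Localization.AtPrime Q) := I.map (algebraMap R (Localization.AtPrime Q)) with hIL
  set JL : Ideal (Localization.AtPrime Q) := J.map (algebraMap R (Localization.AtPrime Q)) with hJL
  have h𝔠JL : 𝔠L ≤ JL := Ideal.map_mono h𝔠J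
  have h𝔠IL : 𝔠L ≤ IL := Ideal.map_mono h𝔠I
  -- Gorenstein
  let 𝔭 : Ideal (R ⧸ 𝔠) := 𝔮.comap (Ideal.Quotient.factor h𝔠J)
  haveI : 𝔭.IsPrime := Ideal.comap_isPrime _ _
  have h𝔭 : 𝔭.comap (Ideal.Quotient.mk 𝔠) = Q := by
    rw [Ideal.comap_comap, Ideal.Quotient.factor_comp_mk]
  haveI hGA : LocCoh.IsGorensteinLocalRing (Localization.AtPrime Q ⧸ 𝔠L) :=
    Groth.Agent.Lib.helper17.GorIso.isGorensteinLocalRing_of_ringEquiv
      (locQuotEquiv' 𝔠 𝔭 Q h𝔭).symm (hG.isGorensteinLocalRing_localization 𝔭)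
  haveI hCMA : LocCoh.IsCohenMacaulayLocalRing (Localization.AtPrime Q ⧸ 𝔠L) :=
    Groth.Agent.S0341.result _
  -- the linked ideals in `A`
  have hannI : Submodule.annihilator (IL.map (Ideal.Quotient.mk 𝔠L)) =
      JL.map (Ideal.Quotient.mk 𝔠L) := by
    rw [annihilator_map_mk, hIL, h𝔠L, colon_map_localization Q 𝔠 I, hIJ]
  have hannJ : Submodule.annihilator (JL.map (Ideal.Quotient.mk 𝔠L)) =
      IL.map (Ideal.Quotient.mk 𝔠L) := by
    rw [annihilator_map_mk, hJL, h𝔠L, colon_map_localization Q 𝔠 J, hJI]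
  -- ring isomorphisms
  let e𝔮 : Localization.AtPrime 𝔮 ≃+* (Localization.AtPrime Q ⧸ JL) := locQuotEquiv' J 𝔮 Q rfl
  let eJ : ((Localization.AtPrime Q ⧸ 𝔠L) ⧸ JL.map (Ideal.Quotient.mk 𝔠L)) ≃+*
      (Localization.AtPrime Q ⧸ JL) := DoubleQuot.quotQuotEquivQuotOfLE h𝔠JL
  let eI : ((Localization.AtPrime Q ⧸ 𝔠L) ⧸ IL.map (Ideal.Quotient.mk 𝔠L)) ≃+*
      (Localization.AtPrime Q ⧸ IL) := DoubleQuot.quotQuotEquivQuotOfLE h𝔠IL
  have hJne : JL.map (Ideal.Quotient.mk 𝔠L) ≠ ⊤ := by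
    intro htop
    haveI : Subsingleton ((Localization.AtPrime Q ⧸ 𝔠L) ⧸ JL.map (Ideal.Quotient.mk 𝔠L)) :=
      Ideal.Quotient.subsingleton_iff.mpr htop
    haveI : Subsingleton (Localization.AtPrime 𝔮) := (e𝔮.trans eJ.symm).toEquiv.subsingleton
    exact not_subsingleton (Localization.AtPrime 𝔮) inferInstance
  -- it suffices to prove `A / J_A` Cohen–Macaulay
  suffices hsuff : LocCoh.IsCohenMacaulayLocalRing
      ((Localization.AtPrime Q ⧸ 𝔠L) ⧸ JL.map (Ideal.Quotient.mk 𝔠L)) from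
    isCM_of_ringEquiv (eJ.trans e𝔮.symm) hsuff
  by_cases hIQ : I ≤ Q
  · -- `A / I_A` is Cohen–Macaulay
    haveI : (Q.map (Ideal.Quotient.mk I)).IsPrime :=
      Ideal.map_isPrime_of_surjective Ideal.Quotient.mk_surjective (by rwa [Ideal.mk_ker])
    have h𝔯 : (Q.map (Ideal.Quotient.mk I)).comap (Ideal.Quotient.mk I) = Q := by
      rw [Ideal.comap_map_of_surjective _ Ideal.Quotient.mk_surjective, ← RingHom.ker_eq_comap_bot,
        Ideal.mk_ker, sup_eq_left]
      exact hIQ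
    have h1 : LocCoh.IsCohenMacaulayLocalRing (Localization.AtPrime (Q.map (Ideal.Quotient.mk I))) :=
      hCM.isCohenMacaulayLocalRing_localization _
    haveI h2 : LocCoh.IsCohenMacaulayLocalRing
        ((Localization.AtPrime Q ⧸ 𝔠L) ⧸ IL.map (Ideal.Quotient.mk 𝔠L)) :=
      isCM_of_ringEquiv ((locQuotEquiv' I _ Q h𝔯).trans eI.symm) h1
    have hIne : IL.map (Ideal.Quotient.mk 𝔠L) ≠ ⊤ := by
      intro htop
      haveI : Subsingleton ((Localization.AtPrime Q ⧸ 𝔠L) ⧸ IL.map (Ideal.Quotient.mk 𝔠L)) :=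
        Ideal.Quotient.subsingleton_iff.mpr htop
      haveI := h2.toIsLocalRing
      exact not_subsingleton ((Localization.AtPrime Q ⧸ 𝔠L) ⧸ IL.map (Ideal.Quotient.mk 𝔠L))
        inferInstance
    have hdim : ringKrullDim ((Localization.AtPrime Q ⧸ 𝔠L) ⧸ IL.map (Ideal.Quotient.mk 𝔠L)) =
        ringKrullDim (Localization.AtPrime Q ⧸ 𝔠L) := by
      have := ringKrullDim_quot_ann (Localization.AtPrime Q ⧸ 𝔠L) (JL.map (Ideal.Quotient.mk 𝔠L))
        (by rw [hannJ]; exact hIne)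
      rw [← this]
      exact ringKrullDim_eq_of_ringEquiv (Ideal.quotEquivOfEq hannJ.symm)
    have h3 := (isCohenMacaulayLocalRing_quot_ann (Localization.AtPrime Q ⧸ 𝔠L)
      (IL.map (Ideal.Quotient.mk 𝔠L)) hdim (by rw [hannI]; exact hJne)).1
    exact isCM_of_ringEquiv (Ideal.quotEquivOfEq hannI) h3
  · -- `I_A = ⊤`, so `J_A = ⊥`
    have hILtop : IL = ⊤ := by
      obtain ⟨i, hiI, hiQ⟩ := Set.not_subset.mp hIQ
      refine Ideal.eq_top_of_isUnit_mem _ (Ideal.mem_map_of_mem _ hiI) ?_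
      exact IsLocalization.map_units (Localization.AtPrime Q) (⟨i, hiQ⟩ : Q.primeCompl)
    have hJbot : JL.map (Ideal.Quotient.mk 𝔠L) = ⊥ := by
      rw [← hannI, hILtop, Ideal.map_top]
      rw [eq_bot_iff]
      intro x hx
      have := (mem_ann_iff x).mp hx 1 Submodule.mem_top
      rw [mul_one] at this
      rw [this]
      exact Submodule.zero_mem _
    exact isCM_of_ringEquiv ((RingEquiv.quotientBot _).symm.trans (Ideal.quotEquivOfEq hJbot.symm))
      hCMA

end Groth.Agent.Lib.helper19.Link
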