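import Mathlib
import Groth.Prelude.Def_Models

/-!
# Numerical types: sub-null vectors on proper subconfigurations (helper19)

Main tools:
* `no_subnull`: a numerical type admits no nonzero nonnegative rational vector `c` with proper
  support such that `(c ᵀ a)_t ≥ 0` on the support.
* `no_config`: embedding version for `(-2)`-indices with lower bounds `r s t * w_s ≤ a_st`.
* `row_ineq`: row inequality at a `(-2)`-index.
-/

open Finset

namespace Groth.Agent.Lib.helper19

open Models Models.NumericalType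

variable {n : ℕ}

theorem a_symm (T : NumericalType n) (i j : Fin n) : T.a i j = T.a j i :=
  (T.symm.apply i j).symm

theorem no_subnull (T : NumericalType n) (c : Fin n → ℚ) (hc0 : ∀ i, 0 ≤ c i)
    (hcne : ∃ i, 0 < c i) (hprop : ∃ l, c l = 0)
    (h : ∀ t, 0 < c t → 0 ≤ ∑ s, c s * (T.a s t : ℚ)) : False := by
  classical
  -- every column sum is nonnegative
  have hcol : ∀ t, 0 ≤ ∑ s, c s * (T.a s t : ℚ) := by
    intro t
    rcases (hc0 t).lt_or_eq with ht | ht
    · exact h t ht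
    · apply Finset.sum_nonneg
      intro s _
      by_cases hst : s = t
      · rw [hst, ← ht, zero_mul]
      · exact mul_nonneg (hc0 s) (by exact_mod_cast T.offDiag_nonneg s t hst)
  -- the weighted total vanishes
  have htot : ∑ t, (T.m t : ℚ) * ∑ s, c s * (T.a s t : ℚ) = 0 := by
    simp_rw [Finset.mul_sum]
    rw [Finset.sum_comm]
    apply Finset.sum_eq_zero
    intro s _
    have hs := congrFun T.mulVec_m s
    simp only [Matrix.mulVec, dotProduct, Pi.zero_apply] at hs
    have hs' : ∑ t, (T.a s t : ℚ) * (T.m t : ℚ) = 0 := by exact_mod_cast hs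
    calc ∑ t, (T.m t : ℚ) * (c s * (T.a s t : ℚ)) = c s * ∑ t, (T.a s t : ℚ) * (T.m t : ℚ) := by
          rw [Finset.mul_sum]
          refine Finset.sum_congr rfl fun t _ => by ring
      _ = 0 := by rw [hs', mul_zero]
  have hterm : ∀ t, (T.m t : ℚ) * ∑ s, c s * (T.a s t : ℚ) = 0 := by
    have hnn : ∀ t ∈ (Finset.univ : Finset (Fin n)), 0 ≤ (T.m t : ℚ) * ∑ s, c s * (T.a s t : ℚ) :=
      fun t _ => mul_nonneg (by exact_mod_cast (T.m_pos t).le) (hcol t)
    intro t
    exact (Finset.sum_eq_zero_iff_of_nonneg hnn).1 htot t (Finset.mem_univ t)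
  have hcol0 : ∀ t, ∑ s, c s * (T.a s t : ℚ) = 0 := by
    intro t
    rcases mul_eq_zero.1 (hterm t) with h1 | h1
    · exact absurd h1 (by exact_mod_cast (T.m_pos t).ne')
    · exact h1
  -- the support is orthogonal to its complement
  let I : Finset (Fin n) := Finset.univ.filter fun i => 0 < c i
  have hI : I.Nonempty := by
    obtain ⟨i, hi⟩ := hcne
    exact ⟨i, by simp [I, hi]⟩
  have hI' : I ≠ Finset.univ := by
    obtain ⟨l, hl⟩ := hprop
    intro hu
    have : l ∈ I := by rw [hu]; exact Finset.mem_univ l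
    simp only [I, Finset.mem_filter, Finset.mem_univ, true_and] at this
    rw [hl] at this
    exact lt_irrefl _ this
  obtain ⟨i, hiI, j, hjI, hij⟩ := T.connected I hI hI'
  simp only [I, Finset.mem_filter, Finset.mem_univ, true_and] at hiI hjI
  have hcj : c j = 0 := le_antisymm (not_lt.1 hjI) (hc0 j)
  have hne : i ≠ j := by
    intro e
    rw [e, hcj] at hiI
    exact lt_irrefl _ hiI
  have hnn : ∀ s ∈ (Finset.univ : Finset (Fin n)), 0 ≤ c s * (T.a s j : ℚ) := by
    intro s _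
    by_cases hsj : s = j
    · rw [hsj, hcj, zero_mul]
    · exact mul_nonneg (hc0 s) (by exact_mod_cast T.offDiag_nonneg s j hsj)
  have h0 := (Finset.sum_eq_zero_iff_of_nonneg hnn).1 (hcol0 j) i (Finset.mem_univ i)
  rcases mul_eq_zero.1 h0 with h1 | h1
  · exact absurd h1 hiI.ne'
  · exact hij (by exact_mod_cast h1)

/-- Embedding version: `k < n` distinct `(-2)`-indices `v j`, integers `r s t` with
`r s t * w_s ≤ a_st` for `s ≠ t`, and a nonzero nonnegative `δ` with
`2 δ_t ≤ ∑_{s ≠ t} r s t * δ_s` for all `t`: impossible. -/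
theorem no_config {k : ℕ} (T : NumericalType n) (hk : k < n) (v : Fin k ↪ Fin n)
    (hv : ∀ j, T.IsMinusTwo (v j)) (r : Fin k → Fin k → ℤ)
    (hr : ∀ s t, s ≠ t → r s t * T.w (v s) ≤ T.a (v s) (v t))
    (δ : Fin k → ℤ) (hδ0 : ∀ j, 0 ≤ δ j) (hδne : ∃ j, 0 < δ j)
    (hδ : ∀ t, 2 * δ t ≤ ∑ s, if s = t then 0 else r s t * δ s) : False := by
  classical
  let c : Fin n → ℚ := fun i => ∑ j, if v j = i then (δ j : ℚ) / (T.w (v j) : ℚ) else 0
  have hwpos : ∀ j, (0 : ℚ) < (T.w (v j) : ℚ) := fun j => by exact_mod_cast T.w_pos (v j)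
  have hcv : ∀ j, c (v j) = (δ j : ℚ) / (T.w (v j) : ℚ) := by
    intro j
    change ∑ j', (if v j' = v j then (δ j' : ℚ) / (T.w (v j') : ℚ) else 0) = _
    rw [Finset.sum_eq_single j]
    · simp
    · intro j' _ hj'
      rw [if_neg (fun e => hj' (v.injective e))]
    · intro h; exact absurd (Finset.mem_univ j) h
  have hcout : ∀ i, (∀ j, v j ≠ i) → c i = 0 := by
    intro i hi
    change ∑ j', (if v j' = i then (δ j' : ℚ) / (T.w (v j') : ℚ) else 0) = 0
    exact Finset.sum_eq_zero fun j' _ => by rw [if_neg (hi j')]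
  have hc0 : ∀ i, 0 ≤ c i := by
    intro i
    apply Finset.sum_nonneg
    intro j _
    split_ifs
    · exact div_nonneg (by exact_mod_cast hδ0 j) (hwpos j).le
    · exact le_rfl
  have hsum : ∀ f : Fin n → ℚ, ∑ i, c i * f i = ∑ j, (δ j : ℚ) / (T.w (v j) : ℚ) * f (v j) := by
    intro f
    change ∑ i, (∑ j, if v j = i then (δ j : ℚ) / (T.w (v j) : ℚ) else 0) * f i = _
    simp_rw [Finset.sum_mul]
    rw [Finset.sum_comm]
    refine Finset.sum_congr rfl fun j _ => ?_
    rw [Finset.sum_eq_single (v j)]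
    · simp
    · intro i _ hi
      rw [if_neg (Ne.symm hi), zero_mul]
    · intro h; exact absurd (Finset.mem_univ _) h
  refine no_subnull T c hc0 ?_ ?_ ?_
  · obtain ⟨j, hj⟩ := hδne
    exact ⟨v j, by rw [hcv]; exact div_pos (by exact_mod_cast hj) (hwpos j)⟩
  · -- some index outside the range of v
    have hcard : (Finset.univ.map v).card < (Finset.univ : Finset (Fin n)).card := by
      simp [Finset.card_map, hk]
    obtain ⟨l, -, hl⟩ := Finset.exists_mem_notMem_of_card_lt_card hcard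
    refine ⟨l, hcout l fun j e => hl ?_⟩
    rw [← e]
    exact Finset.mem_map_of_mem v (Finset.mem_univ j)
  · intro i hi
    -- i must be in the range of v
    have hex : ∃ t, v t = i := by
      by_contra hne
      push Not at hne
      rw [hcout i hne] at hi
      exact lt_irrefl _ hi
    obtain ⟨t, rfl⟩ := hex
    rw [hsum (fun s => (T.a s (v t) : ℚ))]
    have hterm : ∀ s, (if s = t then (0 : ℚ) else (r s t : ℚ) * (δ s : ℚ)) +
        (if s = t then -2 * (δ t : ℚ) else 0) ≤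
        (δ s : ℚ) / (T.w (v s) : ℚ) * (T.a (v s) (v t) : ℚ) := by
      intro s
      by_cases hst : s = t
      · subst hst
        rw [if_pos rfl, if_pos rfl, (hv s).2]
        push_cast
        have := (hwpos s).ne'
        field_simp
        linarith
      · rw [if_neg hst, if_neg hst, add_zero]
        have h1 : ((r s t * T.w (v s) : ℤ) : ℚ) ≤ (T.a (v s) (v t) : ℚ) := by
          exact_mod_cast hr s t hst
        push_cast at h1
        have h2 : (0 : ℚ) ≤ (δ s : ℚ) / (T.w (v s) : ℚ) :=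
          div_nonneg (by exact_mod_cast hδ0 s) (hwpos s).le
        calc (r s t : ℚ) * (δ s : ℚ) = (δ s : ℚ) / (T.w (v s) : ℚ) * ((r s t : ℚ) * (T.w (v s) : ℚ)) := by
              have := (hwpos s).ne'
              field_simp
          _ ≤ (δ s : ℚ) / (T.w (v s) : ℚ) * (T.a (v s) (v t) : ℚ) :=
              mul_le_mul_of_nonneg_left h1 h2
    have hδt : ((2 * δ t : ℤ) : ℚ) ≤ ((∑ s, if s = t then 0 else r s t * δ s : ℤ) : ℚ) := by
      exact_mod_cast hδ t
    push_cast at hδt
    calc (0 : ℚ) ≤ (∑ s, if s = t then (0 : ℚ) else (r s t : ℚ) * (δ s : ℚ)) - 2 * (δ t : ℚ) := by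
          linarith
      _ = ∑ s, ((if s = t then (0 : ℚ) else (r s t : ℚ) * (δ s : ℚ)) +
            (if s = t then -2 * (δ t : ℚ) else 0)) := by
          rw [Finset.sum_add_distrib, Finset.sum_ite_eq' Finset.univ t]
          simp
          ring
      _ ≤ _ := Finset.sum_le_sum fun s _ => hterm s

/-- Row inequality at a `(-2)`-index `s`: for any finset `N` not containing `s`,
`∑_{t ∈ N} a_st m_t ≤ 2 w_s m_s`. -/
theorem row_ineq (T : NumericalType n) (s : Fin n) (hs : T.IsMinusTwo s) (N : Finset (Fin n))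
    (hN : s ∉ N) : ∑ t ∈ N, T.a s t * T.m t ≤ 2 * T.w s * T.m s := by
  classical
  have h := congrFun T.mulVec_m s
  simp only [Matrix.mulVec, dotProduct, Pi.zero_apply] at h
  have hsplit : ∑ t, T.a s t * T.m t =
      (∑ t ∈ insert s N, T.a s t * T.m t) + ∑ t ∈ (univ \ insert s N), T.a s t * T.m t := by
    rw [add_comm, Finset.sum_sdiff (Finset.subset_univ _)]
  rw [Finset.sum_insert hN, hs.2] at hsplit
  have hnn : 0 ≤ ∑ t ∈ (univ \ insert s N), T.a s t * T.m t := by
    apply Finset.sum_nonneg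
    intro t ht
    simp only [Finset.mem_sdiff, Finset.mem_univ, Finset.mem_insert, true_and, not_or] at ht
    exact mul_nonneg (T.offDiag_nonneg s t (Ne.symm ht.1)) (T.m_pos t).le
  linarith

/-! ### The exact quotients `r s t = a_st / w_s` -/

/-- `rq T v s t = a_{v s, v t} / w_{v s}` (an exact division). -/
def rq {k : ℕ} (T : NumericalType n) (v : Fin k → Fin n) (s t : Fin k) : ℤ :=
  T.a (v s) (v t) / T.w (v s)

theorem rq_mul {k : ℕ} (T : NumericalType n) (v : Fin k → Fin n) (s t : Fin k) :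
    rq T v s t * T.w (v s) = T.a (v s) (v t) :=
  Int.ediv_mul_cancel (T.w_dvd _ _)

theorem rq_nonneg {k : ℕ} (T : NumericalType n) (v : Fin k → Fin n) (s t : Fin k)
    (hst : v s ≠ v t) : 0 ≤ rq T v s t :=
  Int.ediv_nonneg (T.offDiag_nonneg _ _ hst) (T.w_pos _).le

theorem one_le_rq {k : ℕ} (T : NumericalType n) (v : Fin k → Fin n) (s t : Fin k)
    (hst : v s ≠ v t) (h : T.a (v s) (v t) ≠ 0) : 1 ≤ rq T v s t := by
  have h0 := rq_nonneg T v s t hst
  rcases h0.lt_or_eq with h1 | h1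
  · omega
  · exfalso
    apply h
    rw [← rq_mul, ← h1, zero_mul]

theorem rq_symm {k : ℕ} (T : NumericalType n) (v : Fin k → Fin n) (s t : Fin k) :
    rq T v s t * T.w (v s) = rq T v t s * T.w (v t) := by
  rw [rq_mul, rq_mul, a_symm]

theorem rq_eq_zero_iff {k : ℕ} (T : NumericalType n) (v : Fin k → Fin n) (s t : Fin k) :
    rq T v s t = 0 ↔ T.a (v s) (v t) = 0 := by
  constructor
  · intro h
    rw [← rq_mul, h, zero_mul]
  · intro h
    have := rq_mul T v s t
    rw [h] at this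
    rcases mul_eq_zero.1 this with h1 | h1
    · exact h1
    · exact absurd h1 (T.w_pos _).ne'

/-- Version of `no_config` with lower bounds compared to `rq`. -/
theorem no_config_dec {k : ℕ} (T : NumericalType n) (hk : k < n) (v : Fin k ↪ Fin n)
    (hv : ∀ j, T.IsMinusTwo (v j)) (E : Fin k → Fin k → ℤ)
    (hE : ∀ s t, s ≠ t → E s t ≤ rq T v s t)
    (δ : Fin k → ℤ) (hδ0 : ∀ j, 0 ≤ δ j) (hδne : ∃ j, 0 < δ j)
    (hδ : ∀ t, 2 * δ t ≤ ∑ s, if s = t then 0 else E s t * δ s) : False := by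
  refine no_config T hk v hv E ?_ δ hδ0 hδne hδ
  intro s t hst
  calc E s t * T.w (v s) ≤ rq T v s t * T.w (v s) :=
        mul_le_mul_of_nonneg_right (hE s t hst) (T.w_pos _).le
    _ = T.a (v s) (v t) := rq_mul T v s t

/-- The adjacency lower-bound matrix of an undirected edge list. -/
def adjE {k : ℕ} (L : List (Fin k × Fin k)) (s t : Fin k) : ℤ :=
  if (s, t) ∈ L ∨ (t, s) ∈ L then 1 else 0

theorem adjE_le {k : ℕ} (T : NumericalType n) (v : Fin k ↪ Fin n) (L : List (Fin k × Fin k))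
    (hL : ∀ e ∈ L, T.a (v e.1) (v e.2) ≠ 0) :
    ∀ s t, s ≠ t → adjE L s t ≤ rq T v s t := by
  intro s t hst
  unfold adjE
  split_ifs with h
  · rcases h with h | h
    · exact one_le_rq T v s t (v.injective.ne hst) (hL _ h)
    · refine one_le_rq T v s t (v.injective.ne hst) ?_
      rw [a_symm]
      exact hL _ h
  · exact rq_nonneg T v s t (v.injective.ne hst)

/-- Update one entry of a lower-bound matrix. -/
def updE {k : ℕ} (E : Fin k → Fin k → ℤ) (p q : Fin k) (c : ℤ) (s t : Fin k) : ℤ :=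
  if s = p ∧ t = q then c else E s t

theorem updE_le {k : ℕ} (T : NumericalType n) (v : Fin k → Fin n) {E : Fin k → Fin k → ℤ}
    (hE : ∀ s t, s ≠ t → E s t ≤ rq T v s t) (p q : Fin k) (c : ℤ) (hc : c ≤ rq T v p q) :
    ∀ s t, s ≠ t → updE E p q c s t ≤ rq T v s t := by
  intro s t hst
  unfold updE
  split_ifs with h
  · rw [h.1, h.2]; exact hc
  · exact hE s t hst

/-- Row inequality in terms of `rq`: `∑_{t ∈ N} r_st m_t ≤ 2 m_s` for `s ∉ N`. -/
theorem row_rq {k : ℕ} (T : NumericalType n) (v : Fin k ↪ Fin n) (hv : ∀ j, T.IsMinusTwo (v j))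
    (s : Fin k) (N : Finset (Fin k)) (hN : s ∉ N) :
    ∑ t ∈ N, rq T v s t * T.m (v t) ≤ 2 * T.m (v s) := by
  classical
  have h := row_ineq T (v s) (hv s) (N.map v) (by
    intro hmem
    rw [Finset.mem_map] at hmem
    obtain ⟨t, ht, e⟩ := hmem
    exact hN (v.injective e ▸ ht))
  rw [Finset.sum_map] at h
  have hw := T.w_pos (v s)
  have h2 : T.w (v s) * ∑ t ∈ N, rq T v s t * T.m (v t) ≤ T.w (v s) * (2 * T.m (v s)) := by
    calc T.w (v s) * ∑ t ∈ N, rq T v s t * T.m (v t)
        = ∑ t ∈ N, T.a (v s) (v t) * T.m (v t) := by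
          rw [Finset.mul_sum]
          refine Finset.sum_congr rfl fun t _ => ?_
          rw [← rq_mul T v s t]
          ring
      _ ≤ 2 * T.w (v s) * T.m (v s) := h
      _ = T.w (v s) * (2 * T.m (v s)) := by ring
  exact le_of_mul_le_mul_left h2 hw

/-- If `rq s t = 1 = rq t s` then the weights agree and `a_st = w_s`. -/
theorem w_eq_of_rq_one {k : ℕ} (T : NumericalType n) (v : Fin k → Fin n) (s t : Fin k)
    (h1 : rq T v s t = 1) (h2 : rq T v t s = 1) :
    T.w (v s) = T.w (v t) ∧ T.a (v s) (v t) = T.w (v s) := by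
  have e1 := rq_mul T v s t
  have e2 := rq_mul T v t s
  rw [h1, one_mul] at e1
  rw [h2, one_mul, a_symm] at e2
  exact ⟨by rw [e1, e2], e1.symm⟩

/-! ### Small integer helpers (kept out of the way of `omega`'s context) -/

theorem int_one_or_two {x : ℤ} (h1 : 1 ≤ x) (h3 : x < 3) : x = 1 ∨ x = 2 := by omega

theorem int_eq_one_left {x y : ℤ} (hy : 1 ≤ y) (f : x < 2 ∨ y < 2) (hx : x = 2) : y = 1 := by omega

theorem int_eq_one_right {x y : ℤ} (hx : 1 ≤ x) (f : x < 2 ∨ y < 2) (hy : y = 2) : x = 1 := by omega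

theorem int_eq_one_of_lt {x : ℤ} (hx : 1 ≤ x) (f : x < 2) : x = 1 := by omega

theorem int_absurd_two {x : ℤ} (f : x < 2) (hx : x = 2) : False := by omega

/-! ### Symbolic sub-null vectors: lower bounds for the column sums -/

/-- `no_config` with `r = rq`. -/
theorem no_config_rq {k : ℕ} (T : NumericalType n) (hk : k < n) (v : Fin k ↪ Fin n)
    (hv : ∀ j, T.IsMinusTwo (v j))
    (δ : Fin k → ℤ) (hδ0 : ∀ j, 0 ≤ δ j) (hδne : ∃ j, 0 < δ j)
    (hδ : ∀ t, 2 * δ t ≤ ∑ s, if s = t then 0 else rq T v s t * δ s) : False :=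
  no_config_dec T hk v hv (rq T v) (fun _ _ _ => le_rfl) δ hδ0 hδne hδ

theorem sum_ge_finset {k : ℕ} (T : NumericalType n) (v : Fin k ↪ Fin n) (δ : Fin k → ℤ)
    (hδ0 : ∀ j, 0 ≤ δ j) (x : Fin k) (N : Finset (Fin k)) (hN : x ∉ N) :
    ∑ s ∈ N, rq T v s x * δ s ≤ ∑ s, if s = x then 0 else rq T v s x * δ s := by
  classical
  calc ∑ s ∈ N, rq T v s x * δ s = ∑ s ∈ N, if s = x then 0 else rq T v s x * δ s := by
        refine Finset.sum_congr rfl fun s hs => ?_
        have hsx : s ≠ x := fun e => hN (by rw [← e]; exact hs)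
        rw [if_neg hsx]
    _ ≤ ∑ s, if s = x then 0 else rq T v s x * δ s := by
        apply Finset.sum_le_sum_of_subset_of_nonneg (Finset.subset_univ _)
        intro s _ _
        split_ifs with h
        · exact le_rfl
        · exact mul_nonneg (rq_nonneg T v s x (v.injective.ne h)) (hδ0 s)

theorem sum_ge0 {k : ℕ} (T : NumericalType n) (v : Fin k ↪ Fin n) (δ : Fin k → ℤ)
    (hδ0 : ∀ j, 0 ≤ δ j) (x : Fin k) :
    0 ≤ ∑ s, if s = x then 0 else rq T v s x * δ s := by
  simpa using sum_ge_finset T v δ hδ0 x ∅ (by simp)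

theorem sum_ge1 {k : ℕ} (T : NumericalType n) (v : Fin k ↪ Fin n) (δ : Fin k → ℤ)
    (hδ0 : ∀ j, 0 ≤ δ j) (x s₁ : Fin k) (h1 : s₁ ≠ x) :
    rq T v s₁ x * δ s₁ ≤ ∑ s, if s = x then 0 else rq T v s x * δ s := by
  simpa using sum_ge_finset T v δ hδ0 x {s₁} (by simpa using h1.symm)

theorem sum_ge2 {k : ℕ} (T : NumericalType n) (v : Fin k ↪ Fin n) (δ : Fin k → ℤ)
    (hδ0 : ∀ j, 0 ≤ δ j) (x s₁ s₂ : Fin k) (h1 : s₁ ≠ x) (h2 : s₂ ≠ x) (h12 : s₁ ≠ s₂) :
    rq T v s₁ x * δ s₁ + rq T v s₂ x * δ s₂ ≤ ∑ s, if s = x then 0 else rq T v s x * δ s := by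
  classical
  have h := sum_ge_finset T v δ hδ0 x {s₁, s₂} (by
    simp only [Finset.mem_insert, Finset.mem_singleton, not_or]
    exact ⟨h1.symm, h2.symm⟩)
  rwa [Finset.sum_pair h12] at h

theorem sum_ge3 {k : ℕ} (T : NumericalType n) (v : Fin k ↪ Fin n) (δ : Fin k → ℤ)
    (hδ0 : ∀ j, 0 ≤ δ j) (x s₁ s₂ s₃ : Fin k) (h1 : s₁ ≠ x) (h2 : s₂ ≠ x) (h3 : s₃ ≠ x)
    (h12 : s₁ ≠ s₂) (h13 : s₁ ≠ s₃) (h23 : s₂ ≠ s₃) :
    rq T v s₁ x * δ s₁ + rq T v s₂ x * δ s₂ + rq T v s₃ x * δ s₃ ≤
      ∑ s, if s = x then 0 else rq T v s x * δ s := by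
  classical
  have h := sum_ge_finset T v δ hδ0 x {s₁, s₂, s₃} (by
    simp only [Finset.mem_insert, Finset.mem_singleton, not_or]
    exact ⟨h1.symm, h2.symm, h3.symm⟩)
  rw [Finset.sum_insert (by
    simp only [Finset.mem_insert, Finset.mem_singleton, not_or]
    exact ⟨h12, h13⟩), Finset.sum_pair h23] at h
  linarith

end Groth.Agent.Lib.helper19
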