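import Mathlib
import Groth.Agent.Lib.Helper19.OmegaFib1
import Groth.Agent.Lib.Helper19.FlatOmega1
import Groth.Agent.Lib.Helper17.GorRing
import Groth.Prelude.Def_QFDual

/-!
# OmegaFib2 (helper19): invertibility of `ω_{B/A}` is a fibrewise condition (S8963)

* `invertible_omega_field_iff`: over a field `k`, `ω_{B₁/k}` invertible ⇔ `B₁` Gorenstein;
* `invertible_omega_fibre_iff`: for any model `κ(p) → B'₁ → B₁` of the fibre over `p`,
  `ω_{B₁/κ(p)}` invertible ⇔ `B ⊗[A] κ(p)` Gorenstein;
* `invertible_omega_iff_fibrewise`: the statement of S8963.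
-/

set_option autoImplicit false
universe u
open CategoryTheory CategoryTheory.Limits AlgebraicGeometry
open scoped TensorProduct

namespace Groth.Agent.Lib.helper19.OmegaFib2


open Groth.Agent.Lib.helper19.OmegaFib1 Groth.Agent.Lib.helper19.FlatOmega1

/-- over a field, `ω_{B₁/k}` is invertible iff `B₁` is Gorenstein (`k → B'₁ → B₁` finite, then open
immersion). -/
theorem invertible_omega_field_iff (k B₁ B'₁ : Type u) [Field k] [CommRing B₁] [CommRing B'₁]
    [Algebra k B₁] [Algebra k B'₁] [Algebra B'₁ B₁] [IsScalarTower k B'₁ B₁] [Module.Finite k B'₁]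
    (hopen : IsOpenImmersion (Spec.map (CommRingCat.ofHom (algebraMap B'₁ B₁)))) :
    Module.Invertible B₁ (B₁ ⊗[B'₁] Disc.Omega k B'₁) ↔ LocCoh.IsGorensteinRing B₁ := by
  classical
  haveI : Algebra.FiniteType k B₁ := finiteType_of_finite_of_isOpenImmersion k B₁ B'₁ hopen
  haveI : IsNoetherianRing B₁ := Algebra.FiniteType.isNoetherianRing k B₁
  obtain ⟨n, ψ, hψ⟩ := Algebra.FiniteType.iff_quotient_mvPolynomial''.mp
    (inferInstance : Algebra.FiniteType k B₁)
  haveI : Module.Flat k B₁ := inferInstance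
  constructor
  · intro hinv
    have h := gorenstein_fibres_of_invertible_omega k B₁ B'₁ hopen n ψ hψ hinv
      ⟨⊥, Ideal.isPrime_bot⟩
    haveI := h
    exact Groth.Agent.Lib.helper17.GorRing.isGorensteinRing_of_ringEquiv
      (tensorResidueFieldEquiv k ⟨⊥, Ideal.isPrime_bot⟩ B₁)
  · intro hG
    haveI := hG
    refine Groth.Agent.Lib.helper19.QFSynt4.invertible_omega_of_gorenstein_fibres k B₁ B'₁ hopen
      n ψ hψ (fun p => ?_)
    exact Groth.Agent.Lib.helper17.GorRing.isGorensteinRing_of_ringEquiv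
      (tensorResidueFieldEquiv k p B₁).symm


/-- the fibrewise criterion: for a model `κ(p) → B'₁ → B₁` of the fibre of `A → B' → B` over `p`,
`ω_{B₁/κ(p)}` is invertible iff the fibre ring `B ⊗[A] κ(p)` is Gorenstein. -/
theorem invertible_omega_fibre_iff (A B' B : Type u) [CommRing A] [CommRing B'] [CommRing B]
    [Algebra A B'] [Algebra B' B] [Algebra A B] [IsScalarTower A B' B]
    (hf : QFDual.IsQFFactor A B' B)
    (p : Ideal A) [p.IsPrime] (B'₁ B₁ : Type u) [CommRing B'₁] [CommRing B₁] [Algebra B' B'₁]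
    [Algebra p.ResidueField B'₁] [Algebra A B'₁] [IsScalarTower A p.ResidueField B'₁]
    [IsScalarTower A B' B'₁] [Algebra B B₁] [Algebra p.ResidueField B₁] [Algebra A B₁]
    [IsScalarTower A p.ResidueField B₁] [IsScalarTower A B B₁] [Algebra B'₁ B₁] [Algebra B' B₁]
    [IsScalarTower B' B'₁ B₁] [IsScalarTower B' B B₁] [IsScalarTower p.ResidueField B'₁ B₁]
    (h1 : Algebra.IsPushout A p.ResidueField B' B'₁) (h2 : Algebra.IsPushout A p.ResidueField B B₁) :
    Module.Invertible B₁ (QFDual.omega p.ResidueField B'₁ B₁) ↔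
      LocCoh.IsGorensteinRing (B ⊗[A] p.ResidueField) := by
  classical
  haveI := hf.finite
  haveI : Module.Finite p.ResidueField B'₁ :=
    Module.Finite.equiv (Algebra.IsPushout.equiv A p.ResidueField B' B'₁).toLinearEquiv
  haveI : IsScalarTower A B'₁ B₁ := IsScalarTower.of_algebraMap_eq fun a => by
    rw [IsScalarTower.algebraMap_apply A p.ResidueField B₁,
      IsScalarTower.algebraMap_apply p.ResidueField B'₁ B₁,
      ← IsScalarTower.algebraMap_apply A p.ResidueField B'₁]
  haveI h1' : Algebra.IsPushout A B' p.ResidueField B'₁ := h1.symm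
  haveI h2' : Algebra.IsPushout A B p.ResidueField B₁ := h2.symm
  haveI h3 : Algebra.IsPushout B' B B'₁ B₁ :=
    (Algebra.IsPushout.comp_iff (R := A) (S := B') (T := B) (R' := p.ResidueField) (S' := B'₁)
      (T' := B₁)).mp h2'
  have hopen₁ := isOpenImmersion_of_isPushout B' B B'₁ B₁ hf.isOpenImmersion
  refine (invertible_omega_field_iff p.ResidueField B₁ B'₁ hopen₁).trans ?_
  have e : B ⊗[A] p.ResidueField ≃+* B₁ :=
    (Algebra.IsPushout.equiv A B p.ResidueField B₁).toRingEquiv
  constructor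
  · intro h
    haveI := h
    exact Groth.Agent.Lib.helper17.GorRing.isGorensteinRing_of_ringEquiv e.symm
  · intro h
    haveI := h
    exact Groth.Agent.Lib.helper17.GorRing.isGorensteinRing_of_ringEquiv e


/-- **invertibility of `ω_{B/A}` is a fibrewise condition** (flat quasi-finite case). -/
theorem invertible_omega_iff_fibrewise (A B' B : Type u) [CommRing A] [CommRing B'] [CommRing B]
    [IsNoetherianRing A] [IsNoetherianRing B] [Algebra A B'] [Algebra B' B] [Algebra A B]
    [IsScalarTower A B' B] [Module.Flat A B] (hf : QFDual.IsQFFactor A B' B) :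
    Module.Invertible B (QFDual.omega A B' B) ↔
      ∀ (p : Ideal A) [p.IsPrime] (B'₁ B₁ : Type u) [CommRing B'₁] [CommRing B₁] [Algebra B' B'₁]
        [Algebra p.ResidueField B'₁] [Algebra A B'₁] [IsScalarTower A p.ResidueField B'₁]
        [IsScalarTower A B' B'₁] [Algebra B B₁] [Algebra p.ResidueField B₁] [Algebra A B₁]
        [IsScalarTower A p.ResidueField B₁] [IsScalarTower A B B₁] [Algebra B'₁ B₁] [Algebra B' B₁]
        [IsScalarTower B' B'₁ B₁] [IsScalarTower B' B B₁] [IsScalarTower p.ResidueField B'₁ B₁],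
        Algebra.IsPushout A p.ResidueField B' B'₁ → Algebra.IsPushout A p.ResidueField B B₁ →
          Module.Invertible B₁ (QFDual.omega p.ResidueField B'₁ B₁) := by
  classical
  haveI := hf.finite
  haveI : Algebra.FiniteType A B :=
    finiteType_of_finite_of_isOpenImmersion A B B' hf.isOpenImmersion
  obtain ⟨n, ψ, hψ⟩ := Algebra.FiniteType.iff_quotient_mvPolynomial''.mp
    (inferInstance : Algebra.FiniteType A B)
  constructor
  · intro hinv p _ B'₁ B₁ _ _ _ _ _ _ _ _ _ _ _ _ _ _ _ _ _ h1 h2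
    have hG := gorenstein_fibres_of_invertible_omega A B B' hf.isOpenImmersion n ψ hψ hinv
      ⟨p, inferInstance⟩
    exact (invertible_omega_fibre_iff A B' B hf p B'₁ B₁ h1 h2).mpr hG
  · intro H
    refine Groth.Agent.Lib.helper19.QFSynt4.invertible_omega_of_gorenstein_fibres A B B'
      hf.isOpenImmersion n ψ hψ (fun p => ?_)
    let κ := p.asIdeal.ResidueField
    letI : Algebra B' (κ ⊗[A] B') := Algebra.TensorProduct.rightAlgebra
    letI : Algebra B (κ ⊗[A] B) := Algebra.TensorProduct.rightAlgebra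
    let g : κ ⊗[A] B' →ₐ[κ] κ ⊗[A] B :=
      Algebra.TensorProduct.map (AlgHom.id κ κ) (IsScalarTower.toAlgHom A B' B)
    letI : Algebra (κ ⊗[A] B') (κ ⊗[A] B) := g.toRingHom.toAlgebra
    letI : Algebra B' (κ ⊗[A] B) :=
      ((algebraMap B (κ ⊗[A] B)).comp (algebraMap B' B)).toAlgebra
    haveI : IsScalarTower A B' (κ ⊗[A] B') := Algebra.TensorProduct.right_isScalarTower
    haveI : IsScalarTower A B (κ ⊗[A] B) := Algebra.TensorProduct.right_isScalarTower
    haveI : IsScalarTower B' B (κ ⊗[A] B) := IsScalarTower.of_algebraMap_eq fun _ => rfl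
    haveI : IsScalarTower B' (κ ⊗[A] B') (κ ⊗[A] B) := IsScalarTower.of_algebraMap_eq fun b => by
      show (1 : κ) ⊗ₜ[A] algebraMap B' B b = g ((1 : κ) ⊗ₜ[A] b)
      simp [g]
    haveI : IsScalarTower κ (κ ⊗[A] B') (κ ⊗[A] B) := IsScalarTower.of_algebraMap_eq fun c => by
      show c ⊗ₜ[A] (1 : B) = g (c ⊗ₜ[A] (1 : B'))
      simp [g]
    have h1 : Algebra.IsPushout A κ B' (κ ⊗[A] B') := inferInstance
    have h2 : Algebra.IsPushout A κ B (κ ⊗[A] B) := inferInstance
    have := H p.asIdeal (κ ⊗[A] B') (κ ⊗[A] B) h1 h2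
    exact (invertible_omega_fibre_iff A B' B hf p.asIdeal (κ ⊗[A] B') (κ ⊗[A] B) h1 h2).mp this


end Groth.Agent.Lib.helper19.OmegaFib2
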