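import Mathlib
import Groth.Prelude.Def_GrLC
import Groth.Agent.Lib.Helper19.PolyChar1
import Groth.Agent.Lib.Helper19.CanPoly2
import Groth.Agent.Lib.Helper19.GrLes7
import Groth.Agent.Lib.Helper19.StarLocalArt
import Groth.Agent.S13225
import Groth.Agent.S13213
import Groth.Agent.S13215

/-!
# Characterising polynomial rings among standard graded rings (helper19), part 2

* `hull_piece_eq_bot`, `hull_piece_zero_ne_bot` : the *injective hull of `R/m` of a positively graded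
  ring lives in degrees `≤ 0` and is nonzero in degree `0`;
* `endDeg_eq_neg` : the end of a graded module isomorphic to such a module by a map of degree `N`;
* `X_regular'`, `regular_of_bijective` : transport of the regular sequence `X_1, …, X_N`;
* `endDeg_top` : if `phi` is bijective then `a(R) = -N`.
-/

set_option autoImplicit false
universe u

namespace Groth.Agent.Lib.helper19.PolyChar

open GrLC DirectSum Groth.Agent.Lib.helper19.GrMod Groth.Agent.Lib.helper19.GrFin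
  Groth.Agent.Lib.helper19.GrLes

section Hull

variable {R : Type u} [CommRing R] (𝒜 : ℤ → AddSubgroup R) [GradedRing 𝒜]
  (hpos : ∀ n : ℤ, n < 0 → 𝒜 n = ⊥)
  {E' : Type u} [AddCommGroup E'] [Module R E'] (𝓔 : ℤ → AddSubgroup E')
  [DirectSum.Decomposition 𝓔] [SetLike.GradedSMul 𝒜 𝓔]

omit [DirectSum.Decomposition 𝓔] [SetLike.GradedSMul 𝒜 𝓔] in
include hpos in
theorem hull_range_le (m : HomogeneousIdeal 𝒜) (hm : IsCoatom m)
    (e : (R ⧸ m.toIdeal) →ₗ[R] E') (he : IsGrHom (quotGr 𝒜 m) 𝓔 e) (y : R ⧸ m.toIdeal) :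
    e y ∈ 𝓔 0 := by
  obtain ⟨s, rfl⟩ := Ideal.Quotient.mk_surjective y
  have h1 : Ideal.Quotient.mk m.toIdeal s =
      Ideal.Quotient.mk m.toIdeal ((decompose 𝒜 s 0 : 𝒜 0) : R) :=
    Ideal.Quotient.eq.2 (Groth.Agent.Lib.helper19.StarLocalArt.sub_decompose_zero_mem 𝒜 hpos m hm s)
  rw [h1]
  apply he 0
  exact ⟨_, SetLike.coe_mem (decompose 𝒜 s 0), rfl⟩

include hpos in
/-- the *injective hull of `R/m` vanishes in positive degrees -/
theorem hull_piece_eq_bot (m : HomogeneousIdeal 𝒜) (hm : IsCoatom m)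
    (e : (R ⧸ m.toIdeal) →ₗ[R] E') (he : IsStarEss (quotGr 𝒜 m) 𝓔 e) (g : ℤ) (hg : 0 < g) :
    𝓔 g = ⊥ := by
  classical
  rw [eq_bot_iff]
  intro z hz
  rw [AddSubgroup.mem_bot]
  by_contra hz0
  have hP : (Submodule.span R {z}).IsHomogeneous 𝓔 := span_singleton_isHomogeneous 𝒜 𝓔 hz
  have hne : (Submodule.span R {z} : Submodule R E') ≠ ⊥ := by
    intro h
    apply hz0
    have : z ∈ (Submodule.span R {z} : Submodule R E') := Submodule.subset_span rfl
    rw [h] at this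
    exact (Submodule.mem_bot R).1 this
  have h1 := he.essential _ hP hne
  obtain ⟨v, hv, hv0⟩ := Submodule.exists_mem_ne_zero_of_ne_bot h1
  obtain ⟨hv1, q, hq⟩ := hv
  obtain ⟨r, hr⟩ := Submodule.mem_span_singleton.1 hv1
  apply hv0
  have h2 : v ∈ 𝓔 0 := hq ▸ hull_range_le 𝒜 hpos 𝓔 m hm e he.grHom q
  have h3 : ((decompose 𝓔 v 0 : 𝓔 0) : E') = v := decompose_of_mem_same 𝓔 h2
  rw [← h3, ← hr, decompose_smul_apply' 𝒜 𝓔 r hz 0,
    coe_decompose_eq_zero_of_neg 𝒜 hpos r (by omega : (0 : ℤ) - g < 0), zero_smul]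

/-- the *injective hull of `R/m` is nonzero in degree zero -/
theorem hull_piece_zero_ne_bot (m : HomogeneousIdeal 𝒜) (hm : m.toIdeal ≠ ⊤)
    (e : (R ⧸ m.toIdeal) →ₗ[R] E') (he : IsStarEss (quotGr 𝒜 m) 𝓔 e) : 𝓔 0 ≠ ⊥ := by
  intro h
  have h1 : e (Ideal.Quotient.mk m.toIdeal 1) ∈ 𝓔 0 :=
    he.grHom 0 _ ⟨1, (SetLike.GradedOne.one_mem : (1 : R) ∈ 𝒜 0), rfl⟩
  rw [h, AddSubgroup.mem_bot] at h1
  have h2 : Ideal.Quotient.mk m.toIdeal 1 = 0 := he.injective (by rw [h1, map_zero])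
  rw [Ideal.Quotient.eq_zero_iff_mem] at h2
  exact hm ((Ideal.eq_top_iff_one _).2 h2)

/-- the end of a graded module which is isomorphic, by a map of degree `N`, to a graded module
concentrated in degrees `≤ 0` and nonzero in degree `0` -/
theorem endDeg_eq_neg {H : Type u} [AddCommGroup H] [Module R H] (ℋ : ℤ → AddSubgroup H)
    [DirectSum.Decomposition ℋ] (θ : H →ₗ[R] E') (hθ : Function.Bijective θ) (N : ℤ)
    (hgr : IsGrHomDeg ℋ 𝓔 θ N) (hvan : ∀ g : ℤ, 0 < g → 𝓔 g = ⊥) (h0 : 𝓔 0 ≠ ⊥) :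
    endDeg ℋ = (((-N : ℤ) : WithTop ℤ) : WithBot (WithTop ℤ)) := by
  classical
  have hdec : ∀ (x : H) (n : ℤ), ((decompose 𝓔 (θ x) (n + N) : 𝓔 (n + N)) : E') =
      θ ((decompose ℋ x n : ℋ n) : H) := by
    intro x n
    induction x using DirectSum.Decomposition.inductionOn ℋ with
    | zero => simp
    | @homogeneous j x =>
      by_cases h : j = n
      · subst h
        rw [decompose_of_mem_same 𝓔 (hgr j x x.2), decompose_of_mem_same ℋ x.2]
      · rw [decompose_of_mem_ne 𝓔 (hgr j x x.2) (fun h' => h (by omega)),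
          decompose_of_mem_ne ℋ x.2 h, map_zero]
    | add x y hx hy =>
      rw [map_add, decompose_add, DirectSum.add_apply, AddSubgroup.coe_add, hx, hy,
        decompose_add, DirectSum.add_apply, AddSubgroup.coe_add, map_add]
  apply le_antisymm
  · apply endDeg_le
    intro n hn
    by_contra hlt
    have hlt' : -N < n := by
      by_contra h
      apply hlt
      have : n ≤ -N := not_lt.1 h
      exact_mod_cast this
    apply hn
    rw [eq_bot_iff]
    intro x hx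
    rw [AddSubgroup.mem_bot]
    have h1 := hgr n x hx
    rw [hvan (n + N) (by omega), AddSubgroup.mem_bot] at h1
    exact hθ.1 (by rw [h1, map_zero])
  · apply le_endDeg
    intro h
    apply h0
    rw [eq_bot_iff]
    intro z hz
    rw [AddSubgroup.mem_bot]
    obtain ⟨x, rfl⟩ := hθ.2 z
    have h1 := hdec x (-N)
    have h2 : ((decompose ℋ x (-N) : ℋ (-N)) : H) = 0 := by
      have h4 : ∀ y : H, y ∈ ℋ (-N) → y = 0 := by
        intro y hy
        rw [h] at hy
        exact AddSubgroup.mem_bot.1 hy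
      exact h4 _ (SetLike.coe_mem _)
    rw [h2, map_zero] at h1
    have h3 : ((decompose 𝓔 (θ x) 0 : 𝓔 0) : E') = θ x := decompose_of_mem_same 𝓔 hz
    rw [← h3, ← h1]
    exact (coe_decompose_congr 𝓔 (θ x) (by omega : (-N + N : ℤ) = 0)).symm

end Hull

section Reg

/-- a variable outside `S` is regular modulo the variables in `S` -/
theorem X_regular' (k : Type u) [CommRing k] {N : ℕ} (S : Set (Fin N)) (j : Fin N) (hj : j ∉ S)
    (r : MvPolynomial (Fin N) k)
    (h : MvPolynomial.X j * r ∈ Ideal.span (MvPolynomial.X '' S)) :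
    r ∈ Ideal.span (MvPolynomial.X '' S) := by
  classical
  rw [MvPolynomial.mem_ideal_span_X_image] at h ⊢
  intro d hd
  have h1 : Finsupp.single j 1 + d ∈ (MvPolynomial.X j * r).support := by
    rw [MvPolynomial.mem_support_iff, MvPolynomial.coeff_X_mul]
    exact MvPolynomial.mem_support_iff.1 hd
  obtain ⟨l, hl, hl'⟩ := h _ h1
  refine ⟨l, hl, ?_⟩
  have hlj : l ≠ j := fun h => hj (h ▸ hl)
  rw [Finsupp.add_apply, Finsupp.single_apply, if_neg (Ne.symm hlj), zero_add] at hl'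
  exact hl'

variable {R : Type u} [CommRing R] (𝒜 : ℤ → AddSubgroup R) [GradedRing 𝒜]

/-- extension by zero of a finite family -/
noncomputable def ext {N : ℕ} (x : Fin N → R) : ℕ → R := fun i => if h : i < N then x ⟨i, h⟩ else 0

theorem ext_apply {N : ℕ} (x : Fin N → R) (i : Fin N) : ext x i = x i := by
  unfold ext
  rw [dif_pos i.2]

theorem ext_image_Iio {N : ℕ} (x : Fin N → R) (i : ℕ) (hi : i ≤ N) :
    ext x '' Set.Iio i = x '' {j : Fin N | (j : ℕ) < i} := by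
  ext y
  constructor
  · rintro ⟨l, hl, rfl⟩
    have hlN : l < N := lt_of_lt_of_le hl hi
    exact ⟨⟨l, hlN⟩, hl, (ext_apply x ⟨l, hlN⟩).symm⟩
  · rintro ⟨j, hj, rfl⟩
    exact ⟨j, hj, ext_apply x j⟩

theorem regular_of_bijective {N : ℕ} (x : Fin N → R) (hbij : Function.Bijective (phi 𝒜 x))
    (i : ℕ) (hi : i < N) (r : R) (h : ext x i * r ∈ Ideal.span (ext x '' Set.Iio i)) :
    r ∈ Ideal.span (ext x '' Set.Iio i) := by
  have himg : Ideal.span (ext x '' Set.Iio i) =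
      Ideal.map (phi 𝒜 x) (Ideal.span (MvPolynomial.X '' {j : Fin N | (j : ℕ) < i})) := by
    rw [Ideal.map_span, ext_image_Iio x i (le_of_lt hi), ← Set.image_comp]
    congr 1
    ext y
    simp
  rw [himg] at h ⊢
  obtain ⟨q, rfl⟩ := hbij.2 r
  have h1 : ext x i = phi 𝒜 x (MvPolynomial.X ⟨i, hi⟩) := by
    rw [phi_X]
    exact ext_apply x ⟨i, hi⟩
  rw [h1, ← map_mul, Ideal.mem_map_iff_of_surjective _ hbij.2] at h
  obtain ⟨p, hp, hpq⟩ := h
  rw [hbij.1 hpq] at hp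
  refine Ideal.mem_map_of_mem _ (X_regular' (deg0 𝒜) _ ⟨i, hi⟩ ?_ q hp)
  simp

/-- **if `phi` is bijective then `a(R) = -N`** -/
theorem endDeg_top [IsNoetherianRing R] (hpos : ∀ n : ℤ, n < 0 → 𝒜 n = ⊥)
    (m : HomogeneousIdeal 𝒜) (hm : IsCoatom m) {N : ℕ} (x : Fin N → R) (hx : ∀ i, x i ∈ 𝒜 1)
    (hspan : m.toIdeal = Ideal.span (Set.range x)) (hbij : Function.Bijective (phi 𝒜 x))
    (I : StarInjRes 𝒜 𝒜) :
    endDeg (I.Hgr m N) = (((-(N : ℤ) : ℤ) : WithTop ℤ) : WithBot (WithTop ℤ)) := by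
  classical
  haveI hmax : m.toIdeal.IsMaximal :=
    Groth.Agent.Lib.helper19.StarLocalArt.isMaximal_of_isCoatom 𝒜 hpos m hm
  obtain ⟨J, _, _, _, e0, he0⟩ := Groth.Agent.S13215.exists_injective_embedding R (R ⧸ m.toIdeal)
  letI : DirectSum.Decomposition (GrLC.quotGr 𝒜 m) :=
    Groth.Agent.Lib.helper19.GrMod.quotDecomposition 𝒜 m.toIdeal m.isHomogeneous
  haveI : SetLike.GradedSMul 𝒜 (GrLC.quotGr 𝒜 m) :=
    Groth.Agent.Lib.helper19.GrMod.quot_gradedSMul 𝒜 𝒜 m.toIdeal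
  obtain ⟨E, f, hf, -⟩ := Groth.Agent.S13213.result (ι := ℤ) R 𝒜 (R ⧸ m.toIdeal) (GrLC.quotGr 𝒜 m)
    J e0 he0
  have hx' : ∀ i < N, ext x i ∈ 𝒜 ((fun _ : ℕ => (1 : ℤ)) i) := by
    intro i hi
    have := ext_apply x ⟨i, hi⟩
    simp only at this
    rw [this]
    exact hx ⟨i, hi⟩
  have hm' : m.toIdeal = Ideal.span (ext x '' Set.Iio N) := by
    rw [hspan, ext_image_Iio x N le_rfl]
    congr 1
    ext y
    simp
  obtain ⟨-, θ, hθ, hgr⟩ := Groth.Agent.Lib.helper19.CanPoly.main E.gr m f hf N (ext x)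
    (fun _ => (1 : ℤ)) hx' hm' (fun i hi r h => regular_of_bijective 𝒜 x hbij i hi r h) I
  letI : DirectSum.Decomposition (I.Hgr m N) :=
    (Groth.Agent.S13225.result R 𝒜 m R 𝒜 I N).chooseDecomposition
  have hsum : (∑ _l ∈ Finset.range N, (1 : ℤ)) = (N : ℤ) := by simp
  rw [hsum] at hgr
  exact endDeg_eq_neg E.gr (I.Hgr m N) θ hθ (N : ℤ) hgr
    (fun g hg => hull_piece_eq_bot 𝒜 hpos E.gr m hm f hf.toIsStarEss g hg)
    (hull_piece_zero_ne_bot 𝒜 E.gr m hmax.ne_top f hf.toIsStarEss)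

end Reg

end Groth.Agent.Lib.helper19.PolyChar
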