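import Mathlib
import Groth.Prelude.Def_GrLC
import Groth.Agent.Lib.Helper19.PolyChar1

/-!
# Characterising polynomial rings among standard graded rings (helper19), part 3

For a Noetherian positively graded ring `R` with `R_0` a field and `R_+ = (R_1)`:

* `exists_gens` : there are `x_1, …, x_N ∈ R_1` generating `R_+` with `N = ℓ_{R_0}(R_1)`;
* `length_le_of_span` : `ℓ_{R_0}(R_1) ≤ r` if `R_1` is spanned by `r` elements.
-/

set_option autoImplicit false
universe u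

namespace Groth.Agent.Lib.helper19.PolyChar

open GrLC DirectSum Groth.Agent.Lib.helper19.GrMod Groth.Agent.Lib.helper19.GrFin

variable {R : Type u} [CommRing R] (𝒜 : ℤ → AddSubgroup R) [GradedRing 𝒜]
  (hpos : ∀ n : ℤ, n < 0 → 𝒜 n = ⊥) (h0 : IsField (deg0 𝒜))

include hpos h0 in
theorem exists_gens [IsNoetherianRing R]
    (hstd : irr 𝒜 = Ideal.span ((𝒜 1 : AddSubgroup R) : Set R)) :
    ∃ (N : ℕ) (x : Fin N → R), (∀ i, x i ∈ 𝒜 1) ∧ irr 𝒜 = Ideal.span (Set.range x) ∧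
      Module.length (deg0 𝒜) (comp 𝒜 𝒜 1) = (N : ℕ∞) := by
  classical
  letI : Field (deg0 𝒜) := h0.toField
  haveI : Module.Finite (deg0 𝒜) (comp 𝒜 𝒜 1) := finite_comp 𝒜 hpos 𝒜 1
  let b := Module.finBasis (deg0 𝒜) (comp 𝒜 𝒜 1)
  refine ⟨Module.finrank (deg0 𝒜) (comp 𝒜 𝒜 1), fun i => ((b i : comp 𝒜 𝒜 1) : R),
    fun i => (b i).2, ?_, ?_⟩
  · rw [hstd]
    apply le_antisymm
    · rw [Ideal.span_le]
      intro a ha
      have h1 := b.sum_repr ⟨a, ha⟩
      have h2 : a = ∑ i, ((b.repr ⟨a, ha⟩ i : deg0 𝒜) : R) * ((b i : comp 𝒜 𝒜 1) : R) := by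
        have h3 := congrArg (fun v : comp 𝒜 𝒜 1 => (v : R)) h1
        simp only [Submodule.coe_sum, Submodule.coe_smul] at h3
        exact h3.symm
      rw [h2]
      exact sum_mem (fun i _ => Ideal.mul_mem_left _ _ (Ideal.subset_span ⟨i, rfl⟩))
    · rw [Ideal.span_le]
      rintro _ ⟨i, rfl⟩
      exact Ideal.subset_span (b i).2
  · exact Module.length_eq_finrank _ _

include h0 in
theorem length_le_of_span {ι : Type*} [Fintype ι] (y : ι → R) (hy : ∀ i, y i ∈ 𝒜 1)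
    (hsp : ∀ a ∈ 𝒜 1, ∃ c : ι → deg0 𝒜, a = ∑ i, (c i : R) * y i) :
    Module.length (deg0 𝒜) (comp 𝒜 𝒜 1) ≤ (Fintype.card ι : ℕ∞) := by
  classical
  letI : Field (deg0 𝒜) := h0.toField
  let g : (ι → deg0 𝒜) →ₗ[deg0 𝒜] (comp 𝒜 𝒜 1) :=
    Fintype.linearCombination (deg0 𝒜) (fun i => (⟨y i, hy i⟩ : comp 𝒜 𝒜 1))
  have hg : Function.Surjective g := by
    rintro ⟨a, ha⟩
    obtain ⟨c, hc⟩ := hsp a ha
    refine ⟨c, Subtype.ext ?_⟩
    rw [Fintype.linearCombination_apply]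
    simp only [Submodule.coe_sum, Submodule.coe_smul]
    rw [hc]
    rfl
  have h1 := Module.length_le_of_surjective g hg
  rw [Module.length_pi] at h1
  simpa using h1

end Groth.Agent.Lib.helper19.PolyChar
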