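import Mathlib

/-!
# Characterising polynomial rings among standard graded rings (helper19), part 4

`eval_one_eq` : a rational polynomial of degree `≤ n` vanishing at `-1, …, -n` with value `1` at `0`
has value `n + 1` at `1`.
-/

set_option autoImplicit false

namespace Groth.Agent.Lib.helper19.PolyChar

open Polynomial

theorem eval_one_eq (P : ℚ[X]) (n : ℕ) (hdeg : P.natDegree ≤ n)
    (hroot : ∀ i : ℕ, 1 ≤ i → i ≤ n → P.eval (-(i : ℚ)) = 0) (h0 : P.eval 0 = 1) :
    P.eval 1 = (n : ℚ) + 1 := by
  classical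
  let Q : ℚ[X] := ∏ i ∈ Finset.range n, (X + C ((i : ℚ) + 1))
  let s : Finset ℚ := (Finset.range (n + 1)).image (fun i : ℕ => -(i : ℚ))
  have hcard : s.card = n + 1 := by
    rw [Finset.card_image_of_injective, Finset.card_range]
    intro a b hab
    simp only [neg_inj] at hab
    exact_mod_cast hab
  have hQdeg : Q.degree < (s.card : WithBot ℕ) := by
    rw [hcard]
    have h1 : Q.natDegree ≤ n := by
      refine le_trans (natDegree_prod_le _ _) ?_
      have : ∀ i ∈ Finset.range n, (X + C ((i : ℚ) + 1) : ℚ[X]).natDegree ≤ 1 := by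
        intro i _
        exact natDegree_X_add_C _ |>.le
      refine le_trans (Finset.sum_le_sum this) ?_
      simp
    refine lt_of_le_of_lt degree_le_natDegree ?_
    exact_mod_cast Nat.lt_succ_of_le h1
  have hPdeg : (C ((n.factorial : ℕ) : ℚ) * P).degree < (s.card : WithBot ℕ) := by
    rw [hcard]
    refine lt_of_le_of_lt degree_le_natDegree ?_
    exact_mod_cast Nat.lt_succ_of_le (le_trans (natDegree_C_mul_le _ _) hdeg)
  have hQ0 : Q.eval 0 = (n.factorial : ℚ) := by
    simp only [Q, eval_prod, eval_add, eval_X, eval_C, zero_add]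
    have := Finset.prod_range_add_one_eq_factorial n
    rw [← this]
    push_cast
    rfl
  have hQroot : ∀ i : ℕ, 1 ≤ i → i ≤ n → Q.eval (-(i : ℚ)) = 0 := by
    intro i hi1 hin
    simp only [Q, eval_prod, eval_add, eval_X, eval_C]
    apply Finset.prod_eq_zero (i := i - 1) (Finset.mem_range.2 (by omega))
    have : ((i - 1 : ℕ) : ℚ) = (i : ℚ) - 1 := by
      rw [Nat.cast_sub hi1]
      simp
    rw [this]
    ring
  have hQ1 : Q.eval 1 = ((n + 1).factorial : ℚ) := by
    simp only [Q, eval_prod, eval_add, eval_X, eval_C]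
    have h1 := Finset.prod_range_add_one_eq_factorial (n + 1)
    rw [Finset.prod_range_succ'] at h1
    rw [← h1]
    push_cast
    simp only [mul_one]
    refine Finset.prod_congr rfl fun i _ => ?_
    ring
  have heq : C ((n.factorial : ℕ) : ℚ) * P = Q := by
    apply eq_of_degrees_lt_of_eval_finset_eq s hPdeg hQdeg
    intro x hx
    obtain ⟨i, hi, rfl⟩ := Finset.mem_image.1 hx
    rw [Finset.mem_range] at hi
    rw [eval_mul, eval_C]
    rcases Nat.eq_zero_or_pos i with rfl | hipos
    · simp only [Nat.cast_zero, neg_zero]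
      rw [h0, hQ0, mul_one]
    · rw [hroot i hipos (by omega), hQroot i hipos (by omega), mul_zero]
  have h1 := congrArg (eval 1) heq
  rw [eval_mul, eval_C, hQ1, Nat.factorial_succ] at h1
  have hne : ((n.factorial : ℕ) : ℚ) ≠ 0 := by exact_mod_cast Nat.factorial_ne_zero n
  push_cast at h1
  have h2 : (n.factorial : ℚ) * P.eval 1 = (n.factorial : ℚ) * ((n : ℚ) + 1) := by
    rw [h1]
    ring
  exact mul_left_cancel₀ hne h2

end Groth.Agent.Lib.helper19.PolyChar
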