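import Mathlib
import Groth.Prelude.Def_GrLC
import Groth.Agent.Lib.Helper19.PolyChar1
import Groth.Agent.Lib.Helper19.GrHt2

/-!
# Characterising polynomial rings among standard graded rings (helper19), part 6

* `exists_gens_of_spanFinrank` : if the maximal ideal of `R_p` is generated by `r` elements, there is a
  set `T ⊆ p` of at most `r` elements with `p R_p = T R_p`;
* `exists_span_of_local_gens` : for a graded ring with `R_0` a field and `m = R_+`, the degree one
  components of such a `T` span `R_1` over `R_0`;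
* `exists_span_of_ringEquiv` : if `R` is abstractly isomorphic to a polynomial ring in `r = dim R`
  variables over a field, then `R_1` is spanned by at most `r` elements.
-/

set_option autoImplicit false
universe u

namespace Groth.Agent.Lib.helper19.PolyChar

open GrLC DirectSum Groth.Agent.Lib.helper19.GrMod Groth.Agent.Lib.helper19.GrFin

section Loc

theorem exists_gens_of_spanFinrank {R : Type u} [CommRing R] [IsNoetherianRing R] (p : Ideal R)
    [hp : p.IsPrime] (r : ℕ)
    (hr : (IsLocalRing.maximalIdeal (Localization.AtPrime p)).spanFinrank = r) :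
    ∃ T : Finset R, T.card ≤ r ∧ (∀ a ∈ T, a ∈ p) ∧
      ∀ b ∈ p, ∃ t, t ∉ p ∧ t * b ∈ Ideal.span (T : Set R) := by
  classical
  have hfg : (IsLocalRing.maximalIdeal (Localization.AtPrime p)).FG :=
    IsNoetherian.noetherian _
  obtain ⟨s, hcard, hspan⟩ := Submodule.FG.exists_span_finset_card_eq_spanFinrank hfg
  have hmap : Ideal.map (algebraMap R (Localization.AtPrime p)) p = IsLocalRing.maximalIdeal (Localization.AtPrime p) := Localization.AtPrime.map_eq_maximalIdeal
  have hs : ∀ g ∈ s, ∃ a : R, a ∈ p ∧ ∃ u : R, u ∉ p ∧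
      g * algebraMap R (Localization.AtPrime p) u = algebraMap R (Localization.AtPrime p) a := by
    intro g hg
    have h1 : g ∈ IsLocalRing.maximalIdeal (Localization.AtPrime p) := by
      rw [← hspan]
      exact Submodule.subset_span hg
    rw [← hmap, IsLocalization.mem_map_algebraMap_iff p.primeCompl] at h1
    obtain ⟨⟨a, u⟩, h2⟩ := h1
    exact ⟨a.1, a.2, u.1, u.2, h2⟩
  choose! a ha u hu hau using hs
  refine ⟨s.image a, le_trans Finset.card_image_le (le_of_eq (hcard.trans hr)), ?_, ?_⟩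
  · intro x hx
    obtain ⟨g, hg, rfl⟩ := Finset.mem_image.1 hx
    exact ha g hg
  · intro b hb
    have h1 : algebraMap R (Localization.AtPrime p) b ∈
        Ideal.map (algebraMap R (Localization.AtPrime p)) (Ideal.span ((s.image a : Finset R) : Set R)) := by
      have h2 : IsLocalRing.maximalIdeal (Localization.AtPrime p) ≤
          Ideal.map (algebraMap R (Localization.AtPrime p)) (Ideal.span ((s.image a : Finset R) : Set R)) := by
        rw [← hspan]
        change Ideal.span (s : Set (Localization.AtPrime p)) ≤ _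
        rw [Ideal.span_le]
        intro g hg
        have h3 : algebraMap R (Localization.AtPrime p) (a g) ∈
            Ideal.map (algebraMap R (Localization.AtPrime p))
              (Ideal.span ((s.image a : Finset R) : Set R)) :=
          Ideal.mem_map_of_mem _ (Ideal.subset_span (Finset.mem_coe.2 (Finset.mem_image_of_mem a hg)))
        rw [← hau g hg] at h3
        have hunit : IsUnit (algebraMap R (Localization.AtPrime p) (u g)) :=
          IsLocalization.map_units _ (⟨u g, hu g hg⟩ : p.primeCompl)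
        exact (Ideal.mul_unit_mem_iff_mem _ hunit).1 h3
      apply h2
      rw [← hmap]
      exact Ideal.mem_map_of_mem _ hb
    rw [IsLocalization.algebraMap_mem_map_algebraMap_iff p.primeCompl] at h1
    obtain ⟨t, ht, h3⟩ := h1
    exact ⟨t, ht, h3⟩

end Loc

section Gr

variable {R : Type u} [CommRing R] (𝒜 : ℤ → AddSubgroup R) [GradedRing 𝒜]
  (hpos : ∀ n : ℤ, n < 0 → 𝒜 n = ⊥) (h0 : IsField (deg0 𝒜))

include h0 in
theorem decompose_zero_eq_zero_of_mem (m : HomogeneousIdeal 𝒜) (hm : m.toIdeal ≠ ⊤) (a : R)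
    (ha : a ∈ m.toIdeal) : ((decompose 𝒜 a 0 : 𝒜 0) : R) = 0 := by
  by_contra hne
  have h1 : ((decompose 𝒜 a 0 : 𝒜 0) : R) ∈ m.toIdeal := m.isHomogeneous 0 ha
  have h2 : (⟨((decompose 𝒜 a 0 : 𝒜 0) : R), SetLike.coe_mem _⟩ : deg0 𝒜) ≠ 0 := by
    intro h
    exact hne (congrArg Subtype.val h)
  obtain ⟨v, hv⟩ := h0.mul_inv_cancel h2
  have h3 : ((decompose 𝒜 a 0 : 𝒜 0) : R) * (v : R) = 1 := congrArg Subtype.val hv
  apply hm
  rw [Ideal.eq_top_iff_one, ← h3]
  exact Ideal.mul_mem_right _ _ h1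

include hpos h0 in
theorem exists_span_of_local_gens (m : HomogeneousIdeal 𝒜) (hm : IsCoatom m)
    (hmsp : m.toIdeal = irr 𝒜) (T : Finset R) (hT : ∀ a ∈ T, a ∈ m.toIdeal)
    (hloc : ∀ b ∈ m.toIdeal, ∃ t, t ∉ m.toIdeal ∧ t * b ∈ Ideal.span (T : Set R)) :
    ∀ b ∈ 𝒜 1, ∃ c : T → deg0 𝒜,
      b = ∑ a : T, (c a : R) * ((decompose 𝒜 (a : R) 1 : 𝒜 1) : R) := by
  classical
  have hmtop : m.toIdeal ≠ ⊤ := fun h => hm.1 (HomogeneousIdeal.toIdeal_injective h)
  intro b hb
  have hbm : b ∈ m.toIdeal := by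
    rw [hmsp]
    exact mem_irr_of_mem 𝒜 one_pos hb
  obtain ⟨t, htm, htb⟩ := hloc b hbm
  have hrange : (T : Set R) = Set.range (Subtype.val : T → R) := by
    ext y
    simp
  rw [hrange, Ideal.mem_span_range_iff_exists_fun] at htb
  obtain ⟨c, hc⟩ := htb
  -- tails
  have htail : ∀ a ∈ m.toIdeal, ∀ j : ℤ, j < 1 → ((decompose 𝒜 a j : 𝒜 j) : R) = 0 := by
    intro a ha j hj
    rcases lt_or_eq_of_le (show j ≤ 0 by omega) with h | h
    · exact coe_decompose_eq_zero_of_neg 𝒜 hpos a h
    · subst h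
      exact decompose_zero_eq_zero_of_mem 𝒜 h0 m hmtop a ha
  have h1 : ((decompose 𝒜 (t * b) 1 : 𝒜 1) : R) = ((decompose 𝒜 t 0 : 𝒜 0) : R) * b := by
    have := (decompose_smul_of_tail 𝒜 𝒜 hpos t b 1 (htail b hbm)).1
    rw [smul_eq_mul, smul_eq_mul, decompose_of_mem_same 𝒜 hb] at this
    exact this
  have h2 : ((decompose 𝒜 (t * b) 1 : 𝒜 1) : R) =
      ∑ a : T, ((decompose 𝒜 (c a) 0 : 𝒜 0) : R) * ((decompose 𝒜 (a : R) 1 : 𝒜 1) : R) := by
    rw [← hc, decompose_sum, DFinsupp.finsetSum_apply, AddSubmonoidClass.coe_finsetSum]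
    refine Finset.sum_congr rfl fun a _ => ?_
    have := (decompose_smul_of_tail 𝒜 𝒜 hpos (c a) (a : R) 1 (htail _ (hT _ a.2))).1
    rw [smul_eq_mul, smul_eq_mul] at this
    exact this
  have ht0 : (⟨((decompose 𝒜 t 0 : 𝒜 0) : R), SetLike.coe_mem _⟩ : deg0 𝒜) ≠ 0 := by
    intro h
    apply htm
    have h3 : ((decompose 𝒜 t 0 : 𝒜 0) : R) = 0 := congrArg Subtype.val h
    have h4 := Groth.Agent.Lib.helper19.StarLocalArt.sub_decompose_zero_mem 𝒜 hpos m hm t
    rw [h3, sub_zero] at h4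
    exact h4
  obtain ⟨v, hv⟩ := h0.mul_inv_cancel ht0
  have hv' : ((decompose 𝒜 t 0 : 𝒜 0) : R) * (v : R) = 1 := congrArg Subtype.val hv
  refine ⟨fun a => v * ⟨((decompose 𝒜 (c a) 0 : 𝒜 0) : R), SetLike.coe_mem _⟩, ?_⟩
  have h5 : b = (v : R) * (((decompose 𝒜 t 0 : 𝒜 0) : R) * b) := by
    rw [← mul_assoc, mul_comm (v : R), hv', one_mul]
  rw [h5, ← h1, h2, Finset.mul_sum]
  refine Finset.sum_congr rfl fun a _ => ?_
  push_cast
  ring

include hpos h0 in
/-- if `R` is abstractly a polynomial ring in `r = dim R` variables over the field `R_0`, then `R_1`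
is spanned by at most `r` elements -/
theorem exists_span_of_ringEquiv [IsNoetherianRing R] (m : HomogeneousIdeal 𝒜)
    (hm : IsStarLocal 𝒜 m) (hmsp : m.toIdeal = irr 𝒜) (r : ℕ) (hr : ringKrullDim R = r)
    (e : R ≃+* MvPolynomial (Fin r) (deg0 𝒜)) :
    ∃ T : Finset R, T.card ≤ r ∧ ∀ b ∈ 𝒜 1, ∃ c : T → deg0 𝒜,
      b = ∑ a : T, (c a : R) * ((decompose 𝒜 (a : R) 1 : 𝒜 1) : R) := by
  classical
  haveI hmax : m.toIdeal.IsMaximal :=
    Groth.Agent.Lib.helper19.StarLocalArt.isMaximal_of_isCoatom 𝒜 hpos m hm.1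
  haveI hprime : m.toIdeal.IsPrime := hmax.isPrime
  haveI hreg : IsRegularRing R := by
    letI : Field (deg0 𝒜) := h0.toField
    haveI h1 : IsRegularRing (MvPolynomial (Fin r) (deg0 𝒜)) :=
      MvPolynomial.isRegularRing_of_isRegularRing (deg0 𝒜)
    exact IsRegularRing.of_ringEquiv e.symm
  have h1 : (IsLocalRing.maximalIdeal (Localization.AtPrime m.toIdeal)).spanFinrank = r := by
    haveI hrl : IsRegularLocalRing (Localization.AtPrime m.toIdeal) :=
      IsRegularRing.isRegularLocalRing_localization m.toIdeal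
    have h2 : ((IsLocalRing.maximalIdeal (Localization.AtPrime m.toIdeal)).spanFinrank : WithBot ℕ∞) =
        ringKrullDim (Localization.AtPrime m.toIdeal) := hrl.spanFinrank_maximalIdeal
    rw [IsLocalization.AtPrime.ringKrullDim_eq_height m.toIdeal (Localization.AtPrime m.toIdeal),
      ← Groth.Agent.Lib.helper19.GrHt.ringKrullDim_eq_height 𝒜 hpos m hm, hr] at h2
    exact_mod_cast h2
  obtain ⟨T, hcard, hT, hloc⟩ := exists_gens_of_spanFinrank m.toIdeal r h1
  exact ⟨T, hcard, exists_span_of_local_gens 𝒜 hpos h0 m hm.1 hmsp T hT hloc⟩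

end Gr

end Groth.Agent.Lib.helper19.PolyChar
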