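import Mathlib

set_option autoImplicit false

/-! # The filtration `J ^ n` of `A[X]` for `J = I'[X] + (X)` (helper19)

For an ideal `I'` of `A` and `f : A`, with `J = I'[X] + (X)`, `g = X - f` and `I = I' + (f)`:
* `mem_Jpow_iff`: `q ∈ J ^ n ↔ ∀ j, q.coeff j ∈ I' ^ (n - j)`;
* `exists_colon_le` (Artin–Rees): `g * p ∈ J ^ n → p ∈ J ^ (n - e)`;
* `eval_mem_pow`, `exists_mem_Jpow_eval`: `eval f` maps `J ^ n` onto `I ^ n`;
* `A`-linear maps `fac`, `mulg`, `ev`, `prj`, `inj` between the quotients `A[X] ⧸ J ^ n`, `A[X] ⧸ (J ^ n : g)`,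
  `A ⧸ I ^ n`, `A ⧸ I' ^ r`, their exactness and compatibility properties. -/

universe u

namespace Groth.Agent.Lib.helper19.PolyFilt
open Polynomial

variable {A : Type u} [CommRing A] (I' : Ideal A) (f : A)

/-- `J = I'[X] + (X)`. -/
noncomputable def J : Ideal A[X] := I'.map (C : A →+* A[X]) ⊔ Ideal.span {X}

/-- the ideal of polynomials whose `j`-th coefficient lies in `I' ^ (n - j)`. -/
def S (n : ℕ) : Ideal A[X] where
  carrier := {q | ∀ j, q.coeff j ∈ I' ^ (n - j)}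
  add_mem' := fun {a b} ha hb j => by
    rw [coeff_add]; exact Ideal.add_mem _ (ha j) (hb j)
  zero_mem' := fun j => by rw [coeff_zero]; exact Ideal.zero_mem _
  smul_mem' := fun r q hq j => by
    rw [smul_eq_mul, coeff_mul]
    refine Ideal.sum_mem _ fun x hx => ?_
    have hx' : x.1 + x.2 = j := Finset.HasAntidiagonal.mem_antidiagonal.mp hx
    exact Ideal.mul_mem_left _ _ (Ideal.pow_le_pow_right (by omega) (hq x.2))

lemma mem_S {n : ℕ} {q : A[X]} : q ∈ S I' n ↔ ∀ j, q.coeff j ∈ I' ^ (n - j) := Iff.rfl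

lemma Jpow_le_S (n : ℕ) : J I' ^ n ≤ S I' n := by
  induction n with
  | zero =>
    intro q _ j
    simp
  | succ n ih =>
    rw [pow_succ, Ideal.mul_le]
    intro r hr s hs
    have hr' := ih hr
    obtain ⟨s₁, hs₁, s₂, hs₂, rfl⟩ := Submodule.mem_sup.mp hs
    rw [mul_add]
    refine (S I' (n + 1)).add_mem ?_ ?_
    · intro j
      rw [coeff_mul]
      refine Ideal.sum_mem _ fun x hx => ?_
      have hx' : x.1 + x.2 = j := Finset.HasAntidiagonal.mem_antidiagonal.mp hx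
      have h1 : r.coeff x.1 ∈ I' ^ (n - x.1) := hr' x.1
      have h2 : s₁.coeff x.2 ∈ I' := Ideal.mem_map_C_iff.mp hs₁ x.2
      have h3 : r.coeff x.1 * s₁.coeff x.2 ∈ I' ^ (n - x.1 + 1) := by
        rw [pow_succ]; exact Ideal.mul_mem_mul h1 h2
      exact Ideal.pow_le_pow_right (by omega) h3
    · obtain ⟨q, rfl⟩ := Ideal.mem_span_singleton'.mp hs₂
      rw [← mul_assoc]
      have hrq : r * q ∈ S I' n := (S I' n).mul_mem_right q hr'
      intro j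
      cases j with
      | zero => simp
      | succ j =>
        rw [coeff_mul_X]
        have := hrq j
        rwa [Nat.succ_sub_succ]

lemma C_mem_Jpow {r : ℕ} {a : A} (ha : a ∈ I' ^ r) : C a ∈ J I' ^ r := by
  have : C a ∈ (I' ^ r).map (C : A →+* A[X]) := Ideal.mem_map_of_mem _ ha
  rw [Ideal.map_pow] at this
  have hle : I'.map (C : A →+* A[X]) ≤ J I' := le_sup_left
  exact Ideal.pow_right_mono hle r this

lemma X_pow_mem_Jpow (j : ℕ) : (X : A[X]) ^ j ∈ J I' ^ j := by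
  have hX : (X : A[X]) ∈ J I' := Ideal.mem_sup_right (Ideal.subset_span rfl)
  exact Ideal.pow_mem_pow hX j

lemma monomial_mem_Jpow {n j r : ℕ} (h : n ≤ r + j) {a : A} (ha : a ∈ I' ^ r) :
    monomial j a ∈ J I' ^ n := by
  rw [← C_mul_X_pow_eq_monomial]
  have h3 : C a * X ^ j ∈ J I' ^ (r + j) := by
    rw [pow_add]; exact Ideal.mul_mem_mul (C_mem_Jpow I' ha) (X_pow_mem_Jpow I' j)
  exact Ideal.pow_le_pow_right h h3

lemma S_le_Jpow (n : ℕ) : S I' n ≤ J I' ^ n := by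
  intro q hq
  have h := q.as_sum_support
  rw [h]
  refine Ideal.sum_mem _ fun j _ => ?_
  exact monomial_mem_Jpow I' (r := n - j) (by omega) (hq j)

theorem mem_Jpow_iff {n : ℕ} {q : A[X]} : q ∈ J I' ^ n ↔ ∀ j, q.coeff j ∈ I' ^ (n - j) :=
  ⟨fun h => Jpow_le_S I' n h, fun h => S_le_Jpow I' n h⟩

/-- Artin–Rees for `g = X - f`. -/
theorem exists_colon_le [IsNoetherianRing A] :
    ∃ e : ℕ, ∀ (n : ℕ) (p : A[X]), (X - C f) * p ∈ J I' ^ n → p ∈ J I' ^ (n - e) := by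
  obtain ⟨k, hk⟩ := Ideal.exists_pow_inf_eq_pow_smul (J I')
    (Ideal.span {X - C f} : Submodule A[X] A[X])
  refine ⟨k, fun n p hp => ?_⟩
  by_cases hn : k ≤ n
  · have h1 : (X - C f) * p ∈ (J I') ^ n • (⊤ : Submodule A[X] A[X]) ⊓
        (Ideal.span {X - C f} : Submodule A[X] A[X]) := by
      refine ⟨?_, Ideal.mul_mem_right _ _ (Ideal.subset_span rfl)⟩
      rw [Ideal.smul_top_eq_map]
      simpa using hp
    rw [hk n hn] at h1
    have h2 : (X - C f) * p ∈ (J I') ^ (n - k) •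
        (Ideal.span {X - C f} : Submodule A[X] A[X]) :=
      Submodule.smul_mono le_rfl inf_le_right h1
    rw [smul_eq_mul, Ideal.mem_mul_span_singleton] at h2
    obtain ⟨z, hz, hzg⟩ := h2
    have hzp : z = p := by
      apply (monic_X_sub_C f).isRegular.left
      change (X - C f) * z = (X - C f) * p
      rw [← hzg, mul_comm]
    rwa [← hzp]
  · have : n - k = 0 := by omega
    rw [this, pow_zero, Ideal.one_eq_top]
    trivial

lemma map_eval_J : (J I').map (evalRingHom f) = I' ⊔ Ideal.span {f} := by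
  rw [J, Ideal.map_sup, Ideal.map_map, Ideal.map_span]
  have h1 : (evalRingHom f).comp (C : A →+* A[X]) = RingHom.id A := by
    ext a; simp
  rw [h1, Ideal.map_id]
  simp

lemma eval_mem_pow {n : ℕ} {p : A[X]} (hp : p ∈ J I' ^ n) :
    p.eval f ∈ (I' ⊔ Ideal.span {f}) ^ n := by
  rw [← map_eval_J, ← Ideal.map_pow]
  exact Ideal.mem_map_of_mem (evalRingHom f) hp

lemma exists_mem_Jpow_eval {n : ℕ} {a : A} (ha : a ∈ (I' ⊔ Ideal.span {f}) ^ n) :
    ∃ p ∈ J I' ^ n, p.eval f = a := by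
  rw [← map_eval_J I' f, ← Ideal.map_pow] at ha
  exact (Ideal.mem_map_iff_of_surjective (evalRingHom f) (fun a => ⟨C a, eval_C⟩)).mp ha

lemma exists_mul_of_eval_eq_zero {p : A[X]} (h : p.eval f = 0) : ∃ r, p = (X - C f) * r :=
  dvd_iff_isRoot.mpr h

/-- the colon ideal `(J ^ n : X - f)`. -/
noncomputable def Cn (n : ℕ) : Ideal A[X] :=
  Submodule.comap (LinearMap.mulLeft A[X] (X - C f)) (J I' ^ n)

lemma mem_Cn {n : ℕ} {p : A[X]} : p ∈ Cn I' f n ↔ (X - C f) * p ∈ J I' ^ n := Iff.rfl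

lemma Jpow_le_Cn (n : ℕ) : J I' ^ n ≤ Cn I' f n := fun _ hp => Ideal.mul_mem_left _ _ hp

lemma Jpow_anti {n m : ℕ} (h : m ≤ n) : J I' ^ n ≤ J I' ^ m := Ideal.pow_le_pow_right h

lemma Cn_anti {n m : ℕ} (h : m ≤ n) : Cn I' f n ≤ Cn I' f m := fun _ hp => Jpow_anti I' h hp

section maps

variable {Y : Type*} [AddCommGroup Y] [Module A Y]

/-- `A`-linear maps out of a quotient of `A[X]` by an ideal. -/
noncomputable def liftA (𝔞 : Ideal A[X]) (φ : A[X] →ₗ[A] Y) (h : ∀ p ∈ 𝔞, φ p = 0) :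
    (A[X] ⧸ 𝔞) →ₗ[A] Y :=
  (Submodule.liftQ (𝔞.restrictScalars A) φ (fun p hp => h p hp)) ∘ₗ
    (Submodule.Quotient.restrictScalarsEquiv A 𝔞).symm.toLinearMap

@[simp] lemma liftA_mk (𝔞 : Ideal A[X]) (φ : A[X] →ₗ[A] Y) (h : ∀ p ∈ 𝔞, φ p = 0) (p : A[X]) :
    liftA 𝔞 φ h (Submodule.Quotient.mk p) = φ p := rfl

lemma ext_mk {𝔞 : Ideal A[X]} {φ ψ : (A[X] ⧸ 𝔞) →ₗ[A] Y}
    (h : ∀ p : A[X], φ (Submodule.Quotient.mk p) = ψ (Submodule.Quotient.mk p)) : φ = ψ := by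
  apply LinearMap.ext
  intro x
  obtain ⟨p, rfl⟩ := Submodule.Quotient.mk_surjective 𝔞 x
  exact h p

/-- the `A`-linear quotient map. -/
noncomputable def mkA (𝔞 : Ideal A[X]) : A[X] →ₗ[A] (A[X] ⧸ 𝔞) :=
  (Submodule.mkQ 𝔞).restrictScalars A

@[simp] lemma mkA_apply (𝔞 : Ideal A[X]) (p : A[X]) : mkA 𝔞 p = Submodule.Quotient.mk p := rfl

/-- the factor map `A[X] ⧸ 𝔞 → A[X] ⧸ 𝔟`. -/
noncomputable def fac {𝔞 𝔟 : Ideal A[X]} (h : 𝔞 ≤ 𝔟) : (A[X] ⧸ 𝔞) →ₗ[A] (A[X] ⧸ 𝔟) :=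
  liftA 𝔞 (mkA 𝔟) (fun p hp => (Submodule.Quotient.mk_eq_zero 𝔟).mpr (h hp))

@[simp] lemma fac_mk {𝔞 𝔟 : Ideal A[X]} (h : 𝔞 ≤ 𝔟) (p : A[X]) :
    fac h (Submodule.Quotient.mk p) = Submodule.Quotient.mk p := rfl

lemma fac_comp {𝔞 𝔟 𝔠 : Ideal A[X]} (h : 𝔞 ≤ 𝔟) (h' : 𝔟 ≤ 𝔠) :
    (fac h') ∘ₗ (fac h) = fac (h.trans h') := ext_mk fun _ => rfl

lemma fac_surjective {𝔞 𝔟 : Ideal A[X]} (h : 𝔞 ≤ 𝔟) : Function.Surjective (fac h) := by
  intro x
  obtain ⟨p, rfl⟩ := Submodule.Quotient.mk_surjective 𝔟 x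
  exact ⟨Submodule.Quotient.mk p, rfl⟩

end maps

/-- multiplication by `X - f`: `A[X] ⧸ (J ^ n : g) → A[X] ⧸ J ^ n`. -/
noncomputable def mulg (n : ℕ) : (A[X] ⧸ Cn I' f n) →ₗ[A] (A[X] ⧸ J I' ^ n) :=
  liftA (Cn I' f n) (mkA (J I' ^ n) ∘ₗ LinearMap.mulLeft A (X - C f))
    (fun p hp => (Submodule.Quotient.mk_eq_zero _).mpr hp)

@[simp] lemma mulg_mk (n : ℕ) (p : A[X]) :
    mulg I' f n (Submodule.Quotient.mk p) = Submodule.Quotient.mk ((X - C f) * p) := rfl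

/-- evaluation at `f`: `A[X] ⧸ J ^ n → A ⧸ I ^ n`. -/
noncomputable def ev (n : ℕ) : (A[X] ⧸ J I' ^ n) →ₗ[A] (A ⧸ (I' ⊔ Ideal.span {f}) ^ n) :=
  liftA (J I' ^ n) (Submodule.mkQ ((I' ⊔ Ideal.span {f}) ^ n) ∘ₗ Polynomial.leval f)
    (fun p hp => (Submodule.Quotient.mk_eq_zero _).mpr (eval_mem_pow I' f hp))

@[simp] lemma ev_mk (n : ℕ) (p : A[X]) :
    ev I' f n (Submodule.Quotient.mk p) = Submodule.Quotient.mk (p.eval f) := rfl

lemma mulg_injective (n : ℕ) : Function.Injective (mulg I' f n) := by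
  rw [← LinearMap.ker_eq_bot, LinearMap.ker_eq_bot']
  intro x hx
  obtain ⟨p, rfl⟩ := Submodule.Quotient.mk_surjective _ x
  rw [mulg_mk, Submodule.Quotient.mk_eq_zero] at hx
  exact (Submodule.Quotient.mk_eq_zero _).mpr hx

lemma ev_surjective (n : ℕ) : Function.Surjective (ev I' f n) := by
  intro x
  obtain ⟨a, rfl⟩ := Submodule.Quotient.mk_surjective _ x
  exact ⟨Submodule.Quotient.mk (C a), by rw [ev_mk, eval_C]⟩

lemma exact_mulg_ev (n : ℕ) : Function.Exact (mulg I' f n) (ev I' f n) := by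
  intro x
  constructor
  · intro hx
    obtain ⟨p, rfl⟩ := Submodule.Quotient.mk_surjective _ x
    rw [ev_mk, Submodule.Quotient.mk_eq_zero] at hx
    obtain ⟨p', hp', hpp'⟩ := exists_mem_Jpow_eval I' f hx
    obtain ⟨r, hr⟩ := exists_mul_of_eval_eq_zero f (p := p - p') (by rw [eval_sub, hpp', sub_self])
    refine ⟨Submodule.Quotient.mk r, ?_⟩
    rw [mulg_mk, ← hr, Submodule.Quotient.mk_sub, sub_eq_self]
    exact (Submodule.Quotient.mk_eq_zero _).mpr hp'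
  · rintro ⟨y, rfl⟩
    obtain ⟨p, rfl⟩ := Submodule.Quotient.mk_surjective _ y
    rw [mulg_mk, ev_mk]
    simp

/-- the transition maps of `A ⧸ I ^ n`. -/
noncomputable abbrev tr (I : Ideal A) (n m : ℕ) (h : m ≤ n) : (A ⧸ I ^ n) →ₗ[A] (A ⧸ I ^ m) :=
  Submodule.mapQ (I ^ n) (I ^ m) LinearMap.id (Ideal.pow_le_pow_right h)

lemma ev_fac {n m : ℕ} (h : m ≤ n) :
    ev I' f m ∘ₗ fac (Jpow_anti I' h) = tr (I' ⊔ Ideal.span {f}) n m h ∘ₗ ev I' f n :=
  ext_mk fun _ => rfl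

lemma fac_mulg {n m : ℕ} (h : m ≤ n) :
    fac (Jpow_anti I' h) ∘ₗ mulg I' f n = mulg I' f m ∘ₗ fac (Cn_anti I' f h) :=
  ext_mk fun _ => rfl

/-- the coefficient maps `A[X] ⧸ J ^ n → A ⧸ I' ^ r`. -/
noncomputable def prj (n j r : ℕ) (h : r + j ≤ n) : (A[X] ⧸ J I' ^ n) →ₗ[A] (A ⧸ I' ^ r) :=
  liftA (J I' ^ n) (Submodule.mkQ (I' ^ r) ∘ₗ lcoeff A j)
    (fun p hp => (Submodule.Quotient.mk_eq_zero _).mpr
      (Ideal.pow_le_pow_right (by omega) ((mem_Jpow_iff I').mp hp j)))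

@[simp] lemma prj_mk (n j r : ℕ) (h : r + j ≤ n) (p : A[X]) :
    prj I' n j r h (Submodule.Quotient.mk p) = Submodule.Quotient.mk (p.coeff j) := rfl

/-- the monomial maps `A ⧸ I' ^ r → A[X] ⧸ J ^ n`. -/
noncomputable def inj (n j r : ℕ) (h : n ≤ r + j) : (A ⧸ I' ^ r) →ₗ[A] (A[X] ⧸ J I' ^ n) :=
  Submodule.liftQ (I' ^ r) (mkA (J I' ^ n) ∘ₗ monomial j)
    (fun a ha => (Submodule.Quotient.mk_eq_zero _).mpr (monomial_mem_Jpow I' h ha))

@[simp] lemma inj_mk (n j r : ℕ) (h : n ≤ r + j) (a : A) :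
    inj I' n j r h (Submodule.Quotient.mk a) = Submodule.Quotient.mk (monomial j a) := rfl

lemma sub_sum_monomial_mem (n : ℕ) (p : A[X]) :
    p - ∑ j : Fin n, monomial (j : ℕ) (p.coeff j) ∈ J I' ^ n := by
  rw [mem_Jpow_iff]
  intro k
  by_cases hk : k < n
  · have : (p - ∑ j : Fin n, monomial (j : ℕ) (p.coeff j)).coeff k = 0 := by
      rw [coeff_sub, finsetSum_coeff, sub_eq_zero]
      rw [Finset.sum_eq_single (⟨k, hk⟩ : Fin n)]
      · simp
      · intro b _ hb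
        rw [coeff_monomial, if_neg]
        intro h
        exact hb (Fin.ext h)
      · intro h
        exact absurd (Finset.mem_univ _) h
    rw [this]
    exact Ideal.zero_mem _
  · have : n - k = 0 := by omega
    rw [this, pow_zero, Ideal.one_eq_top]
    trivial

lemma sum_inj_prj (n : ℕ) :
    ∑ j : Fin n, inj I' n j (n - j) (by omega) ∘ₗ prj I' n j (n - j) (by omega) = LinearMap.id := by
  refine ext_mk fun p => ?_
  rw [LinearMap.sum_apply, LinearMap.id_apply]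
  simp only [LinearMap.comp_apply, prj_mk, inj_mk]
  have h1 := (Submodule.Quotient.eq (J I' ^ n)).mpr (sub_sum_monomial_mem I' n p)
  rw [h1]
  exact (map_sum (Submodule.mkQ (J I' ^ n)) _ _).symm

lemma fac_inj {n m j r r' : ℕ} (hmn : m ≤ n) (h : n ≤ r + j) (hr : r' ≤ r) (h' : m ≤ r' + j) :
    fac (Jpow_anti I' hmn) ∘ₗ inj I' n j r h = inj I' m j r' h' ∘ₗ tr I' r r' hr := by
  apply Submodule.linearMap_qext
  apply LinearMap.ext
  intro a
  rfl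

lemma fac_eq_zero_of_mem_ker {n e : ℕ}
    (he : ∀ (n : ℕ) (p : A[X]), (X - C f) * p ∈ J I' ^ n → p ∈ J I' ^ (n - e))
    (x : A[X] ⧸ J I' ^ n) (hx : fac (Jpow_le_Cn I' f n) x = 0) :
    fac (Jpow_anti I' (Nat.sub_le n e)) x = 0 := by
  obtain ⟨p, rfl⟩ := Submodule.Quotient.mk_surjective _ x
  rw [fac_mk, Submodule.Quotient.mk_eq_zero] at hx
  rw [fac_mk, Submodule.Quotient.mk_eq_zero]
  exact he n p hx

end Groth.Agent.Lib.helper19.PolyFilt
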