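import Mathlib
import Groth.Agent.Lib.Helper17.CIField3
import Groth.Agent.Lib.Helper17.LciGor
import Groth.Agent.S0342

/-!
# QFSynt2 (helper19): a local complete intersection over a field is a Gorenstein ring

`isGorensteinRing_of_isLCIOver k S (h : Synt.IsLCIOver k S) : LocCoh.IsGorensteinRing S`.
Assembles helper17's `CIField`, `LciGor`, `GorIso` and S0342 (regular local ⇒ Gorenstein).
-/

set_option autoImplicit false
universe u

namespace Groth.Agent.Lib.helper19.QFSynt2

/-- a local complete intersection over a field is a Gorenstein ring. -/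
theorem isGorensteinRing_of_isLCIOver (k S : Type u) [Field k] [CommRing S] [Algebra k S]
    (h : Synt.IsLCIOver k S) : LocCoh.IsGorensteinRing S := by
  haveI := h.1
  haveI : IsNoetherianRing S := Algebra.FiniteType.isNoetherianRing k S
  refine { isGorensteinLocalRing_localization := fun p hp => ?_ }
  obtain ⟨R, _, hreg, _, -, rs, hmem, hregseq, ⟨e⟩⟩ :=
    Groth.Agent.Lib.helper17.CIField.isCIOver_atPrime_of_isLCIOver k h p
  haveI := hreg
  have hG := Groth.Agent.Lib.helper17.LciGor.gor_quot_ofList R rs hmem hregseq.toIsWeaklyRegular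
    (Groth.Agent.S0342.result R)
  exact Groth.Agent.Lib.helper17.GorIso.isGorensteinLocalRing_of_ringEquiv e.toRingEquiv hG

end Groth.Agent.Lib.helper19.QFSynt2
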