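import Mathlib
import Groth.Prelude.Def_Wider
import Groth.Prelude.Def_EGA4b
import Groth.Agent.Lib.Helper23.DimFn28
import Groth.Agent.Lib.Helper23.DimFn16
import Groth.Agent.Lib.Helper26.Reflexive
import Groth.Agent.Lib.Helper26.DepthKer
import Groth.Agent.Lib.Helper26.FinRestr2
import Groth.Agent.Lib.Helper19.CanMod4
import Groth.Agent.Lib.Helper19.Conn1

set_option autoImplicit false
universe u
open CategoryTheory CategoryTheory.Limits DerivedCategory Pretriangulated IsLocalRing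

attribute [local instance] HasDerivedCategory.standard

/-! Affine-local QGor statements about the dualizing module of a local ring (via helper23's DimFn libs):
`equidim_of_minimal`, `main` (= S18720). -/

namespace Groth.Agent.Lib.helper19.QGorAff
open Groth.Agent.Lib.helper23.DimFn Groth.Agent.Lib.helper23 Groth.Agent.Lib.helper26.Depth

variable (A : Type u) [CommRing A] [IsNoetherianRing A] [IsLocalRing A]

/-- a dualizing complex which is a module in degree `0` at all minimal primes: the ring is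
equidimensional and the normalizing shift is `dim A` -/
theorem equidim_of_minimal (ω : Dual.D A) (hω : Dual.IsDualizing A ω) (n : ℕ)
    (hd : ringKrullDim A = n)
    (hoff : ∀ p : PrimeSpectrum A, p.asIdeal ∈ minimalPrimes A → ∀ i : ℤ, i ≠ 0 →
      p ∉ Module.support A (Dual.HD A ω i)) :
    EGA4.IsEquidim A ∧ Dual.IsDualizing A (ω⟦(n : ℤ)⟧) ∧ Dual.IsNormalized A (ω⟦(n : ℤ)⟧) := by
  classical
  obtain ⟨s, hωs, hnorm⟩ := exists_normalized_shift ω hω
  have hmin : ∀ p ∈ minimalPrimes A, ∃ e : ℕ, ringKrullDim (A ⧸ p) = e ∧ (e : ℤ) = s := by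
    intro p hp
    haveI hpp : p.IsPrime := hp.1.1
    obtain ⟨e, he⟩ := Groth.Agent.Lib.helper19.Conn.exists_nat_dim_quot p hpp.ne_top
    have h1 := (nontrivial_localized_HD_iff_minimalPrime (ω⟦s⟧) hωs hnorm p hp e he
      (-(e : ℤ))).mpr rfl
    have h2 : (⟨p, hpp⟩ : PrimeSpectrum A) ∈ Module.support A (Dual.HD A (ω⟦s⟧) (-(e : ℤ))) :=
      Module.mem_support_iff.mpr h1
    rw [(FlatBC.homologyShiftIso ω s (-(e : ℤ)) (s + -(e : ℤ)) rfl).toLinearEquiv.support_eq] at h2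
    refine ⟨e, he, ?_⟩
    by_contra hne
    exact hoff ⟨p, hpp⟩ hp (s + -(e : ℤ)) (by omega) h2
  obtain ⟨Q, hQ, hQdim⟩ := Groth.Agent.Lib.helper19.CanMod.exists_minimalPrimes_dim_eq A n hd
  have hsn : s = (n : ℤ) := by
    obtain ⟨e, he, hes⟩ := hmin Q hQ
    rw [hQdim] at he
    have : n = e := by exact_mod_cast he
    omega
  subst hsn
  refine ⟨?_, hωs, hnorm⟩
  intro p hp
  obtain ⟨e, he, hes⟩ := hmin p hp
  rw [he, hd]
  have : e = n := by exact_mod_cast hes
  rw [this]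



theorem main (ω : Dual.D A) (hω : Dual.IsDualizing A ω) (n : ℕ) (hd : ringKrullDim A = n)
    (J : Ideal A) (hJ : 1 ≤ J.height)
    (hoff : ∀ p : PrimeSpectrum A, ¬ J ≤ p.asIdeal → ∀ i : ℤ, i ≠ 0 →
      p ∉ Module.support A (Dual.HD A ω i)) :
    (EGA4.IsEquidim A ∧ Dual.IsNormalized A (ω⟦(n : ℤ)⟧) ∧ LocCoh.HasSk 2 A (Dual.HD A ω 0)) ∧
    (2 ≤ J.height → 2 ≤ LocCoh.idealDepth J (Dual.HD A ω 0)) := by
  classical
  have hoff' : ∀ p : PrimeSpectrum A, p.asIdeal ∈ minimalPrimes A → ∀ i : ℤ, i ≠ 0 →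
      p ∉ Module.support A (Dual.HD A ω i) := by
    intro p hp
    apply hoff p
    intro hle
    have h1 := Ideal.height_mono hle
    have h2 : p.asIdeal.height = 0 := Ideal.height_eq_zero_iff.mpr hp
    rw [h2] at h1
    have h3 := le_trans hJ h1
    simp at h3
  obtain ⟨hEq, hωn, hnorm⟩ := equidim_of_minimal A ω hω n hd hoff'
  obtain ⟨hsupp, hS2⟩ := dualizing_module_support_and_S2 (ω⟦(n : ℤ)⟧) hωn hnorm n hd
  let e : Dual.HD A (ω⟦(n : ℤ)⟧) (-(n : ℤ)) ≃ₗ[A] Dual.HD A ω 0 :=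
    (FlatBC.homologyShiftIso ω (n : ℤ) (-(n : ℤ)) 0 (by omega)).toLinearEquiv
  have hS2' : LocCoh.HasSk 2 A (Dual.HD A ω 0) := hasSk_congr 2 e hS2
  refine ⟨⟨hEq, hnorm, hS2'⟩, fun hJ2 => ?_⟩
  haveI : Module.Finite A (Dual.HD A ω 0) := hω.finite_cohomology 0
  have hall : ∀ q : PrimeSpectrum A, q ∈ Module.support A (Dual.HD A ω 0) := by
    intro q
    rw [← e.support_eq, hsupp]
    obtain ⟨q₀, hq₀, hq₀q⟩ := Ideal.exists_minimalPrimes_le (bot_le : (⊥ : Ideal A) ≤ q.asIdeal)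
    exact ⟨q₀, hq₀, hq₀q, (hEq q₀ hq₀).trans hd⟩
  have key := le_idealDepth_of_hasSk 2 (Dual.HD A ω 0) J hS2' ?_
  · exact_mod_cast key
  intro p hJp hp
  rw [Groth.Agent.Lib.helper26.FinRestr.supportDim_localization_eq_height (Dual.HD A ω 0)
    p.asIdeal hp]
  have h1 : J.height ≤ p.asIdeal.height := Ideal.height_mono hJp
  have h2 : p.asIdeal.height = Order.height p := PrimeSpectrum.height_eq_orderHeight p
  let f : PrimeSpectrum A → Module.support A (Dual.HD A ω 0) := fun q => ⟨q, hall q⟩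
  have hf : StrictMono f := fun a b hab => hab
  have h3 : Order.height p ≤ Order.height (f p) :=
    Order.height_le_height_apply_of_strictMono f hf p
  have h4 : (2 : ℕ∞) ≤ Order.height (f p) := le_trans hJ2 (le_trans h1 (h2 ▸ h3))
  have h5 : ((2 : ℕ∞) : WithBot ℕ∞) ≤ ((Order.height (f p) : ℕ∞) : WithBot ℕ∞) :=
    WithBot.coe_le_coe.mpr h4
  exact h5

end Groth.Agent.Lib.helper19.QGorAff
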