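import Mathlib
import Groth.Agent.Lib.Helper19.QGorAff1
import Groth.Agent.Lib.Helper26.ReflexiveCrit2

set_option autoImplicit false
universe u
open CategoryTheory CategoryTheory.Limits DerivedCategory Pretriangulated IsLocalRing

attribute [local instance] HasDerivedCategory.standard

namespace Groth.Agent.Lib.helper19.QGorAff2
open Groth.Agent.Lib.helper23.DimFn Groth.Agent.Lib.helper23 Groth.Agent.Lib.helper26.Depth LocCoh

section Dual
variable {A : Type u} [CommRing A] [IsNoetherianRing A]

/-- the dual of a finite module is the kernel of a map between finite free modules. -/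
theorem exists_ker_free_dual (Y : Type u) [AddCommGroup Y] [Module A Y] [Module.Finite A Y] :
    ∃ (n m : ℕ) (u : Module.Dual A (Fin n → A) →ₗ[A] Module.Dual A (Fin m → A)),
      Nonempty (Module.Dual A Y ≃ₗ[A] LinearMap.ker u) := by
  obtain ⟨n, π, hπ⟩ := Module.Finite.exists_fin' A Y
  obtain ⟨m, ρ, hρ⟩ := Module.Finite.exists_fin' A (LinearMap.ker π)
  let ι : (Fin m → A) →ₗ[A] (Fin n → A) := (LinearMap.ker π).subtype ∘ₗ ρ
  have hrange : LinearMap.range ι = LinearMap.ker π := by
    rw [LinearMap.range_comp, LinearMap.range_eq_top.mpr hρ, Submodule.map_top,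
      Submodule.range_subtype]
  let e1 : Module.Dual A Y ≃ₗ[A] LinearMap.range π.dualMap :=
    LinearEquiv.ofInjective π.dualMap (LinearMap.dualMap_injective_of_surjective hπ)
  have heq : LinearMap.range π.dualMap = LinearMap.ker ι.dualMap := by
    rw [LinearMap.ker_dualMap_eq_dualAnnihilator_range, hrange,
      LinearMap.range_dualMap_eq_dualAnnihilator_ker_of_surjective π hπ]
  exact ⟨n, m, ι.dualMap, ⟨e1.trans (LinearEquiv.ofEq _ _ heq)⟩⟩

/-- depth and `(S_2)` for dual modules. -/
theorem dual_depth_Sk (I : Ideal A) (Y : Type u) [AddCommGroup Y] [Module A Y]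
    [Module.Finite A Y] :
    (2 ≤ idealDepth I A → 2 ≤ idealDepth I (Module.Dual A Y)) ∧
    (HasSk 2 A A → HasSk 2 A (Module.Dual A Y)) := by
  obtain ⟨n, m, u, ⟨e⟩⟩ := exists_ker_free_dual (A := A) Y
  refine ⟨fun h => ?_, fun h => ?_⟩
  · rw [idealDepth_congr (N := LinearMap.ker u) e]
    exact two_le_idealDepth_ker I u (le_idealDepth_of_free I 2 h _)
      (le_idealDepth_of_free I 1 ((by norm_num : (1 : ℕ∞) ≤ 2).trans h) _)
  · by_cases hA : Subsingleton A
    · have : Subsingleton (Module.Dual A Y) := Module.subsingleton A _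
      intro p _
      rw [Module.supportDim_eq_bot_of_subsingleton]
      simp
    rw [not_subsingleton_iff_nontrivial] at hA
    let u' : Module.Dual A (Fin n → A) →ₗ[A] (Module.Dual A (Fin m → A) × A) := u.prod 0
    have hker : LinearMap.ker u' = LinearMap.ker u := by
      rw [LinearMap.ker_prod, LinearMap.ker_zero, inf_top_eq]
    have hS1 : HasSk 1 A A := by
      intro p _
      have h2 := h p
      refine le_trans ?_ h2
      rw [le_min_iff]
      refine ⟨(min_le_left _ _).trans ?_, min_le_right _ _⟩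
      exact_mod_cast (by norm_num : (1 : ℕ) ≤ 2)
    have hsupp : Module.support A (LinearMap.ker u') ⊆
        Module.support A (Module.Dual A (Fin m → A) × A) := by
      intro q _
      have hq : q ∈ Module.support A A := by
        rw [Module.support_eq_zeroLocus, Module.annihilator_eq_bot.mpr inferInstance]
        simp
      exact Module.support_subset_of_injective (LinearMap.inr A (Module.Dual A (Fin m → A)) A)
        LinearMap.inr_injective hq
    have h3 := (hasSk_ker u').2 hsupp (hasSk_free 1 hS1 _) (hasSk_free 2 h _)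
    exact hasSk_congr 2 (e.trans (LinearEquiv.ofEq _ _ hker.symm)).symm h3

end Dual

variable (A : Type u) [CommRing A] [IsNoetherianRing A] [IsLocalRing A]

theorem main2 (ω : Dual.D A) (hω : Dual.IsDualizing A ω) (n : ℕ) (hd : ringKrullDim A = n)
    (J : Ideal A) (hJ : 2 ≤ J.height)
    (hoff : ∀ p : PrimeSpectrum A, ¬ J ≤ p.asIdeal →
      (∀ i : ℤ, i ≠ 0 → p ∉ Module.support A (Dual.HD A ω i)) ∧
      Module.Free (Localization.AtPrime p.asIdeal)
        (LocalizedModule p.asIdeal.primeCompl (Dual.HD A ω 0)) ∧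
      Module.finrank (Localization.AtPrime p.asIdeal)
        (LocalizedModule p.asIdeal.primeCompl (Dual.HD A ω 0)) = 1) :
    (LocCoh.HasSk 1 A A →
      (EGA4.IsEquidim A ∧ Dual.IsNormalized A (ω⟦(n : ℤ)⟧)) ∧
      Module.IsReflexive A (Dual.HD A ω 0) ∧ LocCoh.HasSk 2 A (Dual.HD A ω 0)) ∧
    (LocCoh.HasSk 2 A A → ∀ m : ℕ,
      LocCoh.HasSk 2 A (Module.Dual A (Module.Dual A (TensorPower A m (Dual.HD A ω 0)))) ∧
      2 ≤ LocCoh.idealDepth J
        (Module.Dual A (Module.Dual A (TensorPower A m (Dual.HD A ω 0))))) := by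
  classical
  haveI : Module.Finite A (Dual.HD A ω 0) := hω.finite_cohomology 0
  have hJ1 : 1 ≤ J.height := le_trans (by norm_num) hJ
  obtain ⟨⟨hEq, hnorm, hS2⟩, hdep⟩ :=
    Groth.Agent.Lib.helper19.QGorAff.main A ω hω n hd J hJ1 (fun p hp => (hoff p hp).1)
  refine ⟨fun hS1 => ⟨⟨hEq, hnorm⟩, ?_, hS2⟩, fun hA2 m => ?_⟩
  · -- reflexivity
    have h1 : (1 : ℕ∞) ≤ idealDepth J A := by
      have key := le_idealDepth_of_hasSk 1 A J hS1 ?_
      · exact_mod_cast key
      intro p hJp _
      rw [supportDim_localizedModule_self p.asIdeal]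
      have h1 : J.height ≤ p.asIdeal.height := Ideal.height_mono hJp
      have h2 : (1 : ℕ∞) ≤ p.asIdeal.height := le_trans hJ1 h1
      exact WithBot.coe_le_coe.mpr h2
    refine isReflexive_of_two_le_idealDepth J h1 (Dual.HD A ω 0) ?_ (hdep hJ)
    intro p hp
    obtain ⟨-, hfree, -⟩ := hoff p hp
    haveI := hfree
    haveI : Module.Finite (Localization.AtPrime p.asIdeal)
        (LocalizedModule p.asIdeal.primeCompl (Dual.HD A ω 0)) :=
      Module.Finite.of_isLocalizedModule p.asIdeal.primeCompl
        (LocalizedModule.mkLinearMap p.asIdeal.primeCompl (Dual.HD A ω 0))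
    exact Module.IsReflexive.of_finite_of_free _ _
  · haveI : Module.Finite A (TensorPower A m (Dual.HD A ω 0)) := inferInstance
    haveI : Module.Finite A (Module.Dual A (TensorPower A m (Dual.HD A ω 0))) := inferInstance
    have h2 : 2 ≤ idealDepth J A := two_le_idealDepth_self_of_hasSk hA2 J hJ
    obtain ⟨hd2, hs2⟩ := dual_depth_Sk J (Module.Dual A (TensorPower A m (Dual.HD A ω 0)))
    exact ⟨hs2 hA2, hd2 h2⟩

end Groth.Agent.Lib.helper19.QGorAff2
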