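import Mathlib
import Groth.Agent.S1717
import Groth.Agent.Lib.Helper23.DimFn23
import Groth.Agent.Lib.Helper23.DimFn10
import Groth.Agent.Lib.Helper23.DimFn8
import Groth.Agent.Lib.Helper23.DimFn13
import Groth.Agent.Lib.Helper23.Devissage2
import Groth.Agent.Lib.Helper23.SplitTrunc
import Groth.Agent.Lib.Helper23.GorInv0
import Groth.Agent.Lib.Helper23.LDual3

set_option autoImplicit false
universe w v u
open CategoryTheory CategoryTheory.Limits DerivedCategory Pretriangulated IsLocalRing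

attribute [local instance] HasDerivedCategory.standard

namespace Groth.Agent.Lib.helper19.QGorAff3
open Groth.Agent.Lib.helper23.DimFn Groth.Agent.Lib.helper23

section Abstract
variable {C : Type u} [Category.{v} C] [Preadditive C] [HasZeroObject C] [HasShift C ℤ]
  [∀ n : ℤ, (shiftFunctor C n).Additive] [Pretriangulated C]

/-- `End(X₁) ≃ Hom(X₁, X₂)` and `End(X₂) ≃ Hom(X₁, X₂)` for a distinguished triangle with vanishing
conditions; version with a ring acting. -/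
theorem end_bijective (R : Type*) [Ring R] [Linear R C] (T : Triangle C) (hT : T ∈ distTriang C)
    (h2 : ∀ f : T.obj₁ ⟶ T.obj₃⟦(-1 : ℤ)⟧, f = 0)
    (h3 : ∀ f : T.obj₃ ⟶ T.obj₂, f = 0)
    (h4 : ∀ f : T.obj₃⟦(-1 : ℤ)⟧ ⟶ T.obj₂, f = 0)
    (hb : Function.Bijective (fun r : R => r • 𝟙 T.obj₂)) :
    Function.Bijective (fun r : R => r • 𝟙 T.obj₁) := by
  have hT' := inv_rot_of_distTriang T hT
  -- α injective
  have hα : ∀ f : T.obj₁ ⟶ T.obj₁, f ≫ T.mor₁ = 0 → f = 0 := by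
    intro f hf
    obtain ⟨g, hg⟩ : ∃ g : T.obj₁ ⟶ T.obj₃⟦(-1 : ℤ)⟧, f = g ≫ T.invRotate.mor₁ :=
      Triangle.coyoneda_exact₂ T.invRotate hT' f hf
    rw [hg, h2 g]
    exact zero_comp
  -- β injective
  have hβ : ∀ g : T.obj₂ ⟶ T.obj₂, T.mor₁ ≫ g = 0 → g = 0 := by
    intro g hg
    obtain ⟨h, hh⟩ := Triangle.yoneda_exact₂ T hT g hg
    rw [hh, h3 h, comp_zero]
  constructor
  · intro r s hrs
    apply hb.1
    have h5 : (r - s) • 𝟙 T.obj₁ = 0 := by
      rw [sub_smul]; exact sub_eq_zero.2 hrs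
    have h6 : T.mor₁ ≫ ((r - s) • 𝟙 T.obj₂) = 0 := by
      rw [Linear.comp_smul, Category.comp_id, ← Category.id_comp T.mor₁, ← Linear.smul_comp, h5,
        zero_comp]
    have h7 := hβ _ h6
    rw [sub_smul] at h7
    exact sub_eq_zero.1 h7
  · intro f
    -- f ≫ T.mor₁ = T.mor₁ ≫ g for some g
    obtain ⟨g, hg⟩ : ∃ g : T.obj₂ ⟶ T.obj₂, f ≫ T.mor₁ = T.mor₁ ≫ g :=
      Triangle.yoneda_exact₂ T.invRotate hT' (f ≫ T.mor₁) (h4 _)
    obtain ⟨r, hr⟩ := hb.2 g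
    refine ⟨r, ?_⟩
    have h8 : (r • 𝟙 T.obj₁ - f) ≫ T.mor₁ = 0 := by
      rw [Preadditive.sub_comp, hg, Linear.smul_comp, Category.id_comp]
      change r • T.mor₁ - T.mor₁ ≫ g = 0
      rw [← hr]
      simp only [Linear.comp_smul, Category.comp_id, sub_self]
    exact sub_eq_zero.1 (hα _ h8)

theorem ext1_zero (T : Triangle C) (hT : T ∈ distTriang C)
    (h1 : ∀ f : T.obj₁ ⟶ T.obj₃, f = 0)
    (h5 : ∀ f : T.obj₂ ⟶ T.obj₂⟦(1 : ℤ)⟧, f = 0)
    (h6 : ∀ f : T.obj₃⟦(-1 : ℤ)⟧ ⟶ T.obj₂⟦(1 : ℤ)⟧, f = 0) :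
    ∀ f : T.obj₁ ⟶ T.obj₁⟦(1 : ℤ)⟧, f = 0 := by
  intro f
  have hT' := inv_rot_of_distTriang T hT
  obtain ⟨g, hg⟩ : ∃ g : T.obj₂ ⟶ T.obj₂⟦(1 : ℤ)⟧, f ≫ T.mor₁⟦(1 : ℤ)⟧' = T.mor₁ ≫ g :=
    Triangle.yoneda_exact₂ T.invRotate hT' (f ≫ T.mor₁⟦(1 : ℤ)⟧') (h6 _)
  have h7 : f ≫ T.mor₁⟦(1 : ℤ)⟧' = 0 := by
    rw [hg, h5 g, comp_zero]
  obtain ⟨k, hk⟩ := Triangle.coyoneda_exact₁ T hT f h7
  rw [hk, h1 k, zero_comp]

end Abstract

variable {A : Type u} [CommRing A] [IsNoetherianRing A] [IsLocalRing A]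

/-- basic facts. -/
theorem basic (ω : Dual.D A) (hω : Dual.IsDualizing A ω) (hn : Dual.IsNormalized A ω)
    (n : ℕ) (hd : ringKrullDim A = n) (hS2 : LocCoh.HasSk 2 A A) :
    (∀ j : ℤ, (j < -(n : ℤ) ∨ 0 < j) →
      IsZero ((homologyFunctor (ModuleCat.{u} A) j).obj ω)) ∧
    ∀ k : ℕ, 1 ≤ k → LocCoh.HasSk k A A → ∀ m : ℕ, m ≠ n →
      (m < k → Subsingleton (Dual.HD A ω (-(m : ℤ)))) ∧
      (k ≤ m → Module.supportDim A (Dual.HD A ω (-(m : ℤ))) ≤ ((m - k : ℕ) : WithBot ℕ∞)) := by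
  obtain ⟨a, hGE, nn, hn1, hn2, hsm⟩ := exists_dimFn ω hω
  have hc : CAlg.IsCatenary A := isCatenary_of_dimFn A nn hsm hn2
  have hEq : EGA4.IsEquidim A := fun p hp => Groth.Agent.S1717.result A hc hS2 p hp
  have hnorm' : ∀ (m : Ideal A) (_ : m.IsMaximal) (i : ℤ), i ≠ 0 →
      Subsingleton (Dual.inD A (A ⧸ m) ⟶ ω⟦i⟧) := by
    intro m hm i hi
    obtain rfl := IsLocalRing.eq_maximalIdeal hm
    exact hn i hi
  obtain ⟨hvan, hiff⟩ := hasSk_iff_supportDim_HD hEq n hd ω hω hnorm'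
  refine ⟨?_, fun k hk hS => (hiff k hk).1 hS⟩
  rintro j (hj | hj)
  · rw [ModuleCat.isZero_iff_subsingleton]
    have h1 := hvan j.natAbs (by omega)
    have h2 : -((j.natAbs : ℕ) : ℤ) = j := by omega
    rw [h2] at h1
    exact h1
  · rw [ModuleCat.isZero_iff_subsingleton]
    refine (subsingleton_HD_iff ω j).2 ((VZ_iff_subsingleton ω j _).2 ?_)
    have hsd : Module.supportDim A A = ((n : ℕ) : WithBot ℕ∞) := by
      rw [Module.supportDim_self_eq_ringKrullDim, hd]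
    by_contra hns
    rw [not_subsingleton_iff_nontrivial] at hns
    have h3 := (ext_dualizing_vanishing_and_support ω hω hn A n hsd j).1 hns
    omega

omit [IsNoetherianRing A] [IsLocalRing A] in
lemma subsingleton_of_iso {X Y Z : Dual.D A} (e : X ≅ Y) (h : Subsingleton (X ⟶ Z)) :
    Subsingleton (Y ⟶ Z) := by
  refine ⟨fun f g => ?_⟩
  have h1 : e.hom ≫ f = e.hom ≫ g := h.elim _ _
  exact (cancel_epi e.hom).1 h1

/-- Ext-vanishing for a single module of small dimension placed in degree `-m`. -/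
theorem single_vanishing (ω : Dual.D A) (hω : Dual.IsDualizing A ω) (hn : Dual.IsNormalized A ω)
    (M : Type u) [AddCommGroup M] [Module A M] [Module.Finite A M] (k m : ℕ)
    (h1 : m < k → Subsingleton M)
    (h2 : k ≤ m → Module.supportDim A M ≤ ((m - k : ℕ) : WithBot ℕ∞))
    (i : ℤ) (hi : i ≤ (k : ℤ) - 1) :
    Subsingleton ((singleFunctor (ModuleCat.{u} A) (-(m : ℤ))).obj (ModuleCat.of A M) ⟶ ω⟦i⟧) := by
  by_cases hM : Subsingleton M
  · have hz : IsZero ((singleFunctor (ModuleCat.{u} A) (-(m : ℤ))).obj (ModuleCat.of A M)) :=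
      Functor.map_isZero _ (ModuleCat.isZero_of_subsingleton (ModuleCat.of A M))
    exact ⟨fun f g => hz.eq_of_src _ _⟩
  · rw [not_subsingleton_iff_nontrivial] at hM
    have hkm : k ≤ m := by
      by_contra hcon
      exact (not_subsingleton M) (h1 (by omega))
    have hsd := h2 hkm
    have h3 : Module.supportDim A M ≠ ⊥ := Module.supportDim_ne_bot_of_nontrivial A M
    obtain ⟨x, hx⟩ := WithBot.ne_bot_iff_exists.1 h3
    rw [← hx] at hsd
    have hx' : x ≤ ((m - k : ℕ) : ℕ∞) := WithBot.coe_le_coe.1 hsd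
    obtain ⟨d, rfl⟩ : ∃ d : ℕ, x = (d : ℕ∞) := by
      have : x ≠ ⊤ := fun h => by rw [h] at hx'; simp at hx'
      exact ⟨x.toNat, (ENat.natCast_toNat this).symm⟩
    have hdle : d ≤ m - k := by exact_mod_cast hx'
    have key : Subsingleton (Dual.inD A M ⟶ ω⟦i - m⟧) := by
      by_contra hns
      rw [not_subsingleton_iff_nontrivial] at hns
      have h4 := (ext_dualizing_vanishing_and_support ω hω hn M d hx.symm (i - m)).1 hns
      omega
    have h5 : Subsingleton ((Dual.inD A M)⟦(m : ℤ)⟧ ⟶ ω⟦i⟧) :=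
      LDual.subsingleton_hom_shift_of (Dual.inD A M) ω m (i - m) i (by ring) key
    exact subsingleton_of_iso
      (((singleFunctors (ModuleCat.{u} A)).shiftIso (m : ℤ) (-(m : ℤ)) 0 (by simp)).app
        (ModuleCat.of A M)) h5

/-- `Ext^i(τ_{> -n} ω, ω) = 0` for `i ≤ k - 1` when `A` is `(S_k)`. -/
theorem Q_vanishing (ω : Dual.D A) (hω : Dual.IsDualizing A ω) (hn : Dual.IsNormalized A ω)
    (n : ℕ) (hd : ringKrullDim A = n) (hS2 : LocCoh.HasSk 2 A A) (k : ℕ) (hk : 1 ≤ k)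
    (hS : LocCoh.HasSk k A A) (i : ℤ) (hi : i ≤ (k : ℤ) - 1) :
    Subsingleton (((TStructure.t (C := ModuleCat.{u} A)).truncGE (-(n : ℤ) + 1)).obj ω ⟶ ω⟦i⟧) := by
  obtain ⟨hz, hsk⟩ := basic ω hω hn n hd hS2
  have hsk' := hsk k hk hS
  let t := DerivedCategory.TStructure.t (C := ModuleCat.{u} A)
  let Q := (t.truncGE (-(n : ℤ) + 1)).obj ω
  let Pr : Dual.D A → Prop := fun X => ∀ i : ℤ, i ≤ (k : ℤ) - 1 → Subsingleton (X ⟶ ω⟦i⟧)
  have hPr : Pr Q := by
    refine Devissage2.devissage_homology' Pr ?_ ?_ ?_ n 0 Q ?_ ?_ ?_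
    · intro X Y e hX i hi
      exact subsingleton_of_iso e (hX i hi)
    · intro X hX i hi
      exact ⟨fun f g => hX.eq_of_src _ _⟩
    · intro T hT h1 h3 i hi
      have key : ∀ f : T.obj₂ ⟶ ω⟦i⟧, f = 0 := by
        intro f
        have h4 : T.mor₁ ≫ f = 0 := (h1 i hi).elim _ _
        obtain ⟨g, hg⟩ := Triangle.yoneda_exact₂ T hT f h4
        rw [hg, (h3 i hi).elim g 0, comp_zero]
      exact ⟨fun f g => by rw [key f, key g]⟩
    · intro j hj
      haveI := SplitTrunc.isIso_homologyMap_truncGEπ ω (-(n : ℤ) + 1) j (by omega)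
      exact (hz j (Or.inr hj)).of_iso
        (asIso ((homologyFunctor (ModuleCat.{u} A) j).map
          ((t.truncGEπ (-(n : ℤ) + 1)).app ω))).symm
    · intro j hj
      exact DerivedCategory.isZero_of_isGE Q (-(n : ℤ) + 1) j (by omega)
    · intro j
      have hzero : ∀ X : Dual.D A, IsZero X → Pr X := by
        intro X hX i hi
        exact ⟨fun f g => hX.eq_of_src _ _⟩
      by_cases hj1 : j ≤ -(n : ℤ)
      · exact hzero _ (Functor.map_isZero _
          (DerivedCategory.isZero_of_isGE Q (-(n : ℤ) + 1) j (by omega)))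
      · by_cases hj2 : 0 < j
        · haveI := SplitTrunc.isIso_homologyMap_truncGEπ ω (-(n : ℤ) + 1) j (by omega)
          exact hzero _ (Functor.map_isZero _ ((hz j (Or.inr hj2)).of_iso
            (asIso ((homologyFunctor (ModuleCat.{u} A) j).map
              ((t.truncGEπ (-(n : ℤ) + 1)).app ω))).symm))
        · obtain ⟨m, rfl⟩ : ∃ m : ℕ, j = -(m : ℤ) := ⟨(-j).toNat, by omega⟩
          have hmn : m ≠ n := by omega
          obtain ⟨h1, h2⟩ := hsk' m hmn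
          haveI := hω.finite_cohomology (-(m : ℤ))
          have h5 := single_vanishing ω hω hn (Dual.HD A ω (-(m : ℤ))) k m h1 h2
          haveI := SplitTrunc.isIso_homologyMap_truncGEπ ω (-(n : ℤ) + 1) (-(m : ℤ)) (by omega)
          intro i hi
          exact subsingleton_of_iso ((singleFunctor (ModuleCat.{u} A) (-(m : ℤ))).mapIso
            (asIso ((homologyFunctor (ModuleCat.{u} A) (-(m : ℤ))).map
              ((t.truncGEπ (-(n : ℤ) + 1)).app ω)))) (h5 i hi)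
  exact hPr i hi

/-- `τ_{≤ -n} ω` is `H^{-n}(ω)` placed in degree `-n`. -/
theorem X1_iso (ω : Dual.D A) (hω : Dual.IsDualizing A ω) (hn : Dual.IsNormalized A ω)
    (n : ℕ) (hd : ringKrullDim A = n) (hS2 : LocCoh.HasSk 2 A A) :
    Nonempty (((TStructure.t (C := ModuleCat.{u} A)).truncLT (-(n : ℤ) + 1)).obj ω ≅
      (singleFunctor (ModuleCat.{u} A) (-(n : ℤ))).obj
        ((homologyFunctor (ModuleCat.{u} A) (-(n : ℤ))).obj ω)) := by
  obtain ⟨hz, -⟩ := basic ω hω hn n hd hS2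
  let t := DerivedCategory.TStructure.t (C := ModuleCat.{u} A)
  let X₁ := (t.truncLT (-(n : ℤ) + 1)).obj ω
  haveI : X₁.IsLE (-(n : ℤ) + 1 - 1) := by dsimp [X₁]; infer_instance
  refine GorInv.nonempty_iso_single X₁ (-(n : ℤ)) _ ?_ ?_
  · intro i hi
    by_cases h : i < -(n : ℤ)
    · haveI := SplitTrunc.isIso_homologyMap_truncLTι ω (-(n : ℤ) + 1) i (by omega)
      exact (hz i (Or.inl h)).of_iso (asIso ((homologyFunctor (ModuleCat.{u} A) i).map
        ((t.truncLTι (-(n : ℤ) + 1)).app ω)))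
    · exact DerivedCategory.isZero_of_isLE X₁ (-(n : ℤ) + 1 - 1) i (by omega)
  · haveI := SplitTrunc.isIso_homologyMap_truncLTι ω (-(n : ℤ) + 1) (-(n : ℤ)) (by omega)
    exact ⟨asIso ((homologyFunctor (ModuleCat.{u} A) (-(n : ℤ))).map
      ((t.truncLTι (-(n : ℤ) + 1)).app ω))⟩

omit [IsNoetherianRing A] [IsLocalRing A] in
lemma hom_zero_of_shift_zero {X Y : Dual.D A} (h : Subsingleton (X ⟶ Y⟦(0 : ℤ)⟧))
    (f : X ⟶ Y) : f = 0 := by
  have h1 : f ≫ (shiftFunctorZero (Dual.D A) ℤ).inv.app Y = 0 := h.elim _ _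
  have h2 : f = (f ≫ (shiftFunctorZero (Dual.D A) ℤ).inv.app Y) ≫
      (shiftFunctorZero (Dual.D A) ℤ).hom.app Y := by
    rw [Category.assoc, Iso.inv_hom_id_app]
    exact (Category.comp_id f).symm
  rw [h2, h1, zero_comp]

theorem main (ω : Dual.D A) (hω : Dual.IsDualizing A ω) (hn : Dual.IsNormalized A ω)
    (n : ℕ) (hd : ringKrullDim A = n) :
    (LocCoh.HasSk 2 A A →
      Function.Bijective (fun r : A => r • (LinearMap.id :
        Dual.HD A ω (-(n : ℤ)) →ₗ[A] Dual.HD A ω (-(n : ℤ))))) ∧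
    (LocCoh.HasSk 3 A A →
      Subsingleton (Dual.inD A (Dual.HD A ω (-(n : ℤ))) ⟶
        (Dual.inD A (Dual.HD A ω (-(n : ℤ))))⟦(1 : ℤ)⟧)) := by
  let t := DerivedCategory.TStructure.t (C := ModuleCat.{u} A)
  let T := (t.triangleLTGE (-(n : ℤ) + 1)).obj ω
  have hT : T ∈ distTriang _ := t.triangleLTGE_distinguished (-(n : ℤ) + 1) ω
  haveI h1LE : T.obj₁.IsLE (-(n : ℤ)) := by
    have : T.obj₁.IsLE (-(n : ℤ) + 1 - 1) := by dsimp [T]; infer_instance
    have e : -(n : ℤ) + 1 - 1 = -(n : ℤ) := by ring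
    rwa [e] at this
  haveI h3GE : T.obj₃.IsGE (-(n : ℤ) + 1) := by dsimp [T]; infer_instance
  let K' : ModuleCat.{u} A := (homologyFunctor (ModuleCat.{u} A) (-(n : ℤ))).obj ω
  let S := singleFunctor (ModuleCat.{u} A) (-(n : ℤ))
  constructor
  · intro hS2
    obtain ⟨e⟩ : Nonempty (T.obj₁ ≅ S.obj K') := X1_iso ω hω hn n hd hS2
    have h2 : ∀ f : T.obj₁ ⟶ T.obj₃⟦(-1 : ℤ)⟧, f = 0 := by
      intro f
      haveI : (T.obj₃⟦(-1 : ℤ)⟧).IsGE (-(n : ℤ) + 2) :=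
        t.isGE_shift T.obj₃ (-(n : ℤ) + 1) (-1) (-(n : ℤ) + 2) (by ring)
      exact t.zero f (-(n : ℤ)) (-(n : ℤ) + 2) (by omega)
    have h3 : ∀ f : T.obj₃ ⟶ T.obj₂, f = 0 :=
      hom_zero_of_shift_zero (Q_vanishing ω hω hn n hd hS2 2 (by norm_num) hS2 0 (by norm_num))
    have h4 : ∀ f : T.obj₃⟦(-1 : ℤ)⟧ ⟶ T.obj₂, f = 0 :=
      hom_zero_of_shift_zero (LDual.subsingleton_hom_shift_of _ ω (-1) 1 0 (by norm_num)
        (Q_vanishing ω hω hn n hd hS2 2 (by norm_num) hS2 1 (by norm_num)))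
    have hb := end_bijective A T hT h2 h3 h4 hω.toEnd_bijective
    have hlin : ∀ r : A, S.map (r • 𝟙 K') = r • 𝟙 (S.obj K') := by
      intro r
      rw [Functor.map_smul, S.map_id]
    have hconj : ∀ r : A, e.inv ≫ (r • 𝟙 T.obj₁) ≫ e.hom = r • 𝟙 (S.obj K') := by
      intro r
      rw [Linear.smul_comp, Category.id_comp, Linear.comp_smul, Iso.inv_hom_id]
    constructor
    · intro r s hrs
      apply hb.1
      have h5 : r • 𝟙 K' = s • 𝟙 K' := by
        apply ModuleCat.hom_ext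
        exact hrs
      have h6 : r • 𝟙 (S.obj K') = s • 𝟙 (S.obj K') := by
        rw [← hlin, ← hlin, h5]
      change r • 𝟙 T.obj₁ = s • 𝟙 T.obj₁
      have h7 : ∀ r : A, r • 𝟙 T.obj₁ = e.hom ≫ (r • 𝟙 (S.obj K')) ≫ e.inv := by
        intro r
        rw [Linear.smul_comp, Category.id_comp, Linear.comp_smul, Iso.hom_inv_id]
      rw [h7 r, h7 s, h6]
    · intro g
      obtain ⟨r, hr⟩ := hb.2 (e.hom ≫ S.map (ModuleCat.ofHom g) ≫ e.inv)
      refine ⟨r, ?_⟩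
      have h8 : S.map (ModuleCat.ofHom g) = S.map (r • 𝟙 K') := by
        rw [hlin, ← hconj r]
        change _ = e.inv ≫ (fun r : A => r • 𝟙 T.obj₁) r ≫ e.hom
        rw [hr]
        simp
      have h9 := S.map_injective h8
      have h10 := congrArg ModuleCat.Hom.hom h9
      exact h10.symm
  · intro hS3
    have hS2 : LocCoh.HasSk 2 A A := by
      intro p _
      refine le_trans (min_le_min_right _ ?_) (hS3 p)
      exact_mod_cast (by norm_num : (2 : ℕ) ≤ 3)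
    obtain ⟨e⟩ : Nonempty (T.obj₁ ≅ S.obj K') := X1_iso ω hω hn n hd hS2
    have h1 : ∀ f : T.obj₁ ⟶ T.obj₃, f = 0 := fun f =>
      t.zero f (-(n : ℤ)) (-(n : ℤ) + 1) (by omega)
    have h5 : ∀ f : T.obj₂ ⟶ T.obj₂⟦(1 : ℤ)⟧, f = 0 := fun f =>
      (hω.ext_self_subsingleton 1 (by norm_num)).elim f 0
    have h6 : ∀ f : T.obj₃⟦(-1 : ℤ)⟧ ⟶ T.obj₂⟦(1 : ℤ)⟧, f = 0 := fun f =>
      (LDual.subsingleton_hom_shift_of _ ω (-1) 2 1 (by norm_num)
        (Q_vanishing ω hω hn n hd hS2 3 (by norm_num) hS3 2 (by norm_num))).elim f 0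
    have hX := ext1_zero T hT h1 h5 h6
    let Y : Dual.D A := Dual.inD A (Dual.HD A ω (-(n : ℤ)))
    let e' : T.obj₁ ≅ Y⟦(n : ℤ)⟧ := e ≪≫
      (((singleFunctors (ModuleCat.{u} A)).shiftIso (n : ℤ) (-(n : ℤ)) 0 (by simp)).app K').symm
    refine ⟨fun f g => ?_⟩
    have key : ∀ f : Y ⟶ Y⟦(1 : ℤ)⟧, f = 0 := by
      intro f
      have h7 := hX (e'.hom ≫ f⟦(n : ℤ)⟧' ≫ (shiftComm Y 1 (n : ℤ)).hom ≫ e'.inv⟦(1 : ℤ)⟧')
      have h8 : f⟦(n : ℤ)⟧' = 0 := by
        have h9 : f⟦(n : ℤ)⟧' = e'.inv ≫ (e'.hom ≫ f⟦(n : ℤ)⟧' ≫ (shiftComm Y 1 (n : ℤ)).hom ≫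
            e'.inv⟦(1 : ℤ)⟧') ≫ e'.hom⟦(1 : ℤ)⟧' ≫ (shiftComm Y 1 (n : ℤ)).inv := by
          simp only [Category.assoc, Iso.inv_hom_id_assoc]
          rw [← Functor.map_comp_assoc, Iso.inv_hom_id, CategoryTheory.Functor.map_id,
            Category.id_comp, Iso.hom_inv_id]
          exact (Category.comp_id _).symm
        rw [h9, h7, zero_comp, comp_zero]
      exact (shiftFunctor (Dual.D A) (n : ℤ)).map_injective (by rw [h8, Functor.map_zero])
    rw [key f, key g]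

end Groth.Agent.Lib.helper19.QGorAff3
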