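import Mathlib
import Groth.Prelude.Def_W4c6intromoduliQuartic

/-! Helper lemmas on split binary quartics (coefficients from roots). -/

set_option autoImplicit false
universe u

namespace Groth.Agent.Lib.helper19

open Polynomial in
theorem quartic_rootPoly_eq {R : Type u} [CommRing R] (la mu : Fin 4 → R) :
    W4c6intromoduli.rootPoly la mu =
      C (mu 0 * mu 1 * mu 2 * mu 3)
      + C (-(la 0 * mu 1 * mu 2 * mu 3 + mu 0 * la 1 * mu 2 * mu 3 + mu 0 * mu 1 * la 2 * mu 3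
          + mu 0 * mu 1 * mu 2 * la 3)) * X
      + C (la 0 * la 1 * mu 2 * mu 3 + la 0 * mu 1 * la 2 * mu 3 + la 0 * mu 1 * mu 2 * la 3
          + mu 0 * la 1 * la 2 * mu 3 + mu 0 * la 1 * mu 2 * la 3 + mu 0 * mu 1 * la 2 * la 3) * X ^ 2
      + C (-(la 0 * la 1 * la 2 * mu 3 + la 0 * la 1 * mu 2 * la 3 + la 0 * mu 1 * la 2 * la 3
          + mu 0 * la 1 * la 2 * la 3)) * X ^ 3
      + C (la 0 * la 1 * la 2 * la 3) * X ^ 4 := by
  simp only [W4c6intromoduli.rootPoly, Fin.prod_univ_four, map_mul, map_add, map_neg]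
  ring

open Polynomial in
theorem quartic_coeff_aux {R : Type u} [CommRing R] (e0 e1 e2 e3 e4 : R) :
    (C e0 + C e1 * X + C e2 * X ^ 2 + C e3 * X ^ 3 + C e4 * X ^ 4 : R[X]).coeff 0 = e0 ∧
    (C e0 + C e1 * X + C e2 * X ^ 2 + C e3 * X ^ 3 + C e4 * X ^ 4 : R[X]).coeff 1 = e1 ∧
    (C e0 + C e1 * X + C e2 * X ^ 2 + C e3 * X ^ 3 + C e4 * X ^ 4 : R[X]).coeff 2 = e2 ∧
    (C e0 + C e1 * X + C e2 * X ^ 2 + C e3 * X ^ 3 + C e4 * X ^ 4 : R[X]).coeff 3 = e3 ∧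
    (C e0 + C e1 * X + C e2 * X ^ 2 + C e3 * X ^ 3 + C e4 * X ^ 4 : R[X]).coeff 4 = e4 := by
  refine ⟨?_, ?_, ?_, ?_, ?_⟩ <;>
    simp [Polynomial.coeff_X, Polynomial.coeff_X_pow, Polynomial.coeff_C_mul]

theorem quartic_coef_zero {R : Type u} [CommRing R] (la mu : Fin 4 → R) :
    W4c6intromoduli.coef la mu 0 = mu 0 * mu 1 * mu 2 * mu 3 := by
  rw [W4c6intromoduli.coef, quartic_rootPoly_eq]; exact (quartic_coeff_aux _ _ _ _ _).1

theorem quartic_coef_one {R : Type u} [CommRing R] (la mu : Fin 4 → R) :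
    W4c6intromoduli.coef la mu 1 = -(la 0 * mu 1 * mu 2 * mu 3 + mu 0 * la 1 * mu 2 * mu 3
      + mu 0 * mu 1 * la 2 * mu 3 + mu 0 * mu 1 * mu 2 * la 3) := by
  rw [W4c6intromoduli.coef, quartic_rootPoly_eq]; exact (quartic_coeff_aux _ _ _ _ _).2.1

theorem quartic_coef_two {R : Type u} [CommRing R] (la mu : Fin 4 → R) :
    W4c6intromoduli.coef la mu 2 = la 0 * la 1 * mu 2 * mu 3 + la 0 * mu 1 * la 2 * mu 3
      + la 0 * mu 1 * mu 2 * la 3 + mu 0 * la 1 * la 2 * mu 3 + mu 0 * la 1 * mu 2 * la 3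
      + mu 0 * mu 1 * la 2 * la 3 := by
  rw [W4c6intromoduli.coef, quartic_rootPoly_eq]; exact (quartic_coeff_aux _ _ _ _ _).2.2.1

theorem quartic_coef_three {R : Type u} [CommRing R] (la mu : Fin 4 → R) :
    W4c6intromoduli.coef la mu 3 = -(la 0 * la 1 * la 2 * mu 3 + la 0 * la 1 * mu 2 * la 3
      + la 0 * mu 1 * la 2 * la 3 + mu 0 * la 1 * la 2 * la 3) := by
  rw [W4c6intromoduli.coef, quartic_rootPoly_eq]; exact (quartic_coeff_aux _ _ _ _ _).2.2.2.1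

theorem quartic_coef_four {R : Type u} [CommRing R] (la mu : Fin 4 → R) :
    W4c6intromoduli.coef la mu 4 = la 0 * la 1 * la 2 * la 3 := by
  rw [W4c6intromoduli.coef, quartic_rootPoly_eq]; exact (quartic_coeff_aux _ _ _ _ _).2.2.2.2

theorem quartic_disc_eq {R : Type u} [CommRing R] (la mu : Fin 4 → R) :
    W4c6intromoduli.disc la mu =
      (la 1 * mu 0 - la 0 * mu 1) ^ 2 * (la 2 * mu 0 - la 0 * mu 2) ^ 2 *
      (la 3 * mu 0 - la 0 * mu 3) ^ 2 * (la 2 * mu 1 - la 1 * mu 2) ^ 2 *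
      (la 3 * mu 1 - la 1 * mu 3) ^ 2 * (la 3 * mu 2 - la 2 * mu 3) ^ 2 := by
  simp only [W4c6intromoduli.disc, Finset.prod_filter, Fintype.prod_prod_type, Fin.prod_univ_four]
  simp
  ring

/-- `2 I = A² + B² + C²` for the three cross products `A, B, C` of root differences. -/
theorem quartic_two_invI {R : Type u} [CommRing R] (la mu : Fin 4 → R) :
    2 * W4c6intromoduli.invI (W4c6intromoduli.coef la mu) =
      ((la 0 * mu 1 - la 1 * mu 0) * (la 2 * mu 3 - la 3 * mu 2)) ^ 2 +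
      ((la 0 * mu 2 - la 2 * mu 0) * (la 3 * mu 1 - la 1 * mu 3)) ^ 2 +
      ((la 0 * mu 3 - la 3 * mu 0) * (la 1 * mu 2 - la 2 * mu 1)) ^ 2 := by
  simp only [W4c6intromoduli.invI, quartic_coef_zero, quartic_coef_one, quartic_coef_two,
    quartic_coef_three, quartic_coef_four]
  ring

/-- `J = (A - B)(B - C)(C - A)`. -/
theorem quartic_invJ {R : Type u} [CommRing R] (la mu : Fin 4 → R) :
    W4c6intromoduli.invJ (W4c6intromoduli.coef la mu) =
      ((la 0 * mu 1 - la 1 * mu 0) * (la 2 * mu 3 - la 3 * mu 2) -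
        (la 0 * mu 2 - la 2 * mu 0) * (la 3 * mu 1 - la 1 * mu 3)) *
      ((la 0 * mu 2 - la 2 * mu 0) * (la 3 * mu 1 - la 1 * mu 3) -
        (la 0 * mu 3 - la 3 * mu 0) * (la 1 * mu 2 - la 2 * mu 1)) *
      ((la 0 * mu 3 - la 3 * mu 0) * (la 1 * mu 2 - la 2 * mu 1) -
        (la 0 * mu 1 - la 1 * mu 0) * (la 2 * mu 3 - la 3 * mu 2)) := by
  simp only [W4c6intromoduli.invJ, quartic_coef_zero, quartic_coef_one, quartic_coef_two,
    quartic_coef_three, quartic_coef_four]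
  ring

/-- Plücker relation `A + B + C = 0`. -/
theorem quartic_plucker {R : Type u} [CommRing R] (la mu : Fin 4 → R) :
    (la 0 * mu 1 - la 1 * mu 0) * (la 2 * mu 3 - la 3 * mu 2) +
      (la 0 * mu 2 - la 2 * mu 0) * (la 3 * mu 1 - la 1 * mu 3) +
      (la 0 * mu 3 - la 3 * mu 0) * (la 1 * mu 2 - la 2 * mu 1) = 0 := by
  ring

end Groth.Agent.Lib.helper19
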