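import Mathlib
import Groth.Agent.Lib.Helper19.Ratliff3
import Groth.Agent.Lib.Helper24.IntegralHensel
import Groth.Agent.Lib.Helper24.RegUnram1

/-!
# Ratliff's key lemma without catenarity, and the henselian case (helper19)

* `exists_isMaximal_height_le`: for `B` finite over a local ring `A` and `R` a flat local
  Noetherian `A`-algebra, every maximal ideal `N` of `R ⊗ B` contracts to a maximal ideal `n` of `B`
  with `ht n ≤ ht N`;
* `exists_finite_ext`: if the completion of a Noetherian local domain `A` (not a field) has a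
  minimal prime of coheight one, there is a finite domain `B ⊇ A` (inside `Frac A`, in fact
  `End_A(𝔞)`) with a maximal ideal of height at most one;
* `key_henselian`: a henselian Noetherian local domain whose completion has a minimal prime of
  coheight one has dimension at most one.
-/

set_option autoImplicit false
universe u

open TensorProduct IsLocalRing

namespace Groth.Agent.Lib.helper19.Ratliff5

section General

variable {A : Type u} [CommRing A] [IsNoetherianRing A] [IsLocalRing A]
  {R : Type u} [CommRing R] [IsNoetherianRing R] [IsLocalRing R] [Algebra A R] [Module.Flat A R]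
  [IsLocalHom (algebraMap A R)]
  (B : Type u) [CommRing B] [Algebra A B] [Module.Finite A B]

attribute [local instance] Algebra.TensorProduct.rightAlgebra

theorem exists_isMaximal_height_le (N : Ideal (R ⊗[A] B)) (hN : N.IsMaximal) :
    ∃ n : Ideal B, n.IsMaximal ∧ n.height ≤ N.height := by
  haveI : Module.Flat B (R ⊗[A] B) :=
    Module.Flat.isBaseChange (R := A) (M := R) (S := B) (N := R ⊗[A] B)
      (Algebra.IsPushout.out (R := A) (S := B) (R' := R) (S' := R ⊗[A] B))
  haveI : IsNoetherianRing (R ⊗[A] B) := IsNoetherianRing.of_finite R (R ⊗[A] B)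
  haveI : IsNoetherianRing B := IsNoetherianRing.of_finite A B
  haveI := hN.isPrime
  have hNR : N.comap (algebraMap R (R ⊗[A] B)) = maximalIdeal R :=
    IsLocalRing.eq_maximalIdeal (Ideal.isMaximal_comap_of_isIntegral_of_isMaximal N)
  have hNA : N.comap (algebraMap A (R ⊗[A] B)) = maximalIdeal A := by
    rw [IsScalarTower.algebraMap_eq A R (R ⊗[A] B), ← Ideal.comap_comap, hNR]
    exact ((IsLocalRing.local_hom_TFAE (algebraMap A R)).out 0 4).mp
      (inferInstance : IsLocalHom (algebraMap A R))
  haveI hnp : (N.comap (algebraMap B (R ⊗[A] B))).IsPrime := Ideal.comap_isPrime _ N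
  have hnA : (N.comap (algebraMap B (R ⊗[A] B))).comap (algebraMap A B) = maximalIdeal A := by
    rw [Ideal.comap_comap, ← IsScalarTower.algebraMap_eq A B (R ⊗[A] B), hNA]
  have hnmax : (N.comap (algebraMap B (R ⊗[A] B))).IsMaximal :=
    Ideal.isMaximal_of_isIntegral_of_isMaximal_comap _ (hnA ▸ maximalIdeal.isMaximal A)
  haveI : N.LiesOver (N.comap (algebraMap B (R ⊗[A] B))) := ⟨rfl⟩
  refine ⟨N.comap (algebraMap B (R ⊗[A] B)), hnmax, ?_⟩
  rw [Ideal.height_eq_height_add_of_liesOver_of_hasGoingDown
    (N.comap (algebraMap B (R ⊗[A] B))) N]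
  exact le_self_add

end General

section Key

variable (A : Type u) [CommRing A] [IsDomain A] [IsNoetherianRing A] [IsLocalRing A]

local notation "Â" => AdicCompletion (maximalIdeal A) A

/-- Ratliff's key lemma in its classical form. -/
theorem exists_finite_ext (hm : maximalIdeal A ≠ ⊥) (𝔓 : Ideal Â) (h𝔓 : 𝔓 ∈ minimalPrimes Â)
    (hdim : ringKrullDim (Â ⧸ 𝔓) = 1) :
    ∃ (B : Type u) (_ : CommRing B) (_ : IsDomain B) (_ : Algebra A B) (_ : FaithfulSMul A B)
      (_ : Module.Finite A B) (n : Ideal B), n.IsMaximal ∧ n.height ≤ 1 := by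
  haveI : IsNoetherianRing Â := Groth.Agent.Lib.helper24.SemiCplDim2.isNoetherianRing_cpl A _
  haveI : 𝔓.IsPrime := h𝔓.1.1
  haveI : IsLocalHom (algebraMap A Â) := by
    apply ((IsLocalRing.local_hom_TFAE _).out 0 2).mpr
    rw [← AdicCompletion.maximalIdeal_eq_map]
  obtain ⟨a, ham, ha0⟩ := Submodule.exists_mem_ne_zero_of_ne_bot hm
  have hxM : algebraMap A Â a ∈ maximalIdeal Â := by
    rw [AdicCompletion.maximalIdeal_eq_map]; exact Ideal.mem_map_of_mem _ ham
  have hx : algebraMap A Â a ∈ nonZeroDivisors Â := by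
    have hreg : IsSMulRegular Â (algebraMap A Â a) :=
      IsSMulRegular.of_flat (fun y z h => mul_left_cancel₀ ha0 h)
    rw [mem_nonZeroDivisors_iff_right]
    intro z hz
    apply hreg
    show algebraMap A Â a * z = algebraMap A Â a * 0
    rw [mul_zero, mul_comm]
    exact hz
  obtain ⟨Q, J, l, hQJ, hl, hJ, hVQ⟩ := Ratliff1.exists_decomposition 𝔓 h𝔓
    (fun P hP h𝔓P => Ratliff3.eq_or_eq_of_dim_quot_eq_one 𝔓 hdim P h𝔓P) _ hxM hx
  have hext : ((Q ⊔ J).comap (algebraMap A Â)).map (algebraMap A Â) = Q ⊔ J := by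
    apply Ratliff3.map_comap_eq_of_pow_le (maximalIdeal A) (IsNoetherian.noetherian _) (Q ⊔ J) l
    rw [Ideal.map_pow, ← AdicCompletion.maximalIdeal_eq_map]; exact hl
  have h𝔞0 : (Q ⊔ J).comap (algebraMap A Â) ≠ ⊥ := by
    intro h0
    rw [h0, Ideal.map_bot] at hext
    exact hJ (le_bot_iff.mp (le_sup_right.trans hext.ge))
  obtain ⟨B, _, _, _, _, _, e, he, he0, heQ⟩ :=
    Ratliff2.exists_idempotent_transfer _ h𝔞0 Q J hQJ hext.symm hJ
  obtain ⟨N, hN, hNh⟩ := Ratliff1.exists_isMaximal_height_le_one (R := Â) (S := Â ⊗[A] B) e he he0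
    Q 𝔓 (maximalIdeal Â) heQ hVQ (IsLocalRing.le_maximalIdeal (Ideal.IsPrime.ne_top inferInstance))
  obtain ⟨n, hn, hnh⟩ := exists_isMaximal_height_le (A := A) (R := Â) B N hN
  exact ⟨B, inferInstance, inferInstance, inferInstance, inferInstance, inferInstance, n, hn,
    hnh.trans hNh⟩

end Key

/-- A henselian Noetherian local domain whose completion has a minimal prime of coheight one has
dimension at most one. -/
theorem key_henselian (A : Type u) [CommRing A] [IsDomain A] [IsNoetherianRing A]
    [HenselianLocalRing A] (𝔓 : Ideal (AdicCompletion (maximalIdeal A) A))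
    (h𝔓 : 𝔓 ∈ minimalPrimes (AdicCompletion (maximalIdeal A) A))
    (hdim : ringKrullDim (AdicCompletion (maximalIdeal A) A ⧸ 𝔓) = 1) : ringKrullDim A ≤ 1 := by
  by_cases hm : maximalIdeal A = ⊥
  · rw [← IsLocalRing.maximalIdeal_height_eq_ringKrullDim, hm, Ideal.height_bot]; norm_num
  obtain ⟨B, _, _, _, _, _, n, hn, hnh⟩ := exists_finite_ext A hm 𝔓 h𝔓 hdim
  haveI : IsLocalRing B :=
    Groth.Agent.Lib.Helper24.IntegralHensel.isLocalRing_of_isDomain_of_isIntegral A B
  have h1 : ringKrullDim A ≤ ringKrullDim B :=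
    Groth.Agent.Lib.Helper24.RegUnram.ringKrullDim_le_of_isIntegral_of_injective
      (algebraMap A B) (algebraMap_isIntegral_iff.mpr inferInstance)
      (FaithfulSMul.algebraMap_injective A B)
  have h2 : n = maximalIdeal B := IsLocalRing.eq_maximalIdeal hn
  rw [h2] at hnh
  rw [← IsLocalRing.maximalIdeal_height_eq_ringKrullDim (R := B)] at h1
  exact h1.trans (by exact_mod_cast hnh)

end Groth.Agent.Lib.helper19.Ratliff5
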