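import Mathlib
import Groth.Prelude.Def_Wider
import Groth.Agent.Lib.Helper19.Refl1
set_option autoImplicit false

/-! # Torsionless and reflexive modules over finite reduced algebras over a PID (helper19)

* `exists_injective_of_eval_injective` : a torsionless module with finitely generated dual embeds
  into a finite free module.
* `free_of_eval_injective` : `S` finite free over the PID `Λ`, `M` finite torsionless ⇒ `M` is `Λ`-free.
* `eval_injective_of_torsionFree` : `S` finite reduced over the domain `Λ`, `M` finite and
  `Λ`-torsion-free ⇒ `M` torsionless (via semisimplicity of `S ⊗ Frac Λ`).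
* `ringKrullDim_le_one_of_finite` : `S` finite over a PID has dimension `≤ 1`.
* `isReflexive_iff_free` : the Gorenstein case.
-/

universe u

namespace Groth.Agent.Lib.helper19.Refl
open CategoryTheory

section A
variable {S : Type u} [CommRing S]

/-- a torsionless module with finitely generated dual embeds into a finite free module -/
theorem exists_injective_of_eval_injective (M : Type u) [AddCommGroup M] [Module S M]
    [Module.Finite S (Module.Dual S M)]
    (h : Function.Injective (Module.Dual.eval S M)) :
    ∃ (n : ℕ) (j : M →ₗ[S] (Fin n → S)), Function.Injective j := by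
  obtain ⟨n, φ, hφ⟩ := Module.Finite.exists_fin (R := S) (M := Module.Dual S M)
  refine ⟨n, LinearMap.pi φ, ?_⟩
  rw [injective_iff_map_eq_zero]
  intro m hm
  apply (injective_iff_map_eq_zero _).1 h
  apply LinearMap.ext
  intro ψ
  rw [Module.Dual.eval_apply, LinearMap.zero_apply]
  have hψ : ψ ∈ Submodule.span S (Set.range φ) := hφ ▸ Submodule.mem_top
  induction hψ using Submodule.span_induction with
  | mem x hx =>
    obtain ⟨i, rfl⟩ := hx
    have := congrFun hm i
    simpa using this
  | zero => rfl
  | add x y _ _ hx hy => rw [LinearMap.add_apply, hx, hy, add_zero]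
  | smul a x _ hx => rw [LinearMap.smul_apply, hx, smul_zero]

end A

section B
variable (Λ : Type u) [CommRing Λ] [IsDomain Λ] [IsPrincipalIdealRing Λ]
    (S : Type u) [CommRing S] [Algebra Λ S] [Module.Finite Λ S] [Module.Free Λ S]
    (M : Type u) [AddCommGroup M] [Module S M] [Module Λ M] [IsScalarTower Λ S M] [Module.Finite S M]

include S in
theorem free_of_eval_injective (h : Function.Injective (Module.Dual.eval S M)) :
    Module.Free Λ M := by
  haveI : IsNoetherianRing S := IsNoetherianRing.of_finite Λ S
  obtain ⟨n, j, hj⟩ := exists_injective_of_eval_injective M h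
  haveI : Module.Finite Λ M := Module.Finite.trans S M
  haveI : Module.IsTorsionFree Λ M :=
    Function.Injective.moduleIsTorsionFree (j.restrictScalars Λ) hj (fun c m => by simp)
  infer_instance

end B

section C
variable (Λ : Type u) [CommRing Λ] [IsDomain Λ]
    (S : Type u) [CommRing S] [Algebra Λ S] [Module.Finite Λ S] [IsReduced S]
    (M : Type u) [AddCommGroup M] [Module S M] [Module Λ M] [IsScalarTower Λ S M] [Module.Finite S M]

/-- if `S` is finite and reduced over the domain `Λ`, then a finite `S`-module which is `Λ`-torsion-free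
is torsionless -/
theorem eval_injective_of_torsionFree [IsNoetherianRing S] [Module.IsTorsionFree Λ M] :
    Function.Injective (Module.Dual.eval S M) := by
  classical
  let T : Submonoid S := Algebra.algebraMapSubmonoid S (nonZeroDivisors Λ)
  let ST := Localization T
  let K := FractionRing Λ
  haveI : Module.Finite K ST := inferInstance
  haveI : IsReduced ST := inferInstance
  haveI : IsArtinianRing ST := IsArtinianRing.of_finite K ST
  haveI : IsSemisimpleRing ST := IsArtinianRing.isSemisimpleRing_of_isReduced ST
  let MT := LocalizedModule T M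
  haveI : Module.Projective ST MT := Module.projective_of_isSemisimpleRing ST MT
  obtain ⟨σ, hσ⟩ := (Module.projective_def' (R := ST) (P := MT)).1 inferInstance
  haveI : Module.FinitePresentation S M := Module.finitePresentation_of_finite S M
  rw [injective_iff_map_eq_zero]
  intro m hm
  by_contra hne
  -- `m/1 ≠ 0`
  have h1 : LocalizedModule.mkLinearMap T M m ≠ 0 := by
    intro h0
    obtain ⟨t, ht⟩ := (IsLocalizedModule.eq_zero_iff T (LocalizedModule.mkLinearMap T M)).1 h0
    obtain ⟨c, hc, hct⟩ := t.2
    have h2 : c • m = 0 := by
      rw [← algebraMap_smul S c m, hct]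
      exact ht
    exact hne ((smul_eq_zero_iff_right (nonZeroDivisors.ne_zero hc)).1 h2)
  have h2 : σ (LocalizedModule.mkLinearMap T M m) ≠ 0 := by
    intro h0
    apply h1
    have := LinearMap.congr_fun hσ (LocalizedModule.mkLinearMap T M m)
    rw [LinearMap.comp_apply, h0, map_zero] at this
    exact this.symm
  obtain ⟨x, hx⟩ := Finsupp.ne_iff.1 h2
  rw [Finsupp.zero_apply] at hx
  let ψ : M →ₗ[S] ST := ((Finsupp.lapply (R := ST) (M := ST) x).restrictScalars S) ∘ₗ
    (σ.restrictScalars S) ∘ₗ LocalizedModule.mkLinearMap T M
  obtain ⟨h, s, hs⟩ := Module.FinitePresentation.exists_lift_of_isLocalizedModule T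
    (Algebra.linearMap S ST) ψ
  have h3 : algebraMap S ST (h m) = s • ψ m := by
    have := LinearMap.congr_fun hs m
    simpa using this
  have h4 : h m = 0 := by
    have := LinearMap.congr_fun hm h
    simpa using this
  rw [h4, map_zero] at h3
  have h5 : ψ m = 0 := by
    have hu : IsUnit (algebraMap S ST s.1) := IsLocalization.map_units ST s
    have h6 : algebraMap S ST s.1 * ψ m = 0 := by
      rw [← Algebra.smul_def]
      exact h3.symm
    exact (hu.mul_right_eq_zero).1 h6
  exact hx h5

end C

section D

theorem ringKrullDim_le_of_isIntegral' {A B : Type*} [CommRing A] [CommRing B] (f : A →+* B)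
    (hf : f.IsIntegral) : ringKrullDim B ≤ ringKrullDim A := by
  algebraize [f]
  have : Algebra.IsIntegral A B := ⟨hf⟩
  refine Order.krullDim_le_of_strictMono
    (fun p : PrimeSpectrum B => PrimeSpectrum.comap (algebraMap A B) p) ?_
  intro p q hpq
  have : p.asIdeal < q.asIdeal := hpq
  exact Ideal.IsIntegral.comap_lt_comap (R := A) this

theorem ringKrullDim_le_one_of_finite (Λ : Type u) [CommRing Λ] [IsPrincipalIdealRing Λ]
    (S : Type u) [CommRing S] [Algebra Λ S] [Module.Finite Λ S] : ringKrullDim S ≤ 1 := by
  have h1 : ringKrullDim S ≤ ringKrullDim Λ :=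
    ringKrullDim_le_of_isIntegral' (algebraMap Λ S) (Algebra.IsIntegral.isIntegral (R := Λ) (A := S))
  have h2 : ringKrullDim Λ ≤ ((1 : ℕ) : WithBot ℕ∞) := Ring.krullDimLE_iff.1 inferInstance
  exact h1.trans (by exact_mod_cast h2)

variable (Λ : Type u) [CommRing Λ] [IsDomain Λ] [IsPrincipalIdealRing Λ]
    (S : Type u) [CommRing S] [Algebra Λ S] [Module.Finite Λ S] [Module.Free Λ S] [IsReduced S]
    (M : Type u) [AddCommGroup M] [Module S M] [Module Λ M] [IsScalarTower Λ S M] [Module.Finite S M]

theorem eval_injective_iff_free :
    Function.Injective (Module.Dual.eval S M) ↔ Module.Free Λ M := by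
  haveI : IsNoetherianRing S := IsNoetherianRing.of_finite Λ S
  constructor
  · exact free_of_eval_injective Λ S M
  · intro hfree
    exact eval_injective_of_torsionFree Λ S M

theorem isReflexive_iff_free [LocCoh.IsGorensteinRing S] :
    Module.IsReflexive S M ↔ Module.Free Λ M := by
  haveI : IsNoetherianRing S := IsNoetherianRing.of_finite Λ S
  rw [← eval_injective_iff_free Λ S M]
  constructor
  · intro h
    exact (Module.bijective_dual_eval S M).1
  · intro h
    exact isReflexive_of_eval_injective
      (hasInjectiveDimensionLE_of_gorenstein S 1 (by exact_mod_cast ringKrullDim_le_one_of_finite Λ S)) M h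

end D

end Groth.Agent.Lib.helper19.Refl
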