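import Mathlib
import Groth.Prelude.Def_Wider
import Groth.Agent.Lib.Helper19.Refl2
set_option autoImplicit false

/-! # Reflexive modules with `End(M) = S` over reduced Gorenstein rings of dimension `≤ 1` (helper19)

* `exists_socle_elements` : in a reduced Noetherian local ring `(A, 𝔪)` of dimension `≤ 1` which is not
  a field there are a nonzerodivisor `x` and `y ∉ xA` with `𝔪 y ⊆ xA`.
* `nonempty_equiv_of_local` : over such a ring (or a field) a reflexive module `N` with `End(N) = A`
  is isomorphic to `A` (Bass).
* `eval_injective_localizedModule`, `algebraMap_end_bijective_localizedModule` : torsionlessness and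
  `End(M) = S` localize.
* `algebraMap_end_injective_of_locally_free`, `algebraMap_end_surjective_of_locally_free`.
* `locally_free_iff` : the statement of S17990.
-/

universe u

namespace Groth.Agent.Lib.helper19.Refl
open CategoryTheory

section L3
variable (A : Type u) [CommRing A] [IsNoetherianRing A] [IsReduced A]

/-- in a reduced ring, an element outside all minimal primes is a nonzerodivisor -/
theorem mem_nonZeroDivisors_of_forall_notMem_minimalPrimes {B : Type u} [CommRing B] [IsReduced B]
    (x : B) (hx : ∀ p ∈ minimalPrimes B, x ∉ p) : x ∈ nonZeroDivisors B := by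
  rw [mem_nonZeroDivisors_iff_right]
  intro z hz
  have h1 : z ∈ sInf (minimalPrimes B) := by
    rw [Ideal.mem_sInf]
    intro p hp
    haveI := Ideal.IsMinimalPrime.isPrime hp
    have : z * x ∈ p := by rw [hz]; exact p.zero_mem
    exact (Ideal.IsPrime.mem_or_mem ‹_› this).resolve_right (hx p hp)
  have h2 : sInf (minimalPrimes B) = ⊥ := by
    show sInf (⊥ : Ideal B).minimalPrimes = ⊥
    rw [Ideal.sInf_minimalPrimes]
    exact nilradical_eq_zero B
  rw [h2] at h1
  exact h1

variable [IsLocalRing A]

/-- a reduced Noetherian local ring which is not a field contains a nonzerodivisor in its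
maximal ideal avoiding all minimal primes -/
theorem exists_mem_maximalIdeal_notMem_minimalPrimes
    (hm : IsLocalRing.maximalIdeal A ≠ ⊥) :
    ∃ x ∈ IsLocalRing.maximalIdeal A, ∀ p ∈ minimalPrimes A, x ∉ p := by
  classical
  by_contra hcon
  push Not at hcon
  have hfin : (minimalPrimes A).Finite := minimalPrimes.finite_of_isNoetherianRing A
  have hsub : ((IsLocalRing.maximalIdeal A : Ideal A) : Set A) ⊆
      ⋃ p ∈ ((hfin.toFinset : Finset (Ideal A)) : Set (Ideal A)), (id p : Ideal A) := by
    intro x hx
    obtain ⟨p, hp, hxp⟩ := hcon x hx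
    simp only [Set.mem_iUnion]
    exact ⟨p, by simpa using hp, hxp⟩
  rw [Ideal.subset_union_prime (⊥ : Ideal A) ⊥] at hsub
  · obtain ⟨p, hp, hmp⟩ := hsub
    have hp' : p ∈ minimalPrimes A := by simpa using hp
    haveI hpp := Ideal.IsMinimalPrime.isPrime hp'
    have hpm : p = IsLocalRing.maximalIdeal A :=
      le_antisymm (IsLocalRing.le_maximalIdeal hpp.ne_top) hmp
    -- the maximal ideal is the only prime
    apply hm
    have h1 : nilradical A = IsLocalRing.maximalIdeal A := by
      rw [nilradical_eq_sInf]
      apply le_antisymm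
      · exact sInf_le (inferInstanceAs (IsLocalRing.maximalIdeal A).IsPrime)
      · apply le_sInf
        intro q hq
        have hq' : q.IsPrime := hq
        have hqm : q ≤ IsLocalRing.maximalIdeal A := IsLocalRing.le_maximalIdeal hq'.ne_top
        rw [← hpm] at hqm ⊢
        exact hp'.2 ⟨hq', bot_le⟩ hqm
    rw [← h1]
    exact nilradical_eq_zero A
  · intro p hp _ _
    have hp' : p ∈ minimalPrimes A := by simpa using hp
    exact Ideal.IsMinimalPrime.isPrime hp'

/-- the key elements for Bass' argument: `x` a nonzerodivisor, `y ∉ xA`, `𝔪 y ⊆ xA` -/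
theorem exists_socle_elements (hdim : ringKrullDim A ≤ 1)
    (hm : IsLocalRing.maximalIdeal A ≠ ⊥) :
    ∃ x ∈ nonZeroDivisors A, ∃ y : A, ¬ x ∣ y ∧ ∀ z ∈ IsLocalRing.maximalIdeal A, x ∣ z * y := by
  classical
  obtain ⟨x, hxm, hx⟩ := exists_mem_maximalIdeal_notMem_minimalPrimes A hm
  refine ⟨x, mem_nonZeroDivisors_of_forall_notMem_minimalPrimes x hx, ?_⟩
  haveI : Ring.KrullDimLE 1 A := Ring.krullDimLE_iff.2 (by exact_mod_cast hdim)
  have hrad : (Ideal.span {x}).radical = IsLocalRing.maximalIdeal A := by
    rw [Ideal.radical_eq_sInf]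
    apply le_antisymm
    · apply sInf_le
      exact ⟨(Ideal.span_singleton_le_iff_mem _).2 hxm, inferInstance⟩
    · apply le_sInf
      rintro q ⟨hxq, hq⟩
      have hxq' : x ∈ q := (Ideal.span_singleton_le_iff_mem _).1 hxq
      rcases Ring.krullDimLE_one_iff.1 ‹_› q hq with h | h
      · exact absurd hxq' (hx q h)
      · rw [IsLocalRing.eq_maximalIdeal h]
  obtain ⟨k, hk⟩ := Ideal.exists_radical_pow_le_of_fg (Ideal.span {x})
    (IsNoetherian.noetherian _)
  rw [hrad] at hk
  have hex : ∃ k, IsLocalRing.maximalIdeal A ^ k ≤ Ideal.span {x} := ⟨k, hk⟩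
  have hmin : ∀ {m : ℕ}, m < Nat.find hex → ¬ IsLocalRing.maximalIdeal A ^ m ≤ Ideal.span {x} :=
    fun {m} h => Nat.find_min hex h
  have hspec := Nat.find_spec hex
  set k0 := Nat.find hex with hk0
  have hk0ne : k0 ≠ 0 := by
    intro h0
    rw [h0, pow_zero, Ideal.one_eq_top, top_le_iff, Ideal.span_singleton_eq_top] at hspec
    exact (IsLocalRing.mem_maximalIdeal x).1 hxm hspec
  obtain ⟨k1, hk1⟩ := Nat.exists_eq_succ_of_ne_zero hk0ne
  have hnot : ¬ IsLocalRing.maximalIdeal A ^ k1 ≤ Ideal.span {x} := hmin (by omega)
  obtain ⟨y, hy1, hy2⟩ := SetLike.not_le_iff_exists.1 hnot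
  refine ⟨y, fun h => hy2 (Ideal.mem_span_singleton.2 h), ?_⟩
  intro z hz
  rw [← Ideal.mem_span_singleton]
  apply hspec
  rw [hk1, pow_succ']
  exact Ideal.mul_mem_mul hz hy1

end L3

section L4
variable {A : Type u} [CommRing A]
  {N : Type u} [AddCommGroup N] [Module A N]

/-- if some functional takes a unit value and `A = End(N)`, then `N ≅ A` -/
theorem nonempty_equiv_of_isUnit (hend : Function.Bijective (algebraMap A (Module.End A N)))
    (φ : Module.Dual A N) (u : N) (hu : IsUnit (φ u)) : Nonempty (N ≃ₗ[A] A) := by
  obtain ⟨r, hr⟩ := hend.2 ((LinearMap.toSpanSingleton A N u) ∘ₗ φ)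
  have hr' : ∀ v : N, r • v = φ v • u := by
    intro v
    have := LinearMap.congr_fun hr v
    simpa [Module.algebraMap_end_apply] using this
  have h1 : r = φ u := by
    have := congrArg φ (hr' u)
    rw [map_smul, map_smul, smul_eq_mul, smul_eq_mul] at this
    exact hu.mul_right_cancel this
  have hru : IsUnit r := h1 ▸ hu
  refine ⟨LinearEquiv.ofBijective φ ⟨?_, ?_⟩⟩
  · rw [injective_iff_map_eq_zero]
    intro v hv
    have h2 := hr' v
    rw [hv, zero_smul] at h2
    have h3 : (hru.unit⁻¹ : Aˣ).1 • r • v = 0 := by rw [h2, smul_zero]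
    rwa [smul_smul, IsUnit.val_inv_mul, one_smul] at h3
  · intro a
    refine ⟨(a * (hu.unit⁻¹ : Aˣ).1) • u, ?_⟩
    rw [map_smul, smul_eq_mul, mul_assoc, IsUnit.val_inv_mul, mul_one]

end L4

section L4b
variable {A : Type u} [CommRing A]
  {N : Type u} [AddCommGroup N] [Module A N]

/-- division of `y • u` by `x` in a reflexive module, when `x ∣ y φ(u)` for all functionals -/
theorem exists_end_of_dvd (hrefl : Function.Bijective (Module.Dual.eval A N))
    (x y : A) (hx : x ∈ nonZeroDivisors A)
    (hdiv : ∀ (φ : Module.Dual A N) (u : N), x ∣ y * φ u) :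
    ∃ ψ : Module.End A N, ∀ u, x • ψ u = y • u := by
  classical
  choose c hc using hdiv
  have hcancel : ∀ {a b : A}, x * a = x * b → a = b := fun {a b} h =>
    (mul_cancel_left_mem_nonZeroDivisors hx).1 h
  let ξ : N →ₗ[A] Module.Dual A (Module.Dual A N) :=
    LinearMap.mk₂ A (fun u φ => c φ u)
      (fun u₁ u₂ φ => hcancel (by rw [← hc, mul_add, ← hc, ← hc, map_add, mul_add]))
      (fun a u φ => hcancel (by
        rw [← hc, smul_eq_mul, mul_left_comm, ← hc, map_smul, smul_eq_mul, mul_left_comm]))
      (fun u φ₁ φ₂ => hcancel (by rw [← hc, mul_add, ← hc, ← hc, LinearMap.add_apply, mul_add]))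
      (fun a u φ => hcancel (by
        rw [← hc, smul_eq_mul, mul_left_comm, ← hc, LinearMap.smul_apply, smul_eq_mul,
          mul_left_comm]))
  let e := LinearEquiv.ofBijective (Module.Dual.eval A N) hrefl
  refine ⟨e.symm.toLinearMap ∘ₗ ξ, ?_⟩
  intro u
  apply hrefl.1
  rw [map_smul, map_smul]
  have h1 : Module.Dual.eval A N ((e.symm.toLinearMap ∘ₗ ξ) u) = ξ u := by
    rw [LinearMap.comp_apply, LinearEquiv.coe_coe]
    exact e.apply_symm_apply (ξ u)
  rw [h1]
  apply LinearMap.ext
  intro φ
  rw [LinearMap.smul_apply, LinearMap.smul_apply, Module.Dual.eval_apply, smul_eq_mul, smul_eq_mul]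
  exact (hc φ u).symm

end L4b

section L4c
variable (A : Type u) [CommRing A] [IsNoetherianRing A] [IsReduced A] [IsLocalRing A]
  (N : Type u) [AddCommGroup N] [Module A N]

/-- over a reduced Noetherian local ring of dimension `≤ 1`, a reflexive module with `End(N) = A`
is free of rank one -/
theorem nonempty_equiv_of_local (hdim : ringKrullDim A ≤ 1)
    (hrefl : Function.Bijective (Module.Dual.eval A N))
    (hend : Function.Bijective (algebraMap A (Module.End A N))) : Nonempty (N ≃ₗ[A] A) := by
  classical
  by_cases hunit : ∃ (φ : Module.Dual A N) (u : N), IsUnit (φ u)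
  · obtain ⟨φ, u, hu⟩ := hunit
    exact nonempty_equiv_of_isUnit hend φ u hu
  push Not at hunit
  exfalso
  have hmem : ∀ (φ : Module.Dual A N) (u : N), φ u ∈ IsLocalRing.maximalIdeal A :=
    fun φ u => (IsLocalRing.mem_maximalIdeal _).2 (hunit φ u)
  by_cases hm : IsLocalRing.maximalIdeal A = ⊥
  · have h0 : ∀ u : N, u = 0 := by
      intro u
      apply hrefl.1
      rw [map_zero]
      apply LinearMap.ext
      intro φ
      have := hmem φ u
      rw [hm] at this
      simpa using this
    have h1 : algebraMap A (Module.End A N) 1 = algebraMap A (Module.End A N) 0 := by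
      apply LinearMap.ext
      intro u
      rw [h0 u]
      simp
    exact one_ne_zero (hend.1 h1)
  · obtain ⟨x, hx, y, hxy, hy⟩ := exists_socle_elements A hdim hm
    obtain ⟨ψ, hψ⟩ := exists_end_of_dvd hrefl x y hx (fun φ u => by
      rw [mul_comm]; exact hy _ (hmem φ u))
    obtain ⟨a, ha⟩ := hend.2 ψ
    apply hxy
    refine ⟨a, ?_⟩
    apply hend.1
    apply LinearMap.ext
    intro u
    rw [Module.algebraMap_end_apply, Module.algebraMap_end_apply, ← hψ u, ← ha,
      Module.algebraMap_end_apply, smul_smul]

end L4c

section L1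
variable {S : Type u} [CommRing S] (T : Submonoid S)
  (M : Type u) [AddCommGroup M] [Module S M]

/-- a finite set of elements each killed by some element of `T` is killed by a common one -/
theorem exists_smul_eq_zero_of_forall {ι : Type*} [Finite ι] {X : Type*} [AddCommGroup X]
    [Module S X] (v : ι → X) (h : ∀ i, ∃ t : T, t • v i = 0) : ∃ t : T, ∀ i, t • v i = 0 := by
  classical
  haveI := Fintype.ofFinite ι
  choose t ht using h
  refine ⟨∏ i, t i, fun i => ?_⟩
  rw [← Finset.mul_prod_erase Finset.univ t (Finset.mem_univ i), mul_comm, mul_smul, ht, smul_zero]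

/-- torsionless modules localize (for finite modules over Noetherian rings) -/
theorem eval_injective_localizedModule [IsNoetherianRing S] [Module.Finite S M]
    (h : Function.Injective (Module.Dual.eval S M)) :
    Function.Injective (Module.Dual.eval (Localization T) (LocalizedModule T M)) := by
  classical
  obtain ⟨n, j, hj⟩ := exists_injective_of_eval_injective M h
  rw [injective_iff_map_eq_zero]
  intro z hz
  obtain ⟨⟨m, s⟩, rfl⟩ := IsLocalizedModule.mk'_surjective T (LocalizedModule.mkLinearMap T M) z
  rw [Function.uncurry_apply_pair] at hz ⊢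
  rw [IsLocalizedModule.mk'_eq_zero]
  -- functionals induced by the coordinates of `j`
  have hcoord : ∀ i : Fin n, ∃ t : T, t • (j m i) = 0 := by
    intro i
    let φ : M →ₗ[S] S := (LinearMap.proj i) ∘ₗ j
    let ξ : Module.Dual (Localization T) (LocalizedModule T M) :=
      (IsLocalizedModule.map T (LocalizedModule.mkLinearMap T M)
        (Algebra.linearMap S (Localization T)) φ).extendScalarsOfIsLocalization T (Localization T)
    have h1 : ξ (LocalizedModule.mkLinearMap T M m) = algebraMap S (Localization T) (j m i) := by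
      show (IsLocalizedModule.map T (LocalizedModule.mkLinearMap T M)
        (Algebra.linearMap S (Localization T)) φ) (LocalizedModule.mkLinearMap T M m) = _
      rw [IsLocalizedModule.map_apply]
      rfl
    have h2 : ξ (LocalizedModule.mkLinearMap T M m) = 0 := by
      have h3 : LocalizedModule.mkLinearMap T M m =
          algebraMap S (Localization T) s.1 •
            IsLocalizedModule.mk' (LocalizedModule.mkLinearMap T M) m s := by
        rw [algebraMap_smul, ← Submonoid.smul_def, IsLocalizedModule.mk'_cancel']
      rw [h3, map_smul]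
      have := LinearMap.congr_fun hz ξ
      rw [Module.Dual.eval_apply, LinearMap.zero_apply] at this
      rw [this, smul_zero]
    rw [h1] at h2
    obtain ⟨t, ht⟩ := (IsLocalization.map_eq_zero_iff T (Localization T) (j m i)).1 h2
    exact ⟨t, by rw [Submonoid.smul_def, smul_eq_mul]; exact ht⟩
  obtain ⟨t, ht⟩ := exists_smul_eq_zero_of_forall T (fun i => j m i) hcoord
  have h4 : t • m = 0 := by
    apply hj
    rw [map_zero, Submonoid.smul_def, map_smul]
    funext i
    exact ht i
  rw [IsLocalizedModule.eq_zero_iff T]
  exact ⟨t, h4⟩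

end L1

section L2
variable {S : Type u} [CommRing S] (T : Submonoid S)
  (M : Type u) [AddCommGroup M] [Module S M]

/-- `End(M) = S` localizes -/
theorem algebraMap_end_bijective_localizedModule [IsNoetherianRing S] [Module.Finite S M]
    (hend : Function.Bijective (algebraMap S (Module.End S M))) :
    Function.Bijective (algebraMap (Localization T)
      (Module.End (Localization T) (LocalizedModule T M))) := by
  classical
  haveI : Module.FinitePresentation S M := Module.finitePresentation_of_finite S M
  constructor
  · rw [injective_iff_map_eq_zero]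
    intro a ha
    obtain ⟨s, t, rfl⟩ := IsLocalization.exists_mk'_eq T a
    rw [IsLocalization.mk'_eq_zero_iff]
    obtain ⟨n, g, hg⟩ := Module.Finite.exists_fin (R := S) (M := M)
    have h1 : ∀ i : Fin n, ∃ t' : T, t' • (s • g i) = 0 := by
      intro i
      rw [← IsLocalizedModule.eq_zero_iff T (LocalizedModule.mkLinearMap T M)]
      have h2 := LinearMap.congr_fun ha (LocalizedModule.mkLinearMap T M (g i))
      rw [Module.algebraMap_end_apply, LinearMap.zero_apply] at h2
      have h3 : algebraMap S (Localization T) t.1 •
          (IsLocalization.mk' (Localization T) s t • LocalizedModule.mkLinearMap T M (g i)) = 0 := by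
        rw [h2, smul_zero]
      rw [smul_smul, IsLocalization.mk'_spec', algebraMap_smul, ← map_smul] at h3
      exact h3
    obtain ⟨t', ht'⟩ := exists_smul_eq_zero_of_forall T (fun i => s • g i) h1
    refine ⟨t', ?_⟩
    have h4 : algebraMap S (Module.End S M) (t'.1 * s) = 0 := by
      apply LinearMap.ext
      intro m
      rw [Module.algebraMap_end_apply, LinearMap.zero_apply]
      have hm : m ∈ Submodule.span S (Set.range g) := hg ▸ Submodule.mem_top
      induction hm using Submodule.span_induction with
      | mem x hx =>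
        obtain ⟨i, rfl⟩ := hx
        rw [mul_smul]
        exact ht' i
      | zero => rw [smul_zero]
      | add x y _ _ hx hy => rw [smul_add, hx, hy, add_zero]
      | smul c x _ hx => rw [smul_comm, hx, smul_zero]
    exact hend.1 (by rw [h4, map_zero])
  · intro ψ
    obtain ⟨h, s, hs⟩ := Module.FinitePresentation.exists_lift_of_isLocalizedModule T
      (LocalizedModule.mkLinearMap T M)
      ((ψ.restrictScalars S) ∘ₗ LocalizedModule.mkLinearMap T M)
    obtain ⟨a, ha⟩ := hend.2 h
    refine ⟨IsLocalization.mk' (Localization T) a s, ?_⟩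
    have key : ((algebraMap (Localization T) (Module.End (Localization T) (LocalizedModule T M))
        (IsLocalization.mk' (Localization T) a s)).restrictScalars S) = ψ.restrictScalars S := by
      apply IsLocalizedModule.linearMap_ext T (LocalizedModule.mkLinearMap T M)
        (LocalizedModule.mkLinearMap T M)
      apply LinearMap.ext
      intro m
      have h5 := LinearMap.congr_fun hs m
      rw [LinearMap.comp_apply, ← ha, Module.algebraMap_end_apply, LinearMap.smul_apply,
        LinearMap.comp_apply, LinearMap.restrictScalars_apply] at h5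
      rw [LinearMap.comp_apply, LinearMap.comp_apply, LinearMap.restrictScalars_apply,
        LinearMap.restrictScalars_apply, Module.algebraMap_end_apply]
      -- cancel the unit `s`
      have hu := IsLocalizedModule.map_units (LocalizedModule.mkLinearMap T M) s
      apply ((Module.End.isUnit_iff _).1 hu).1
      rw [Module.algebraMap_end_apply, Module.algebraMap_end_apply, ← Submonoid.smul_def s
        (ψ _), ← h5, ← algebraMap_smul (Localization T) s.1, smul_smul,
        IsLocalization.mk'_spec', algebraMap_smul, map_smul]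
    apply LinearMap.ext
    intro z
    exact LinearMap.congr_fun key z

end L2

section L0
variable {S : Type u} [CommRing S]
  (M : Type u) [AddCommGroup M] [Module S M]

/-- two endomorphisms agreeing on a generating family are equal -/
theorem end_ext_of_span {ι : Type*} (g : ι → M) (hg : Submodule.span S (Set.range g) = ⊤)
    (f₁ f₂ : Module.End S M) (h : ∀ i, f₁ (g i) = f₂ (g i)) : f₁ = f₂ := by
  apply LinearMap.ext_on_range hg h

theorem algebraMap_end_injective_of_locally_free
    (hloc : ∀ (P : Ideal S) (_ : P.IsPrime),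
      Nonempty (LocalizedModule P.primeCompl M ≃ₗ[Localization.AtPrime P] Localization.AtPrime P)) :
    Function.Injective (algebraMap S (Module.End S M)) := by
  rw [injective_iff_map_eq_zero]
  intro s hs
  apply eq_zero_of_localization
  intro J hJ
  obtain ⟨e⟩ := hloc J hJ.isPrime
  have h1 : ∀ z : LocalizedModule J.primeCompl M, s • z = 0 := by
    intro z
    obtain ⟨⟨m, t⟩, rfl⟩ := IsLocalizedModule.mk'_surjective J.primeCompl
      (LocalizedModule.mkLinearMap J.primeCompl M) z
    rw [Function.uncurry_apply_pair, ← IsLocalizedModule.mk'_smul]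
    have : s • m = 0 := by
      have := LinearMap.congr_fun hs m
      simpa [Module.algebraMap_end_apply] using this
    rw [this, IsLocalizedModule.mk'_zero]
  have h2 : algebraMap S (Localization.AtPrime J) s = e (s • e.symm 1) := by
    rw [← algebraMap_smul (Localization.AtPrime J) s (e.symm 1), map_smul, e.apply_symm_apply,
      smul_eq_mul, mul_one]
  rw [h2, h1, map_zero]

theorem algebraMap_end_surjective_of_locally_free [Module.Finite S M]
    (hloc : ∀ (P : Ideal S) (_ : P.IsPrime),
      Nonempty (LocalizedModule P.primeCompl M ≃ₗ[Localization.AtPrime P] Localization.AtPrime P)) :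
    Function.Surjective (algebraMap S (Module.End S M)) := by
  classical
  intro φ
  let J : Ideal S :=
    { carrier := {s | ∃ r, s • φ = algebraMap S (Module.End S M) r}
      zero_mem' := ⟨0, by rw [zero_smul, map_zero]⟩
      add_mem' := by
        rintro a b ⟨r, hr⟩ ⟨r', hr'⟩
        exact ⟨r + r', by rw [add_smul, hr, hr', map_add]⟩
      smul_mem' := by
        rintro c a ⟨r, hr⟩
        exact ⟨c * r, by rw [smul_eq_mul, mul_smul, hr, map_mul, Algebra.smul_def]⟩ }
  suffices hJ : J = ⊤ by
    have h1 : (1 : S) ∈ J := hJ ▸ Submodule.mem_top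
    obtain ⟨r, hr⟩ := h1
    exact ⟨r, by rw [← hr, one_smul]⟩
  by_contra hJ
  obtain ⟨P, hP, hJP⟩ := Ideal.exists_le_maximal J hJ
  haveI := hP.isPrime
  obtain ⟨e⟩ := hloc P hP.isPrime
  let T := P.primeCompl
  let f := LocalizedModule.mkLinearMap T M
  let φP : LocalizedModule T M →ₗ[Localization.AtPrime P] LocalizedModule T M :=
    (IsLocalizedModule.map T f f φ).extendScalarsOfIsLocalization T (Localization.AtPrime P)
  have hφP : ∀ m, φP (f m) = f (φ m) := fun m => IsLocalizedModule.map_apply T f f φ m
  set b := e (φP (e.symm 1)) with hb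
  have h1 : ∀ z, φP z = b • z := by
    intro z
    apply e.injective
    have h2 : z = e z • e.symm 1 := by
      apply e.injective
      rw [map_smul, e.apply_symm_apply, smul_eq_mul, mul_one]
    conv_lhs => rw [h2]
    rw [map_smul, map_smul, map_smul, smul_eq_mul, smul_eq_mul, ← hb, mul_comm]
  obtain ⟨a, t, hat⟩ := IsLocalization.exists_mk'_eq T b
  obtain ⟨n, g, hg⟩ := Module.Finite.exists_fin (R := S) (M := M)
  have h3 : ∀ i : Fin n, ∃ u : T, u • (t.1 • φ (g i) - a • g i) = 0 := by
    intro i
    rw [← IsLocalizedModule.eq_zero_iff T f, map_sub, sub_eq_zero, map_smul, map_smul, ← hφP, h1,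
      ← hat, ← algebraMap_smul (Localization.AtPrime P) t.1, smul_smul, IsLocalization.mk'_spec',
      algebraMap_smul]
  obtain ⟨u, hu⟩ := exists_smul_eq_zero_of_forall T (fun i => t.1 • φ (g i) - a • g i) h3
  have h4 : (u.1 * t.1) ∈ J := by
    refine ⟨u.1 * a, ?_⟩
    apply end_ext_of_span M g hg
    intro i
    have := hu i
    rw [smul_sub, sub_eq_zero, Submonoid.smul_def, Submonoid.smul_def] at this
    rw [LinearMap.smul_apply, Module.algebraMap_end_apply, mul_smul, mul_smul]
    exact this
  exact (Submonoid.mul_mem T u.2 t.2) (hJP h4)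

end L0

section L5

/-- a Gorenstein local ring of dimension `≤ d` has injective dimension `≤ d` -/
theorem hasInjectiveDimensionLE_of_gorensteinLocal (A : Type u) [CommRing A]
    [LocCoh.IsGorensteinLocalRing A] (d : ℕ) (hdim : ringKrullDim A ≤ d) :
    HasInjectiveDimensionLE (ModuleCat.of A A) d := by
  obtain ⟨e, he⟩ := Groth.Agent.Lib.helper19.Gor.exists_dim A
  have hed : e ≤ d := by
    have h3 : ((e : ℕ) : WithBot ℕ∞) ≤ (d : WithBot ℕ∞) := by
      rw [← he]
      exact hdim
    exact_mod_cast h3
  have h2 := Groth.Agent.Lib.helper19.Gor.gor_injDim A e he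
  exact hasInjectiveDimensionLT_of_ge _ (e + 1) (d + 1) (by omega)

variable (S : Type u) [CommRing S] [IsReduced S] [LocCoh.IsGorensteinRing S]
  (M : Type u) [AddCommGroup M] [Module S M] [Module.Finite S M] [Module.IsReflexive S M]

theorem locally_free_of_end_bijective (hdim : ringKrullDim S ≤ 1)
    (hend : Function.Bijective (algebraMap S (Module.End S M)))
    (P : Ideal S) [P.IsPrime] :
    Nonempty (LocalizedModule P.primeCompl M ≃ₗ[Localization.AtPrime P] Localization.AtPrime P) := by
  haveI hG : LocCoh.IsGorensteinLocalRing (Localization.AtPrime P) :=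
    LocCoh.IsGorensteinRing.isGorensteinLocalRing_localization P
  have hdimA : ringKrullDim (Localization.AtPrime P) ≤ 1 := by
    have h1 : ringKrullDim (Localization.AtPrime P) = P.height :=
      IsLocalization.AtPrime.ringKrullDim_eq_height P _
    have h2 : (P.height : WithBot ℕ∞) ≤ ringKrullDim S :=
      Ideal.height_le_ringKrullDim_of_isPrime
    rw [h1]
    exact h2.trans hdim
  have hinj := hasInjectiveDimensionLE_of_gorensteinLocal (Localization.AtPrime P) 1
    (by exact_mod_cast hdimA)
  have hrefl : Function.Bijective (Module.Dual.eval (Localization.AtPrime P)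
      (LocalizedModule P.primeCompl M)) :=
    ⟨eval_injective_localizedModule P.primeCompl M (Module.bijective_dual_eval S M).1,
      eval_surjective hinj _⟩
  exact nonempty_equiv_of_local (Localization.AtPrime P) (LocalizedModule P.primeCompl M) hdimA hrefl
    (algebraMap_end_bijective_localizedModule P.primeCompl M hend)

theorem locally_free_iff (hdim : ringKrullDim S ≤ 1) :
    (∀ (P : Ideal S) (_ : P.IsPrime),
        Nonempty (LocalizedModule P.primeCompl M ≃ₗ[Localization.AtPrime P] Localization.AtPrime P)) ↔
      Function.Bijective (algebraMap S (Module.End S M)) := by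
  constructor
  · intro hloc
    exact ⟨algebraMap_end_injective_of_locally_free M hloc,
      algebraMap_end_surjective_of_locally_free M hloc⟩
  · intro hend P hP
    exact locally_free_of_end_bijective S M hdim hend P

end L5

end Groth.Agent.Lib.helper19.Refl
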