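import Mathlib
import Groth.Agent.S5156

/-!
# Matlis duality over a finite (semilocal) algebra: `Hom_A(B, E)` is the direct sum of the injective hulls of the
residue fields of `B` (helper19)

`A` Noetherian local, `E` an injective hull of its residue field, `B` a finite `A`-algebra, `C = Hom_A(B, E)`.
* `J 𝔫` : the `𝔫`-power torsion submodule of `C`
* `iSupIndep_J`, `iSup_J` : `C` is the internal direct sum of the `J 𝔫`, `𝔫` maximal
* `injective_J` : each `J 𝔫` is an injective `B`-module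
* `exists_hull` : `J 𝔫` is an injective hull of `B ⧸ 𝔫`
* `main` : the statement S11184
-/

set_option autoImplicit false
universe u

namespace Groth.Agent.Lib.helper19.SemiMatlis

open IsLocalRing CategoryTheory Groth.Agent.S5156
open Groth.Agent.Lib.helper19.HullTools Groth.Agent.Lib.helper19.ExtLen

variable (A B : Type u) [CommRing A] [CommRing B] [Algebra A B]
  (E : Type u) [AddCommGroup E] [Module A E]

/-- the `𝔫`-power torsion submodule of `Hom_A(B, E)` -/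
def J (𝔫 : Ideal B) : Submodule B (C A B E) where
  carrier := {g | ∃ N : ℕ, ∀ b ∈ 𝔫 ^ N, b • g = 0}
  zero_mem' := ⟨0, fun b _ => smul_zero b⟩
  add_mem' := by
    rintro g g' ⟨N, hN⟩ ⟨N', hN'⟩
    refine ⟨max N N', fun b hb => ?_⟩
    rw [smul_add, hN b (Ideal.pow_le_pow_right (le_max_left N N') hb),
      hN' b (Ideal.pow_le_pow_right (le_max_right N N') hb), add_zero]
  smul_mem' := by
    rintro c g ⟨N, hN⟩
    refine ⟨N, fun b hb => ?_⟩
    rw [smul_comm, hN b hb, smul_zero]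

theorem mem_J (𝔫 : Ideal B) (g : C A B E) : g ∈ J A B E 𝔫 ↔ ∃ N : ℕ, ∀ b ∈ 𝔫 ^ N, b • g = 0 :=
  Iff.rfl

/-! ### independence -/

theorem iSupIndep_J : iSupIndep fun 𝔫 : MaximalSpectrum B => J A B E 𝔫.asIdeal := by
  intro i
  rw [Submodule.disjoint_def]
  intro x hxi hx
  -- every element of the supremum of the other components is killed by an ideal coprime to `i`
  have key : ∃ K : Ideal B, IsCoprime K i.asIdeal ∧ ∀ b ∈ K, b • x = 0 := by
    refine Submodule.iSup_induction (p := fun j : MaximalSpectrum B => ⨆ (_ : j ≠ i), J A B E j.asIdeal)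
      (motive := fun y => ∃ K : Ideal B, IsCoprime K i.asIdeal ∧ ∀ b ∈ K, b • y = 0) hx ?_ ?_ ?_
    · intro j y hy
      by_cases hji : j = i
      · rw [iSup_neg (not_not.mpr hji), Submodule.mem_bot] at hy
        exact ⟨1, isCoprime_one_left, fun b _ => by rw [hy, smul_zero]⟩
      · rw [iSup_pos hji] at hy
        obtain ⟨N, hN⟩ := hy
        refine ⟨j.asIdeal ^ N, IsCoprime.pow_left ?_, hN⟩
        rw [Ideal.isCoprime_iff_sup_eq]
        exact Ideal.IsMaximal.coprime_of_ne j.isMaximal i.isMaximal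
          (fun h => hji (MaximalSpectrum.ext h))
    · exact ⟨1, isCoprime_one_left, fun b _ => smul_zero b⟩
    · rintro y z ⟨K, hK, hKy⟩ ⟨K', hK', hKz⟩
      have hcop : IsCoprime (K * K') i.asIdeal := IsCoprime.mul_left hK hK'
      refine ⟨K * K', hcop, fun b hb => ?_⟩
      have hb1 : b ∈ K := Ideal.mul_le_left hb
      have hb2 : b ∈ K' := Ideal.mul_le_right hb
      have e1 : b • y = 0 := hKy b hb1
      have e2 : b • z = 0 := hKz b hb2
      rw [smul_add, e1, e2, add_zero]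
  obtain ⟨K, hK, hKx⟩ := key
  obtain ⟨N, hN⟩ := hxi
  have hcop : IsCoprime K (i.asIdeal ^ N) := hK.pow_right
  rw [Ideal.isCoprime_iff_sup_eq, Ideal.eq_top_iff_one, Submodule.mem_sup] at hcop
  obtain ⟨k, hk, n, hn, hkn⟩ := hcop
  calc x = (1 : B) • x := (one_smul B x).symm
    _ = k • x + n • x := by rw [← hkn, add_smul]
    _ = 0 := by rw [hKx k hk, hN n hn, add_zero]

/-! ### the components span -/

section Span
variable [IsLocalRing A] [IsNoetherianRing A] [Module.Finite A B]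

omit [IsNoetherianRing A] in
/-- every element of `Hom_A(B, E)` is killed by the extension of a power of `m_A` -/
theorem exists_pow_kill (hE : LocCoh.IsPowerTorsion (maximalIdeal A) E) (g : C A B E) :
    ∃ t : ℕ, ∀ b ∈ (maximalIdeal A ^ t).map (algebraMap A B), b • g = 0 := by
  have hex : ∀ s : Finset B, ∃ t : ℕ, ∀ b ∈ s, ∀ a ∈ maximalIdeal A ^ t, a • g b = 0 := by
    classical
    intro s
    induction s using Finset.induction_on with
    | empty => exact ⟨0, fun b hb => absurd hb (Finset.notMem_empty b)⟩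
    | insert b s hb ih =>
      obtain ⟨t, ht⟩ := ih
      obtain ⟨t', ht'⟩ := hE (g b)
      refine ⟨max t t', fun c hc a ha => ?_⟩
      rcases Finset.mem_insert.mp hc with rfl | hc
      · exact ht' a (Ideal.pow_le_pow_right (le_max_right t t') ha)
      · exact ht c hc a (Ideal.pow_le_pow_right (le_max_left t t') ha)
  obtain ⟨s, hs⟩ := (Module.Finite.fg_top : (⊤ : Submodule A B).FG)
  obtain ⟨t, ht⟩ := hex s
  have hall : ∀ a ∈ maximalIdeal A ^ t, ∀ x : B, a • g x = 0 := by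
    intro a ha x
    have hx : x ∈ Submodule.span A (s : Set B) := by rw [hs]; trivial
    induction hx using Submodule.span_induction with
    | mem x hx => exact ht x hx a ha
    | zero => rw [C_map_zero, smul_zero]
    | add x y _ _ hx hy => rw [C_map_add, smul_add, hx, hy, add_zero]
    | smul c x _ hx => rw [C_map_smul, smul_comm, hx, smul_zero]
  refine ⟨t, ?_⟩
  have hkill : (maximalIdeal A ^ t).map (algebraMap A B) ≤
      LinearMap.ker (LinearMap.toSpanSingleton B (C A B E) g) := by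
    rw [Ideal.map_le_iff_le_comap]
    intro a ha
    rw [Ideal.mem_comap, LinearMap.mem_ker, LinearMap.toSpanSingleton_apply]
    apply C_ext
    intro x
    rw [smul_apply, C_zero_apply, mul_comm, ← Algebra.smul_def, C_map_smul]
    exact hall a ha x
  intro b hb
  have := hkill hb
  rwa [LinearMap.mem_ker, LinearMap.toSpanSingleton_apply] at this

/-- `B ⧸ m_A^t B` is an Artinian ring -/
theorem isArtinianRing_quot (t : ℕ) :
    IsArtinianRing (B ⧸ (maximalIdeal A ^ t).map (algebraMap A B)) := by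
  set 𝔟 : Ideal B := (maximalIdeal A ^ t).map (algebraMap A B) with h𝔟
  have h1 := Groth.Agent.S0316.isFiniteLength_quot (R := A) B t
  rw [isFiniteLength_iff_isNoetherian_isArtinian] at h1
  have h2 : (maximalIdeal A ^ t • (⊤ : Submodule A B)) = 𝔟.restrictScalars A :=
    Ideal.smul_top_eq_map _
  have e : (B ⧸ (maximalIdeal A ^ t • (⊤ : Submodule A B))) ≃ₗ[A] (B ⧸ 𝔟) :=
    (Submodule.quotEquivOfEq _ _ h2).trans (Submodule.Quotient.restrictScalarsEquiv A 𝔟)
  have h3 : IsArtinian A (B ⧸ 𝔟) := by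
    have := h1.2
    exact isArtinian_of_linearEquiv e
  have h4 : IsArtinian B (B ⧸ 𝔟) := isArtinian_of_tower A h3
  exact isArtinian_of_tower B h4

end Span

/-- in a ring `B` with an ideal `𝔟` such that `B ⧸ 𝔟` is Artinian, a uniform power of the maximal ideals containing
`𝔟` has intersection inside `𝔟` -/
theorem exists_iInf_pow_le (𝔟 : Ideal B) [IsArtinianRing (B ⧸ 𝔟)]
    [Fintype (MaximalSpectrum (B ⧸ 𝔟))] :
    ∃ N : ℕ, (⨅ M ∈ (Finset.univ : Finset (MaximalSpectrum (B ⧸ 𝔟))),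
      (M.asIdeal.comap (Ideal.Quotient.mk 𝔟)) ^ N) ≤ 𝔟 := by
  classical
  set q := Ideal.Quotient.mk 𝔟 with hq
  obtain ⟨N, hN⟩ := IsArtinianRing.isNilpotent_jacobson_bot (R := B ⧸ 𝔟)
  refine ⟨N, ?_⟩
  have hcop : ((Finset.univ : Finset (MaximalSpectrum (B ⧸ 𝔟))) : Set (MaximalSpectrum (B ⧸ 𝔟))).Pairwise
      (Function.onFun IsCoprime fun M : MaximalSpectrum (B ⧸ 𝔟) => (M.asIdeal.comap q) ^ N) := by
    intro M _ M' _ hMM'
    refine IsCoprime.pow ?_
    rw [Ideal.isCoprime_iff_sup_eq]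
    haveI : (M.asIdeal.comap q).IsMaximal :=
      Ideal.comap_isMaximal_of_surjective q Ideal.Quotient.mk_surjective
    haveI : (M'.asIdeal.comap q).IsMaximal :=
      Ideal.comap_isMaximal_of_surjective q Ideal.Quotient.mk_surjective
    refine Ideal.IsMaximal.coprime_of_ne inferInstance inferInstance (fun h => hMM' ?_)
    exact MaximalSpectrum.ext
      (Ideal.comap_injective_of_surjective q Ideal.Quotient.mk_surjective h)
  rw [← Ideal.prod_eq_iInf_of_pairwise_isCoprime hcop, Finset.prod_pow]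
  have h1 : (∏ M ∈ (Finset.univ : Finset (MaximalSpectrum (B ⧸ 𝔟))), M.asIdeal.comap q) ≤
      (Ideal.jacobson (⊥ : Ideal (B ⧸ 𝔟))).comap q := by
    refine Ideal.prod_le_inf.trans ?_
    intro x hx
    rw [Ideal.mem_comap, Ideal.jacobson, Ideal.mem_sInf]
    intro K hK
    have := (Finset.inf_le (f := fun M : MaximalSpectrum (B ⧸ 𝔟) => M.asIdeal.comap q)
      (Finset.mem_univ (⟨K, hK.2⟩ : MaximalSpectrum (B ⧸ 𝔟)))) hx
    exact this
  intro x hx
  have h2 : x ∈ ((Ideal.jacobson (⊥ : Ideal (B ⧸ 𝔟))).comap q) ^ N :=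
    Ideal.pow_right_mono h1 N hx
  have h3 : q x ∈ (Ideal.jacobson (⊥ : Ideal (B ⧸ 𝔟))) ^ N := by
    have h4 := Ideal.mem_map_of_mem q h2
    rw [Ideal.map_pow] at h4
    exact Ideal.pow_right_mono (Ideal.map_comap_le) N h4
  rw [hN, Ideal.zero_eq_bot, Ideal.mem_bot] at h3
  exact Ideal.Quotient.eq_zero_iff_mem.mp h3

section Span2
variable [IsLocalRing A] [IsNoetherianRing A] [Module.Finite A B]

theorem iSup_J (hE : LocCoh.IsPowerTorsion (maximalIdeal A) E) :
    (⨆ 𝔫 : MaximalSpectrum B, J A B E 𝔫.asIdeal) = ⊤ := by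
  classical
  rw [eq_top_iff]
  intro g _
  obtain ⟨t, ht⟩ := exists_pow_kill A B E hE g
  set 𝔟 : Ideal B := (maximalIdeal A ^ t).map (algebraMap A B) with h𝔟
  haveI : IsArtinianRing (B ⧸ 𝔟) := isArtinianRing_quot A B t
  letI : Fintype (MaximalSpectrum (B ⧸ 𝔟)) := Fintype.ofFinite _
  obtain ⟨N, hN⟩ := exists_iInf_pow_le B 𝔟
  set q := Ideal.Quotient.mk 𝔟 with hq
  let p : MaximalSpectrum (B ⧸ 𝔟) → Ideal B := fun M => (M.asIdeal.comap q) ^ N
  have hpair : ((Finset.univ : Finset (MaximalSpectrum (B ⧸ 𝔟))) : Set (MaximalSpectrum (B ⧸ 𝔟))).Pairwise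
      fun M M' => p M ⊔ p M' = ⊤ := by
    intro M _ M' _ hMM'
    rw [← Ideal.isCoprime_iff_sup_eq]
    refine IsCoprime.pow ?_
    rw [Ideal.isCoprime_iff_sup_eq]
    haveI : (M.asIdeal.comap q).IsMaximal :=
      Ideal.comap_isMaximal_of_surjective q Ideal.Quotient.mk_surjective
    haveI : (M'.asIdeal.comap q).IsMaximal :=
      Ideal.comap_isMaximal_of_surjective q Ideal.Quotient.mk_surjective
    refine Ideal.IsMaximal.coprime_of_ne inferInstance inferInstance (fun h => hMM' ?_)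
    exact MaximalSpectrum.ext
      (Ideal.comap_injective_of_surjective q Ideal.Quotient.mk_surjective h)
  have hg : g ∈ Submodule.torsionBySet B (C A B E)
      ↑(⨅ M ∈ (Finset.univ : Finset (MaximalSpectrum (B ⧸ 𝔟))), p M) := by
    rw [Submodule.mem_torsionBySet_iff]
    rintro ⟨a, ha⟩
    exact ht a (hN ha)
  rw [← Submodule.iSup_torsionBySet_ideal_eq_torsionBySet_iInf hpair] at hg
  have hle : (⨆ M ∈ (Finset.univ : Finset (MaximalSpectrum (B ⧸ 𝔟))),
      Submodule.torsionBySet B (C A B E) ↑(p M)) ≤ ⨆ 𝔫 : MaximalSpectrum B, J A B E 𝔫.asIdeal := by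
    refine iSup₂_le (fun M _ => ?_)
    haveI hmax : (M.asIdeal.comap q).IsMaximal :=
      Ideal.comap_isMaximal_of_surjective q Ideal.Quotient.mk_surjective
    refine le_trans ?_ (le_iSup (fun 𝔫 : MaximalSpectrum B => J A B E 𝔫.asIdeal)
      ⟨M.asIdeal.comap q, hmax⟩)
    intro y hy
    rw [Submodule.mem_torsionBySet_iff] at hy
    exact ⟨N, fun b hb => hy ⟨b, hb⟩⟩
  exact hle hg
  /-
  haveI hmax : (M.asIdeal.comap q).IsMaximal :=
    Ideal.comap_isMaximal_of_surjective q Ideal.Quotient.mk_surjective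
  refine le_trans ?_ (le_iSup (fun 𝔫 : MaximalSpectrum B => J A B E 𝔫.asIdeal)
    ⟨M.asIdeal.comap q, hmax⟩)
  intro y hy
  rw [Submodule.mem_torsionBySet_iff] at hy
  exact ⟨N, fun b hb => hy ⟨b, hb⟩⟩ -/

end Span2

/-! ### injectivity of the components -/

section Inj
variable [IsLocalRing A] [IsNoetherianRing A] [Module.Finite A B]

theorem isCompl_J (hE : LocCoh.IsPowerTorsion (maximalIdeal A) E) (i : MaximalSpectrum B) :
    IsCompl (J A B E i.asIdeal) (⨆ j : MaximalSpectrum B, ⨆ (_ : j ≠ i), J A B E j.asIdeal) := by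
  refine ⟨iSupIndep_J A B E i, ?_⟩
  rw [codisjoint_iff, eq_top_iff, ← iSup_J A B E hE]
  refine iSup_le fun j => ?_
  by_cases hji : j = i
  · subst hji; exact le_sup_left
  · exact le_sup_of_le_right (le_iSup₂_of_le j hji le_rfl)

theorem injective_J (hEinj : Module.Injective A E)
    (hE : LocCoh.IsPowerTorsion (maximalIdeal A) E) (i : MaximalSpectrum B) :
    Module.Injective B (J A B E i.asIdeal) := by
  have hC : Module.Injective B (C A B E) := C_injective A B E hEinj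
  let π := Submodule.linearProjOfIsCompl _ _ (isCompl_J A B E hE i)
  constructor
  intro X Y _ _ _ _ f hf g
  obtain ⟨h', hh'⟩ := hC.out f hf ((J A B E i.asIdeal).subtype ∘ₗ g)
  refine ⟨π ∘ₗ h', fun x => ?_⟩
  rw [LinearMap.comp_apply, hh', LinearMap.comp_apply, Submodule.subtype_apply]
  exact Submodule.linearProjOfIsCompl_apply_left (isCompl_J A B E hE i) (g x)

end Inj

/-! ### the socle -/

section Hull
variable [IsLocalRing A] [IsNoetherianRing A] [Module.Finite A B]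
variable (𝔫 : Ideal B) [h𝔫 : 𝔫.IsMaximal]

omit [IsNoetherianRing A] in
theorem algebraMap_mem (a : A) (ha : a ∈ maximalIdeal A) : algebraMap A B a ∈ 𝔫 := by
  haveI : Algebra.IsIntegral A B := Algebra.IsIntegral.of_finite A B
  have hmax : (𝔫.comap (algebraMap A B)).IsMaximal :=
    Ideal.isMaximal_comap_of_isIntegral_of_isMaximal 𝔫
  have h1 := IsLocalRing.eq_maximalIdeal hmax
  have ha' : a ∈ 𝔫.comap (algebraMap A B) := by rw [h1]; exact ha
  exact ha'

/-- the residue field `B ⧸ 𝔫` has finite length over `A` -/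
theorem isFiniteLength_K : IsFiniteLength A (B ⧸ 𝔫) := by
  haveI : Module.Finite A (B ⧸ 𝔫) :=
    Module.Finite.of_surjective (Ideal.Quotient.mkₐ A 𝔫).toLinearMap
      (Ideal.Quotient.mkₐ_surjective A 𝔫)
  have h1 := Groth.Agent.S0316.isFiniteLength_quot (R := A) (B ⧸ 𝔫) 1
  have h2 : (maximalIdeal A ^ 1 • (⊤ : Submodule A (B ⧸ 𝔫))) = ⊥ := by
    rw [pow_one, eq_bot_iff, Submodule.smul_le]
    intro a ha y _
    rw [Submodule.mem_bot]
    obtain ⟨b, rfl⟩ := Ideal.Quotient.mk_surjective y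
    show Ideal.Quotient.mk 𝔫 (a • b) = 0
    rw [Ideal.Quotient.eq_zero_iff_mem, Algebra.smul_def]
    exact 𝔫.mul_mem_right _ (algebraMap_mem A B 𝔫 a ha)
  exact IsFiniteLength.of_injective h1 (Submodule.quotEquivOfEqBot _ h2).symm.injective

/-- `Φ ↦ (y ↦ Φ y 1)` -/
noncomputable def lamK (Φ : (B ⧸ 𝔫) →ₗ[B] C A B E) : (B ⧸ 𝔫) →ₗ[A] E where
  toFun y := (Φ y) (1 : B)
  map_add' y z := by rw [map_add]; rfl
  map_smul' a y := by
    rw [← algebraMap_smul B a y, map_smul, smul_apply, RingHom.id_apply, one_mul,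
      ← mul_one (algebraMap A B a), ← Algebra.smul_def, C_map_smul]

theorem lamK_apply (Φ : (B ⧸ 𝔫) →ₗ[B] C A B E) (y : B ⧸ 𝔫) :
    lamK A B E 𝔫 Φ y = (Φ y) (1 : B) := rfl

theorem applyK_eq (Φ : (B ⧸ 𝔫) →ₗ[B] C A B E) (y : B ⧸ 𝔫) (x : B) :
    (Φ y) x = lamK A B E 𝔫 Φ (x • y) := by
  rw [lamK_apply, map_smul, smul_apply, one_mul]

theorem eq_zero_of_lamK_eq_zero (Φ : (B ⧸ 𝔫) →ₗ[B] C A B E) (h : lamK A B E 𝔫 Φ = 0) :
    Φ = 0 := by
  apply LinearMap.ext
  intro y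
  apply C_ext
  intro x
  rw [applyK_eq, h]
  rfl

theorem lamK_smul (b : B) (Φ : (B ⧸ 𝔫) →ₗ[B] C A B E) (z : B ⧸ 𝔫) :
    lamK A B E 𝔫 (b • Φ) z = lamK A B E 𝔫 Φ (b • z) := by
  rw [lamK_apply, LinearMap.smul_apply, smul_apply, one_mul, applyK_eq]

theorem lamK_sub (Φ Φ' : (B ⧸ 𝔫) →ₗ[B] C A B E) :
    lamK A B E 𝔫 (Φ - Φ') = lamK A B E 𝔫 Φ - lamK A B E 𝔫 Φ' := by
  apply LinearMap.ext
  intro z
  rfl

/-- a form on the residue field gives a map `B ⧸ 𝔫 → C` -/
noncomputable def ΨK (w : (B ⧸ 𝔫) →ₗ[A] E) : (B ⧸ 𝔫) →ₗ[B] C A B E where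
  toFun y := toC A B E (w ∘ₗ (LinearMap.mul A (B ⧸ 𝔫) y) ∘ₗ
      (Ideal.Quotient.mkₐ A 𝔫).toLinearMap)
  map_add' y z := by
    apply C_ext
    intro x
    change w ((y + z) * Ideal.Quotient.mk 𝔫 x) = w (y * Ideal.Quotient.mk 𝔫 x) +
      w (z * Ideal.Quotient.mk 𝔫 x)
    rw [add_mul, map_add]
  map_smul' b y := by
    apply C_ext
    intro x
    change w ((b • y) * Ideal.Quotient.mk 𝔫 x) = w (y * Ideal.Quotient.mk 𝔫 (x * b))
    have : (b • y) * Ideal.Quotient.mk 𝔫 x = y * Ideal.Quotient.mk 𝔫 (x * b) := by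
      rw [Algebra.smul_def, (Ideal.Quotient.mk 𝔫).map_mul]
      show Ideal.Quotient.mk 𝔫 b * y * Ideal.Quotient.mk 𝔫 x =
        y * (Ideal.Quotient.mk 𝔫 x * Ideal.Quotient.mk 𝔫 b)
      ring
    rw [this]

theorem lamK_ΨK (w : (B ⧸ 𝔫) →ₗ[A] E) : lamK A B E 𝔫 (ΨK A B E 𝔫 w) = w := by
  apply LinearMap.ext
  intro y
  change w (y * Ideal.Quotient.mk 𝔫 1) = w y
  rw [map_one, mul_one]

variable (f : ResidueField A →ₗ[A] E) (hf : InjHull.IsInjectiveHull f)

include hf in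
/-- the `𝔫`-socle of `Hom_A(B, E)` is one-dimensional over `B ⧸ 𝔫` -/
theorem exists_smul_eq (Φ Φ' : (B ⧸ 𝔫) →ₗ[B] C A B E) (hΦ : Φ ≠ 0) : ∃ b : B, b • Φ = Φ' := by
  letI : Field (B ⧸ 𝔫) := Ideal.Quotient.field 𝔫
  have hK := isFiniteLength_K A B 𝔫
  have hlen := Groth.Agent.S5170.result A E f hf (B ⧸ 𝔫) hK
  have hne : Module.length A (B ⧸ 𝔫) ≠ ⊤ := Module.length_ne_top_iff.mpr hK
  set w := lamK A B E 𝔫 Φ with hw
  have hw0 : w ≠ 0 := fun h => hΦ (eq_zero_of_lamK_eq_zero A B E 𝔫 Φ h)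
  let T : (B ⧸ 𝔫) →ₗ[A] ((B ⧸ 𝔫) →ₗ[A] E) :=
    (LinearMap.compRight A w) ∘ₗ (LinearMap.mul A (B ⧸ 𝔫))
  have hT : ∀ y z, T y z = w (y * z) := fun y z => rfl
  have hTinj : Function.Injective T := by
    rw [injective_iff_map_eq_zero]
    intro y hy
    by_contra hy0
    apply hw0
    apply LinearMap.ext
    intro z
    have h1 : w z = T y (y⁻¹ * z) := by
      rw [hT, ← mul_assoc, mul_inv_cancel₀ hy0, one_mul]
    rw [h1, hy]
    rfl
  have hTsurj := surjective_of_injective_of_length_eq T hTinj (by rw [hlen]; exact hne) hlen.symm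
  obtain ⟨y, hy⟩ := hTsurj (lamK A B E 𝔫 Φ')
  obtain ⟨b, rfl⟩ := Ideal.Quotient.mk_surjective y
  refine ⟨b, ?_⟩
  have h2 : b • Φ - Φ' = 0 := by
    apply eq_zero_of_lamK_eq_zero
    rw [lamK_sub, sub_eq_zero]
    apply LinearMap.ext
    intro z
    rw [lamK_smul, ← hy, hT, ← hw, Algebra.smul_def]
    rfl
  exact sub_eq_zero.mp h2

end Hull

/-! ### the hulls -/

section Final
variable [IsLocalRing A] [IsNoetherianRing A] [Module.Finite A B]
variable (𝔫 : Ideal B) [h𝔫 : 𝔫.IsMaximal]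

omit [IsLocalRing A] [IsNoetherianRing A] [Module.Finite A B] h𝔫 in
/-- a nonzero `𝔫`-power torsion element has a nonzero multiple in the socle -/
theorem exists_socle (x : C A B E) (hx : x ≠ 0) (M : ℕ) (hM : ∀ b ∈ 𝔫 ^ M, b • x = 0) :
    ∃ c : B, c • x ≠ 0 ∧ ∀ b ∈ 𝔫, b • (c • x) = 0 := by
  induction M with
  | zero =>
    exfalso
    apply hx
    have := hM 1 (by rw [pow_zero, Ideal.one_eq_top]; trivial)
    rwa [one_smul] at this
  | succ M ih =>
    by_cases h : ∀ b ∈ 𝔫 ^ M, b • x = 0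
    · exact ih h
    · push Not at h
      obtain ⟨c, hc, hcx⟩ := h
      refine ⟨c, hcx, fun b hb => ?_⟩
      rw [smul_smul]
      refine hM (b * c) ?_
      rw [pow_succ']
      exact Ideal.mul_mem_mul hb hc

omit [IsLocalRing A] [IsNoetherianRing A] [Module.Finite A B] h𝔫 in
theorem smul_mk_eq_zero (b : B) (hb : b ∈ 𝔫) (y : B ⧸ 𝔫) : b • y = 0 := by
  obtain ⟨x, rfl⟩ := Ideal.Quotient.mk_surjective y
  show Ideal.Quotient.mk 𝔫 (b • x) = 0
  rw [Ideal.Quotient.eq_zero_iff_mem, smul_eq_mul]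
  exact 𝔫.mul_mem_right _ hb

omit [IsLocalRing A] [IsNoetherianRing A] [Module.Finite A B] h𝔫 in
/-- the image of a map out of `B ⧸ 𝔫` lies in the `𝔫`-torsion -/
theorem map_mem_J (Φ : (B ⧸ 𝔫) →ₗ[B] C A B E) (y : B ⧸ 𝔫) : Φ y ∈ J A B E 𝔫 := by
  refine ⟨1, fun b hb => ?_⟩
  rw [pow_one] at hb
  rw [← map_smul, smul_mk_eq_zero B 𝔫 b hb y, map_zero]

/-- the map out of `B ⧸ 𝔫` attached to a socle element -/
noncomputable def ofSocleK (z : C A B E) (hz : ∀ b ∈ 𝔫, b • z = 0) : (B ⧸ 𝔫) →ₗ[B] C A B E :=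
  Submodule.liftQ 𝔫 (LinearMap.toSpanSingleton B (C A B E) z) (by
    intro b hb
    rw [LinearMap.mem_ker, LinearMap.toSpanSingleton_apply]
    exact hz b hb)

omit [IsLocalRing A] [IsNoetherianRing A] [Module.Finite A B] h𝔫 in
theorem ofSocleK_one (z : C A B E) (hz : ∀ b ∈ 𝔫, b • z = 0) :
    ofSocleK A B E 𝔫 z hz (Ideal.Quotient.mk 𝔫 1) = z := by
  show LinearMap.toSpanSingleton B (C A B E) z 1 = z
  simp

theorem isSimpleModule_K : IsSimpleModule B (B ⧸ 𝔫) := by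
  rw [isSimpleModule_iff_quot_maximal]
  exact ⟨𝔫, h𝔫, ⟨LinearEquiv.refl B _⟩⟩

variable (f : ResidueField A →ₗ[A] E) (hf : InjHull.IsInjectiveHull f)

include hf in
theorem exists_hull : ∃ g : (B ⧸ 𝔫) →ₗ[B] J A B E 𝔫, InjHull.IsEssentialInj g := by
  have hK := isFiniteLength_K A B 𝔫
  have hlen := Groth.Agent.S5170.result A E f hf (B ⧸ 𝔫) hK
  -- a nonzero form on `B ⧸ 𝔫`
  have hW : Nontrivial ((B ⧸ 𝔫) →ₗ[A] E) := by
    by_contra hW
    rw [not_nontrivial_iff_subsingleton] at hW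
    have h0 : Module.length A ((B ⧸ 𝔫) →ₗ[A] E) = 0 := Module.length_eq_zero_iff.mpr hW
    rw [hlen, Module.length_eq_zero_iff] at h0
    haveI : Nontrivial (B ⧸ 𝔫) := Ideal.Quotient.nontrivial_iff.mpr h𝔫.ne_top
    exact not_subsingleton _ h0
  obtain ⟨w, hw⟩ := exists_ne (0 : (B ⧸ 𝔫) →ₗ[A] E)
  set Φ₀ := ΨK A B E 𝔫 w with hΦ₀
  have hΦ₀ne : Φ₀ ≠ 0 := by
    intro h
    apply hw
    rw [← lamK_ΨK A B E 𝔫 w, ← hΦ₀, h]
    rfl
  let g : (B ⧸ 𝔫) →ₗ[B] J A B E 𝔫 :=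
    LinearMap.codRestrict (J A B E 𝔫) Φ₀ (map_mem_J A B E 𝔫 Φ₀)
  have hgne : g ≠ 0 := by
    intro h
    apply hΦ₀ne
    apply LinearMap.ext
    intro y
    have := congrArg (fun ψ : (B ⧸ 𝔫) →ₗ[B] J A B E 𝔫 => ((ψ y : J A B E 𝔫) : C A B E)) h
    exact this
  haveI := isSimpleModule_K B 𝔫
  refine ⟨g, ⟨(LinearMap.injective_or_eq_zero g).resolve_right hgne, ?_⟩⟩
  intro N hN
  obtain ⟨y, hyN, hy0⟩ := (Submodule.ne_bot_iff N).mp hN
  obtain ⟨M, hM⟩ := y.2
  have hy0' : (y : C A B E) ≠ 0 := fun h => hy0 (Subtype.ext h)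
  obtain ⟨c, hc0, hcs⟩ := exists_socle A B E 𝔫 (y : C A B E) hy0' M hM
  obtain ⟨b, hb⟩ := exists_smul_eq A B E 𝔫 f hf Φ₀ (ofSocleK A B E 𝔫 (c • (y : C A B E)) hcs) hΦ₀ne
  have hz : ((c • y : J A B E 𝔫) : C A B E) = ((g (Ideal.Quotient.mk 𝔫 b) : J A B E 𝔫) : C A B E) := by
    have h1 := congrArg (fun ψ : (B ⧸ 𝔫) →ₗ[B] C A B E => ψ (Ideal.Quotient.mk 𝔫 1)) hb
    simp only [LinearMap.smul_apply] at h1
    rw [ofSocleK_one] at h1
    show c • (y : C A B E) = Φ₀ (Ideal.Quotient.mk 𝔫 b)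
    rw [← h1, ← map_smul]
    congr 1
    show Ideal.Quotient.mk 𝔫 (b • (1 : B)) = Ideal.Quotient.mk 𝔫 b
    rw [smul_eq_mul, mul_one]
  intro hbot
  have hmem : (c • y : J A B E 𝔫) ∈ N ⊓ LinearMap.range g :=
    ⟨N.smul_mem c hyN, ⟨Ideal.Quotient.mk 𝔫 b, (Subtype.ext hz).symm⟩⟩
  rw [hbot, Submodule.mem_bot] at hmem
  exact hc0 (congrArg Subtype.val hmem)

end Final

/-- **S11184**: `Hom_A(B, E)` is the internal direct sum of injective hulls of the residue fields of `B`. -/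
theorem main (A B : Type u) [CommRing A] [IsLocalRing A] [IsNoetherianRing A] [CommRing B] [Algebra A B]
    [Module.Finite A B] (E : Type u) [AddCommGroup E] [Module A E]
    (f : IsLocalRing.ResidueField A →ₗ[A] E) (hf : InjHull.IsInjectiveHull f) :
    ∃ J : MaximalSpectrum B → Submodule B
        ((ModuleCat.coextendScalars (algebraMap A B)).obj (ModuleCat.of A E)),
      iSupIndep J ∧ iSup J = ⊤ ∧ ∀ n : MaximalSpectrum B,
        ∃ g : (B ⧸ n.asIdeal) →ₗ[B] J n, InjHull.IsInjectiveHull g := by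
  have hE := Groth.Agent.S0311.result A E f hf
  refine ⟨fun 𝔫 => SemiMatlis.J A B E 𝔫.asIdeal, iSupIndep_J A B E, iSup_J A B E hE, fun n => ?_⟩
  haveI := n.isMaximal
  obtain ⟨g, hg⟩ := exists_hull A B E n.asIdeal f hf
  exact ⟨g, ⟨hg, injective_J A B E hf.isInjective hE n⟩⟩

end Groth.Agent.Lib.helper19.SemiMatlis
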