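import Mathlib
import Groth.Agent.Lib.Helper19.LCGroth
import Groth.Agent.Lib.Helper19.LCLes2
import Groth.Agent.Lib.Helper19.ExtLoc1

/-!
# helper19: top local cohomology `H^n_I(M)`, `n = dim M`: `H^n_I(M/𝔟M) ≠ 0 ↔ 𝔟 H^n_I(M) ≠ H^n_I(M)`
-/

set_option autoImplicit false
universe u

namespace Groth.Agent.Lib.helper19.TopLC
open CategoryTheory IsLocalRing
open Groth.Agent.Lib.helper19.LCLes Groth.Agent.Lib.helper19.LCFactor

section Pi
variable {R : Type u} [CommRing R] (M : Type u) [AddCommGroup M] [Module R M]

/-- the support of a finite power of a module -/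
lemma support_pi_subset (ι : Type*) [Fintype ι] :
    Module.support R (ι → M) ⊆ Module.support R M := by
  classical
  intro p hp
  obtain ⟨x, hx⟩ := Module.mem_support_iff_exists_annihilator.mp hp
  have h1 : (Finset.univ : Finset ι).inf (fun j => (R ∙ x j).annihilator) ≤
      (R ∙ x).annihilator := by
    intro a ha
    rw [Submodule.mem_annihilator_span_singleton]
    funext j
    have h2 : (Finset.univ : Finset ι).inf (fun j => (R ∙ x j).annihilator) ≤
        (R ∙ x j).annihilator :=
      Finset.inf_le (f := fun j => (R ∙ x j).annihilator) (Finset.mem_univ j)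
    have := h2 ha
    rw [Submodule.mem_annihilator_span_singleton] at this
    simpa using this
  obtain ⟨j, -, hj⟩ := (Ideal.IsPrime.inf_le' p.2).mp (h1.trans hx)
  exact Module.mem_support_iff_exists_annihilator.mpr ⟨x j, hj⟩

lemma supportDim_pi_le (ι : Type*) [Fintype ι] :
    Module.supportDim R (ι → M) ≤ Module.supportDim R M :=
  Order.krullDim_le_of_strictMono (fun a => ⟨a.1, support_pi_subset M ι a.2⟩) (fun {_ _} lt => lt)

lemma id_pi' (ι : Type u) [Fintype ι] [DecidableEq ι] :
    𝟙 (ModuleCat.of R (ι → M)) = ∑ j : ι,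
      (ModuleCat.ofHom (LinearMap.proj (R := R) (φ := fun _ : ι => M) j) ≫
        ModuleCat.ofHom (LinearMap.single R (fun _ : ι => M) j)) := by
  apply ModuleCat.hom_ext
  apply LinearMap.ext
  intro v
  rw [ModuleCat.hom_sum, LinearMap.sum_apply]
  simp only [ModuleCat.hom_comp, ModuleCat.hom_ofHom, LinearMap.comp_apply, LinearMap.proj_apply,
    LinearMap.single_apply, ModuleCat.hom_id, LinearMap.id_apply]
  exact (Finset.univ_sum_single v).symm

end Pi

section Top
variable {R : Type u} [CommRing R] [IsNoetherianRing R] (I : Ideal R) (n : ℕ)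
  (M : Type u) [AddCommGroup M] [Module R M]

include n in
/-- in top degree, the image of `H^n_I(𝔟 M) → H^n_I(M)` lies in `𝔟 H^n_I(M)` -/
theorem range_H_subtype_le (hM : Module.supportDim R M ≤ n) (𝔟 : Ideal R) :
    LinearMap.range ((localCohomology I n).map
      (ModuleCat.ofHom (𝔟 • (⊤ : Submodule R M)).subtype)).hom ≤
      𝔟 • (⊤ : Submodule R ((localCohomology I n).obj (ModuleCat.of R M) : ModuleCat.{u} R)) := by
  classical
  obtain ⟨s, hs⟩ := (isNoetherianRing_iff_ideal_fg R).mp inferInstance 𝔟
  set N : Submodule R M := 𝔟 • (⊤ : Submodule R M) with hN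
  -- the map `σ : M^s → 𝔟 M`
  let σ₀ : (s → M) →ₗ[R] M := ∑ j : s, (j : R) • LinearMap.proj (R := R) (φ := fun _ : s => M) j
  have hσ₀ : ∀ v, σ₀ v ∈ N := by
    intro v
    show (∑ j : s, (j : R) • LinearMap.proj (R := R) (φ := fun _ : s => M) j) v ∈ N
    rw [LinearMap.sum_apply]
    refine Submodule.sum_mem _ fun j _ => ?_
    rw [LinearMap.smul_apply]
    refine Submodule.smul_mem_smul ?_ Submodule.mem_top
    rw [← hs]
    exact Submodule.subset_span j.2
  let σ : (s → M) →ₗ[R] N := σ₀.codRestrict N hσ₀
  have hσsurj : Function.Surjective σ := by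
    rintro ⟨y, hy⟩
    have key : ∀ y ∈ N, ∃ v, σ₀ v = y := by
      intro y hy
      refine Submodule.smul_induction_on hy ?_ ?_
      · intro a ha m _
        rw [← hs] at ha
        revert m
        refine Submodule.span_induction ?_ ?_ ?_ ?_ ha
        · intro x hx m _
          refine ⟨Pi.single (⟨x, hx⟩ : s) m, ?_⟩
          show (∑ j : s, (j : R) • LinearMap.proj (R := R) (φ := fun _ : s => M) j)
            (Pi.single (⟨x, hx⟩ : s) m) = x • m
          rw [LinearMap.sum_apply, Finset.sum_eq_single (⟨x, hx⟩ : s)]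
          · simp
          · intro j _ hj
            rw [LinearMap.smul_apply, LinearMap.proj_apply, Pi.single_eq_of_ne hj, smul_zero]
          · intro h; exact absurd (Finset.mem_univ _) h
        · intro m _
          exact ⟨0, by rw [map_zero, zero_smul]⟩
        · intro x y _ _ hx hy m hm
          obtain ⟨v, hv⟩ := hx m hm
          obtain ⟨w, hw⟩ := hy m hm
          exact ⟨v + w, by rw [map_add, hv, hw, add_smul]⟩
        · intro r x _ hx m hm
          obtain ⟨v, hv⟩ := hx (r • m) Submodule.mem_top
          exact ⟨v, by rw [hv, smul_eq_mul, mul_smul, smul_comm]⟩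
      · intro x y hx hy
        obtain ⟨v, hv⟩ := hx
        obtain ⟨w, hw⟩ := hy
        exact ⟨v + w, by rw [map_add, hv, hw]⟩
    obtain ⟨v, hv⟩ := key y hy
    exact ⟨v, Subtype.ext hv⟩
  -- the short exact sequence `0 → ker σ → M^s → 𝔟 M → 0`
  have hex : Function.Exact (LinearMap.ker σ).subtype σ := LinearMap.exact_subtype_ker_map σ
  have hS := Groth.Agent.Lib.helper19.ExtLoc.sc_shortExact (LinearMap.ker σ).subtype σ
    (Submodule.injective_subtype _) hσsurj hex
  have hZ : Module.supportDim R (LinearMap.ker σ) < ((n + 1 : ℕ) : WithBot ℕ∞) := by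
    refine lt_of_le_of_lt ((Module.supportDim_le_of_injective (LinearMap.ker σ).subtype
      (Submodule.injective_subtype _)).trans ((supportDim_pi_le M s).trans hM)) ?_
    exact_mod_cast Nat.lt_succ_self n
  have hv := Groth.Agent.Lib.helper19.LCGroth.vanish I (LinearMap.ker σ) (n + 1) hZ
  have hTsurj := H_surjective_of_vanish I n hS hv
  -- the computation
  rintro _ ⟨y, rfl⟩
  obtain ⟨z, rfl⟩ := hTsurj y
  have h1 : ((localCohomology I n).map (𝟙 (ModuleCat.of R (s → M)))).hom z = z := by
    rw [CategoryTheory.Functor.map_id]; rfl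
  have hcomp : ∀ j : s, ModuleCat.ofHom (LinearMap.single R (fun _ : s => M) j) ≫
      ModuleCat.ofHom σ ≫ ModuleCat.ofHom N.subtype = (j : R) • 𝟙 (ModuleCat.of R M) := by
    intro j
    apply ModuleCat.hom_ext
    apply LinearMap.ext
    intro m
    show σ₀ (Pi.single j m) = (j : R) • m
    show (∑ i : s, (i : R) • LinearMap.proj (R := R) (φ := fun _ : s => M) i) (Pi.single j m) = _
    rw [LinearMap.sum_apply, Finset.sum_eq_single j]
    · simp
    · intro i _ hi
      rw [LinearMap.smul_apply, LinearMap.proj_apply, Pi.single_eq_of_ne hi, smul_zero]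
    · intro h; exact absurd (Finset.mem_univ _) h
  have hz : z = ∑ j : s, ((localCohomology I n).map
      (ModuleCat.ofHom (LinearMap.single R (fun _ : s => M) j))).hom
      (((localCohomology I n).map
        (ModuleCat.ofHom (LinearMap.proj (R := R) (φ := fun _ : s => M) j))).hom z) := by
    conv_lhs => rw [← h1, id_pi' M s, H_map_sum]
    refine Finset.sum_congr rfl fun j _ => ?_
    rw [Functor.map_comp, ModuleCat.hom_comp, LinearMap.comp_apply]
  have hmc : ∀ {X Y Z : ModuleCat.{u} R} (f : X ⟶ Y) (g : Y ⟶ Z)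
      (x : ((localCohomology I n).obj X : ModuleCat.{u} R)),
      ((localCohomology I n).map g).hom (((localCohomology I n).map f).hom x) =
        ((localCohomology I n).map (f ≫ g)).hom x := by
    intro X Y Z f g x
    rw [Functor.map_comp, ModuleCat.hom_comp, LinearMap.comp_apply]
  show ((localCohomology I n).map (ModuleCat.ofHom N.subtype)).hom
    (((localCohomology I n).map (ModuleCat.ofHom σ)).hom z) ∈ _
  rw [hz, map_sum, map_sum]
  refine Submodule.sum_mem _ fun j _ => ?_
  rw [hmc, hmc, hcomp j, H_map_smul_id]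
  refine Submodule.smul_mem_smul ?_ Submodule.mem_top
  rw [← hs]
  exact Submodule.subset_span j.2

include n in
/-- in top degree: `H^n_I(M/𝔟M) ≠ 0 ↔ 𝔟 H^n_I(M) ≠ H^n_I(M)` -/
theorem H_quotient_nontrivial_iff (hM : Module.supportDim R M ≤ n) (𝔟 : Ideal R) :
    Nontrivial ((localCohomology I n).obj
      (ModuleCat.of R (M ⧸ 𝔟 • (⊤ : Submodule R M))) : ModuleCat.{u} R) ↔
    𝔟 • (⊤ : Submodule R ((localCohomology I n).obj (ModuleCat.of R M) : ModuleCat.{u} R)) ≠ ⊤ := by
  classical
  set N : Submodule R M := 𝔟 • (⊤ : Submodule R M) with hN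
  have hex : Function.Exact N.subtype N.mkQ := LinearMap.exact_subtype_mkQ N
  have hS := Groth.Agent.Lib.helper19.ExtLoc.sc_shortExact N.subtype N.mkQ
    (Submodule.injective_subtype _) (Submodule.mkQ_surjective N) hex
  have hNdim : Module.supportDim R N < ((n + 1 : ℕ) : WithBot ℕ∞) := by
    refine lt_of_le_of_lt ((Module.supportDim_le_of_injective N.subtype
      (Submodule.injective_subtype _)).trans hM) ?_
    exact_mod_cast Nat.lt_succ_self n
  have hv := Groth.Agent.Lib.helper19.LCGroth.vanish I N (n + 1) hNdim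
  have hTsurj := H_surjective_of_vanish I n hS hv
  have hkill : ∀ a ∈ 𝔟, ∀ y : ((localCohomology I n).obj (ModuleCat.of R (M ⧸ N)) : ModuleCat.{u} R),
      a • y = 0 := by
    intro a ha y
    apply Groth.Agent.Lib.helper19.LCBridge.H_smul_eq_zero I n (ModuleCat.of R (M ⧸ N)) a _ y
    apply ModuleCat.hom_ext
    apply LinearMap.ext
    intro m
    obtain ⟨m, rfl⟩ := Submodule.mkQ_surjective N m
    show a • N.mkQ m = 0
    rw [← map_smul, Submodule.mkQ_apply, Submodule.Quotient.mk_eq_zero]
    exact Submodule.smul_mem_smul ha Submodule.mem_top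
  constructor
  · intro hnt htop
    have hzero : ∀ y : ((localCohomology I n).obj (ModuleCat.of R (M ⧸ N)) : ModuleCat.{u} R),
        y = 0 := by
      intro y
      obtain ⟨x, rfl⟩ := hTsurj y
      have hx : x ∈ 𝔟 • (⊤ : Submodule R ((localCohomology I n).obj (ModuleCat.of R M) :
          ModuleCat.{u} R)) := by rw [htop]; trivial
      refine Submodule.smul_induction_on hx ?_ ?_
      · intro a ha w _
        have := hkill a ha (((localCohomology I n).map (ModuleCat.ofHom N.mkQ)).hom w)
        rw [← map_smul] at this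
        exact this
      · intro v w hv hw
        have : ((localCohomology I n).map (ModuleCat.ofHom N.mkQ)).hom (v + w) =
            ((localCohomology I n).map (ModuleCat.ofHom N.mkQ)).hom v +
            ((localCohomology I n).map (ModuleCat.ofHom N.mkQ)).hom w := map_add _ v w
        exact this.trans (by rw [show ((localCohomology I n).map (ModuleCat.ofHom N.mkQ)).hom v = 0
          from hv, show ((localCohomology I n).map (ModuleCat.ofHom N.mkQ)).hom w = 0 from hw,
          add_zero])
    obtain ⟨y, hy⟩ := exists_ne (0 : ((localCohomology I n).obj (ModuleCat.of R (M ⧸ N)) :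
      ModuleCat.{u} R))
    exact hy (hzero y)
  · intro hne
    by_contra hcon
    rw [not_nontrivial_iff_subsingleton] at hcon
    apply hne
    rw [eq_top_iff]
    intro x _
    have hx0 : ((localCohomology I n).map (ModuleCat.ofHom N.mkQ)) x = 0 := hcon.elim _ _
    obtain ⟨y, hy⟩ := H_exact_mid I n hS x hx0
    exact range_H_subtype_le I n M hM 𝔟 ⟨y, hy⟩

end Top

end Groth.Agent.Lib.helper19.TopLC
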