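import Mathlib
import Groth.Agent.S7692
import Groth.Agent.S7700
import Groth.Agent.Lib.Helper19.HLV5
import Groth.Agent.Lib.Helper19.Conn1
import Groth.Agent.Lib.Helper2.GNV4

/-!
# helper19: coassociated primes of top local cohomology: the three cores
-/

set_option autoImplicit false
universe u

namespace Groth.Agent.Lib.helper19.TopLC
open CategoryTheory IsLocalRing


section Dual
variable (R : Type u) [CommRing R] [IsLocalRing R] (E : Type u) [AddCommGroup E] [Module R E]
  (f : ResidueField R →ₗ[R] E) (hf : InjHull.IsInjectiveHull f)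
  (H : Type u) [AddCommGroup H] [Module R H]

include hf in
/-- nonzero elements of the Matlis dual killed by `p` exist iff `p H ≠ H` -/
theorem exists_dual_killed_iff (p : Ideal R) :
    (∃ x : H →ₗ[R] E, x ≠ 0 ∧ ∀ a ∈ p, a • x = 0) ↔ p • (⊤ : Submodule R H) ≠ ⊤ := by
  constructor
  · rintro ⟨x, hx0, hx⟩ htop
    apply hx0
    apply LinearMap.ext
    intro h
    have hh : h ∈ p • (⊤ : Submodule R H) := by rw [htop]; trivial
    rw [LinearMap.zero_apply]
    refine Submodule.smul_induction_on hh ?_ ?_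
    · intro a ha w _
      rw [map_smul, ← LinearMap.smul_apply, hx a ha, LinearMap.zero_apply]
    · intro v w hv hw
      rw [map_add, hv, hw, add_zero]
  · intro hne
    have hnt : Nontrivial (H ⧸ p • (⊤ : Submodule R H)) := Submodule.Quotient.nontrivial_iff.mpr hne
    have h1 : ¬ Subsingleton ((H ⧸ p • (⊤ : Submodule R H)) →ₗ[R] E) := by
      intro hsub
      have := Groth.Agent.S7700.cogen R E f hf _ hsub
      exact not_subsingleton _ this
    rw [not_subsingleton_iff_nontrivial] at h1
    obtain ⟨ψ, hψ⟩ := exists_ne (0 : (H ⧸ p • (⊤ : Submodule R H)) →ₗ[R] E)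
    refine ⟨ψ ∘ₗ (p • (⊤ : Submodule R H)).mkQ, ?_, ?_⟩
    · intro h0
      apply hψ
      apply LinearMap.ext
      intro y
      obtain ⟨h, rfl⟩ := Submodule.mkQ_surjective _ y
      exact LinearMap.congr_fun h0 h
    · intro a ha
      apply LinearMap.ext
      intro h
      rw [LinearMap.smul_apply, LinearMap.comp_apply, ← map_smul, ← map_smul,
        Submodule.mkQ_apply, (Submodule.Quotient.mk_eq_zero _).mpr
          (Submodule.smul_mem_smul ha Submodule.mem_top), map_zero, LinearMap.zero_apply]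

end Dual

section Ass
variable (R : Type u) [CommRing R] [IsNoetherianRing R] (D : Type u) [AddCommGroup D] [Module R D]

/-- computing associated primes from a "killed by `p`" criterion -/
theorem associatedPrimes_eq_of_key (n : ℕ) (𝔞 : Ideal R) (h𝔞 : ∀ a ∈ 𝔞, ∀ x : D, a • x = 0)
    (𝒮 : Set (Ideal R)) (h𝒮 : ∀ p ∈ 𝒮, p.IsPrime ∧ 𝔞 ≤ p ∧ ringKrullDim (R ⧸ p) = n)
    (key : ∀ p : Ideal R, p.IsPrime → 𝔞 ≤ p →
      ((∃ x : D, x ≠ 0 ∧ ∀ a ∈ p, a • x = 0) ↔ p ∈ 𝒮)) :
    associatedPrimes R D = 𝒮 := by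
  have hsub : ∀ q : Ideal R, q ∈ associatedPrimes R D → q ∈ 𝒮 := by
    intro q hq
    obtain ⟨hqp, x, hx⟩ := (isAssociatedPrime_iff).mp hq
    have hx0 : x ≠ 0 := by
      rintro rfl
      apply hqp.ne_top
      rw [hx, eq_top_iff]
      intro r _
      rw [Submodule.mem_colon_singleton, smul_zero]
      exact Submodule.zero_mem _
    have h𝔞q : 𝔞 ≤ q := by
      intro a ha
      rw [hx, Submodule.mem_colon_singleton, h𝔞 a ha x]
      exact Submodule.zero_mem _
    refine (key q hqp h𝔞q).mp ⟨x, hx0, fun a ha => ?_⟩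
    rw [hx, Submodule.mem_colon_singleton, Submodule.mem_bot] at ha
    exact ha
  ext p
  constructor
  · exact hsub p
  · intro hp
    obtain ⟨hpp, h𝔞p, hpdim⟩ := h𝒮 p hp
    obtain ⟨x, hx0, hx⟩ := (key p hpp h𝔞p).mpr hp
    obtain ⟨q, hq, hxq⟩ := exists_le_isAssociatedPrime_of_isNoetherianRing R x hx0
    have hpq : p ≤ q := by
      intro a ha
      apply hxq
      rw [Submodule.mem_colon_singleton, hx a ha]
      exact Submodule.zero_mem _
    have hq𝒮 := hsub q hq
    obtain ⟨hqp, -, hqdim⟩ := h𝒮 q hq𝒮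
    have hpq' : p = q := by
      by_contra hne
      have hlt : p < q := lt_of_le_of_ne hpq hne
      have := Groth.Agent.S7692.dim_lt R p q hlt
      rw [hqdim, hpdim] at this
      have h3 : ((n + 1 : ℕ) : WithBot ℕ∞) ≤ (n : WithBot ℕ∞) := by exact_mod_cast this
      have h4 : n + 1 ≤ n := by exact_mod_cast h3
      omega
    rw [hpq']
    exact hq

end Ass



section A
variable (R : Type u) [CommRing R] [IsNoetherianRing R]
  (M : Type u) [AddCommGroup M] [Module R M] (p : Ideal R)

omit [IsNoetherianRing R] in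
/-- support dimension of `M ⧸ pM` for `p ⊇ Ann M` -/
lemma supportDim_quot [Module.Finite R M] (hp : Module.annihilator R M ≤ p) :
    Module.supportDim R (M ⧸ p • (⊤ : Submodule R M)) = ringKrullDim (R ⧸ p) := by
  have h : PrimeSpectrum.zeroLocus (Module.annihilator R M : Set R) ∩
      PrimeSpectrum.zeroLocus (p : Set R) = PrimeSpectrum.zeroLocus (p : Set R) := by
    rw [Set.inter_eq_right]
    exact PrimeSpectrum.zeroLocus_anti_mono_ideal hp
  rw [ringKrullDim_quotient, Module.supportDim, Module.support_quotient,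
    Module.support_eq_zeroLocus, h]

/-- local cohomology of a module killed by `p` only depends on `I ⊔ p` -/
lemma exists_H_sup_equiv (I : Ideal R) (N : Type u) [AddCommGroup N] [Module R N]
    [Module (R ⧸ p) N] [IsScalarTower R (R ⧸ p) N] (i : ℕ) :
    Nonempty (LocCoh.H (I ⊔ p) i N ≃+ LocCoh.H I i N) := by
  obtain ⟨φ₁, -⟩ := Groth.Agent.S11614.result R (R ⧸ p) I N i
  obtain ⟨φ₂, -⟩ := Groth.Agent.S11614.result R (R ⧸ p) (I ⊔ p) N i
  have h : Ideal.map (algebraMap R (R ⧸ p)) (I ⊔ p) = Ideal.map (algebraMap R (R ⧸ p)) I := by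
    rw [Ideal.map_sup, Ideal.Quotient.algebraMap_eq, Ideal.map_quotient_self, sup_bot_eq]
  rw [h] at φ₂
  exact ⟨φ₂.symm.trans φ₁⟩

end A

section B
variable (R : Type u) [CommRing R] [IsNoetherianRing R] [IsLocalRing R]
  [IsAdicComplete (maximalIdeal R) R]
  (M : Type u) [AddCommGroup M] [Module R M] [Module.Finite R M]

/-- non-vanishing criterion for the top local cohomology of `M ⧸ pM` -/
theorem H_quot_nontrivial_iff (I : Ideal R) (n : ℕ) (hn : Module.supportDim R M = n)
    (p : Ideal R) [hpp : p.IsPrime] (hp : Module.annihilator R M ≤ p) :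
    Nontrivial (LocCoh.H I n (M ⧸ p • (⊤ : Submodule R M))) ↔
      ringKrullDim (R ⧸ p) = n ∧ (I ⊔ p).radical = maximalIdeal R := by
  have hN : Module.supportDim R (M ⧸ p • (⊤ : Submodule R M)) = ringKrullDim (R ⧸ p) :=
    supportDim_quot R M p hp
  have hle : ringKrullDim (R ⧸ p) ≤ n := by
    rw [← hN, ← hn]
    exact Module.supportDim_le_of_surjective _ (Submodule.mkQ_surjective _)
  constructor
  · intro hnt
    have hdim : ringKrullDim (R ⧸ p) = n := by
      by_contra hne
      have hlt : Module.supportDim R (M ⧸ p • (⊤ : Submodule R M)) < (n : WithBot ℕ∞) := by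
        rw [hN]; exact lt_of_le_of_ne hle hne
      have := Groth.Agent.Lib.helper19.LCGroth.vanish I (M ⧸ p • (⊤ : Submodule R M)) n hlt
      exact not_subsingleton _ this
    refine ⟨hdim, ?_⟩
    by_cases htop : I ⊔ p = ⊤
    · exfalso
      have hI : I = ⊤ := by
        by_contra hI
        have h1 : I ⊔ p ≤ maximalIdeal R :=
          sup_le (le_maximalIdeal hI) (le_maximalIdeal hpp.ne_top)
        rw [htop] at h1
        exact (maximalIdeal.isMaximal R).ne_top (top_le_iff.mp h1)
      obtain ⟨y, hy⟩ := exists_ne (0 : LocCoh.H I n (M ⧸ p • (⊤ : Submodule R M)))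
      obtain ⟨k, hk⟩ := Groth.Agent.Lib.helper19.LCBridge.H_powerTorsion I n _ y
      apply hy
      have := hk 1 (by rw [hI, Ideal.top_pow]; trivial)
      rwa [one_smul] at this
    · by_contra hrad
      have h1 : (1 : WithBot ℕ∞) ≤ ringKrullDim (R ⧸ (I ⊔ p)) := by
        by_contra hlt
        apply hrad
        apply Groth.Agent.Lib.helper19.Conn.radical_eq_maximalIdeal_of_dim_zero R _ htop
        haveI : Nontrivial (R ⧸ (I ⊔ p)) := Ideal.Quotient.nontrivial_iff.mpr htop
        have h0 : (0 : WithBot ℕ∞) ≤ ringKrullDim (R ⧸ (I ⊔ p)) := ringKrullDim_nonneg_of_nontrivial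
        rw [not_le] at hlt
        apply le_antisymm _ h0
        exact Order.le_of_lt_succ hlt
      have h2 := Groth.Agent.Lib.helper19.HLV.H_quotient_prime_subsingleton R p n hdim I h1
      obtain ⟨ψ, -⟩ := Groth.Agent.S11614.result R (R ⧸ p) I (R ⧸ p) n
      have h3 : Subsingleton (LocCoh.H (I.map (algebraMap R (R ⧸ p))) n (R ⧸ p)) :=
        ψ.toEquiv.subsingleton
      have h4 := Groth.Agent.S0333.result (R ⧸ p) (I.map (algebraMap R (R ⧸ p))) n hdim (R ⧸ p)
        (fun q _ _ hq => by
          rw [Module.support_of_algebra]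
          intro x hx
          have : x = 0 := by simpa using hx
          rw [this]; exact zero_mem _) h3 (M ⧸ p • (⊤ : Submodule R M)) n le_rfl
      obtain ⟨ψ', -⟩ := Groth.Agent.S11614.result R (R ⧸ p) I (M ⧸ p • (⊤ : Submodule R M)) n
      have h5 : Subsingleton (LocCoh.H I n (M ⧸ p • (⊤ : Submodule R M))) :=
        ψ'.symm.toEquiv.subsingleton
      exact not_subsingleton _ h5
  · rintro ⟨hdim, hrad⟩
    have h1 : Nontrivial (LocCoh.H (maximalIdeal R) n (M ⧸ p • (⊤ : Submodule R M))) :=
      Groth.Agent.Lib.helper2.GNV.nontrivial_H_supportDim n _ (hN.trans hdim)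
    have e := ((localCohomology.isoOfSameRadical (J := I ⊔ p) (K := maximalIdeal R)
      (by rw [hrad, Ideal.IsPrime.radical (maximalIdeal.isMaximal R).isPrime]) n).app
      (ModuleCat.of R (M ⧸ p • (⊤ : Submodule R M)))).toLinearEquiv
    obtain ⟨φ⟩ := exists_H_sup_equiv R p I (M ⧸ p • (⊤ : Submodule R M)) n
    haveI : Nontrivial (LocCoh.H (I ⊔ p) n (M ⧸ p • (⊤ : Submodule R M))) :=
      e.toEquiv.nontrivial
    exact φ.symm.toEquiv.nontrivial

end B


end Groth.Agent.Lib.helper19.TopLC
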