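import Mathlib
import Groth.Agent.Lib.Helper19.TorDual1
import Groth.Agent.S3262
import Groth.Agent.S0299
import Groth.Agent.S0317
import Groth.Agent.S17759
import Groth.Agent.Lib.Helper19.CanMod6
import Groth.Agent.Lib.Helper19.CanMod2
import Groth.Agent.Lib.Helper19.H1Cpl
import Groth.Agent.Lib.Helper19.FlatLen
import Groth.Agent.Lib.Helper24.CplCM
import Groth.Agent.S11617

set_option autoImplicit false
universe u

/-!
# helper19: cofiniteness of top local cohomology (Delfino–Marley): `Ext^i(R/I, H^n_I(M))` has finite length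
-/

namespace Groth.Agent.Lib.helper19.TopLC
open CategoryTheory IsLocalRing Groth.Agent.Lib.helper19.LCBridge
open Groth.Agent.Lib.helper10.MinRes

section ExtArt
variable (A : Type u) [CommRing A] [IsNoetherianRing A]

/-- `Ext^n(X, Y)` is Artinian for `X` finite and `Y` Artinian -/
theorem isArtinian_ext (X : Type u) [AddCommGroup X] [Module A X] [Module.Finite A X]
    (Y : Type u) [AddCommGroup Y] [Module A Y] [IsArtinian A Y] (n : ℕ) :
    IsArtinian A (Abelian.Ext.{u} (ModuleCat.of A X) (ModuleCat.of A Y) n) := by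
  obtain ⟨F⟩ := Groth.Agent.Lib.helper19.TorDual.exists_res A X
  let e1 : ((K (R := A) F.projRes (ModuleCat.of A Y)).X n) ≃ₗ[A]
      ((Fin (F.rk n) → A) →ₗ[A] Y) :=
    ModuleCat.homLinearEquiv (R := A) (S := A) (M := ModuleCat.of A (Fin (F.rk n) → A))
      (N := ModuleCat.of A Y)
  let e2 : ((Fin (F.rk n) → A) →ₗ[A] Y) ≃ₗ[A] (Fin (F.rk n) → Y) :=
    LinearEquiv.piRing A Y (Fin (F.rk n)) A
  haveI : IsArtinian A ((K (R := A) F.projRes (ModuleCat.of A Y)).X n) :=
    isArtinian_of_linearEquiv (e1.trans e2).symm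
  exact isArtinian_of_surjective _ (cocycleToExt (R := A) F.projRes (ModuleCat.of A Y) n (n + 1) rfl)
    (cocycleToExt_surjective (R := A) F.projRes (ModuleCat.of A Y) n (n + 1) rfl)

end ExtArt

section FinLen
variable (A : Type u) [CommRing A] [IsNoetherianRing A] [IsLocalRing A]

/-- an Artinian module killed by a power of the maximal ideal has finite length -/
theorem isFiniteLength_of_isArtinian_of_kill (X : Type u) [AddCommGroup X] [Module A X]
    [IsArtinian A X] (k : ℕ) (hk : ∀ a ∈ maximalIdeal A ^ k, ∀ x : X, a • x = 0) :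
    IsFiniteLength A X := by
  have hk' : ∀ a ∈ maximalIdeal A ^ (k + 1), ∀ x : X, a • x = 0 :=
    fun a ha x => hk a (Ideal.pow_le_pow_right (Nat.le_succ k) ha) x
  set J : Ideal A := maximalIdeal A ^ (k + 1) with hJ
  have hJne : J ≠ ⊤ := by
    intro h
    have h1 : J ≤ maximalIdeal A := Ideal.pow_le_self (Nat.succ_ne_zero k)
    rw [h] at h1
    exact (maximalIdeal.isMaximal A).ne_top (top_le_iff.mp h1)
  have htors : Module.IsTorsionBySet A X (J : Set A) := fun x a => hk' a.1 a.2 x
  letI : Module (A ⧸ J) X := htors.module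
  haveI : IsScalarTower A (A ⧸ J) X := htors.isScalarTower
  haveI : Nontrivial (A ⧸ J) := Ideal.Quotient.nontrivial_iff.mpr hJne
  haveI : IsLocalRing (A ⧸ J) :=
    IsLocalRing.of_surjective' (Ideal.Quotient.mk J) Ideal.Quotient.mk_surjective
  haveI : IsArtinianRing (A ⧸ J) := by
    rw [isArtinianRing_iff_isNilpotent_maximalIdeal]
    refine ⟨k + 1, ?_⟩
    have hm : maximalIdeal (A ⧸ J) = (maximalIdeal A).map (Ideal.Quotient.mk J) := by
      symm
      apply IsLocalRing.eq_maximalIdeal
      exact Ideal.IsMaximal.map_of_surjective_of_ker_le Ideal.Quotient.mk_surjective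
        (by rw [Ideal.mk_ker]; exact Ideal.pow_le_self (Nat.succ_ne_zero k))
    rw [hm, ← Ideal.map_pow, Ideal.zero_eq_bot, Ideal.map_quotient_self]
  haveI : IsArtinian (A ⧸ J) X := isArtinian_of_tower A (inferInstance : IsArtinian A X)
  haveI : Module.Finite (A ⧸ J) X := ((IsArtinianRing.tfae (A ⧸ J) X).out 2 0).mp ‹IsArtinian (A ⧸ J) X›
  haveI : Module.Finite A X := Module.Finite.trans (A ⧸ J) X
  exact isFiniteLength_iff_isNoetherian_isArtinian.mpr ⟨inferInstance, inferInstance⟩

end FinLen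

section Complete
variable (R : Type u) [CommRing R] [IsNoetherianRing R] [IsLocalRing R]
  [IsAdicComplete (maximalIdeal R) R]

/-- `I + Ann H^n_I(M)` is `m`-primary (or the unit ideal), `n ≥ dim M`, `R` complete -/
theorem exists_pow_le_sup_annihilator (I : Ideal R) (M : Type u) [AddCommGroup M] [Module R M]
    [Module.Finite R M] (n : ℕ) (hn : Module.supportDim R M ≤ n) :
    ∃ k : ℕ, maximalIdeal R ^ k ≤ I ⊔ Module.annihilator R (LocCoh.H I n M) := by
  obtain ⟨E, _, _, f, hf⟩ := Groth.Agent.S0299.result R (ResidueField R)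
  rcases eq_or_lt_of_le hn with heq | hlt
  · haveI : IsArtinian R (LocCoh.H I n M) := Groth.Agent.S3262.isArtinian_top I n M hn
    haveI : Module.Finite R (LocCoh.H I n M →ₗ[R] E) :=
      (Groth.Agent.S0317.result R E f hf (LocCoh.H I n M)).1
    have hann : Module.annihilator R (LocCoh.H I n M →ₗ[R] E) =
        Module.annihilator R (LocCoh.H I n M) :=
      Groth.Agent.Lib.helper19.CanMod.annihilator_dual R E f hf (LocCoh.H I n M)
    have hAss := Groth.Agent.S17759.result R E f hf I M n heq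
    have hle : maximalIdeal R ≤ (I ⊔ Module.annihilator R (LocCoh.H I n M)).radical := by
      rw [Ideal.radical_eq_sInf]
      apply le_sInf
      rintro q ⟨hq, hqp⟩
      have hq2 : Module.annihilator R (LocCoh.H I n M →ₗ[R] E) ≤ q := by
        rw [hann]; exact le_sup_right.trans hq
      obtain ⟨p, hp, hpq⟩ := Ideal.exists_minimalPrimes_le hq2
      have hpA : p ∈ associatedPrimes R (LocCoh.H I n M →ₗ[R] E) :=
        Module.associatedPrimes.minimalPrimes_annihilator_subset_associatedPrimes R _ hp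
      rw [hAss] at hpA
      obtain ⟨-, -, -, hrad⟩ := hpA
      rw [← hrad]
      exact (Ideal.IsPrime.radical_le_iff hqp).mpr (sup_le (le_sup_left.trans hq) hpq)
    exact Ideal.exists_pow_le_of_le_radical_of_fg hle (IsNoetherian.noetherian _)
  · haveI : Subsingleton (LocCoh.H I n M) := Groth.Agent.Lib.helper19.LCGroth.vanish I M n hlt
    refine ⟨0, ?_⟩
    have h1 : Module.annihilator R (LocCoh.H I n M) = ⊤ := by
      rw [eq_top_iff]
      intro a _
      exact Module.mem_annihilator.mpr fun x => Subsingleton.elim _ _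
    rw [h1, sup_top_eq]
    exact le_top

/-- the complete case of the cofiniteness of top local cohomology -/
theorem isFiniteLength_ext_top_complete (I : Ideal R) (M : Type u) [AddCommGroup M] [Module R M]
    [Module.Finite R M] (n : ℕ) (hn : Module.supportDim R M ≤ n) (i : ℕ) :
    IsFiniteLength R (Abelian.Ext.{u} (ModuleCat.of R (R ⧸ I))
      (ModuleCat.of R (LocCoh.H I n M)) i) := by
  obtain ⟨k, hk⟩ := exists_pow_le_sup_annihilator R I M n hn
  haveI : IsArtinian R (LocCoh.H I n M) := Groth.Agent.S3262.isArtinian_top I n M hn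
  haveI := isArtinian_ext R (R ⧸ I) (LocCoh.H I n M) i
  apply isFiniteLength_of_isArtinian_of_kill R _ k
  intro a ha z
  obtain ⟨b, hb, c, hc, rfl⟩ := Submodule.mem_sup.mp (hk ha)
  have hc0 : c • 𝟙 (ModuleCat.of R (LocCoh.H I n M)) = 0 := by
    apply ModuleCat.hom_ext
    apply LinearMap.ext
    intro x
    exact Module.mem_annihilator.mp hc x
  rw [add_smul, ext_smul_eq_zero b (smul_id_quot_eq_zero I b hb) z, ext_smul_eq_zero' c hc0 z,
    add_zero]

end Complete

section General
variable (R : Type u) [CommRing R] [IsNoetherianRing R] [IsLocalRing R]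
open Groth.Agent.Lib.Helper24.CplCM TensorProduct

local notation "R̂" => AdicCompletion (maximalIdeal R) R

/-- **cofiniteness of top local cohomology**: `Ext^i(R/I, H^n_I(M))` has finite length -/
theorem isFiniteLength_ext_top (I : Ideal R) (M : Type u) [AddCommGroup M] [Module R M]
    [Module.Finite R M] (n : ℕ) (hn : Module.supportDim R M = n) (i : ℕ) :
    IsFiniteLength R (Abelian.Ext.{u} (ModuleCat.of R (R ⧸ I))
      (ModuleCat.of R (LocCoh.H I n M)) i) := by
  haveI : Nontrivial M := by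
    rw [← Module.supportDim_ne_bot_iff_nontrivial R, hn]
    exact WithBot.coe_ne_bot
  haveI := Groth.Agent.Lib.helper19.H1Cpl.isAdicComplete_cpl R
  haveI : Module.FaithfullyFlat R R̂ := Module.FaithfullyFlat.of_flat_of_isLocalHom
  have hdim : Module.supportDim R̂ (R̂ ⊗[R] M) ≤ n := (supportDim_baseChange_le R M).trans hn.le
  have hc := isFiniteLength_ext_top_complete R̂ (I.map (algebraMap R R̂)) (R̂ ⊗[R] M) n hdim i
  obtain ⟨eH⟩ := Groth.Agent.S11617.result R R̂ I M n
  obtain ⟨e1⟩ := Groth.Agent.Lib.helper19.CanMod.nonempty_extBaseChange' R R̂ (R ⧸ I)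
    (LocCoh.H I n M) (R̂ ⊗[R] (R ⧸ I)) (R̂ ⊗[R] LocCoh.H I n M)
    (TensorProduct.mk R R̂ (R ⧸ I) 1) (TensorProduct.isBaseChange R (R ⧸ I) R̂)
    (TensorProduct.mk R R̂ (LocCoh.H I n M) 1) (TensorProduct.isBaseChange R _ R̂) i
  let e2 := Groth.Agent.Lib.helper21.ExtCongr.left (R := R̂)
    ((Groth.Agent.Lib.helper19.FlatLen.quotEquiv (B := R̂) I).symm.toModuleIso)
    (ModuleCat.of R̂ (R̂ ⊗[R] LocCoh.H I n M)) i
  let e3 := Groth.Agent.Lib.helper21.ExtCongr.right (R := R̂)
    (ModuleCat.of R̂ (R̂ ⧸ I.map (algebraMap R R̂))) eH.toModuleIso i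
  have h1 : IsFiniteLength R̂ (R̂ ⊗[R] Abelian.Ext.{u} (ModuleCat.of R (R ⧸ I))
      (ModuleCat.of R (LocCoh.H I n M)) i) :=
    (Groth.Agent.Lib.helper19.FinLen.isFiniteLength_congr (e1.trans (e2.trans e3))).mpr hc
  rw [isFiniteLength_iff_isNoetherian_isArtinian] at h1 ⊢
  exact ⟨Submodule.IsNoetherian.of_isNoetherian_tensorProduct_of_faithfullyFlat h1.1,
    Submodule.IsArtinian.of_isArtinian_tensorProduct_of_faithfullyFlat h1.2⟩

end General

end Groth.Agent.Lib.helper19.TopLC
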