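import Mathlib
import Groth.Agent.Lib.Helper19.LocalDuality0
import Groth.Agent.Lib.Helper19.LCGroth
import Groth.Agent.Lib.Helper19.ExtColim1
import Groth.Agent.S11607

set_option autoImplicit false
universe u

/-!
# helper19: `H^n_I(M) ≅ M ⊗ H^n_I(R)` for arbitrary `M` when `H^{n+1}_I ≡ 0`; a module as filtered colimit of its f.g. submodules
-/

namespace Groth.Agent.Lib.helper19.TopLC
open CategoryTheory CategoryTheory.Limits TensorProduct
open Groth.Agent.Lib.helper19.ExtColim

section FG
variable {R : Type u} [CommRing R] (M : Type u) [AddCommGroup M] [Module R M]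

/-- the directed poset of finitely generated submodules -/
abbrev Λ : Type u := {N : Submodule R M // N.FG}

instance : Nonempty (Λ (R := R) M) := ⟨⟨⊥, Submodule.fg_bot⟩⟩

instance : IsDirected (Λ (R := R) M) (· ≤ ·) :=
  ⟨fun a b => ⟨⟨a.1 ⊔ b.1, a.2.sup b.2⟩, le_sup_left, le_sup_right⟩⟩

/-- the diagram of finitely generated submodules -/
noncomputable def K : Λ (R := R) M ⥤ ModuleCat.{u} R where
  obj N := ModuleCat.of R N.1
  map f := ModuleCat.ofHom (Submodule.inclusion (leOfHom f))
  map_id N := by
    apply ModuleCat.hom_ext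
    apply LinearMap.ext
    intro x
    rfl
  map_comp f g := by
    apply ModuleCat.hom_ext
    apply LinearMap.ext
    intro x
    rfl

/-- the cocone of inclusions -/
noncomputable def c : Cocone (K (R := R) M) where
  pt := ModuleCat.of R M
  ι :=
    { app := fun N => ModuleCat.ofHom N.1.subtype
      naturality := fun N N' f => by
        apply ModuleCat.hom_ext
        apply LinearMap.ext
        intro x
        rfl }

/-- a module is the filtered colimit of its finitely generated submodules -/
theorem isColimit_c : Nonempty (IsColimit (c (R := R) M)) := by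
  refine ⟨isColimitOfReflects (forget (ModuleCat.{u} R)) ?_⟩
  refine Types.FilteredColimit.isColimitOf' _ _ ?_ ?_
  · intro x
    refine ⟨⟨Submodule.span R {(x : M)}, Submodule.fg_span_singleton _⟩,
      ⟨(x : M), Submodule.mem_span_singleton_self _⟩, rfl⟩
  · intro j x y hxy
    refine ⟨j, 𝟙 j, ?_⟩
    have : (x : (K (R := R) M).obj j) = y := Subtype.ext hxy
    rw [this]

end FG

section Main
open Groth.Agent.Lib.helper19.LocalDuality0
variable {R : Type u} [CommRing R] [IsNoetherianRing R] (I : Ideal R) (n : ℕ)
variable (hv : ∀ M : ModuleCat.{u} R, Subsingleton ((localCohomology I (n + 1)).obj M))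

omit [IsNoetherianRing R] in
lemma μM_nat {M M' : Type u} [AddCommGroup M] [Module R M] [AddCommGroup M'] [Module R M']
    (g : M →ₗ[R] M') (t : M ⊗[R] X I n) :
    μM I n M' (LinearMap.rTensor (X I n) g t) =
      ((T I n).map (ModuleCat.ofHom g)).hom (μM I n M t) := by
  have := (μ I n).naturality (ModuleCat.ofHom g)
  exact congrArg (fun φ => φ.hom t) this

include hv in
/-- `M ⊗ H^n_I(R) → H^n_I(M)` is bijective for every module `M` when `H^{n+1}_I` vanishes -/
theorem μ_bijective_all (M : Type u) [AddCommGroup M] [Module R M] :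
    Function.Bijective (μM I n M) := by
  classical
  obtain ⟨hc⟩ := isColimit_c (R := R) M
  haveI := Groth.Agent.S11607.result R I n (Λ (R := R) M)
  have hcT : IsColimit ((T I n).mapCocone (c (R := R) M)) := isColimitOfPreserves (T I n) hc
  constructor
  · rw [injective_iff_map_eq_zero]
    intro t ht
    obtain ⟨N, hNfin, hN⟩ := TensorProduct.exists_finite_submodule_left_of_setFinite
      ({t} : Set (M ⊗[R] X I n)) (Set.finite_singleton t)
    obtain ⟨t', ht'⟩ := hN (Set.mem_singleton t)
    let j : Λ (R := R) M := ⟨N, Module.Finite.iff_fg.mp hNfin⟩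
    have h1 : ((T I n).map ((c (R := R) M).ι.app j)).hom (μM I n N t') = 0 := by
      have := μM_nat I n N.subtype t'
      rw [ht', ht] at this
      exact this.symm
    obtain ⟨k, f, hf⟩ := exists_map_eq_zero hcT (j := j) (μM I n N t') h1
    have hk : Module.Finite R k.1 := Module.Finite.iff_fg.mpr k.2
    have h2 : μM I n k.1 (LinearMap.rTensor (X I n) (Submodule.inclusion (leOfHom f)) t') = 0 := by
      rw [μM_nat]
      exact hf
    have h3 := (μ_bijective I n hv k.1).1 (h2.trans (map_zero _).symm)
    rw [← ht']
    have h4 : N.subtype = k.1.subtype ∘ₗ Submodule.inclusion (leOfHom f) := rfl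
    rw [h4, LinearMap.rTensor_comp, LinearMap.comp_apply, h3, map_zero]
  · intro y
    obtain ⟨j, y', hy'⟩ := exists_rep hcT y
    have hj : Module.Finite R j.1 := Module.Finite.iff_fg.mpr j.2
    obtain ⟨t', ht'⟩ := (μ_bijective I n hv j.1).2 y'
    refine ⟨LinearMap.rTensor (X I n) j.1.subtype t', ?_⟩
    rw [μM_nat, ht']
    exact hy'

end Main

end Groth.Agent.Lib.helper19.TopLC
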