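import Mathlib
import Groth.Agent.Lib.Helper13.TorBal6
import Groth.Agent.Lib.Helper19.DHomLinear

set_option autoImplicit false

/-! # Maps killed by `Tor` (helper19)

First-variable functoriality of Mathlib's `Tor` on `ModuleCat`: `tmap n M f : Tor_n(X, M) ⟶ Tor_n(Y, M)`.
* `tmap_comp`, `tmap_id`, `tmap_add`, `tmap_zero`, `tmap_sum`, `tmap_smul` (`A`-linearity), `smul_eq_tmap`.
* `tmap_τ₃_comp_eq_zero`: for morphisms of short exact sequences `φ₁ : S ⟶ S'`, `φ₂ : S' ⟶ S''` with
  `Tor_n(φ₁.τ₁) = 0` and `Tor_{n+1}(φ₂.τ₂) = 0` one has `Tor_{n+1}(φ₁.τ₃ ≫ φ₂.τ₃) = 0`.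
* `map_eq_zero_iff_tmap`: transport to the second variable through the balancing isomorphisms.
* `isZero_tor_of_flat`, `tmap_eq_zero_of_epi_shiftA`. -/

universe u

namespace Groth.Agent.Lib.helper19.TorKill
open CategoryTheory MonoidalCategory Groth.Agent.Lib.helper13.TorBal Groth.Agent.Lib.helper7.TorAPI

variable {A : Type u} [CommRing A]

/-- `Tor_n(f, M)`. -/
noncomputable abbrev tmap (n : ℕ) (M : ModuleCat.{u} A) {X Y : ModuleCat.{u} A} (f : X ⟶ Y) :
    ((Tor (ModuleCat.{u} A) n).obj X).obj M ⟶ ((Tor (ModuleCat.{u} A) n).obj Y).obj M :=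
  ((Tor (ModuleCat.{u} A) n).map f).app M

lemma tmap_comp (n : ℕ) (M : ModuleCat.{u} A) {X Y Z : ModuleCat.{u} A} (f : X ⟶ Y) (g : Y ⟶ Z) :
    tmap n M (f ≫ g) = tmap n M f ≫ tmap n M g := by
  change ((Tor (ModuleCat.{u} A) n).map (f ≫ g)).app M = _
  rw [Functor.map_comp, NatTrans.comp_app]

lemma tmap_id (n : ℕ) (M : ModuleCat.{u} A) (X : ModuleCat.{u} A) :
    tmap n M (𝟙 X) = 𝟙 _ := by
  change ((Tor (ModuleCat.{u} A) n).map (𝟙 X)).app M = _
  rw [CategoryTheory.Functor.map_id, NatTrans.id_app]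

theorem leftDerived_add' {C D : Type*} [Category C] [Abelian C] [HasProjectiveResolutions C]
    [Category D] [Abelian D] {F G : C ⥤ D} [F.Additive] [G.Additive] (α β : F ⟶ G) (n : ℕ) :
    NatTrans.leftDerived (α + β) n = NatTrans.leftDerived α n + NatTrans.leftDerived β n := by
  ext X
  obtain ⟨P⟩ : Nonempty (ProjectiveResolution X) := HasProjectiveResolution.out
  rw [NatTrans.app_add, ProjectiveResolution.leftDerived_app_eq (α + β) P,
    ProjectiveResolution.leftDerived_app_eq α P, ProjectiveResolution.leftDerived_app_eq β P]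
  have h : (NatTrans.mapHomologicalComplex (α + β) (ComplexShape.down ℕ)).app P.complex =
      (NatTrans.mapHomologicalComplex α (ComplexShape.down ℕ)).app P.complex +
      (NatTrans.mapHomologicalComplex β (ComplexShape.down ℕ)).app P.complex := by
    ext i
    simp
    rfl
  rw [h, Functor.map_add, Preadditive.add_comp, Preadditive.comp_add]

theorem leftDerived_smul' {R : Type*} [Ring R] {C D : Type*} [Category C] [Abelian C]
    [HasProjectiveResolutions C]
    [Category D] [Abelian D] [Linear R D] {F G : C ⥤ D} [F.Additive] [G.Additive] (r : R)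
    (α : F ⟶ G) (n : ℕ) :
    NatTrans.leftDerived (r • α) n = r • NatTrans.leftDerived α n := by
  ext X
  obtain ⟨P⟩ : Nonempty (ProjectiveResolution X) := HasProjectiveResolution.out
  rw [NatTrans.app_smul, ProjectiveResolution.leftDerived_app_eq (r • α) P,
    ProjectiveResolution.leftDerived_app_eq α P]
  have h : (NatTrans.mapHomologicalComplex (r • α) (ComplexShape.down ℕ)).app P.complex =
      r • (NatTrans.mapHomologicalComplex α (ComplexShape.down ℕ)).app P.complex := by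
    ext i
    simp
    rfl
  rw [h]
  change _ ≫ HomologicalComplex.homologyMap _ n ≫ _ = _
  rw [Groth.Agent.Lib.helper19.DHomLinear.hc_smul, Linear.smul_comp, Linear.comp_smul]
  rfl

lemma tmap_add (n : ℕ) (M : ModuleCat.{u} A) {X Y : ModuleCat.{u} A} (f g : X ⟶ Y) :
    tmap n M (f + g) = tmap n M f + tmap n M g := by
  have : (tensoringLeft (ModuleCat.{u} A)).map (f + g) =
      (tensoringLeft (ModuleCat.{u} A)).map f + (tensoringLeft (ModuleCat.{u} A)).map g := by
    ext Z : 2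
    simp
  change (NatTrans.leftDerived ((tensoringLeft (ModuleCat.{u} A)).map (f + g)) n).app M = _
  rw [this, leftDerived_add', NatTrans.app_add]
  rfl

lemma tmap_zero (n : ℕ) (M : ModuleCat.{u} A) (X Y : ModuleCat.{u} A) :
    tmap n M (0 : X ⟶ Y) = 0 := by
  have h := tmap_add n M (0 : X ⟶ Y) 0
  rw [add_zero] at h
  exact left_eq_add.mp h

lemma tmap_sum (n : ℕ) (M : ModuleCat.{u} A) {X Y : ModuleCat.{u} A} {ι : Type*} (s : Finset ι)
    (f : ι → (X ⟶ Y)) : tmap n M (∑ j ∈ s, f j) = ∑ j ∈ s, tmap n M (f j) := by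
  classical
  induction s using Finset.induction_on with
  | empty => simp only [Finset.sum_empty]; exact tmap_zero n M X Y
  | insert a s ha ih => rw [Finset.sum_insert ha, Finset.sum_insert ha, tmap_add, ih]

lemma tmap_smul (n : ℕ) (M : ModuleCat.{u} A) {X Y : ModuleCat.{u} A} (a : A) (f : X ⟶ Y) :
    tmap n M (a • f) = a • tmap n M f := by
  have : (tensoringLeft (ModuleCat.{u} A)).map (a • f) =
      a • (tensoringLeft (ModuleCat.{u} A)).map f := by
    ext Z : 2
    simp
  change (NatTrans.leftDerived ((tensoringLeft (ModuleCat.{u} A)).map (a • f)) n).app M = _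
  rw [this, leftDerived_smul', NatTrans.app_smul]
  rfl

/-- the scalar action on `Tor_n(X, M)` is induced by the scalar action on `X`. -/
lemma smul_eq_tmap (n : ℕ) (M X : ModuleCat.{u} A) (a : A)
    (x : ((Tor (ModuleCat.{u} A) n).obj X).obj M) :
    a • x = (tmap n M (a • 𝟙 X)).hom x := by
  rw [tmap_smul, tmap_id]
  rfl

/-- the basic dévissage step. -/
theorem tmap_τ₃_comp_eq_zero {S S' S'' : ShortComplex (ModuleCat.{u} A)} (hS : S.ShortExact)
    (hS' : S'.ShortExact) (φ₁ : S ⟶ S') (φ₂ : S' ⟶ S'') (M : ModuleCat.{u} A) (n : ℕ)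
    (h₁ : tmap n M φ₁.τ₁ = 0) (h₂ : tmap (n + 1) M φ₂.τ₂ = 0) :
    tmap (n + 1) M (φ₁.τ₃ ≫ φ₂.τ₃) = 0 := by
  have nat := shiftA_naturality₁ hS hS' φ₁ M n
  have h3 : tmap (n + 1) M φ₁.τ₃ ≫ shiftA hS' M n = 0 := by
    change ((Tor (ModuleCat.{u} A) (n + 1)).map φ₁.τ₃).app M ≫ shiftA hS' M n = 0
    rw [nat]
    change _ ≫ tmap n M φ₁.τ₁ = 0
    rw [h₁, Limits.comp_zero]
  have hex := (funSES hS').«exact_map_∂» (projectiveResolution M) n
  rw [ShortComplex.moduleCat_exact_iff] at hex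
  rw [tmap_comp]
  apply ModuleCat.hom_ext
  apply LinearMap.ext
  intro z
  obtain ⟨w, hw⟩ := hex ((tmap (n + 1) M φ₁.τ₃).hom z) (by
    have := congrArg (fun k => k.hom z) h3
    exact this)
  have hw' : (tmap (n + 1) M S'.g).hom w = (tmap (n + 1) M φ₁.τ₃).hom z := hw
  have h4 : tmap (n + 1) M S'.g ≫ tmap (n + 1) M φ₂.τ₃ =
      tmap (n + 1) M φ₂.τ₂ ≫ tmap (n + 1) M S''.g := by
    rw [← tmap_comp, ← tmap_comp, φ₂.comm₂₃]
  change (tmap (n + 1) M φ₂.τ₃).hom ((tmap (n + 1) M φ₁.τ₃).hom z) = 0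
  rw [← hw']
  have h5 := congrArg (fun k => k.hom w) h4
  change (tmap (n + 1) M φ₂.τ₃).hom ((tmap (n + 1) M S'.g).hom w) = _ at h5
  rw [h5, h₂, Limits.zero_comp]
  rfl

/-- transport to the second variable. -/
theorem map_eq_zero_iff_tmap (n : ℕ) (M : ModuleCat.{u} A) {N N' : ModuleCat.{u} A} (g : N ⟶ N') :
    ((Tor (ModuleCat.{u} A) n).obj M).map g = 0 ↔ tmap n M g = 0 := by
  have h := (bal (A := A) n).nat₂ M g
  constructor
  · intro h0
    rw [h0, Limits.zero_comp] at h
    have : ((bal (A := A) n).iso M N).hom ≫ tmap n M g = 0 := h.symm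
    rw [← cancel_epi ((bal (A := A) n).iso M N).hom, this, Limits.comp_zero]
  · intro h0
    change _ = ((bal (A := A) n).iso M N).hom ≫ tmap n M g at h
    rw [h0, Limits.comp_zero] at h
    rw [← cancel_mono ((bal (A := A) n).iso M N').hom, h, Limits.zero_comp]

/-- second-variable scalar action. -/
lemma smul_eq_map (n : ℕ) (M N : ModuleCat.{u} A) (a : A)
    (x : ((Tor (ModuleCat.{u} A) n).obj M).obj N) :
    a • x = (((Tor (ModuleCat.{u} A) n).obj M).map (a • 𝟙 N)).hom x := by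
  have h := (bal (A := A) n).nat₂ M (a • 𝟙 N)
  have h2 : ((Tor (ModuleCat.{u} A) n).obj M).map (a • 𝟙 N) =
      ((bal (A := A) n).iso M N).hom ≫ tmap n M (a • 𝟙 N) ≫ ((bal (A := A) n).iso M N).inv := by
    rw [← Category.assoc, ← h, Category.assoc, Iso.hom_inv_id, Category.comp_id]
  rw [h2, tmap_smul, tmap_id]
  simp

lemma isZero_tor_of_flat (n : ℕ) (X M : ModuleCat.{u} A) [Module.Flat A X] :
    Limits.IsZero (((Tor (ModuleCat.{u} A) (n + 1)).obj X).obj M) :=
  isZero_T_flat X M n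

end Groth.Agent.Lib.helper19.TorKill
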