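import Mathlib
import Groth.Agent.Lib.Helper19.TorKill
import Groth.Agent.Lib.Helper19.PolyFilt

set_option autoImplicit false

/-! # Uniform vanishing of the transition maps of `Tor_i(A ⧸ I ^ n, M)` above the number of generators
(helper19)

`TZF I k c`: for all `M`, all `m + c ≤ n` and all `i > k` the map `Tor_i(A ⧸ I ^ n, M) ⟶ Tor_i(A ⧸ I ^ m, M)`
is zero.  `exists_TZF_finset`: over a Noetherian ring, if `I` is generated by at most `t` elements then
`TZF I t c` for some `c`.  Consequences `map_tr_eq_zero` (second variable form) and `smul_eq_zero`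
(`I ^ c` kills `Tor_i(M, A ⧸ I ^ q)`, `i > t`). -/

universe u

namespace Groth.Agent.Lib.helper19.TorTrans
open CategoryTheory Polynomial Groth.Agent.Lib.helper19.TorKill Groth.Agent.Lib.helper19.PolyFilt

variable {A : Type u} [CommRing A]

/-- uniform vanishing of transition maps on `Tor` (first variable form). -/
def TZF (I : Ideal A) (k c : ℕ) : Prop :=
  ∀ (M : ModuleCat.{u} A) (n m : ℕ) (h : m ≤ n), m + c ≤ n → ∀ i : ℕ, k < i →
    tmap i M (ModuleCat.ofHom (tr I n m h)) = 0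

lemma TZF.mono {I : Ideal A} {k k' c : ℕ} (h : TZF I k c) (hk : k ≤ k') : TZF I k' c :=
  fun M n m hmn hc i hi => h M n m hmn hc i (lt_of_le_of_lt hk hi)

lemma tmap_eq_zero_of_subsingleton (n : ℕ) (M : ModuleCat.{u} A) {X Y : ModuleCat.{u} A} (g : X ⟶ Y)
    [Subsingleton Y] : tmap n M g = 0 := by
  have : g = 0 := by
    apply ModuleCat.hom_ext
    apply LinearMap.ext
    intro x
    exact Subsingleton.elim _ _
  rw [this, tmap_zero]

section step

variable (I' : Ideal A) (f : A)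

/-- the objects `A[X] ⧸ J ^ n`. -/
noncomputable abbrev NN (n : ℕ) : ModuleCat.{u} A := ModuleCat.of A (A[X] ⧸ J I' ^ n)

/-- the objects `A[X] ⧸ (J ^ n : g)`. -/
noncomputable abbrev DD (n : ℕ) : ModuleCat.{u} A := ModuleCat.of A (A[X] ⧸ Cn I' f n)

/-- the objects `A ⧸ I ^ n`. -/
noncomputable abbrev QQ (I : Ideal A) (n : ℕ) : ModuleCat.{u} A := ModuleCat.of A (A ⧸ I ^ n)

lemma id_NN_eq (n : ℕ) : 𝟙 (NN I' n) = ∑ j : Fin n,
    ModuleCat.ofHom (prj I' n j (n - j) (by omega)) ≫ ModuleCat.ofHom (inj I' n j (n - j) (by omega)) := by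
  apply ModuleCat.hom_ext
  rw [ModuleCat.hom_sum]
  exact (sum_inj_prj I' n).symm

theorem tmap_fac_NN_eq_zero {k c' : ℕ} (h : TZF I' k c') (M : ModuleCat.{u} A) (n m : ℕ) (hmn : m ≤ n)
    (hc : m + c' ≤ n) (i : ℕ) (hi : k < i) :
    tmap i M (ModuleCat.ofHom (fac (Jpow_anti I' hmn)) : NN I' n ⟶ NN I' m) = 0 := by
  have h1 : (ModuleCat.ofHom (fac (Jpow_anti I' hmn)) : NN I' n ⟶ NN I' m) =
      𝟙 (NN I' n) ≫ ModuleCat.ofHom (fac (Jpow_anti I' hmn)) := (Category.id_comp _).symm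
  rw [h1, id_NN_eq, Preadditive.sum_comp, tmap_sum]
  refine Finset.sum_eq_zero fun j _ => ?_
  have h2 : ModuleCat.ofHom (inj I' n j (n - j) (by omega)) ≫
      (ModuleCat.ofHom (fac (Jpow_anti I' hmn)) : NN I' n ⟶ NN I' m) =
      ModuleCat.ofHom (tr I' (n - j) (m - j) (by omega)) ≫
        ModuleCat.ofHom (inj I' m j (m - j) (by omega)) := by
    rw [← ModuleCat.ofHom_comp, ← ModuleCat.ofHom_comp]
    congr 1
    exact fac_inj I' hmn _ _ _
  rw [Category.assoc, h2, tmap_comp, tmap_comp]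
  have h3 : tmap i M (ModuleCat.ofHom (tr I' (n - j) (m - j) (by omega))) = 0 := by
    by_cases hj : (j : ℕ) ≤ m
    · exact h M (n - j) (m - j) _ (by omega) i hi
    · have h0 : m - (j : ℕ) = 0 := by omega
      haveI : Subsingleton (A ⧸ I' ^ (m - (j : ℕ))) := by
        rw [h0, pow_zero, Ideal.one_eq_top]
        exact Submodule.Quotient.subsingleton_iff.mpr rfl
      exact tmap_eq_zero_of_subsingleton i M _
  rw [h3, Limits.zero_comp, Limits.comp_zero]

/-- the first short exact sequence `0 → (J ^ n : g) / J ^ n → A[X] ⧸ J ^ n → A[X] ⧸ (J ^ n : g) → 0`. -/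
noncomputable abbrev S1 (n : ℕ) : ShortComplex (ModuleCat.{u} A) :=
  (fac (Jpow_le_Cn I' f n)).shortComplexKer

lemma S1_shortExact (n : ℕ) : (S1 I' f n).ShortExact :=
  LinearMap.shortExact_shortComplexKer (fac_surjective _)

/-- the transition morphisms of `S1`. -/
noncomputable def S1hom {n m : ℕ} (h : m ≤ n) : S1 I' f n ⟶ S1 I' f m :=
  ShortComplex.homMk
    (ModuleCat.ofHom ((fac (Jpow_anti I' h)).restrict (fun x hx => by
      rw [LinearMap.mem_ker] at hx ⊢
      have h1 := LinearMap.congr_fun (fac_comp (Jpow_le_Cn I' f n) (Cn_anti I' f h)) x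
      have h2 := LinearMap.congr_fun (fac_comp (Jpow_anti I' h) (Jpow_le_Cn I' f m)) x
      rw [LinearMap.comp_apply] at h1 h2
      rw [h2, ← h1, hx, map_zero])))
    (ModuleCat.ofHom (fac (Jpow_anti I' h)))
    (ModuleCat.ofHom (fac (Cn_anti I' f h)))
    (by
      apply ModuleCat.hom_ext
      apply LinearMap.ext
      intro x
      rfl)
    (by
      change ModuleCat.ofHom (fac (Jpow_anti I' h)) ≫ ModuleCat.ofHom (fac (Jpow_le_Cn I' f m)) =
        ModuleCat.ofHom (fac (Jpow_le_Cn I' f n)) ≫ ModuleCat.ofHom (fac (Cn_anti I' f h))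
      rw [← ModuleCat.ofHom_comp, ← ModuleCat.ofHom_comp, fac_comp, fac_comp])

lemma S1hom_τ₁_eq_zero {n m e : ℕ}
    (he : ∀ (n : ℕ) (p : A[X]), (X - C f) * p ∈ J I' ^ n → p ∈ J I' ^ (n - e)) (h : m + e ≤ n)
    (hmn : m ≤ n) : (S1hom I' f hmn).τ₁ = 0 := by
  apply ModuleCat.hom_ext
  apply LinearMap.ext
  rintro ⟨x, hx⟩
  apply Subtype.ext
  change fac (Jpow_anti I' hmn) x = 0
  rw [LinearMap.mem_ker] at hx
  have h1 := fac_eq_zero_of_mem_ker I' f he x hx
  have h2 := LinearMap.congr_fun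
    (fac_comp (Jpow_anti I' (Nat.sub_le n e)) (Jpow_anti I' (show m ≤ n - e by omega))) x
  rw [LinearMap.comp_apply, h1, map_zero] at h2
  exact h2.symm

/-- the second short exact sequence `0 → A[X] ⧸ (J ^ n : g) → A[X] ⧸ J ^ n → A ⧸ I ^ n → 0`. -/
noncomputable abbrev S2 (n : ℕ) : ShortComplex (ModuleCat.{u} A) :=
  ShortComplex.mk (ModuleCat.ofHom (mulg I' f n)) (ModuleCat.ofHom (ev I' f n)) (by
    rw [← ModuleCat.ofHom_comp]
    have : ev I' f n ∘ₗ mulg I' f n = 0 := (exact_mulg_ev I' f n).linearMap_comp_eq_zero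
    rw [this]
    rfl)

lemma S2_shortExact (n : ℕ) : (S2 I' f n).ShortExact :=
  ModuleCat.shortComplex_shortExact _ (exact_mulg_ev I' f n) (mulg_injective I' f n)
    (ev_surjective I' f n)

/-- the transition morphisms of `S2`. -/
noncomputable def S2hom {n m : ℕ} (h : m ≤ n) : S2 I' f n ⟶ S2 I' f m :=
  ShortComplex.homMk
    (ModuleCat.ofHom (fac (Cn_anti I' f h)))
    (ModuleCat.ofHom (fac (Jpow_anti I' h)))
    (ModuleCat.ofHom (tr (I' ⊔ Ideal.span {f}) n m h))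
    (by
      change ModuleCat.ofHom (fac (Cn_anti I' f h)) ≫ ModuleCat.ofHom (mulg I' f m) =
        ModuleCat.ofHom (mulg I' f n) ≫ ModuleCat.ofHom (fac (Jpow_anti I' h))
      rw [← ModuleCat.ofHom_comp, ← ModuleCat.ofHom_comp, fac_mulg I' f h])
    (by
      change ModuleCat.ofHom (fac (Jpow_anti I' h)) ≫ ModuleCat.ofHom (ev I' f m) =
        ModuleCat.ofHom (ev I' f n) ≫ ModuleCat.ofHom (tr (I' ⊔ Ideal.span {f}) n m h)
      rw [← ModuleCat.ofHom_comp, ← ModuleCat.ofHom_comp, ev_fac I' f h])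

theorem step [IsNoetherianRing A] {k c' : ℕ} (h : TZF I' k c') :
    ∃ c, TZF (I' ⊔ Ideal.span {f}) (k + 1) c := by
  obtain ⟨e, he⟩ := exists_colon_le I' f
  refine ⟨e + c' + c', ?_⟩
  intro M n m hmn hc i hi
  obtain ⟨j, rfl⟩ : ∃ j, i = j + 1 := ⟨i - 1, by omega⟩
  obtain ⟨j', rfl⟩ : ∃ j', j = j' + 1 := ⟨j - 1, by omega⟩
  have hn₁ : m + c' + c' ≤ n := by omega
  have hn₂ : m + c' ≤ m + c' + c' := by omega
  have hn₃ : m ≤ m + c' := by omega
  -- the first sequence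
  have hD : tmap (j' + 1) M ((S1hom I' f hn₁).τ₃ ≫ (S1hom I' f hn₂).τ₃) = 0 :=
    tmap_τ₃_comp_eq_zero (S1_shortExact I' f n) (S1_shortExact I' f _) (S1hom I' f hn₁)
      (S1hom I' f hn₂) M j'
      (by rw [S1hom_τ₁_eq_zero I' f he (by omega) hn₁, tmap_zero])
      (tmap_fac_NN_eq_zero I' h M _ _ hn₂ (by omega) (j' + 1) (by omega))
  have hD' : tmap (j' + 1) M (S2hom I' f (hn₂.trans hn₁)).τ₁ = 0 := by
    have : (S2hom I' f (hn₂.trans hn₁)).τ₁ = (S1hom I' f hn₁).τ₃ ≫ (S1hom I' f hn₂).τ₃ := by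
      change ModuleCat.ofHom (fac (Cn_anti I' f (hn₂.trans hn₁))) =
        ModuleCat.ofHom (fac (Cn_anti I' f hn₁)) ≫ ModuleCat.ofHom (fac (Cn_anti I' f hn₂))
      rw [← ModuleCat.ofHom_comp, fac_comp]
    rw [this, hD]
  -- the second sequence
  have hQ : tmap (j' + 1 + 1) M ((S2hom I' f (hn₂.trans hn₁)).τ₃ ≫ (S2hom I' f hn₃).τ₃) = 0 :=
    tmap_τ₃_comp_eq_zero (S2_shortExact I' f n) (S2_shortExact I' f _) (S2hom I' f (hn₂.trans hn₁))
      (S2hom I' f hn₃) M (j' + 1) hD'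
      (tmap_fac_NN_eq_zero I' h M _ _ hn₃ (by omega) (j' + 1 + 1) (by omega))
  have : (S2hom I' f (hn₂.trans hn₁)).τ₃ ≫ (S2hom I' f hn₃).τ₃ =
      ModuleCat.ofHom (tr (I' ⊔ Ideal.span {f}) n m hmn) := by
    change ModuleCat.ofHom (tr (I' ⊔ Ideal.span {f}) n (m + c') (hn₂.trans hn₁)) ≫
      ModuleCat.ofHom (tr (I' ⊔ Ideal.span {f}) (m + c') m hn₃) = _
    rw [← ModuleCat.ofHom_comp]
    congr 1
    apply Submodule.linearMap_qext
    rfl
  rw [← this]
  exact hQ

end step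

theorem TZF_bot : TZF (⊥ : Ideal A) 0 0 := by
  intro M n m hmn _ i hi
  obtain ⟨j, rfl⟩ : ∃ j, i = j + 1 := ⟨i - 1, by omega⟩
  haveI : Module.Flat A (A ⧸ (⊥ : Ideal A) ^ n) := by
    rcases Nat.eq_zero_or_pos n with h0 | h0
    · subst h0
      haveI : Subsingleton (A ⧸ (⊥ : Ideal A) ^ 0) := by
        rw [pow_zero, Ideal.one_eq_top]
        exact Submodule.Quotient.subsingleton_iff.mpr rfl
      infer_instance
    · rw [Ideal.bot_pow (by omega : n ≠ 0)]
      exact Module.Flat.of_linearEquiv (Submodule.quotEquivOfEqBot ⊥ rfl)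
  exact (isZero_tor_of_flat j (ModuleCat.of A (A ⧸ (⊥ : Ideal A) ^ n)) M).eq_of_src _ _

theorem exists_TZF_list [IsNoetherianRing A] (l : List A) :
    ∃ c, TZF (Ideal.span {x | x ∈ l}) l.length c := by
  induction l with
  | nil =>
    refine ⟨0, ?_⟩
    have : ({x | x ∈ ([] : List A)} : Set A) = ∅ := by ext; simp
    rw [this, Ideal.span_empty]
    exact TZF_bot
  | cons f l ih =>
    obtain ⟨c', hc'⟩ := ih
    obtain ⟨c, hc⟩ := step (Ideal.span {x | x ∈ l}) f hc'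
    refine ⟨c, ?_⟩
    have : ({x | x ∈ f :: l} : Set A) = insert f {x | x ∈ l} := by
      ext x; simp
    rw [this, Ideal.span_insert, sup_comm, List.length_cons]
    exact hc

theorem exists_TZF_finset [IsNoetherianRing A] (I : Ideal A) (t : ℕ) (s : Finset A)
    (hs : I = Ideal.span (s : Set A)) (ht : s.card ≤ t) : ∃ c, TZF I t c := by
  obtain ⟨c, hc⟩ := exists_TZF_list s.toList
  refine ⟨c, ?_⟩
  have : ({x | x ∈ s.toList} : Set A) = (s : Set A) := by ext x; simp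
  rw [this, ← hs, Finset.length_toList] at hc
  exact hc.mono ht

/-- second variable form. -/
theorem map_tr_eq_zero {I : Ideal A} {t c : ℕ} (h : TZF I t c) (M : ModuleCat.{u} A) (n : ℕ)
    (i : ℕ) (hi : t < i) :
    ((Tor (ModuleCat.{u} A) i).obj M).map (ModuleCat.ofHom (tr I n (n - c) (Nat.sub_le n c))) = 0 := by
  rw [map_eq_zero_iff_tmap]
  by_cases hn : c ≤ n
  · exact h M n (n - c) _ (by omega) i hi
  · have h0 : n - c = 0 := by omega
    haveI : Subsingleton (A ⧸ I ^ (n - c)) := by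
      rw [h0, pow_zero, Ideal.one_eq_top]
      exact Submodule.Quotient.subsingleton_iff.mpr rfl
    exact tmap_eq_zero_of_subsingleton i M _

/-- `I ^ c` kills `Tor_i(M, A ⧸ I ^ q)`. -/
theorem smul_eq_zero {I : Ideal A} {t c : ℕ} (h : TZF I t c) (M : ModuleCat.{u} A) (i q : ℕ)
    (hi : t < i) (a : A) (ha : a ∈ I ^ c)
    (x : ((Tor (ModuleCat.{u} A) i).obj M).obj (ModuleCat.of A (A ⧸ I ^ q))) : a • x = 0 := by
  rw [TorKill.smul_eq_map]
  have hle : I ^ (q - c) ≤ Submodule.comap (a • (LinearMap.id : A →ₗ[A] A)) (I ^ q) := by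
    intro y hy
    change a • y ∈ I ^ q
    have : a * y ∈ I ^ (c + (q - c)) := by
      rw [pow_add]; exact Ideal.mul_mem_mul ha hy
    exact Ideal.pow_le_pow_right (by omega) this
  have hfac : a • 𝟙 (ModuleCat.of A (A ⧸ I ^ q)) =
      ModuleCat.ofHom (tr I q (q - c) (Nat.sub_le q c)) ≫
        ModuleCat.ofHom (Submodule.mapQ (I ^ (q - c)) (I ^ q) (a • LinearMap.id) hle) := by
    apply ModuleCat.hom_ext
    apply Submodule.linearMap_qext
    rfl
  rw [hfac, Functor.map_comp, map_tr_eq_zero h M q i hi, Limits.zero_comp]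
  rfl

end Groth.Agent.Lib.helper19.TorTrans
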