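import Mathlib
import Groth.Prelude.Def_BlowUp2
import Groth.Agent.Lib.Helper19.TorTrans
import Groth.Agent.Lib.Helper10.TorColim
import Groth.Agent.Lib.Helper16.ReesBlowup3

set_option autoImplicit false

/-! # `Tor_i(A[I/a], M)` is killed by a power of `I` above the number of generators (helper19)

* `tmap_smul_id_QQ_eq_zero`, `tmap_smul_id_ideal_eq_zero`: for `TZF I t c` and `x ∈ I ^ c`, multiplication by
  `x` is zero on `Tor_i(A ⧸ I ^ n, M)` (`i > t`) and on `Tor_i(I ^ n, M)` (`i + 1 > t`, `i > 0`).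
* `powDiag`, `powCocone`, `powIsColimit`: the affine blow-up algebra `A[I/a]` is the colimit of
  `I ^ n` along multiplication by `a`.
* `main`: `I ^ c` kills `Tor_i(A[I/a₀], M)` for `i ≥ t + 1` when `I = (a₀, …, a_t)`. -/

universe u

namespace Groth.Agent.Lib.helper19.TorBlow
open CategoryTheory Groth.Agent.Lib.helper19.TorKill Groth.Agent.Lib.helper19.PolyFilt
  Groth.Agent.Lib.helper19.TorTrans Groth.Agent.Lib.helper13.TorBal Groth.Agent.Lib.helper7.TorAPI

variable {A : Type u} [CommRing A]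

theorem tmap_tr_eq_zero {I : Ideal A} {t c : ℕ} (h : TZF I t c) (M : ModuleCat.{u} A) (n i : ℕ)
    (hi : t < i) : tmap i M (ModuleCat.ofHom (tr I n (n - c) (Nat.sub_le n c))) = 0 :=
  (map_eq_zero_iff_tmap i M _).mp (map_tr_eq_zero h M n i hi)

theorem tmap_smul_id_QQ_eq_zero {I : Ideal A} {t c : ℕ} (h : TZF I t c) (M : ModuleCat.{u} A)
    (n i : ℕ) (hi : t < i) (x : A) (hx : x ∈ I ^ c) :
    tmap i M (x • 𝟙 (ModuleCat.of A (A ⧸ I ^ n))) = 0 := by
  have hle : I ^ (n - c) ≤ Submodule.comap (x • (LinearMap.id : A →ₗ[A] A)) (I ^ n) := by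
    intro y hy
    change x • y ∈ I ^ n
    have : x * y ∈ I ^ (c + (n - c)) := by
      rw [pow_add]; exact Ideal.mul_mem_mul hx hy
    exact Ideal.pow_le_pow_right (by omega) this
  have hfac : x • 𝟙 (ModuleCat.of A (A ⧸ I ^ n)) =
      ModuleCat.ofHom (tr I n (n - c) (Nat.sub_le n c)) ≫
        ModuleCat.ofHom (Submodule.mapQ (I ^ (n - c)) (I ^ n) (x • LinearMap.id) hle) := by
    apply ModuleCat.hom_ext
    apply Submodule.linearMap_qext
    rfl
  rw [hfac, tmap_comp, tmap_tr_eq_zero h M n i hi, Limits.zero_comp]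

/-- the short exact sequence `0 → K → A → A ⧸ K → 0`. -/
noncomputable abbrev idealSC (K : Ideal A) : ShortComplex (ModuleCat.{u} A) :=
  ShortComplex.mk (ModuleCat.ofHom (Submodule.subtype K)) (ModuleCat.ofHom (Submodule.mkQ K)) (by
    rw [← ModuleCat.ofHom_comp]
    have : Submodule.mkQ K ∘ₗ Submodule.subtype K = 0 :=
      (LinearMap.exact_subtype_mkQ K).linearMap_comp_eq_zero
    rw [this]
    rfl)

lemma idealSC_shortExact (K : Ideal A) : (idealSC K).ShortExact :=
  ModuleCat.shortComplex_shortExact _ (LinearMap.exact_subtype_mkQ K) (Submodule.injective_subtype K)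
    (Submodule.mkQ_surjective K)

/-- multiplication by `x` on `idealSC K`. -/
noncomputable def smulHom (K : Ideal A) (x : A) : idealSC K ⟶ idealSC K :=
  ShortComplex.homMk (x • 𝟙 _) (x • 𝟙 _) (x • 𝟙 _)
    (by rw [Linear.smul_comp, Linear.comp_smul, Category.id_comp, Category.comp_id])
    (by rw [Linear.smul_comp, Linear.comp_smul, Category.id_comp, Category.comp_id])

theorem tmap_smul_id_ideal_eq_zero {I : Ideal A} {t c : ℕ} (h : TZF I t c) (M : ModuleCat.{u} A)
    (n i : ℕ) (hi : t < i + 1 + 1) (x : A) (hx : x ∈ I ^ c) :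
    tmap (i + 1) M (x • 𝟙 (ModuleCat.of A ↥(I ^ n))) = 0 := by
  have hS := idealSC_shortExact (I ^ n)
  have nat := shiftA_naturality₁ hS hS (smulHom (I ^ n) x) M (i + 1)
  have h1 : tmap (i + 1 + 1) M (smulHom (I ^ n) x).τ₃ = 0 :=
    tmap_smul_id_QQ_eq_zero h M n (i + 1 + 1) hi x hx
  have h2 : shiftA hS M (i + 1) ≫ tmap (i + 1) M (smulHom (I ^ n) x).τ₁ = 0 := by
    change shiftA hS M (i + 1) ≫ ((Tor (ModuleCat.{u} A) (i + 1)).map (smulHom (I ^ n) x).τ₁).app M = 0
    rw [← nat]
    change tmap (i + 1 + 1) M (smulHom (I ^ n) x).τ₃ ≫ _ = 0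
    rw [h1, Limits.zero_comp]
  haveI : Module.Flat A ((idealSC (I ^ n)).X₂) := inferInstanceAs (Module.Flat A A)
  have hz : Limits.IsZero (((Tor (ModuleCat.{u} A) (i + 1)).obj (idealSC (I ^ n)).X₂).obj M) :=
    isZero_tor_of_flat i _ M
  haveI : Epi (shiftA hS M (i + 1)) := (exact_shiftA hS M (i + 1)).epi_f (hz.eq_of_tgt _ _)
  exact (cancel_epi (shiftA hS M (i + 1))).mp (h2.trans Limits.comp_zero.symm)

section colim

variable (I : Ideal A) (a : A) (ha : a ∈ I)

/-- the index category `ℕ` in universe `u`. -/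
def NatU : Type u := ULift.{u} ℕ

/-- the underlying natural number. -/
def NatU.val (n : NatU.{u}) : ℕ := ULift.down n

/-- the element of `NatU` attached to a natural number. -/
def NatU.mk (n : ℕ) : NatU.{u} := ULift.up n

@[simp] lemma NatU.val_mk (n : ℕ) : (NatU.mk.{u} n).val = n := rfl

instance : Preorder NatU.{u} := Preorder.lift NatU.val

lemma NatU.val_le {n m : NatU.{u}} (f : n ⟶ m) : n.val ≤ m.val := by
  have h : n ≤ m := leOfHom f
  exact h

instance : Nonempty NatU.{u} := ⟨NatU.mk 0⟩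

instance : IsDirected NatU.{u} (· ≤ ·) :=
  ⟨fun x y => ⟨NatU.mk (max x.val y.val), le_max_left x.val y.val, le_max_right x.val y.val⟩⟩

instance : IsFiltered NatU.{u} := isFiltered_of_directed_le_nonempty _

include ha in
lemma mulPow_mem {n m : ℕ} (h : n ≤ m) : ∀ x ∈ I ^ n, (LinearMap.mulLeft A (a ^ (m - n))) x ∈ I ^ m := by
  intro x hx
  have h1 : a ^ (m - n) * x ∈ I ^ (m - n + n) := by
    rw [pow_add]; exact Ideal.mul_mem_mul (Ideal.pow_mem_pow ha _) hx
  rw [Nat.sub_add_cancel h] at h1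
  exact h1

/-- multiplication by `a ^ (m - n)` from `I ^ n` to `I ^ m`. -/
noncomputable def mulPow {n m : ℕ} (h : n ≤ m) : ↥(I ^ n) →ₗ[A] ↥(I ^ m) :=
  (LinearMap.mulLeft A (a ^ (m - n))).restrict (mulPow_mem I a ha h)

@[simp] lemma mulPow_coe {n m : ℕ} (h : n ≤ m) (x : ↥(I ^ n)) :
    ((mulPow I a ha h x : ↥(I ^ m)) : A) = a ^ (m - n) * (x : A) := rfl

/-- the diagram `n ↦ I ^ n` with transition maps multiplication by powers of `a`. -/
noncomputable def powDiag : NatU.{u} ⥤ ModuleCat.{u} A where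
  obj n := ModuleCat.of A ↥(I ^ n.val)
  map {n m} f := ModuleCat.ofHom (mulPow I a ha (NatU.val_le f))
  map_id n := by
    apply ModuleCat.hom_ext
    apply LinearMap.ext
    intro x
    apply Subtype.ext
    change a ^ (n.val - n.val) * (x : A) = x
    rw [Nat.sub_self, pow_zero, one_mul]
  map_comp {n m k} f g := by
    apply ModuleCat.hom_ext
    apply LinearMap.ext
    intro x
    apply Subtype.ext
    have h1 : n.val ≤ m.val := NatU.val_le f
    have h2 : m.val ≤ k.val := NatU.val_le g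
    change a ^ (k.val - n.val) * (x : A) = a ^ (k.val - m.val) * (a ^ (m.val - n.val) * (x : A))
    rw [← mul_assoc, ← pow_add]
    congr 2
    omega

open Groth.Agent.Lib.helper16.ReesBlowup in
/-- `x ↦ x / a ^ n`. -/
noncomputable def phi (n : ℕ) : ↥(I ^ n) →ₗ[A] ↥(BlowUp.affineAlgebra A I a) where
  toFun x := ⟨algebraMap A (Localization.Away a) x * IsLocalization.Away.invSelf a ^ n,
    mem_affineAlgebra I a n x x.2⟩
  map_add' x y := Subtype.ext (by simp [add_mul])
  map_smul' r x := Subtype.ext (by simp [Algebra.smul_def, mul_assoc])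

@[simp] lemma phi_coe (n : ℕ) (x : ↥(I ^ n)) :
    ((phi I a n x : ↥(BlowUp.affineAlgebra A I a)) : Localization.Away a) =
      algebraMap A (Localization.Away a) x * IsLocalization.Away.invSelf a ^ n := rfl

lemma phi_mulPow {n m : ℕ} (h : n ≤ m) (x : ↥(I ^ n)) : phi I a m (mulPow I a ha h x) = phi I a n x := by
  apply Subtype.ext
  rw [phi_coe, phi_coe, mulPow_coe, map_mul, map_pow]
  obtain ⟨k, rfl⟩ := Nat.exists_eq_add_of_le h
  rw [Nat.add_sub_cancel_left, pow_add (IsLocalization.Away.invSelf a)]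
  have h1 : algebraMap A (Localization.Away a) a * IsLocalization.Away.invSelf a = 1 :=
    IsLocalization.Away.mul_invSelf a
  calc algebraMap A (Localization.Away a) a ^ k * algebraMap A (Localization.Away a) x *
        (IsLocalization.Away.invSelf a ^ n * IsLocalization.Away.invSelf a ^ k)
      = (algebraMap A (Localization.Away a) a * IsLocalization.Away.invSelf a) ^ k *
        (algebraMap A (Localization.Away a) x * IsLocalization.Away.invSelf a ^ n) := by ring
    _ = _ := by rw [h1, one_pow, one_mul]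

/-- the cocone `I ^ n → A[I/a]`. -/
noncomputable def powCocone : Limits.Cocone (powDiag I a ha) where
  pt := ModuleCat.of A ↥(BlowUp.affineAlgebra A I a)
  ι :=
    { app := fun n => ModuleCat.ofHom (phi I a n.val)
      naturality := fun n m f => by
        apply ModuleCat.hom_ext
        apply LinearMap.ext
        intro x
        exact phi_mulPow I a ha (NatU.val_le f) x }

open Groth.Agent.Lib.helper16.ReesBlowup in
include ha in
lemma phi_jointly_surjective (b : ↥(BlowUp.affineAlgebra A I a)) :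
    ∃ (n : ℕ) (x : ↥(I ^ n)), b = phi I a n x := by
  obtain ⟨z, hz⟩ := (Theta'_bijective I a ha).2 b
  obtain ⟨n, x, hx, rfl⟩ := frac_surjective I a ha z
  refine ⟨n, ⟨x, hx⟩, ?_⟩
  apply Subtype.ext
  rw [← hz, phi_coe]
  exact Theta_frac I a ha n x hx

lemma exists_pow_mul_eq_of_phi_eq {n : ℕ} (x y : ↥(I ^ n)) (h : phi I a n x = phi I a n y) :
    ∃ k : ℕ, a ^ k * (x : A) = a ^ k * (y : A) := by
  have h1 := congrArg Subtype.val h
  rw [phi_coe, phi_coe] at h1
  have hu0 : IsUnit (IsLocalization.Away.invSelf (S := Localization.Away a) a) :=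
    IsUnit.of_mul_eq_one (algebraMap A (Localization.Away a) a) (by
      rw [mul_comm]; exact IsLocalization.Away.mul_invSelf a)
  have hu : IsUnit (IsLocalization.Away.invSelf (S := Localization.Away a) a ^ n) := hu0.pow n
  have h2 : algebraMap A (Localization.Away a) (x : A) = algebraMap A (Localization.Away a) (y : A) :=
    hu.mul_left_injective h1
  obtain ⟨⟨_, k, rfl⟩, hk⟩ := (IsLocalization.eq_iff_exists (Submonoid.powers a) _).mp h2
  exact ⟨k, hk⟩

/-- `A[I/a]` is the colimit of the `I ^ n` along multiplication by `a`. -/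
noncomputable def powIsColimit : Limits.IsColimit (powCocone I a ha) := by
  apply Limits.isColimitOfReflects (forget (ModuleCat.{u} A))
  refine Limits.Types.FilteredColimit.isColimitOf' _ _ ?_ ?_
  · intro b
    change ↥(BlowUp.affineAlgebra A I a) at b
    obtain ⟨n, x, hx⟩ := phi_jointly_surjective I a ha b
    exact ⟨NatU.mk n, x, hx⟩
  · intro n x y hxy
    change ↥(I ^ n.val) at x y
    obtain ⟨k, hk⟩ := exists_pow_mul_eq_of_phi_eq I a x y hxy
    refine ⟨NatU.mk (n.val + k), homOfLE (by change n.val ≤ n.val + k; omega), ?_⟩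
    apply Subtype.ext
    change a ^ (n.val + k - n.val) * (x : A) = a ^ (n.val + k - n.val) * (y : A)
    rw [Nat.add_sub_cancel_left]
    exact hk

end colim

open Groth.Agent.Lib.helper10.TorColim in
theorem main [IsNoetherianRing A] (t : ℕ) (a : Fin (t + 1) → A) :
    ∃ c : ℕ, ∀ (M : ModuleCat.{u} A) (i : ℕ), t + 1 ≤ i → ∀ x ∈ Ideal.span (Set.range a) ^ c,
      ∀ y : ((Tor (ModuleCat.{u} A) i).obj
        (ModuleCat.of A ↥(BlowUp.affineAlgebra A (Ideal.span (Set.range a)) (a 0)))).obj M,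
        x • y = 0 := by
  classical
  set I : Ideal A := Ideal.span (Set.range a) with hI
  have ha : a 0 ∈ I := Ideal.subset_span ⟨0, rfl⟩
  obtain ⟨c, hc⟩ := exists_TZF_finset I (t + 1) (Finset.univ.image a) (by
      rw [hI, Finset.coe_image, Finset.coe_univ, Set.image_univ])
    (Finset.card_image_le.trans (by simp))
  refine ⟨c, fun M i hi x hx y => ?_⟩
  obtain ⟨i', rfl⟩ : ∃ i', i = i' + 1 := ⟨i - 1, by omega⟩
  haveI := preservesColimitsOfShape_tor_flip (i' + 1) M NatU.{u}
  have hcolim := Limits.isColimitOfPreserves ((Tor (ModuleCat.{u} A) (i' + 1)).flip.obj M)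
    (powIsColimit I (a 0) ha)
  obtain ⟨j, yj, hyj⟩ := jointly_surjective_of_isColimit hcolim y
  change ((Tor (ModuleCat.{u} A) (i' + 1)).obj (ModuleCat.of A ↥(I ^ j.val))).obj M at yj
  change (tmap (i' + 1) M (ModuleCat.ofHom (phi I (a 0) j.val))).hom yj = y at hyj
  rw [smul_eq_tmap, ← hyj]
  have h1 : ModuleCat.ofHom (phi I (a 0) j.val) ≫ (x • 𝟙 _) =
      (x • 𝟙 _) ≫ ModuleCat.ofHom (phi I (a 0) j.val) := by
    rw [Linear.smul_comp, Linear.comp_smul, Category.id_comp, Category.comp_id]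
  have h2 : tmap (i' + 1) M (ModuleCat.ofHom (phi I (a 0) j.val)) ≫ tmap (i' + 1) M (x • 𝟙 _) =
      tmap (i' + 1) M (x • 𝟙 _) ≫ tmap (i' + 1) M (ModuleCat.ofHom (phi I (a 0) j.val)) := by
    rw [← tmap_comp, ← tmap_comp, h1]
  have h3 := congrArg (fun k => k.hom yj) h2
  change (tmap (i' + 1) M (x • 𝟙 _)).hom
    ((tmap (i' + 1) M (ModuleCat.ofHom (phi I (a 0) j.val))).hom yj) = _ at h3
  rw [h3, tmap_smul_id_ideal_eq_zero hc M j.val i' (by omega) x hx, Limits.zero_comp]
  rfl

end Groth.Agent.Lib.helper19.TorBlow
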