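import Mathlib
import Groth.Prelude.Def_W4c1liftfrobW2
import Groth.Agent.Lib.Helper19.PrincFlat
import Groth.Agent.Lib.Helper24.WittTrunc

/-! # Flatness over `W₂(k)`, `k` a perfect field: `M` flat iff `p m = 0 → m ∈ pM`. -/

set_option autoImplicit false
set_option linter.unusedSectionVars false
universe u v

namespace Groth.Agent.Lib.Helper19.W2Flat
open Groth.Agent.Lib.Helper19.PrincFlat Groth.Agent.Lib.helper24.WittTrunc

section W
variable (p : ℕ) [hp : Fact p.Prime] (k : Type u) [Field k] [CharP k p] [PerfectRing k p]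

theorem p_mul_p : (p : FrobAlg.W2 p k) * (p : FrobAlg.W2 p k) = 0 := by
  have := p_pow_eq_zero p k 2
  rwa [pow_two] at this

theorem p_ne_zero : (p : FrobAlg.W2 p k) ≠ 0 := by
  intro h
  have h1 : (p : FrobAlg.W2 p k) = WittVector.truncate 2 (p : WittVector p k) := by
    rw [map_natCast]
  rw [h1] at h
  have h2 := congrArg (fun x : TruncatedWittVector p 2 k => x.coeff 1) h
  simp only [WittVector.coeff_truncate, TruncatedWittVector.coeff_zero] at h2
  rw [WittVector.coeff_p] at h2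
  simp at h2

theorem exists_eq_p_mul (c : FrobAlg.W2 p k) (hc : (p : FrobAlg.W2 p k) * c = 0) :
    ∃ d, c = (p : FrobAlg.W2 p k) * d := by
  by_cases h0 : c0 p k 1 c = 0
  · rw [c0_eq_zero_iff, Ideal.mem_span_singleton'] at h0
    obtain ⟨d, rfl⟩ := h0
    exact ⟨d, mul_comm _ _⟩
  · exfalso
    have hu := isUnit_of_c0_ne_zero p k 1 c h0
    exact p_ne_zero p k ((hu.mul_left_eq_zero).mp hc)

theorem ideal_cases (I : Ideal (FrobAlg.W2 p k)) :
    I = ⊥ ∨ I = Ideal.span {(p : FrobAlg.W2 p k)} ∨ I = ⊤ := by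
  by_cases htop : I = ⊤
  · exact Or.inr (Or.inr htop)
  by_cases hbot : I = ⊥
  · exact Or.inl hbot
  refine Or.inr (Or.inl ?_)
  have hle : I ≤ Ideal.span {(p : FrobAlg.W2 p k)} := by
    have := IsLocalRing.le_maximalIdeal htop
    rwa [maximalIdeal_eq p k 1] at this
  apply le_antisymm hle
  obtain ⟨x, hxI, hx0⟩ := Submodule.exists_mem_ne_zero_of_ne_bot hbot
  obtain ⟨y, rfl⟩ := Ideal.mem_span_singleton'.mp (hle hxI)
  have hy : IsUnit y := by
    apply isUnit_of_c0_ne_zero p k 1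
    intro h0
    rw [c0_eq_zero_iff, Ideal.mem_span_singleton'] at h0
    obtain ⟨z, rfl⟩ := h0
    apply hx0
    rw [mul_assoc, p_mul_p, mul_zero]
  rw [Ideal.span_singleton_le_iff_mem]
  obtain ⟨u, rfl⟩ := hy
  have : (p : FrobAlg.W2 p k) = (↑u⁻¹ : FrobAlg.W2 p k) * (↑u * (p : FrobAlg.W2 p k)) := by
    rw [← mul_assoc, Units.inv_mul, one_mul]
  rw [this]
  exact I.mul_mem_left _ hxI

end W

theorem flat_W2_iff
    (p : ℕ) [Fact p.Prime] (k : Type u) [Field k] [CharP k p] [PerfectRing k p]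
    (M : Type v) [AddCommGroup M] [Module (FrobAlg.W2 p k) M] :
    Module.Flat (FrobAlg.W2 p k) M ↔
      ∀ m : M, (p : FrobAlg.W2 p k) • m = 0 → ∃ m' : M, m = (p : FrobAlg.W2 p k) • m' := by
  constructor
  · intro hflat m hm
    exact exists_eq_smul_of_flat _ _ (exists_eq_p_mul p k) (p_mul_p p k) M m hm
  · intro h
    apply flat_of_forall_fg_principal
    intro I _
    rcases ideal_cases p k I with rfl | rfl | rfl
    · exact ⟨0, 1, by simp, by simp, fun m _ => ⟨m, by simp⟩⟩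
    · exact ⟨p, p, rfl, p_mul_p p k, h⟩
    · exact ⟨1, 0, by simp, by simp, fun m hm => ⟨0, by simpa using hm⟩⟩


end Groth.Agent.Lib.Helper19.W2Flat
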